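import Cfsg.Agent.Lib.Invol.AbgOrder.EllLinTarget

/-!
# The linear group does not exist

The preimage of the abelian subgroup has a centre larger than the scalars, unless it consists of nine independent
matrices; then an element of order five is conjugate to its square, which is impossible.
-/

set_option autoImplicit false
set_option linter.unusedSectionVars false
set_option linter.style.haveILetI false

namespace Cfsg.Agent.Invol.AbgOrder.Ell

open Matrix Subgroup
open scoped Pointwise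

local notation "M₃" l => Matrix (Fin 3) (Fin 3) (ZMod l)
local notation "GL₃" l => GL (Fin 3) (ZMod l)

/-- A square identity for `3 × 3` matrices. -/
theorem adj_trace {R : Type*} [CommRing R] (A : Matrix (Fin 3) (Fin 3) R) :
    2 * (Matrix.adjugate A).trace = A.trace ^ 2 - (A * A).trace := by
  simp [Matrix.adjugate_fin_three, Matrix.trace_fin_three, Matrix.mul_apply, Fin.sum_univ_three]
  ring

/-- The Cayley–Hamilton identity for `3 × 3` matrices. -/
theorem cubic {R : Type*} [CommRing R] (A : Matrix (Fin 3) (Fin 3) R) :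
    A * A * A - A.trace • (A * A) + (Matrix.adjugate A).trace • A - A.det • 1 = 0 := by
  ext i j
  fin_cases i <;> fin_cases j <;>
    simp [Matrix.adjugate_fin_three, Matrix.trace_fin_three, Matrix.mul_apply, Fin.sum_univ_three,
      Matrix.det_fin_three] <;> ring

namespace Lin

variable {l : ℕ} [Fact l.Prime] (L : Lin l)

/-- The preimage in `H₂`. -/
noncomputable def Qt (B : Bs L) : Subgroup (GL₃ l) := L.H₂ ⊓ B.Q.comap prj

variable {L} (B : Bs L)

theorem mem_Qt {u : GL₃ l} : u ∈ L.Qt B ↔ u ∈ L.H₂ ∧ prj u ∈ B.Q := Iff.rfl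

theorem Qt_scl {u : GL₃ l} (hu : u ∈ L.H) (hs : Scl u) : u ∈ L.Qt B := by
  refine (mem_Qt B).2 ⟨L.odd_H₂ hu (L.scalars_odd.of_dvd_nat ?_), by rw [prj_eq_one.2 hs]; exact one_mem _⟩
  exact Subgroup.orderOf_dvd_natCard _ (show u ∈ L.H ⊓ scalars from ⟨hu, hs⟩)

theorem Qt_fix {u : GL₃ l} (hu : u ∈ L.Qt B) (h : Commute u L.z) : Scl u := by
  by_contra hs
  have h1 : prj u ≠ 1 := fun e => hs (prj_eq_one.1 e)
  have ht : prj L.z ∈ B.Q := by
    rw [← B.cent _ hu.2 h1]
    exact ⟨⟨L.z, L.z_H₂, rfl⟩, Subgroup.mem_centralizer_singleton_iff.2 (h.map prj).symm.eq⟩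
  have hd := Subgroup.orderOf_dvd_natCard _ ht
  rw [orderOf_eq_prime (by rw [sq, L.prj_tt]) L.prj_z_ne] at hd
  exact B.odd.not_two_dvd_nat hd

theorem Qt_norm {h : GL₃ l} (hh : h ∈ L.H) (hN : prj h ∈ normalizer (B.Q : Set (PQ l))) :
    h ∈ normalizer (L.Qt B : Set (GL₃ l)) := mem_normalizer_fintype fun u hu =>
  ⟨L.H₂_conj hh hu.1, by
    show prj (h * u * h⁻¹) ∈ B.Q
    rw [map_mul, map_mul, map_inv]
    exact (Subgroup.mem_normalizer_iff.1 hN _).1 hu.2⟩

theorem Qt_comm_prj {a b : GL₃ l} (ha : a ∈ L.Qt B) (hb : b ∈ L.Qt B) : Commute (prj a) (prj b) := by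
  rcases eq_or_ne (prj b) 1 with h | h
  · rw [h]; exact Commute.one_right _
  · have h1 : prj a ∈ L.Gb ⊓ centralizer ({prj b} : Set (PQ l)) := by rw [B.cent _ hb.2 h]; exact ha.2
    exact Subgroup.mem_centralizer_singleton_iff.1 h1.2

theorem Qt_odd {u : GL₃ l} (hu : u ∈ L.Qt B) : Odd (orderOf u) := by
  refine (B.odd.mul L.scalars_odd).of_dvd_nat (orderOf_dvd_of_pow_eq_one ?_)
  rw [pow_mul]
  have h1 : prj (u ^ Nat.card B.Q) = 1 := by
    rw [map_pow]
    exact congrArg Subtype.val (pow_card_eq_one' (x := (⟨prj u, hu.2⟩ : B.Q)))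
  exact congrArg Subtype.val (pow_card_eq_one'
    (x := (⟨_, pow_mem (L.H₂_le hu.1) _, prj_eq_one.1 h1⟩ : ↥(L.H ⊓ scalars))))

/-- An abelian subgroup of the preimage with more than scalars gives a target. -/
theorem exists_tgt {A : Subgroup (GL₃ l)} (hA : A ≤ L.Qt B) (hc : ∀ u ∈ A, ∀ v ∈ A, Commute u v)
    (hne : ∃ a ∈ A, ¬ Scl a)
    (hn : ∀ h ∈ L.H, prj h ∈ normalizer (B.Q : Set (PQ l)) → h ∈ normalizer (A : Set (GL₃ l))) :
    Nonempty (Tgt L) := by
  have hzA : L.z ∈ normalizer (A : Set (GL₃ l)) := hn L.z L.zH B.tN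
  let P : Subgroup (GL₃ l) :=
    { carrier := {u | u ∈ A ∧ L.z * u * L.z = u⁻¹}
      one_mem' := ⟨one_mem _, by rw [mul_one, L.zz, inv_one]⟩
      mul_mem' := fun {a b} ha hb => ⟨mul_mem ha.1 hb.1, by
        rw [show L.z * (a * b) * L.z = (L.z * a * L.z) * (L.z * b * L.z) by
          simp only [mul_assoc]; rw [← mul_assoc L.z L.z (b * L.z), L.zz, one_mul], ha.2, hb.2, _root_.mul_inv_rev]
        exact ((hc a ha.1 b hb.1).inv_inv).eq⟩
      inv_mem' := fun {a} ha => ⟨inv_mem ha.1, by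
        have h := congrArg (·⁻¹) ha.2
        simp only [_root_.mul_inv_rev, L.z_inv] at h
        rw [← h]; group⟩ }
  have hPA : ∀ {u}, u ∈ P → u ∈ A := fun h => h.1
  have hPodd : Odd (Nat.card P) := by
    haveI : Fact (Nat.Prime 2) := ⟨Nat.prime_two⟩
    rw [Nat.odd_iff, ← Nat.two_dvd_ne_zero]
    intro h
    obtain ⟨⟨u, hu⟩, ho⟩ := exists_prime_orderOf_dvd_card' 2 h
    rw [Subgroup.orderOf_mk] at ho
    exact (Qt_odd B (hA hu.1)).not_two_dvd_nat (ho ▸ dvd_rfl)
  have hnorm : ∀ h ∈ L.H, prj h ∈ normalizer (B.Q : Set (PQ l)) → Commute h L.z →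
      h ∈ normalizer (P : Set (GL₃ l)) := fun h hh hN hz => mem_normalizer_fintype fun u hu =>
    ⟨(Subgroup.mem_normalizer_iff.1 (hn h hh hN) u).1 hu.1, by
      show L.z * (h * u * h⁻¹) * L.z = _
      calc L.z * (h * u * h⁻¹) * L.z = (L.z * h) * u * (h⁻¹ * L.z) := by group
        _ = (h * L.z) * u * (L.z * h⁻¹) := by rw [hz.symm.eq, hz.inv_left.eq]
        _ = h * (L.z * u * L.z) * h⁻¹ := by group
        _ = (h * u * h⁻¹)⁻¹ := by rw [hu.2]; group⟩
  refine ⟨⟨P, fun u hu => L.H₂_le (hA hu.1).1, fun u hu v hv => hc u hu.1 v hv.1, ?_, fun u hu => hu.2, hPodd,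
    fun u hu h => ?_, hnorm _ (mul_mem L.xH L.xH) B.xxN (L.xz.mul_left L.xz), ?_⟩⟩
  · intro hP
    obtain ⟨a, ha, has⟩ := hne
    have hza : L.z * a * L.z⁻¹ ∈ A := (Subgroup.mem_normalizer_iff.1 hzA a).1 ha
    have hu : a * (L.z * a * L.z⁻¹)⁻¹ ∈ P := ⟨mul_mem ha (inv_mem hza), by
      simp only [_root_.mul_inv_rev, inv_inv, L.z_inv, mul_assoc]
      rw [L.zz, mul_one]⟩
    rw [hP, Subgroup.mem_bot, mul_inv_eq_one] at hu
    refine has (Qt_fix B (hA ha) ?_)
    show a * L.z = L.z * a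
    nth_rw 1 [hu]
    rw [inv_mul_cancel_right]
  · have h1 : u * u = 1 := by
      have := hu.2
      rw [← h.eq, mul_assoc, L.zz, mul_one] at this
      nth_rw 2 [this]
      exact mul_inv_cancel u
    have h2 := orderOf_dvd_of_pow_eq_one (show u ^ 2 = 1 by rw [sq, h1])
    rcases (Nat.dvd_prime Nat.prime_two).1 h2 with e | e
    · exact orderOf_eq_one_iff.1 e
    · exact absurd (e ▸ dvd_rfl) (Qt_odd B (hA hu.1)).not_two_dvd_nat
  · rcases B.rN with h | h
    · exact Or.inl (hnorm _ L.xH h L.xz)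
    · exact Or.inr (hnorm _ (mul_mem L.wH L.xH) h (L.wz.mul_left L.xz))

/-- The case of nine independent matrices. -/
theorem false_nine (hl5 : l ≠ 5) (h9 : Nat.card B.Q = 9) : False := by
  classical
  haveI : Fact (Nat.Prime 5) := ⟨by norm_num⟩
  haveI : Fact (Nat.Prime 2) := ⟨Nat.prime_two⟩
  have hG : Nat.card L.Gb = 360 := by have := B.cardG; rw [h9] at this; omega
  have hK : Nat.card L.Kb = 4 := by have := B.cardK; omega
  have hno5 : ∀ f ∈ L.Gb, orderOf f = 5 → ¬ Commute f (prj L.z) := fun f hf ho hc => by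
    rcases L.cent_t hf hc with h | h
    · have := Subgroup.orderOf_dvd_natCard _ h
      rw [ho, hK] at this
      norm_num at this
    · have h1 := L.inverts h
      rw [mul_assoc, mul_inv_cancel_right, _root_.mul_inv_rev, inv_eq_of_mul_eq_one_right L.prj_ss] at h1
      have h2 : f * f = 1 := by
        nth_rw 2 [mul_left_cancel h1]
        exact mul_inv_cancel f
      have := orderOf_dvd_of_pow_eq_one (show f ^ 2 = 1 by rw [sq, h2])
      rw [ho] at this
      norm_num at this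
  obtain ⟨⟨f₀, hf₀⟩, hf₀o⟩ := exists_prime_orderOf_dvd_card' 5 (show 5 ∣ Nat.card L.Gb by rw [hG]; norm_num)
  rw [Subgroup.orderOf_mk] at hf₀o
  have hS : Grp.IsSylowIn 5 (zpowers f₀) L.Gb := by
    refine ⟨zpowers_le.2 hf₀, IsPGroup.of_card (n := 1) (by rw [Nat.card_zpowers, hf₀o, pow_one]), fun hd => ?_⟩
    have h1 := Grp.card_mul_relIndex (zpowers_le.2 hf₀ : zpowers f₀ ≤ L.Gb)
    rw [Nat.card_zpowers, hf₀o, hG] at h1
    omega
  obtain ⟨g, ⟨a, ha, rfl⟩, e⟩ := (hS.smul (Grp.mem_normalizer_iff_smul.1 (L.prj_normal L.xH))).conj hS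
  set h₀ := a * L.x with hh₀
  have hh₀H : h₀ ∈ L.H := mul_mem (L.H₂_le ha) L.xH
  have hh₀2 : h₀ ∉ L.H₂ := fun e => L.x_not (by
    have := mul_mem (inv_mem ha) e
    rwa [hh₀, inv_mul_cancel_left] at this)
  have hh₀N : prj h₀ ∈ normalizer (zpowers f₀ : Set (PQ l)) :=
    Grp.mem_normalizer_iff_smul.2 (by rw [hh₀, map_mul, map_mul, mul_smul]; exact e)
  obtain ⟨j, k, hj, hjj, hj1, -⟩ := L.exists_invol_pow hh₀H hh₀2
  have hjH : j ∈ L.H := hj ▸ pow_mem (mul_mem hh₀H hh₀H) k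
  -- the square of `h₀` does not centralise `f₀`
  have hsq : ¬ Commute (prj h₀ * prj h₀) f₀ := fun hc => by
    have hjf : Commute (prj j) f₀ := by rw [hj, map_pow, map_mul]; exact hc.pow_left k
    obtain ⟨b, hb, hbz⟩ := L.invol_conj hjH hjj hj1
    have hc' := hjf.map (MulAut.conj (prj b))
    rw [MulAut.conj_apply, MulAut.conj_apply, ← map_inv, ← map_mul, ← map_mul, hbz] at hc'
    refine hno5 _ (mul_mem (mul_mem ⟨b, hb, rfl⟩ hf₀) (show prj b⁻¹ ∈ L.Gb from ⟨b⁻¹, inv_mem hb, rfl⟩)) ?_ hc'.symm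
    rw [map_inv]
    exact (show Function.Injective (MulAut.conj (prj b)).toMonoidHom from
      (MulAut.conj (prj b)).injective) |> fun hi => (orderOf_injective _ hi f₀).trans hf₀o
  obtain ⟨i, hi, hfi⟩ : ∃ i : ℕ, i < 5 ∧ prj h₀ * f₀ * (prj h₀)⁻¹ = f₀ ^ i := by
    have h1 := (Subgroup.mem_normalizer_iff.1 hh₀N f₀).1 (mem_zpowers f₀)
    obtain ⟨i, hi, e⟩ := (IsOfFinOrder.mem_zpowers_iff_mem_range_orderOf (isOfFinOrder_of_finite f₀)).1 h1 |>
      Finset.mem_image.1
    exact ⟨i, hf₀o ▸ Finset.mem_range.1 hi, e.symm⟩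
  have hpow : ∀ m : ℕ, f₀ ^ m = f₀ ^ (m % 5) := fun m => by rw [← hf₀o, pow_mod_orderOf]
  have htwo : prj h₀ * prj h₀ * f₀ * (prj h₀ * prj h₀)⁻¹ = f₀ ^ (i * i) := by
    calc prj h₀ * prj h₀ * f₀ * (prj h₀ * prj h₀)⁻¹ = prj h₀ * (prj h₀ * f₀ * (prj h₀)⁻¹) * (prj h₀)⁻¹ := by group
      _ = f₀ ^ (i * i) := by rw [hfi, ← conj_pow, hfi, ← pow_mul]
  -- some element conjugates `f₀` to its square
  obtain ⟨h, hh, hhf⟩ : ∃ h ∈ L.H, prj h * f₀ * (prj h)⁻¹ = f₀ ^ 2 := by
    interval_cases i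
    · exfalso
      rw [pow_zero, conj_eq_one_iff] at hfi
      rw [hfi, orderOf_one] at hf₀o
      norm_num at hf₀o
    · exfalso
      rw [hpow, mul_inv_eq_iff_eq_mul] at htwo
      exact hsq (show _ = _ by simpa using htwo)
    · exact ⟨h₀, hh₀H, hfi⟩
    · refine ⟨h₀⁻¹, inv_mem hh₀H, ?_⟩
      rw [map_inv, inv_inv]
      have h1 : prj h₀ * f₀ ^ 2 * (prj h₀)⁻¹ = f₀ := by
        rw [← conj_pow, hfi, ← pow_mul, hpow]
        norm_num
      nth_rw 1 [← h1]
      group
    · exfalso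
      rw [hpow, mul_inv_eq_iff_eq_mul] at htwo
      exact hsq (show _ = _ by simpa using htwo)
  obtain ⟨f, hf, rfl⟩ := hf₀
  set e' := (f ^ 2)⁻¹ * (h * f * h⁻¹) with he'
  have hes : Scl e' := prj_eq_one.1 (by
    rw [he', map_mul, map_inv, map_pow, map_mul, map_mul, map_inv, hhf, inv_mul_cancel])
  have hrel : h * f * h⁻¹ = f ^ 2 * e' := by rw [he', mul_inv_cancel_left]
  have hc5 : Scl (f ^ 5) := prj_eq_one.1 (by rw [map_pow, ← hf₀o, pow_orderOf_eq_one])
  have hec : f ^ 5 * e' ^ 5 = 1 := by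
    have h1 : h * f ^ 5 * h⁻¹ = f ^ 5 := by rw [← (hc5.commute h).eq, mul_inv_cancel_right]
    rw [← conj_pow, hrel, (hes.commute (f ^ 2)).symm.mul_pow, ← pow_mul, show 2 * 5 = 5 + 5 by norm_num, pow_add,
      mul_assoc] at h1
    exact mul_eq_left.1 h1
  set F := e' * f with hF
  have hF5 : F ^ 5 = 1 := by
    rw [hF, (hes.commute f).mul_pow, ((hc5.commute (e' ^ 5)).symm).eq, hec]
  have hconj : h * F * h⁻¹ = F ^ 2 := by
    calc h * F * h⁻¹ = h * e' * h⁻¹ * (h * f * h⁻¹) := by rw [hF]; group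
      _ = e' * (f ^ 2 * e') := by rw [hrel, ← (hes.commute h).eq, mul_inv_cancel_right]
      _ = F ^ 2 := by rw [hF, (hes.commute f).mul_pow, (hes.commute (f ^ 2)).symm.eq, ← mul_assoc, ← sq]
  have hFp : prj F = prj f := by rw [hF, map_mul, prj_eq_one.2 hes, one_mul]
  -- determinant and traces
  set A := (F : M₃ l) with hA
  have htr : ∀ m : ℕ, ((F ^ (2 * m) : GL₃ l) : M₃ l).trace = ((F ^ m : GL₃ l) : M₃ l).trace := fun m => by
    rw [pow_mul, ← hconj, conj_pow, Units.val_mul, Units.val_mul, Matrix.trace_mul_comm, ← mul_assoc,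
      ← Units.val_mul, inv_mul_cancel, Units.val_one, one_mul]
  have hd : A.det = 1 := by
    have h1 := congrArg dt hconj
    rw [dt_conj, map_pow, sq] at h1
    exact mul_left_cancel₀ (Matrix.GeneralLinearGroup.det_ne_zero F) (h1.symm.trans (mul_one _).symm)
  have hadj : (Matrix.adjugate A).trace = A.trace := by
    have h1 : Matrix.adjugate A = ((F⁻¹ : GL₃ l) : M₃ l) := by
      have h2 : Matrix.adjugate A * A = 1 := by rw [Matrix.adjugate_mul, hd, one_smul]
      calc Matrix.adjugate A = Matrix.adjugate A * (A * ((F⁻¹ : GL₃ l) : M₃ l)) := by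
            rw [hA, ← Units.val_mul, mul_inv_cancel, Units.val_one, mul_one]
        _ = _ := by rw [← mul_assoc, h2, one_mul]
    have h4 : F⁻¹ = F ^ (2 * 2) := inv_eq_of_mul_eq_one_right (by
      rw [← pow_succ', show 2 * 2 + 1 = 5 by rfl, hF5])
    rw [h1, h4, htr, show (F ^ 2 : GL₃ l) = F ^ (2 * 1) by rfl, htr, pow_one]
  have hsq' : (A * A).trace = A.trace := by
    have := htr 1
    rwa [pow_one, mul_one, sq, Units.val_mul] at this
  have h3t : A.trace = 0 ∨ A.trace = 3 := by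
    have h := adj_trace A
    rw [hadj, hsq'] at h
    have h1 : A.trace * (A.trace - 3) = 0 := by linear_combination -h
    exact (mul_eq_zero.1 h1).imp id sub_eq_zero.1
  have hch := cubic A
  rw [hadj, hd, one_smul] at hch
  have hone : ∀ k, Nat.Coprime k 5 → F ^ k = 1 → False := fun k hk hFk => by
    have h1 : F ^ Nat.gcd k 5 = 1 := pow_gcd_eq_one.2 ⟨hFk, hF5⟩
    rw [hk.gcd_eq_one, pow_one] at h1
    rw [← hFp, h1, map_one, orderOf_one] at hf₀o
    norm_num at hf₀o
  rcases h3t with h0 | h3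
  · rw [h0, zero_smul, zero_smul, sub_zero, add_zero, sub_eq_zero] at hch
    refine hone 3 (by norm_num) (Units.ext ?_)
    rw [Units.val_pow_eq_pow_val, Units.val_one, ← hA, pow_succ, sq, hch]
  · have hcube : (A - 1) ^ 3 = 0 := by
      rw [h3] at hch
      rw [← hch, pow_succ, sq]
      simp only [sub_mul, mul_sub, one_mul, mul_one, ofNat_smul_eq_nsmul]
      abel
    have hl3 : 3 ≤ l := by have := (Fact.out : l.Prime).two_le; have := L.hl2; omega
    refine hone l ((Nat.coprime_primes (Fact.out : l.Prime) (by norm_num)).2 hl5) (Units.ext ?_)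
    have h := pow_eq_zero_of_le hl3 hcube
    rw [sub_pow_char_of_commute _ (Commute.one_right A), one_pow, sub_eq_zero] at h
    rw [Units.val_pow_eq_pow_val, Units.val_one, ← hA, h]

/-- The configuration does not exist. -/
theorem false (L : Lin l) : False := by
  classical
  obtain ⟨B⟩ := L.exists_bs
  have hnorm : ∀ h ∈ L.H, prj h ∈ normalizer (B.Q : Set (PQ l)) →
      h ∈ normalizer ((L.Qt B ⊓ centralizer (L.Qt B : Set (GL₃ l)) : Subgroup (GL₃ l)) : Set (GL₃ l)) := by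
    intro h hh hN
    have h1 := Qt_norm B hh hN
    refine mem_normalizer_fintype fun u hu => ⟨(Subgroup.mem_normalizer_iff.1 h1 u).1 hu.1, ?_⟩
    refine Subgroup.mem_centralizer_iff.2 fun v hv => ?_
    have h2 := Subgroup.mem_centralizer_iff.1 hu.2 (h⁻¹ * v * h) ((Subgroup.mem_normalizer_iff''.1 h1 v).1 hv)
    calc v * (h * u * h⁻¹) = h * (h⁻¹ * v * h * u) * h⁻¹ := by group
      _ = h * u * h⁻¹ * v := by rw [h2]; group
  by_cases hcen : ∃ a ∈ L.Qt B, (∀ b ∈ L.Qt B, Commute b a) ∧ ¬ Scl a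
  · obtain ⟨a, ha, hac, has⟩ := hcen
    obtain ⟨T⟩ := exists_tgt B inf_le_left
      (fun u hu v hv => (Subgroup.mem_centralizer_iff.1 hv.2 u hu.1)) ⟨a, ⟨ha, Subgroup.mem_centralizer_iff.2
        fun b hb => (hac b hb).eq⟩, has⟩ hnorm
    exact T.false
  push Not at hcen
  have hl3 : l ≠ 3 ∧ l ≠ 5 ∧ ∀ u ∈ L.Qt B, ¬ Scl u → (u : M₃ l).trace = 0 := by
    have hrel : ∀ u ∈ L.Qt B, ¬ Scl u → ∃ ζ : ZMod l, ζ ^ 3 = 1 ∧ ζ ≠ 1 ∧
        (u : M₃ l).trace = ζ * (u : M₃ l).trace := by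
      intro u hu hus
      obtain ⟨b, hb, hbu⟩ : ∃ b ∈ L.Qt B, ¬ Commute b u := by
        by_contra h
        push Not at h
        exact hus (hcen u hu h)
      set c := u⁻¹ * (b * u * b⁻¹) with hc
      obtain ⟨ζ, hζ⟩ : Scl c := prj_eq_one.1 (by
        rw [hc, map_mul, map_inv, map_mul, map_mul, map_inv, (Qt_comm_prj B hb hu).eq, mul_inv_cancel_right,
          inv_mul_cancel])
      refine ⟨ζ, ?_, fun h1 => hbu ?_, ?_⟩
      · have h1 := congrArg Matrix.det hζ
        rw [Matrix.det_smul, Matrix.det_one, mul_one, Fintype.card_fin] at h1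
        rw [← h1]
        show dt c = 1
        rw [hc, map_mul, dt_conj, ← map_mul, inv_mul_cancel, map_one]
      · rw [h1, one_smul, ← Units.val_one] at hζ
        have h2 := Units.ext hζ
        rw [hc, inv_mul_eq_one, eq_mul_inv_iff_mul_eq] at h2
        exact h2.symm
      · have h1 : b * u * b⁻¹ = u * c := by rw [hc, mul_inv_cancel_left]
        have h2 := congrArg (fun t : GL₃ l => (t : M₃ l).trace) h1
        simp only [Units.val_mul] at h2
        rw [Matrix.trace_mul_comm, ← mul_assoc, ← Units.val_mul, inv_mul_cancel, Units.val_one, one_mul, hζ,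
          mul_smul_comm, mul_one, Matrix.trace_smul, smul_eq_mul] at h2
        exact h2
    obtain ⟨a, ha, has⟩ : ∃ a ∈ L.Qt B, ¬ Scl a := by
      by_contra h
      push Not at h
      obtain ⟨y, hy, hy1⟩ : ∃ y ∈ B.Q, y ≠ 1 := by
        by_contra hh
        push Not at hh
        have h9 := B.nine
        rw [(Subgroup.eq_bot_iff_forall _).2 hh, Subgroup.card_bot] at h9
        omega
      obtain ⟨u, hu, rfl⟩ := B.le hy
      exact hy1 (prj_eq_one.2 (h u ⟨hu, hy⟩))
    obtain ⟨ζ, hζ3, hζ1, -⟩ := hrel a ha has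
    have hζ0 : ζ ≠ 0 := fun e => by rw [e, zero_pow (by norm_num)] at hζ3; exact zero_ne_one hζ3
    have hdvd : 3 ∣ l - 1 := by
      haveI : Fact (Nat.Prime 3) := ⟨Nat.prime_three⟩
      rw [← orderOf_eq_prime hζ3 hζ1]
      exact orderOf_dvd_of_pow_eq_one (ZMod.pow_card_sub_one_eq_one hζ0)
    refine ⟨fun e => by rw [e] at hdvd; norm_num at hdvd, fun e => by rw [e] at hdvd; norm_num at hdvd,
      fun u hu hus => ?_⟩
    obtain ⟨ζ', -, hne, htr⟩ := hrel u hu hus
    have h0 : (1 - ζ') * (u : M₃ l).trace = 0 := by linear_combination htr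
    exact (mul_eq_zero.1 h0).resolve_left (sub_ne_zero.2 (Ne.symm hne))
  obtain ⟨hl3', hl5, htr⟩ := hl3
  refine false_nine B hl5 (le_antisymm ?_ B.nine)
  -- at most nine independent matrices
  have hlift : ∀ y : B.Q, ∃ u ∈ L.Qt B, prj u = (y : PQ l) := fun y => by
    obtain ⟨u, hu, e⟩ := B.le y.2
    exact ⟨u, ⟨hu, by show prj u ∈ B.Q; rw [e]; exact y.2⟩, e⟩
  choose s hs hsp using hlift
  haveI := Fintype.ofFinite B.Q
  have h3 : (3 : ZMod l) ≠ 0 := fun h => by
    have h1 : ((3 : ℕ) : ZMod l) = 0 := h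
    rw [ZMod.natCast_eq_zero_iff] at h1
    exact hl3' ((Nat.prime_dvd_prime_iff_eq (Fact.out : l.Prime) Nat.prime_three).1 h1)
  have hind : LinearIndependent (ZMod l) (fun y : B.Q => (s y : M₃ l)) := by
    rw [Fintype.linearIndependent_iff]
    intro c hc y
    have h := congrArg (fun t : M₃ l => (t * (((s y)⁻¹ : GL₃ l) : M₃ l)).trace) hc
    simp only [Finset.sum_mul, Matrix.trace_sum, smul_mul_assoc, Matrix.trace_smul, zero_mul, Matrix.trace_zero,
      smul_eq_mul] at h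
    rw [Finset.sum_eq_single y ?_ (fun h' => absurd (Finset.mem_univ y) h')] at h
    · rw [← Units.val_mul, mul_inv_cancel, Units.val_one, Matrix.trace_one, Fintype.card_fin] at h
      exact (mul_eq_zero.1 h).resolve_right h3
    · intro b _ hby
      rw [← Units.val_mul, htr _ (mul_mem (hs b) (inv_mem (hs y))), mul_zero]
      intro h1
      refine hby (Subtype.ext ?_)
      have := prj_eq_one.2 h1
      rwa [map_mul, map_inv, hsp, hsp, mul_inv_eq_one] at this
  have hle := hind.fintype_card_le_finrank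
  rw [Module.finrank_matrix, Module.finrank_self, Fintype.card_fin, mul_one, ← Nat.card_eq_fintype_card] at hle
  exact hle

end Lin

end Cfsg.Agent.Invol.AbgOrder.Ell
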