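import Cfsg.Agent.Lib.Invol.AbgOrder.EllOneSwap
import Cfsg.Agent.Lib.Invol.AbgOrder.EllLinEnd

/-!
# The exceptional configuration does not occur

The normaliser of the elementary group acts on it as a linear group that does not exist; so by induction the `l`-part
of the order is always that of a signalizer times `X`.
-/

set_option autoImplicit false
set_option linter.unusedSectionVars false
set_option linter.style.haveILetI false

namespace Cfsg.Agent.Invol.AbgOrder.Ell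

open Subgroup Matrix Cfsg.Agent.Classical

universe u v

local notation "M₃" l => Matrix (Fin 3) (Fin 3) (ZMod l)
local notation "GL₃" l => GL (Fin 3) (ZMod l)

theorem pow_val_add {G : Type*} [Group G] {l : ℕ} [NeZero l] {u : G} (hu : u ^ l = 1) (s t : ZMod l) :
    u ^ (s + t).val = u ^ s.val * u ^ t.val := by
  rw [ZMod.val_add, ← pow_add, ← pow_eq_pow_mod (s.val + t.val) hu]

theorem pow_val_mul {G : Type*} [Group G] {l : ℕ} [NeZero l] {u : G} (hu : u ^ l = 1) (s t : ZMod l) :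
    u ^ (s * t).val = (u ^ s.val) ^ t.val := by
  rw [ZMod.val_mul, ← pow_mul, ← pow_eq_pow_mod (s.val * t.val) hu]

namespace Sett

namespace Core

namespace Plane

variable {G : Type u} [Group G] [Finite G] {X : Type u} [Group X] [Finite X] {F : Type v} [Field F] [Fintype F]
  {l : ℕ} [Fact l.Prime] {Γ : Gam X F l} {St : Sett G Γ} {c : Core St} (P : c.Plane)

/-- Coordinates. -/
def ev (v : Fin 3 → ZMod l) : G := c.a ^ (v 0).val * P.a₁ ^ (v 1).val * P.a₂ ^ (v 2).val

theorem ev_mem (v : Fin 3 → ZMod l) : P.ev v ∈ P.A :=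
  mul_mem (mul_mem (pow_mem P.a_A _) (pow_mem P.a₁_A _)) (pow_mem P.a₂_A _)

theorem ev_add (v v' : Fin 3 → ZMod l) : P.ev (v + v') = P.ev v * P.ev v' := by
  simp only [ev, Pi.add_apply, pow_val_add c.al, pow_val_add P.a₁l, pow_val_add P.a₂l]
  set A0 := c.a ^ (v 0).val
  set A0' := c.a ^ (v' 0).val
  set A1 := P.a₁ ^ (v 1).val
  set A1' := P.a₁ ^ (v' 1).val
  set A2 := P.a₂ ^ (v 2).val
  set A2' := P.a₂ ^ (v' 2).val
  have h1 : Commute A0' A1 := P.A_comm (pow_mem P.a_A _) (pow_mem P.a₁_A _)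
  have h2 : Commute A2 (A0' * A1') := P.A_comm (pow_mem P.a₂_A _) (mul_mem (pow_mem P.a_A _) (pow_mem P.a₁_A _))
  calc A0 * A0' * (A1 * A1') * (A2 * A2') = A0 * (A0' * A1) * A1' * A2 * A2' := by group
    _ = A0 * (A1 * A0') * A1' * A2 * A2' := by rw [h1.eq]
    _ = A0 * A1 * (A0' * A1' * A2) * A2' := by group
    _ = A0 * A1 * (A2 * (A0' * A1')) * A2' := by rw [h2.eq]
    _ = A0 * A1 * A2 * (A0' * A1' * A2') := by group

theorem ev_zero : P.ev 0 = 1 := by simp [ev]

theorem ev_smul (s : ZMod l) (v : Fin 3 → ZMod l) : P.ev (s • v) = P.ev v ^ s.val := by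
  have h : ∀ k : ℕ, P.ev ((k : ZMod l) • v) = P.ev v ^ k := by
    intro k
    induction k with
    | zero => rw [Nat.cast_zero, zero_smul, pow_zero]; exact P.ev_zero
    | succ k ih => rw [Nat.cast_succ, add_smul, one_smul, P.ev_add, ih, pow_succ]
  rw [← h, ZMod.natCast_val, ZMod.cast_id]

theorem val_one' : (1 : ZMod l).val = 1 := ZMod.val_one l

theorem ev_e0 : P.ev ![1, 0, 0] = c.a := by simp [ev, val_one' (l := l)]

theorem ev_e1 : P.ev ![0, 1, 0] = P.a₁ := by simp [ev, val_one' (l := l)]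

theorem ev_e2 : P.ev ![0, 0, 1] = P.a₂ := by simp [ev, val_one' (l := l)]

theorem conj_z {v : Fin 3 → ZMod l} : St.z * P.ev v * St.z⁻¹ = P.ev ![v 0, -v 1, -v 2] := by
  have e : ∀ {u : G}, u ^ l = 1 → St.z * u * St.z⁻¹ = u⁻¹ → ∀ s : ZMod l,
      St.z * u ^ s.val * St.z⁻¹ = u ^ (-s).val := fun {u} hu h s => by
    rw [← conj_pow, h, inv_pow]
    exact inv_eq_of_mul_eq_one_right (by rw [← pow_val_add hu, add_neg_cancel, ZMod.val_zero, pow_zero])
  have e0 : St.z * c.a ^ (v 0).val * St.z⁻¹ = c.a ^ (v 0).val := by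
    rw [(c.az.symm.pow_right _).eq, mul_inv_cancel_right]
  calc St.z * P.ev v * St.z⁻¹ = (St.z * c.a ^ (v 0).val * St.z⁻¹) * (St.z * P.a₁ ^ (v 1).val * St.z⁻¹) *
        (St.z * P.a₂ ^ (v 2).val * St.z⁻¹) := by rw [ev]; group
    _ = _ := by rw [e0, e P.a₁l P.z₁, e P.a₂l P.z₂]; rfl

theorem conj_w {v : Fin 3 → ZMod l} : c.w * P.ev v * c.w⁻¹ = P.ev ![-v 0, v 1, -v 2] := by
  have e : ∀ {u : G}, u ^ l = 1 → c.w * u * c.w⁻¹ = u⁻¹ → ∀ s : ZMod l,
      c.w * u ^ s.val * c.w⁻¹ = u ^ (-s).val := fun {u} hu h s => by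
    rw [← conj_pow, h, inv_pow]
    exact inv_eq_of_mul_eq_one_right (by rw [← pow_val_add hu, add_neg_cancel, ZMod.val_zero, pow_zero])
  have e1 : c.w * P.a₁ ^ (v 1).val * c.w⁻¹ = P.a₁ ^ (v 1).val := by
    rw [(P.w₁.symm.pow_right _).eq, mul_inv_cancel_right]
  have h2 : c.w * P.a₂ * c.w⁻¹ = P.a₂⁻¹ := by
    calc c.w * P.a₂ * c.w⁻¹ = St.z⁻¹ * ((St.z * c.w) * P.a₂ * (St.z * c.w)⁻¹) * St.z := by group
      _ = St.z * P.a₂ * St.z⁻¹ := by rw [P.w₂.symm.eq, mul_inv_cancel_right, St.z_inv]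
      _ = P.a₂⁻¹ := P.z₂
  calc c.w * P.ev v * c.w⁻¹ = (c.w * c.a ^ (v 0).val * c.w⁻¹) * (c.w * P.a₁ ^ (v 1).val * c.w⁻¹) *
        (c.w * P.a₂ ^ (v 2).val * c.w⁻¹) := by rw [ev]; group
    _ = _ := by rw [e c.al (by rw [c.w_inv, c.wa]), e1, e P.a₂l h2]; rfl

theorem eq_zero {v : Fin 3 → ZMod l} (h : P.ev v = 1) : v = 0 := by
  have h2 : (2 : ZMod l) ≠ 0 := by
    intro e
    have h1 : ((2 : ℕ) : ZMod l) = 0 := e
    rw [ZMod.natCast_eq_zero_iff] at h1
    exact Γ.hl2 ((Nat.prime_dvd_prime_iff_eq Γ.hl Nat.prime_two).1 h1)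
  have hz : ∀ {v : Fin 3 → ZMod l}, P.ev v = 1 → P.ev ![v 0, -v 1, -v 2] = 1 := fun {v} h => by
    rw [← P.conj_z, h, mul_one, mul_inv_cancel]
  have hw : ∀ {v : Fin 3 → ZMod l}, P.ev v = 1 → P.ev ![-v 0, v 1, -v 2] = 1 := fun {v} h => by
    rw [← P.conj_w, h, mul_one, mul_inv_cancel]
  have h0 : P.ev ![2 * v 0, 0, 0] = 1 := by
    have e : (![2 * v 0, 0, 0] : Fin 3 → ZMod l) = v + ![v 0, -v 1, -v 2] := by
      ext i; fin_cases i <;> simp; ring
    rw [e, P.ev_add, h, hz h, mul_one]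
  have h1 : P.ev ![0, 2 * v 1, 0] = 1 := by
    have e : (![0, 2 * v 1, 0] : Fin 3 → ZMod l) = v + ![-v 0, v 1, -v 2] := by
      ext i; fin_cases i <;> simp; ring
    rw [e, P.ev_add, h, hw h, mul_one]
  have key : ∀ {u : G}, u ^ l = 1 → u ≠ 1 → ∀ s : ZMod l, u ^ s.val = 1 → s = 0 := fun {u} hu hu1 s hs => by
    have hd := orderOf_dvd_of_pow_eq_one hs
    rw [orderOf_eq_prime hu hu1] at hd
    exact (ZMod.val_eq_zero s).1 (Nat.eq_zero_of_dvd_of_lt hd (ZMod.val_lt s))
  simp [ev] at h0 h1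
  have v0 : v 0 = 0 := by simpa [h2] using key c.al c.a_ne _ h0
  have v1 : v 1 = 0 := by simpa [h2] using key P.a₁l P.a₁ne _ h1
  simp [ev, v0, v1] at h
  have v2 : v 2 = 0 := key P.a₂l P.a₂ne _ h
  ext i; fin_cases i <;> simp [v0, v1, v2]

theorem ev_inj : Function.Injective P.ev := fun v v' h => by
  have h1 : P.ev (v - v') * P.ev v' = P.ev v := by rw [← P.ev_add, sub_add_cancel]
  rw [h, mul_eq_right] at h1
  exact sub_eq_zero.1 (P.eq_zero h1)

/-- The coordinates of an element of the group. -/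
theorem exists_crd {u : G} (hu : u ∈ P.A) : ∃ v, P.ev v = u := by
  let R : Subgroup G :=
    { carrier := {u | ∃ v, P.ev v = u}
      one_mem' := ⟨0, P.ev_zero⟩
      mul_mem' := fun {a b} ⟨v, hv⟩ ⟨v', hv'⟩ => ⟨v + v', by rw [P.ev_add, hv, hv']⟩
      inv_mem' := fun {a} ⟨v, hv⟩ => ⟨-v, eq_inv_of_mul_eq_one_left (by
        rw [← hv, ← P.ev_add, neg_add_cancel, P.ev_zero])⟩ }
  exact (sup_le (zpowers_le.2 ⟨_, P.ev_e0⟩) (sup_le (zpowers_le.2 ⟨_, P.ev_e1⟩) (zpowers_le.2 ⟨_, P.ev_e2⟩)) :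
    P.A ≤ R) hu

/-- Coordinates. -/
noncomputable def crd (u : G) : Fin 3 → ZMod l := Function.invFun P.ev u

theorem ev_crd {u : G} (hu : u ∈ P.A) : P.ev (P.crd u) = u := Function.invFun_eq (P.exists_crd hu)

theorem crd_ev (v : Fin 3 → ZMod l) : P.crd (P.ev v) = v := Function.leftInverse_invFun P.ev_inj v

/-- The matrix of the conjugation. -/
noncomputable def mat (h : G) : M₃ l :=
  Matrix.of fun i j => P.crd (h * (![c.a, P.a₁, P.a₂] : Fin 3 → G) j * h⁻¹) i

theorem mat_mulVec {h : G} (hh : h ∈ normalizer (P.A : Set G)) (v : Fin 3 → ZMod l) :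
    P.ev (P.mat h *ᵥ v) = h * P.ev v * h⁻¹ := by
  have e : P.mat h *ᵥ v = v 0 • P.crd (h * c.a * h⁻¹) + v 1 • P.crd (h * P.a₁ * h⁻¹) +
      v 2 • P.crd (h * P.a₂ * h⁻¹) := by
    ext i
    simp [mat, Matrix.mulVec, dotProduct, Fin.sum_univ_three]
    ring
  have hA : ∀ {b}, b ∈ P.A → h * b * h⁻¹ ∈ P.A := fun {b} hb => (Subgroup.mem_normalizer_iff.1 hh b).1 hb
  rw [e, P.ev_add, P.ev_add, P.ev_smul, P.ev_smul, P.ev_smul, P.ev_crd (hA P.a_A), P.ev_crd (hA P.a₁_A),
    P.ev_crd (hA P.a₂_A), conj_pow, conj_pow, conj_pow, ev]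
  group

theorem mat_eq {h : G} (hh : h ∈ normalizer (P.A : Set G)) {M : M₃ l}
    (e : ∀ v, P.ev (M *ᵥ v) = h * P.ev v * h⁻¹) : P.mat h = M := by
  refine Matrix.ext_of_mulVec_single fun j => P.ev_inj ?_
  rw [P.mat_mulVec hh, e]

/-- The representation. -/
noncomputable def rho : ↥(normalizer (P.A : Set G)) →* GL₃ l :=
  MonoidHom.toHomUnits
    { toFun := fun h => P.mat h
      map_one' := P.mat_eq (one_mem _) fun v => by rw [Matrix.one_mulVec]; simp
      map_mul' := fun h k => P.mat_eq (mul_mem h.2 k.2) fun v => by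
        rw [← Matrix.mulVec_mulVec, P.mat_mulVec h.2, P.mat_mulVec k.2]
        group }

theorem coe_rho (h : ↥(normalizer (P.A : Set G))) : (P.rho h : M₃ l) = P.mat h := rfl

theorem rho_ker {h : ↥(normalizer (P.A : Set G))} (e : P.rho h = 1) {u : G} (hu : u ∈ P.A) :
    (h : G) * u * (h : G)⁻¹ = u := by
  obtain ⟨v, rfl⟩ := P.exists_crd hu
  rw [← P.mat_mulVec h.2, ← coe_rho, e, Units.val_one, Matrix.one_mulVec]

theorem mem_of_line {y : G} {v : Fin 3 → ZMod l} (hy : P.ev v = y) :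
    (y ∈ zpowers c.a → v 1 = 0 ∧ v 2 = 0) ∧ (y ∈ zpowers P.a₁ → v 0 = 0 ∧ v 2 = 0) ∧
      (y ∈ zpowers P.a₂ → v 0 = 0 ∧ v 1 = 0) := by
  have key : ∀ (b : G) (e : Fin 3 → ZMod l), P.ev e = b → y ∈ zpowers b → ∃ s : ZMod l, v = s • e := by
    intro b e he hyb
    obtain ⟨k, hk⟩ := Subgroup.mem_zpowers_iff.1 hyb
    refine ⟨(k : ZMod l), P.ev_inj ?_⟩
    rw [hy, P.ev_smul, he, ← hk]
    have hbl : b ^ l = 1 := by
      rw [← he]
      have := P.ev_smul ((l : ℕ) : ZMod l) e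
      rw [← he] at *
      have h0 : ∀ n : ℕ, P.ev ((n : ZMod l) • e) = P.ev e ^ n := by
        intro n
        induction n with
        | zero => rw [Nat.cast_zero, zero_smul, pow_zero]; exact P.ev_zero
        | succ n ih => rw [Nat.cast_succ, add_smul, one_smul, P.ev_add, ih, pow_succ]
      rw [← h0, ZMod.natCast_self, zero_smul]; exact P.ev_zero
    rw [← zpow_natCast b (k : ZMod l).val, zpow_eq_zpow_iff_modEq, Int.modEq_comm]
    refine Int.ModEq.of_dvd (Int.natCast_dvd_natCast.2 (orderOf_dvd_of_pow_eq_one hbl)) ?_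
    rw [← ZMod.intCast_eq_intCast_iff, Int.cast_natCast, ZMod.natCast_val, ZMod.cast_id]
  refine ⟨fun h => ?_, fun h => ?_, fun h => ?_⟩
  · obtain ⟨s, rfl⟩ := key _ _ P.ev_e0 h; simp
  · obtain ⟨s, rfl⟩ := key _ _ P.ev_e1 h; simp
  · obtain ⟨s, rfl⟩ := key _ _ P.ev_e2 h; simp

theorem col {h : G} (hh : h ∈ normalizer (P.A : Set G)) (j : Fin 3) :
    P.ev (fun i => P.mat h i j) = h * (![c.a, P.a₁, P.a₂] : Fin 3 → G) j * h⁻¹ :=
  P.ev_crd ((Subgroup.mem_normalizer_iff.1 hh _).1 (by fin_cases j; exacts [P.a_A, P.a₁_A, P.a₂_A]))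

include P in
/-- The configuration is impossible. -/
theorem false : False := by
  classical
  haveI : Fact (Nat.Prime 2) := ⟨Nat.prime_two⟩
  set N := normalizer (P.A : Set G) with hN
  have hxN : c.x ∈ N := P.S_A c.x_S
  have hwN : c.w ∈ N := P.S_A c.w_S
  have hzN : St.z ∈ N := P.S_A c.z_S
  obtain ⟨g, hgN, hga, hga₁, hga₂⟩ := P.exists_g
  -- the centraliser has odd order
  have hker : Odd (Nat.card P.rho.ker) := by
    rw [Nat.odd_iff, ← Nat.two_dvd_ne_zero]
    intro h2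
    obtain ⟨⟨⟨j, hjN⟩, hj⟩, ho⟩ := exists_prime_orderOf_dvd_card' 2 h2
    rw [Subgroup.orderOf_mk, Subgroup.orderOf_mk] at ho
    have hjj : j * j = 1 := by rw [← sq, ← ho, pow_orderOf_eq_one]
    have hj1 : j ≠ 1 := fun e => by rw [e, orderOf_one] at ho; norm_num at ho
    -- conjugate it into the Sylow subgroup
    have hSyl : Grp.IsSylowIn 2 c.S N := by
      refine ⟨P.S_A, c.S_two, fun hd => ?_⟩
      have h1 := Grp.card_mul_relIndex (P.S_A : c.S ≤ N)
      have hne : c.S.relIndex N ≠ 0 := fun e => Nat.card_pos.ne' (by rw [← h1, e, mul_zero])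
      have h3 := congrArg (fun m => m.factorization 2) h1
      beta_reduce at h3
      rw [Nat.factorization_mul Nat.card_pos.ne' hne, Finsupp.add_apply] at h3
      have h4 := fac_le (l := 2) (le_top : N ≤ ⊤)
      rw [Subgroup.card_top, c.card] at h4
      have h5 : c.n + 1 ≤ (Nat.card c.S).factorization 2 := by
        refine (Nat.prime_two.pow_dvd_iff_le_factorization Nat.card_pos.ne').1 ?_
        have hdis : zpowers c.w ⊓ zpowers c.x = ⊥ := by
          refine (Subgroup.eq_bot_iff_forall _).2 fun y hy => ?_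
          obtain ⟨k, rfl⟩ := Subgroup.mem_zpowers_iff.1 hy.1
          rcases Int.even_or_odd k with ⟨m, rfl⟩ | ⟨m, rfl⟩
          · rw [_root_.zpow_add, ← (Commute.refl c.w).mul_zpow, c.ww, _root_.one_zpow]
          · exfalso
            have h := hy.2
            rw [_root_.zpow_add, _root_.zpow_mul, zpow_two, c.ww, _root_.one_zpow, one_mul, zpow_one] at h
            obtain ⟨q, hq⟩ := Subgroup.mem_zpowers_iff.1 h
            have hwa : Commute c.w c.a := hq ▸ c.xa.zpow_left q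
            have e := c.wa
            rw [hwa.eq, mul_assoc, c.ww, mul_one] at e
            refine c.a_ne (orderOf_eq_one_iff.1 (Nat.dvd_one.1 ?_))
            have hg2 := Nat.dvd_gcd (orderOf_dvd_of_pow_eq_one (show c.a ^ 2 = 1 by
              rw [sq]; nth_rw 1 [e]; exact inv_mul_cancel c.a)) (orderOf_dvd_of_pow_eq_one c.al)
            rwa [(Nat.coprime_two_left.2 (Γ.hl.odd_of_ne_two Γ.hl2)).gcd_eq_one] at hg2
        have hc := Grp.card_sup_mul_card_inf (H := zpowers c.w) (N := zpowers c.x) c.w_norm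
        have hn := c.hn
        rw [hdis, Subgroup.card_bot, mul_one, sup_comm, Nat.card_zpowers, Nat.card_zpowers,
          orderOf_eq_prime (by rw [sq, c.ww]) c.w_ne, show orderOf c.x = 2 ^ c.n by
            rw [show c.n = c.n - 1 + 1 by omega]
            exact orderOf_eq_prime_pow (by rw [c.x_pow]; exact St.z_ne)
              (by rw [show c.n - 1 + 1 = c.n by omega]; exact c.x_pow_two)] at hc
        rw [show c.S = zpowers c.x ⊔ zpowers c.w from rfl, hc, pow_succ']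
      have := Nat.prime_two.factorization_pos_of_dvd hne hd
      rw [← hN] at h3
      omega
    obtain ⟨n, hn, hnS⟩ := Grp.HomDPi.exists_conj_into (zpowers_le.2 hjN) (IsPGroup.of_card (n := 1) (by
      rw [Nat.card_zpowers, ho, pow_one])) hSyl
    set i := n * j * n⁻¹ with hi
    have hiS : i ∈ c.S := hnS j (Subgroup.mem_zpowers j)
    have hiA : ∀ u ∈ P.A, i * u * i⁻¹ = u := fun u hu => by
      have h := P.rho_ker (h := ⟨j, hjN⟩) hj ((Subgroup.mem_normalizer_iff''.1 hn u).1 hu)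
      calc i * u * i⁻¹ = n * (j * (n⁻¹ * u * n) * j⁻¹) * n⁻¹ := by rw [hi]; group
        _ = u := by rw [h]; group
    have hii : i * i = 1 := sq_conj hjj
    have hi1 : i ≠ 1 := conj_ne_one hj1
    have h' : i ∈ ((zpowers c.x ⊔ zpowers c.w : Subgroup G) : Set G) := hiS
    rw [Subgroup.coe_mul_of_right_le_normalizer_left _ _ c.w_norm] at h'
    obtain ⟨y, ⟨p, rfl⟩, y', ⟨q, rfl⟩, hy⟩ := h'
    have hpa : ∀ p : ℤ, Commute (c.x ^ p) c.a := fun p => c.xa.zpow_left p
    rcases Int.even_or_odd q with ⟨m, rfl⟩ | ⟨m, rfl⟩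
    · have e : c.w ^ (m + m) = 1 := by rw [_root_.zpow_add, ← (Commute.refl c.w).mul_zpow, c.ww, _root_.one_zpow]
      simp only [e, mul_one] at hy
      -- an involution of `⟨x⟩` is `z`
      have hiz : i = St.z := by
        have hord : orderOf c.x = 2 ^ c.n := by
          have := c.hn
          rw [show c.n = c.n - 1 + 1 by omega]
          exact orderOf_eq_prime_pow (by rw [c.x_pow]; exact St.z_ne)
            (by rw [show c.n - 1 + 1 = c.n by omega]; exact c.x_pow_two)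
        have h0 : ((2 ^ c.n : ℕ) : ℤ) ∣ p + p := by
          rw [← hord, orderOf_dvd_iff_zpow_eq_one, _root_.zpow_add, hy, hii]
        have := c.hn
        rw [show c.n = c.n - 1 + 1 by omega, pow_succ', ← two_mul, Nat.cast_mul, Nat.cast_ofNat] at h0
        obtain ⟨d, rfl⟩ := (mul_dvd_mul_iff_left (by norm_num : (2 : ℤ) ≠ 0)).1 h0
        rw [_root_.zpow_mul, zpow_natCast, c.x_pow] at hy
        rcases Int.even_or_odd d with ⟨d', rfl⟩ | ⟨d', rfl⟩
        · exfalso
          rw [_root_.zpow_add, ← (Commute.refl St.z).mul_zpow, St.z_sq, _root_.one_zpow] at hy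
          exact hi1 hy.symm
        · rw [_root_.zpow_add, _root_.zpow_mul, zpow_two, St.z_sq, _root_.one_zpow, one_mul, zpow_one] at hy
          exact hy.symm
      have h := hiA _ P.a₁_A
      rw [hiz, P.z₁] at h
      have hg2 := Nat.dvd_gcd (orderOf_dvd_of_pow_eq_one (show P.a₁ ^ 2 = 1 by
        rw [sq]; nth_rw 1 [← h]; exact inv_mul_cancel _)) (orderOf_dvd_of_pow_eq_one P.a₁l)
      rw [(Nat.coprime_two_left.2 (Γ.hl.odd_of_ne_two Γ.hl2)).gcd_eq_one] at hg2
      exact P.a₁ne (orderOf_eq_one_iff.1 (Nat.dvd_one.1 hg2))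
    · have e : c.w ^ (2 * m + 1) = c.w := by
        rw [_root_.zpow_add, _root_.zpow_mul, zpow_two, c.ww, _root_.one_zpow, one_mul, zpow_one]
      simp only [e] at hy
      have h := hiA _ P.a_A
      rw [← hy, show c.x ^ p * c.w * c.a * (c.x ^ p * c.w)⁻¹ = c.x ^ p * (c.w * c.a * c.w⁻¹) * (c.x ^ p)⁻¹ by group,
        c.w_inv, c.wa, (hpa p).inv_right.eq, mul_inv_cancel_right] at h
      have hg2 := Nat.dvd_gcd (orderOf_dvd_of_pow_eq_one (show c.a ^ 2 = 1 by
        rw [sq]; nth_rw 1 [← h]; exact inv_mul_cancel _)) (orderOf_dvd_of_pow_eq_one c.al)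
      rw [(Nat.coprime_two_left.2 (Γ.hl.odd_of_ne_two Γ.hl2)).gcd_eq_one] at hg2
      exact c.a_ne (orderOf_eq_one_iff.1 (Nat.dvd_one.1 hg2))
  -- the two-part
  have hfacN : (Nat.card ↥N).factorization 2 = c.n + 1 := by
    refine le_antisymm (by rw [← c.card, ← Subgroup.card_top (G := G)]; exact fac_le le_top) ?_
    refine (Nat.prime_two.pow_dvd_iff_le_factorization Nat.card_pos.ne').1 ?_
    have hle : Nat.card (Sylow.toSubgroup (Classical.arbitrary (Sylow 2 St.C))) ∣ Nat.card N := by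
      -- both have the full two-part
      obtain ⟨T, hT⟩ := IsPGroup.exists_le_sylow (p := 2) c.S_two
      have h1 := T.card_eq_multiplicity
      have h2 := (Classical.arbitrary (Sylow 2 St.C)).card_eq_multiplicity
      rw [h2]
      have h3 : 2 ^ (c.n + 1) ∣ Nat.card c.S := by
        have hc := Grp.card_sup_mul_card_inf (H := zpowers c.w) (N := zpowers c.x) c.w_norm
        have hdis : zpowers c.w ⊓ zpowers c.x = ⊥ := by
          refine (Subgroup.eq_bot_iff_forall _).2 fun y hy => ?_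
          obtain ⟨k, rfl⟩ := Subgroup.mem_zpowers_iff.1 hy.1
          rcases Int.even_or_odd k with ⟨m, rfl⟩ | ⟨m, rfl⟩
          · rw [_root_.zpow_add, ← (Commute.refl c.w).mul_zpow, c.ww, _root_.one_zpow]
          · exfalso
            have h := hy.2
            rw [_root_.zpow_add, _root_.zpow_mul, zpow_two, c.ww, _root_.one_zpow, one_mul, zpow_one] at h
            obtain ⟨q, hq⟩ := Subgroup.mem_zpowers_iff.1 h
            have hwa : Commute c.w c.a := hq ▸ c.xa.zpow_left q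
            have e := c.wa
            rw [hwa.eq, mul_assoc, c.ww, mul_one] at e
            have hg2 := Nat.dvd_gcd (orderOf_dvd_of_pow_eq_one (show c.a ^ 2 = 1 by
              rw [sq]; nth_rw 1 [e]; exact inv_mul_cancel c.a)) (orderOf_dvd_of_pow_eq_one c.al)
            rw [(Nat.coprime_two_left.2 (Γ.hl.odd_of_ne_two Γ.hl2)).gcd_eq_one] at hg2
            exact c.a_ne (orderOf_eq_one_iff.1 (Nat.dvd_one.1 hg2))
        have hn := c.hn
        rw [hdis, Subgroup.card_bot, mul_one, sup_comm, Nat.card_zpowers, Nat.card_zpowers,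
          orderOf_eq_prime (by rw [sq, c.ww]) c.w_ne, show orderOf c.x = 2 ^ c.n by
            rw [show c.n = c.n - 1 + 1 by omega]
            exact orderOf_eq_prime_pow (by rw [c.x_pow]; exact St.z_ne)
              (by rw [show c.n - 1 + 1 = c.n by omega]; exact c.x_pow_two)] at hc
        rw [show c.S = zpowers c.x ⊔ zpowers c.w from rfl, hc, pow_succ']
      have h4 : (Nat.card St.C).factorization 2 ≤ c.n + 1 := by
        rw [← c.card, ← Subgroup.card_top (G := G)]; exact fac_le le_top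
      exact ((pow_dvd_pow 2 h4).trans h3).trans (Subgroup.card_dvd_of_le P.S_A)
    refine (pow_dvd_pow 2 ?_).trans ((Classical.arbitrary (Sylow 2 St.C)).card_eq_multiplicity ▸ hle)
    rw [← c.card, ← St.C.index_mul_card, Nat.factorization_mul Subgroup.index_ne_zero_of_finite Nat.card_pos.ne',
      Finsupp.add_apply, Nat.factorization_eq_zero_of_not_dvd St.odd_index.not_two_dvd_nat, zero_add]
  -- the complement in the centraliser
  obtain ⟨K, hKH, hHK, hKodd, hKall⟩ := exists_compl_ell St c.a_l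
    (St.ellAt_z.2 ⟨⟨c.a, c.aC⟩, Subgroup.mem_zpowers c.a, c.ell⟩) (H := N ⊓ St.C) inf_le_right
    (fun y hy => mem_normalizer_fintype fun b hb => by
      obtain ⟨k, rfl⟩ := Subgroup.mem_zpowers_iff.1 hb
      rw [← conj_zpow]
      refine zpow_mem ?_ k
      have hyA : y * c.a * y⁻¹ ∈ P.A := (Subgroup.mem_normalizer_iff.1 hy.1 _).1 P.a_A
      obtain ⟨v, hv⟩ := P.exists_crd hyA
      have hvz : v = ![v 0, -v 1, -v 2] := by
        refine P.ev_inj ?_
        rw [← P.conj_z, hv]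
        have hyz : Commute y St.z := St.mem_C.1 hy.2
        calc y * c.a * y⁻¹ = y * (St.z * c.a * St.z⁻¹) * y⁻¹ := by rw [c.az.symm.eq, mul_inv_cancel_right]
          _ = St.z * (y * c.a * y⁻¹) * St.z⁻¹ := by
            rw [show y * (St.z * c.a * St.z⁻¹) * y⁻¹ = (y * St.z) * c.a * (y * St.z)⁻¹ by group, hyz.eq]; group
      have h2 : (2 : ZMod l) ≠ 0 := by
        intro e
        have h1 : ((2 : ℕ) : ZMod l) = 0 := e
        rw [ZMod.natCast_eq_zero_iff] at h1
        exact Γ.hl2 ((Nat.prime_dvd_prime_iff_eq Γ.hl Nat.prime_two).1 h1)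
      have v1 : v 1 = 0 := mul_left_cancel₀ h2 (by
        have := congrFun hvz 1; simp at this; linear_combination this)
      have v2 : v 2 = 0 := mul_left_cancel₀ h2 (by
        have := congrFun hvz 2; simp at this; linear_combination this)
      rw [← hv]
      simp [ev, v1, v2])
  let ρ := P.rho
  have hKN : K ≤ N := hKH.trans inf_le_left
  have hM : ∀ {h : G} (hh : h ∈ N) {M : M₃ l}, (∀ v, P.ev (M *ᵥ v) = h * P.ev v * h⁻¹) →
      (ρ ⟨h, hh⟩ : M₃ l) = M := fun hh _ e => P.mat_eq hh e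
  have hzM : (ρ ⟨St.z, hzN⟩ : M₃ l) = diagonal ![1, -1, -1] := hM hzN fun v => by
    rw [P.conj_z]; congr 1; ext i; rw [Matrix.mulVec_diagonal]; fin_cases i <;> simp
  have hwM : (ρ ⟨c.w, hwN⟩ : M₃ l) = diagonal ![-1, 1, -1] := hM hwN fun v => by
    rw [P.conj_w]; congr 1; ext i; rw [Matrix.mulVec_diagonal]; fin_cases i <;> simp
  have hg0 := (P.mem_of_line (P.col hgN 0)).2.1 hga
  have hg1 := (P.mem_of_line (P.col hgN 1)).1 hga₁
  have hg2 := (P.mem_of_line (P.col hgN 2)).2.2 hga₂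
  have hx0 : P.mat c.x 0 0 = 1 := by
    show P.crd (c.x * c.a * c.x⁻¹) 0 = 1
    rw [c.xa.eq, mul_inv_cancel_right, ← P.ev_e0, P.crd_ev]
    rfl
  have hlift : ∀ {h : GL₃ l}, h ∈ ρ.range ⊓ centralizer ({ρ ⟨St.z, hzN⟩} : Set (GL₃ l)) →
      ∃ y : ↥N, (y : G) ∈ N ⊓ St.C ∧ ρ y = h := by
    rintro _ ⟨⟨y, rfl⟩, hy⟩
    have hc := Subgroup.mem_centralizer_singleton_iff.1 hy
    have hm : y⁻¹ * (⟨St.z, hzN⟩ * y * (⟨St.z, hzN⟩ : ↥N)⁻¹) ∈ ρ.ker := by
      rw [MonoidHom.mem_ker, map_mul, map_mul, map_mul, map_inv, map_inv, ← hc, mul_inv_cancel_right, inv_mul_cancel]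
    obtain ⟨m, hm', hcm⟩ := exists_fix (b := (⟨St.z, hzN⟩ : ↥N)) (c := y) (Subtype.ext St.z_sq) hker hm
    refine ⟨y * m, ⟨(y * m).2, St.mem_C.2 (congrArg Subtype.val hcm.eq).symm⟩, ?_⟩
    rw [map_mul, MonoidHom.mem_ker.1 hm', mul_one]
  refine Lin.false (l := l)
    { hl2 := Γ.hl2
      H := ρ.range
      z := ρ ⟨St.z, hzN⟩
      w := ρ ⟨c.w, hwN⟩
      g := ρ ⟨g, hgN⟩
      x := ρ ⟨c.x, hxN⟩
      n := c.n
      hn := c.hn
      z_eq := hzM
      w_eq := hwM
      zH := ⟨_, rfl⟩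
      wH := ⟨_, rfl⟩
      gH := ⟨_, rfl⟩
      xH := ⟨_, rfl⟩
      g00 := hg0.1
      g20 := hg0.2
      g11 := hg1.1
      g21 := hg1.2
      g02 := hg2.1
      g12 := hg2.2
      xz := ((show Commute (⟨c.x, hxN⟩ : ↥N) ⟨St.z, hzN⟩ from Subtype.ext c.xz.eq).map ρ)
      x00 := hx0
      x_pow := by
        rw [← map_pow]
        congr 1
        exact Subtype.ext (by rw [SubmonoidClass.coe_pow]; exact c.x_pow)
      x_inv := by
        rw [← map_mul, ← map_mul, ← map_inv, ← map_mul]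
        congr 1
        exact Subtype.ext c.x_inv
      fac := by
        have h := Subgroup.index_mul_card ρ.ker
        rw [Subgroup.index_ker] at h
        have h2 := congrArg (fun m => m.factorization 2) h
        beta_reduce at h2
        rw [Nat.factorization_mul Nat.card_pos.ne' Nat.card_pos.ne', Finsupp.add_apply, hfacN,
          Nat.factorization_eq_zero_of_not_dvd hker.not_two_dvd_nat, add_zero] at h2
        exact h2
      K₀ := (K.subgroupOf N).map ρ
      K₀_le := ?_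
      K₀_odd := ?_
      K₀_norm := ?_
      K₀_two := ?_ }
  · rintro _ ⟨k, hk, rfl⟩
    refine ⟨⟨k, rfl⟩, Subgroup.mem_centralizer_singleton_iff.2 ?_⟩
    rw [← map_mul, ← map_mul]
    congr 1
    exact Subtype.ext (St.mem_C.1 (hKH (Subgroup.mem_subgroupOf.1 hk)).2).eq
  · refine Odd.of_dvd_nat ?_ (Subgroup.card_map_dvd _ _)
    rwa [Nat.card_congr (Subgroup.subgroupOfEquivOfLe hKN).toEquiv]
  · intro h hh
    obtain ⟨y, hy, rfl⟩ := hlift hh
    refine Subgroup.le_normalizer_map ρ ⟨y, ?_, rfl⟩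
    exact mem_normalizer_fintype fun b hb =>
      Subgroup.mem_subgroupOf.2 ((Subgroup.mem_normalizer_iff.1 (hHK hy) _).1 (Subgroup.mem_subgroupOf.1 hb))
  · intro h hh
    obtain ⟨y, hy, rfl⟩ := hlift hh
    refine ⟨(orderOf (y : G)).factorization 2, y ^ 2 ^ (orderOf (y : G)).factorization 2,
      Subgroup.mem_subgroupOf.2 ?_, map_pow ρ _ _⟩
    rw [SubmonoidClass.coe_pow]
    refine hKall _ (pow_mem hy _) ?_
    rw [orderOf_pow_of_dvd (by positivity) (Nat.ordProj_dvd _ 2), Nat.odd_iff, ← Nat.two_dvd_ne_zero]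
    exact Nat.not_dvd_ordCompl Nat.prime_two (orderOf_pos _).ne'

end Plane

end Core

variable {G : Type u} [Group G] [Finite G] {X : Type u} [Group X] [Finite X] {F : Type v} [Field F] [Fintype F]
  {l : ℕ} {Γ : Gam X F l}

/-- There is no exceptional configuration. -/
theorem not_exc (St : Sett G Γ) : ¬ St.Exc := fun h => by
  haveI := Fact.mk Γ.hl
  obtain ⟨c⟩ := St.exists_core h
  obtain ⟨P⟩ := c.exists_plane
  exact P.false

/-- The `l`-part of the order is that of a signalizer times that of `X`. -/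
theorem star_all {X : Type u} [Group X] [Finite X] {F : Type v} [Field F] [Fintype F] {l : ℕ} {Γ : Gam X F l}
    (G : Type u) [Group G] [Finite G] (St : Sett G Γ) : St.Star := by
  suffices h : ∀ (n : ℕ) (G : Type u) [Group G] [Finite G], Nat.card G = n → ∀ St : Sett G Γ, St.Star from
    h _ G rfl St
  intro n
  induction n using Nat.strong_induction_on with
  | _ n ih =>
    intro G _ _ hn St
    exact St.star_step (fun H _ _ hlt S => ih _ (hn ▸ hlt) H rfl S) (not_exc St)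

end Sett

end Cfsg.Agent.Invol.AbgOrder.Ell
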