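import Cfsg.Agent.Lib.Invol.AbgOrder.EllAdapt
import Cfsg.Agent.Lib.Invol.AbgOrder.EllOne

/-!
# `E(l)` at a central involution
-/

set_option autoImplicit false

namespace Cfsg.Agent.Invol.AbgOrder

universe u

/-- The bound `E(l)`. -/
theorem ellStmt : EllStmt.{u} :=
  ellStmt_of_star fun _ _ _ _ _ _ _ _ G _ _ St => St.star_all G

end Cfsg.Agent.Invol.AbgOrder
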