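import Cfsg.Agent.Lib.Invol.AbgOrder.Shape0Aut
import Cfsg.Agent.Lib.Invol.BrauerL3.TableGU

/-!
# `GL(2, q)` and `GU(2, q)` as extensions of `SL(2, q)`

Both carry the table `Tbl`; the embedding of `SL(2, q)`, its inner-diagonal automorphisms and the field
automorphisms of odd order are recorded.
-/

set_option autoImplicit false
set_option linter.unusedSectionVars false

namespace Cfsg.Agent.Invol.AbgOrder

open Matrix Cfsg.Agent.Classical.Descent
open Cfsg.Agent.Invol.BrauerL3 (Tbl scal mem_scal mem_scal_iff_fix)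
open Cfsg.Agent.Block.SL2Char

universe u v w

/-- An element whose image has odd order has a power of odd order with the same image. -/
theorem exists_odd_pow {G : Type u} {M : Type v} [Group G] [Finite G] [Group M] (φ : G →* M) (x : G)
    (h : Odd (orderOf (φ x))) : ∃ e : ℕ, φ (x ^ e) = φ x ∧ Odd (orderOf (x ^ e)) := by
  obtain ⟨a, b, hb, hab⟩ := Nat.exists_eq_pow_mul_and_not_dvd (orderOf_pos x).ne' 2 (by norm_num)
  obtain ⟨c, hc⟩ := exists_pow_eq_self_of_coprime (n := 2 ^ a) (x := φ x) ((Nat.coprime_two_left.2 h).pow_left a)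
  refine ⟨2 ^ a * c, by rw [map_pow, pow_mul, hc], ?_⟩
  refine (Nat.odd_iff.2 (Nat.two_dvd_ne_zero.1 hb)).of_dvd_nat (orderOf_dvd_of_pow_eq_one ?_)
  rw [← pow_mul, mul_right_comm, ← hab, pow_mul, pow_orderOf_eq_one, one_pow]

/-- An automorphism of odd order fixing the group generated by an element of `2`-power order fixes the element. -/
theorem fixed_of_odd {G : Type u} [Group G] [Finite G] (θ : G →* G) {a : G} {r i : ℕ} (hr : Odd r)
    (ha : orderOf a = 2 ^ i) (hmem : θ a ∈ Subgroup.zpowers a) (hθ : (⇑θ)^[r] a = a) : θ a = a := by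
  obtain ⟨e, he⟩ := (mem_powers_iff_mem_zpowers.2 hmem : θ a ∈ Submonoid.powers a)
  have hit : ∀ j, (⇑θ)^[j] a = a ^ e ^ j := by
    intro j
    induction j with
    | zero => simp
    | succ j ih =>
      rw [Function.iterate_succ_apply', ih, map_pow, ← he, ← pow_mul, ← pow_succ']
  rw [hit] at hθ
  have hd : ((2 ^ i : ℕ) : ℤ) ∣ (e : ℤ) ^ r - 1 := by
    rw [← ha, orderOf_dvd_iff_zpow_eq_one, _root_.zpow_sub, ← Nat.cast_pow, zpow_natCast, hθ, zpow_one,
      mul_inv_cancel]
  rcases Nat.eq_zero_or_pos i with h0 | h0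
  · subst h0
    rw [pow_zero, orderOf_eq_one_iff] at ha
    rw [ha, map_one]
  have he1 : Odd e := by
    by_contra hev
    rw [Nat.not_odd_iff_even] at hev
    have h2 : (2 : ℤ) ∣ (e : ℤ) ^ r - 1 :=
      dvd_trans ⟨2 ^ (i - 1), by push_cast; rw [← pow_succ', Nat.sub_add_cancel h0]⟩ hd
    obtain ⟨c, hc⟩ : (2 : ℤ) ∣ (e : ℤ) ^ r := dvd_pow (by exact_mod_cast hev.two_dvd) (by
      obtain ⟨t, ht⟩ := hr; omega)
    obtain ⟨d, hd'⟩ := h2
    omega
  rw [← geom_sum_mul] at hd
  have hsum : Odd (∑ j ∈ Finset.range r, (e : ℤ) ^ j) := by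
    simp only [← Nat.cast_pow, ← Nat.cast_sum, Int.odd_coe_nat]
    rw [Finset.odd_sum_iff_odd_card_odd, Finset.filter_true_of_mem (fun j _ => he1.pow), Finset.card_range]
    exact hr
  have hcop : IsCoprime ((2 ^ i : ℕ) : ℤ) (∑ j ∈ Finset.range r, (e : ℤ) ^ j) := by
    push_cast
    exact IsCoprime.pow_left (Int.isCoprime_two_left.2 hsum)
  have h3 := hcop.dvd_of_dvd_mul_left hd
  rw [← ha, orderOf_dvd_iff_zpow_eq_one, _root_.zpow_sub, zpow_natCast, zpow_one, mul_inv_eq_one] at h3
  rw [← he]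
  exact h3

/-- A model: a group with table `Tbl` containing `SL(2, F)` with quotient the scalars. -/
structure Mdl (F : Type u) [Field F] [Fintype F] (H : Type v) [Group H] (K : Type w) [CommGroup K] (Q : ℤ) where
  T : Tbl H K Q
  ι : Matrix.SpecialLinearGroup (Fin 2) F →* H
  ι_inj : Function.Injective ι
  dt_ι : ∀ s, T.dt (ι s) = 1
  back : ∀ h, ∃ g, ∀ s, h * ι s * h⁻¹ = ι (inn g s)
  onto : ∀ g, ∃ h, ∀ s, h * ι s * h⁻¹ = ι (inn g s)
  cent : ∀ h, (∀ s, h * ι s = ι s * h) → h ∈ Subgroup.center H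
  card : Nat.card H = Nat.card (Matrix.SpecialLinearGroup (Fin 2) F) * Nat.card (scal K Q)
  field : ∀ σ : RingAut F, Odd (orderOf σ) →
    ∃ Φ : MulAut H, Odd (orderOf Φ) ∧ ∀ s, Φ (ι s) = ι (smi 1 σ s)

section LinearModel

variable {F : Type u} [Field F] [Fintype F] [DecidableEq F] {K : Type v} [Field K] [Algebra F K] [Fintype K]

/-- Entrywise automorphisms of `GL(2, F)`. -/
def glAut : RingAut F →* MulAut (GL (Fin 2) F) where
  toFun σ := Units.mapEquiv (σ : F ≃+* F).mapMatrix.toMulEquiv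
  map_one' := MulEquiv.ext fun g => Units.ext (Matrix.ext fun i j => rfl)
  map_mul' σ τ := MulEquiv.ext fun g => Units.ext (Matrix.ext fun i j => rfl)

theorem glAut_eq (σ : RingAut F) (g : GL (Fin 2) F) : glAut σ g = gmap σ g :=
  Units.ext (Matrix.ext fun _ _ => rfl)

theorem gmap_toGL (σ : RingAut F) (s : Matrix.SpecialLinearGroup (Fin 2) F) :
    gmap σ (Matrix.SpecialLinearGroup.toGL s) = Matrix.SpecialLinearGroup.toGL (smi 1 σ s) := by
  refine Units.ext ?_
  show (s : Matrix (Fin 2) (Fin 2) F).map σ = ((smi 1 σ s : Matrix.SpecialLinearGroup (Fin 2) F) : Matrix _ _ F)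
  rw [smi_coe, inv_one, Units.val_one, Matrix.one_mul, Matrix.mul_one]

theorem inn_toGL_eq (g : GL (Fin 2) F) (s : Matrix.SpecialLinearGroup (Fin 2) F) :
    Matrix.SpecialLinearGroup.toGL (inn g s) = g * Matrix.SpecialLinearGroup.toGL s * g⁻¹ :=
  Units.ext (inn_coe g s)

theorem exists_mdlGL (hK : Module.finrank F K = 2) (hodd : Odd (Fintype.card F)) :
    Nonempty (Mdl F (GL (Fin 2) F) Kˣ (Fintype.card F : ℤ)) := by
  classical
  refine ⟨{ T := BrauerL3.tblGL K hK hodd
            ι := Matrix.SpecialLinearGroup.toGL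
            ι_inj := Matrix.SpecialLinearGroup.toGL_injective
            dt_ι := fun s => ?_
            back := fun h => ⟨h, fun s => (inn_toGL_eq h s).symm⟩
            onto := fun g => ⟨g, fun s => (inn_toGL_eq g s).symm⟩
            cent := fun h hh => ?_
            card := ?_
            field := fun σ hσ => ⟨glAut σ, hσ.of_dvd_nat (orderOf_map_dvd glAut σ), fun s => ?_⟩ }⟩
  · show BrauerL3.embScal K (detu _) = 1
    rw [detu_eq (w := 1) (by rw [dt_eq_det]; simp), map_one]
  · have h1 : inn h = 1 := MulEquiv.ext fun s => Matrix.SpecialLinearGroup.toGL_injective (by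
      rw [inn_toGL_eq, hh s, mul_inv_cancel_right]; rfl)
    rw [← MonoidHom.mem_ker, ker_inn] at h1
    exact h1
  · rw [card_GL_two, Nat.card_congr (BrauerL3.embScal K).toEquiv, mul_comm]
  · rw [glAut_eq, gmap_toGL]

end LinearModel

section UnitaryModel

open Cfsg.Agent.Invol.BrauerL3.GU

variable {k : Type u} [Field k] [Fintype k] {L : Type v} [Field L] [Fintype L] [Algebra k L]

local notation "qq" => Fintype.card k

theorem exists_extend (hL : Module.finrank k L = 2) (σ : RingAut k) (hσ : Odd (orderOf σ)) :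
    ∃ τ : RingAut L, Odd (orderOf τ) ∧ ∀ x : k, τ (algebraMap k L x) = algebraMap k L (σ x) := by
  haveI : Finite (RingAut L) := Finite.of_injective (fun τ : RingAut L => (τ : L → L)) DFunLike.coe_injective
  obtain ⟨p, hp⟩ := CharP.exists k
  obtain ⟨n, hpp, hn⟩ := FiniteField.card k p
  haveI : Fact p.Prime := ⟨hpp⟩
  haveI : CharP L p := charP_of_injective_algebraMap (algebraMap k L).injective p
  obtain ⟨j, -, hj⟩ := ringAut_exists_pow σ hn
  let τ₀ : RingAut L := iterateFrobeniusEquiv L p j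
  have hτ : ∀ (i : ℕ) (x : k), (τ₀ ^ i) (algebraMap k L x) = algebraMap k L ((σ ^ i) x) := by
    intro i
    induction i with
    | zero => intro x; rfl
    | succ i ih =>
      intro x
      rw [pow_succ', pow_succ']
      show τ₀ ((τ₀ ^ i) (algebraMap k L x)) = algebraMap k L (σ ((σ ^ i) x))
      rw [ih, hj, map_pow]
      rfl
  obtain ⟨a, b, hb, hab⟩ := Nat.exists_eq_pow_mul_and_not_dvd (orderOf_pos τ₀).ne' 2 (by norm_num)
  obtain ⟨c, hc⟩ := exists_pow_eq_self_of_coprime (n := 2 ^ a) (x := σ) ((Nat.coprime_two_left.2 hσ).pow_left a)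
  refine ⟨τ₀ ^ (2 ^ a * c), ?_, fun x => ?_⟩
  · have h : (τ₀ ^ (2 ^ a * c)) ^ b = 1 := by
      rw [← pow_mul, mul_right_comm, ← hab, pow_mul, pow_orderOf_eq_one, one_pow]
    exact (Nat.odd_iff.2 (Nat.two_dvd_ne_zero.1 hb)).of_dvd_nat (orderOf_dvd_of_pow_eq_one h)
  · rw [hτ, pow_mul, hc]

variable [DecidableEq k] (hL : Module.finrank k L = 2) (hodd : Odd (Fintype.card k))
include hL hodd

/-- `SL(2, k)` inside `GU(2, q)`. -/
noncomputable def iota : Matrix.SpecialLinearGroup (Fin 2) k →* Cfsg.GU 2 L qq :=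
  (Psi hL hodd).comp (((MonoidHom.inr Lˣ (GL (Fin 2) k)).comp Matrix.SpecialLinearGroup.toGL).codRestrict _
    fun s => by
      show ((1 : Lˣ), Matrix.SpecialLinearGroup.toGL s) ∈ Gam k L
      rw [mem_Gam, detu_eq (w := 1) (by rw [dt_eq_det]; simp), map_one, one_pow, mul_one])

theorem exists_mdlGU : Nonempty (Mdl k (Cfsg.GU 2 L qq) Lˣ (-(qq : ℤ))) := by
  classical
  let up : Matrix.SpecialLinearGroup (Fin 2) k →* Gam k L :=
    ((MonoidHom.inr Lˣ (GL (Fin 2) k)).comp Matrix.SpecialLinearGroup.toGL).codRestrict _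
      fun s => by
        show ((1 : Lˣ), Matrix.SpecialLinearGroup.toGL s) ∈ Gam k L
        rw [mem_Gam, detu_eq (w := 1) (by rw [dt_eq_det]; simp), map_one, one_pow, mul_one]
  have hι : ∀ s, iota hL hodd s = Psi hL hodd (up s) := fun s => rfl
  have hinj : Function.Injective (iota (L := L) hL hodd) := by
    refine (injective_iff_map_eq_one _).2 fun s hs => ?_
    rw [hι, Psi_eq_one] at hs
    obtain ⟨z, h1, h2⟩ := hs
    change Matrix.SpecialLinearGroup.toGL s = sc z at h1
    change (1 : Lˣ) * emb (F := k) L z = 1 at h2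
    rw [one_mul] at h2
    rw [emb_injective L (h2.trans (map_one _).symm)] at h1
    exact Matrix.SpecialLinearGroup.toGL_injective (by rw [h1, map_one, ← BrauerL3.di_self, BrauerL3.di_one])
  have hconj : ∀ (γ : Gam k L) s, Psi hL hodd γ * iota hL hodd s * (Psi hL hodd γ)⁻¹ =
      iota hL hodd (inn γ.1.2 s) := by
    intro γ s
    rw [hι, hι, ← map_inv, ← map_mul, ← map_mul]
    refine congrArg _ (Subtype.ext (Prod.ext ?_ ?_))
    · show γ.1.1 * 1 * γ.1.1⁻¹ = 1
      rw [mul_one, mul_inv_cancel]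
    · exact (inn_toGL_eq _ s).symm
  refine ⟨{ T := tblGU hL hodd
            ι := iota hL hodd
            ι_inj := hinj
            dt_ι := fun s => ?_
            back := fun h => ?_
            onto := fun g => ?_
            cent := fun h hh => ?_
            card := ?_
            field := fun σ hσ => ?_ }⟩
  · show DT hL hodd _ = 1
    rw [hι, DT_Psi]
    refine Subtype.ext ?_
    show (1 : Lˣ) * 1 * emb (F := k) L (detu (Matrix.SpecialLinearGroup.toGL s)) = 1
    rw [detu_eq (w := 1) (by rw [dt_eq_det]; simp), map_one, mul_one, mul_one]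
  · obtain ⟨γ, rfl⟩ := Psi_surjective hL hodd h
    exact ⟨γ.1.2, hconj γ⟩
  · obtain ⟨γ, hγ⟩ := pr_surjective (L := L) hL g
    exact ⟨Psi hL hodd γ, fun s => by rw [hconj, show γ.1.2 = g from hγ]⟩
  · obtain ⟨γ, rfl⟩ := Psi_surjective hL hodd h
    have h1 : inn γ.1.2 = 1 := MulEquiv.ext fun s => hinj (by
      rw [← hconj, hh s, mul_inv_cancel_right]; rfl)
    rw [← MonoidHom.mem_ker, ker_inn] at h1
    refine Subgroup.mem_center_iff.2 fun g => ?_
    obtain ⟨δ, rfl⟩ := Psi_surjective hL hodd g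
    rw [← map_mul, ← map_mul]
    exact congrArg _ (Subtype.ext (Prod.ext (mul_comm _ _) (Subgroup.mem_center_iff.1 h1 _)))
  · have h1 := (Psi (L := L) hL hodd).ker.index_mul_card
    have h2 := (pr (k := k) (L := L)).ker.index_mul_card
    rw [Subgroup.index_ker, card_ker_Psi hL hodd, MonoidHom.range_eq_top.2 (Psi_surjective hL hodd),
      Subgroup.card_top] at h1
    rw [Subgroup.index_ker, MonoidHom.range_eq_top.2 (pr_surjective hL), Subgroup.card_top, card_ker_pr,
      card_GL_two, Nat.card_units, Nat.card_eq_fintype_card (α := k)] at h2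
    have e : Nat.card (scal Lˣ (-(qq : ℤ))) = Nat.card {c : Lˣ // c ^ (qq + 1) = 1} :=
      Nat.card_congr (Equiv.subtypeEquivRight fun c => by
        rw [mem_scal, show -(qq : ℤ) - 1 = -((qq + 1 : ℕ) : ℤ) by push_cast; ring, _root_.zpow_neg, inv_eq_one,
          zpow_natCast])
    have hq1 : 1 < qq := Fintype.one_lt_card
    rw [e]
    refine Nat.eq_of_mul_eq_mul_right (show 0 < qq - 1 by omega) ?_
    rw [h1, ← h2]
    ring
  · obtain ⟨τ, hτo, hτ⟩ := exists_extend (L := L) hL σ hσ
    let τu : RingAut L →* MulAut Lˣ :=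
      { toFun := fun t => Units.mapEquiv (t : L ≃+* L).toMulEquiv
        map_one' := MulEquiv.ext fun x => Units.ext rfl
        map_mul' := fun a b => MulEquiv.ext fun x => Units.ext rfl }
    have hemb : ∀ z : kˣ, τu τ (emb (F := k) L z) = emb (F := k) L (Units.map (σ : k ≃+* k).toRingHom.toMonoidHom z) :=
      fun z => Units.ext (hτ z)
    have hdet : ∀ h : GL (Fin 2) k, detu (gmap σ h) = Units.map (σ : k ≃+* k).toRingHom.toMonoidHom (detu h) := by
      intro h
      refine Units.ext ?_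
      rw [detu_val, dt_eq_det, Units.coe_map, detu_val, dt_eq_det]
      exact (RingHom.map_det (σ : k ≃+* k).toRingHom (h : Matrix (Fin 2) (Fin 2) k)).symm
    let up2 : Gam k L →* Gam k L :=
      (((τu τ).toMonoidHom.prodMap (gmap σ)).comp (Gam k L).subtype).codRestrict _ fun γ => by
        show (τu τ γ.1.1, gmap σ γ.1.2) ∈ Gam k L
        rw [mem_Gam, hdet, ← hemb, ← map_pow, ← map_mul]
        exact (congrArg _ (mem_Gam.1 γ.2)).trans (map_one _)
    have hker : (Psi hL hodd).ker ≤ ((Psi hL hodd).comp up2).ker := by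
      intro γ hγ
      rw [MonoidHom.mem_ker, Psi_eq_one] at hγ
      obtain ⟨z, h1, h2⟩ := hγ
      rw [MonoidHom.mem_ker, MonoidHom.comp_apply, Psi_eq_one]
      refine ⟨Units.map (σ : k ≃+* k).toRingHom.toMonoidHom z, ?_, ?_⟩
      · show gmap σ γ.1.2 = _
        rw [h1]
        exact Units.ext (Matrix.ext fun i j => by fin_cases i <;> fin_cases j <;> simp)
      · show τu τ γ.1.1 * _ = 1
        rw [← hemb, ← map_mul, h2, map_one]
    let φ := (Psi hL hodd).liftOfSurjective (Psi_surjective hL hodd) ⟨_, hker⟩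
    have hφ : ∀ γ, φ (Psi hL hodd γ) = Psi hL hodd (up2 γ) := fun γ =>
      MonoidHom.liftOfRightInverse_comp_apply _ _ (Function.rightInverse_surjInv (Psi_surjective hL hodd))
        ⟨_, hker⟩ γ
    have hit : ∀ (i : ℕ) γ, (⇑φ)^[i] (Psi hL hodd γ) = Psi hL hodd ((⇑up2)^[i] γ) := by
      intro i
      induction i with
      | zero => intro γ; rfl
      | succ i ih => intro γ; rw [Function.iterate_succ_apply', ih, hφ, Function.iterate_succ_apply']
    set r := orderOf τ * orderOf σ with hr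
    have hup : ∀ γ : Gam k L, (⇑up2)^[r] γ = γ := by
      have hi : ∀ (i : ℕ) (γ : Gam k L), ((⇑up2)^[i] γ).1 = ((τu (τ ^ i)) γ.1.1, glAut (σ ^ i) γ.1.2) := by
        intro i
        induction i with
        | zero => intro γ; rw [pow_zero, pow_zero, map_one, map_one]; rfl
        | succ i ih =>
          intro γ
          rw [Function.iterate_succ_apply', pow_succ', pow_succ', map_mul, map_mul, MulAut.mul_apply,
            MulAut.mul_apply]
          refine Prod.ext (congrArg (τu τ) (congrArg Prod.fst (ih γ))) ?_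
          rw [glAut_eq σ]
          exact congrArg (gmap σ) (congrArg Prod.snd (ih γ))
      intro γ
      refine Subtype.ext ?_
      rw [hi, hr, pow_mul, pow_orderOf_eq_one, one_pow, mul_comm, pow_mul, pow_orderOf_eq_one, one_pow,
        map_one, map_one]
      rfl
    have hfix : ∀ h, (⇑φ)^[r] h = h := by
      intro h
      obtain ⟨γ, rfl⟩ := Psi_surjective hL hodd h
      rw [hit, hup]
    have hr0 : 0 < r := Nat.pos_of_ne_zero fun h => by
      have h' : Odd r := hτo.mul hσ
      rw [h] at h'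
      exact absurd h' (by decide)
    have hbij : Function.Bijective φ := by
      refine ⟨fun a b e => ?_, fun b => ⟨(⇑φ)^[r - 1] b, ?_⟩⟩
      · rw [← hfix a, ← hfix b, ← Nat.sub_add_cancel hr0, Function.iterate_succ_apply, e,
          Function.iterate_succ_apply]
      · rw [← Function.iterate_succ_apply' φ, Nat.succ_eq_add_one, Nat.sub_add_cancel hr0, hfix]
    refine ⟨MulEquiv.ofBijective φ hbij, (hτo.mul hσ).of_dvd_nat (orderOf_dvd_of_pow_eq_one ?_), fun s => ?_⟩
    · refine MulEquiv.ext fun h => ?_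
      have hp : ∀ (i : ℕ) (x : Cfsg.GU 2 L qq), ((MulEquiv.ofBijective φ hbij : MulAut _) ^ i) x = (⇑φ)^[i] x := by
        intro i
        induction i with
        | zero => intro x; rfl
        | succ i ih => intro x; rw [pow_succ', MulAut.mul_apply, ih, Function.iterate_succ_apply']; rfl
      rw [hp, ← hr, hfix]
      rfl
    · show φ (iota hL hodd s) = _
      rw [hι, hι, hφ]
      refine congrArg _ (Subtype.ext (Prod.ext (map_one (τu τ)) ?_))
      exact gmap_toGL σ s

end UnitaryModel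

end Cfsg.Agent.Invol.AbgOrder
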