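import Cfsg.Agent.Lib.Invol.AbgOrder.Shape0Main
import Cfsg.Agent.Lib.Fus.PSLTwo

/-!
# The two models by the residue of `q` and the type of the Sylow subgroup
-/

set_option autoImplicit false

namespace Cfsg.Agent.Invol.AbgOrder

open Matrix Cfsg.Agent.Classical
open Cfsg.Agent.Invol.BrauerL3 (Tbl scal mem_scal)

universe u v

variable {X : Type u} [Group X] [Finite X] {F : Type v} [Field F] [Fintype F] {k : ℕ}

theorem Ctx.card_ker_fld (c : Ctx X F k) :
    Nat.card (fld.comp c.ψ).ker = Nat.card (Matrix.SpecialLinearGroup (Fin 2) F) * k := by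
  set χ := fld.comp c.ψ with hχ
  have h2 := (c.ψ.domRestrict χ.ker).ker.index_mul_card
  rw [Subgroup.index_ker] at h2
  have hr : (c.ψ.domRestrict χ.ker).range = (inn (F := F)).range := by
    ext θ
    constructor
    · rintro ⟨y, rfl⟩
      exact mem_range_inn.2 y.2
    · intro hθ
      obtain ⟨y, hy⟩ := c.range_inn_le hθ
      exact ⟨⟨y, MonoidHom.mem_ker.2 (by rw [hχ, MonoidHom.comp_apply, hy]; exact mem_range_inn.1 hθ)⟩, hy⟩
  have hk2 : Nat.card (c.ψ.domRestrict χ.ker).ker = k := by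
    rw [← Subgroup.card_subtype χ.ker]
    refine (congrArg (fun T : Subgroup X => Nat.card T) ?_).trans c.card_Zs
    rw [← c.ker_eq, MonoidHom.ker_domRestrict, Subgroup.subgroupOf_map_subtype]
    exact inf_eq_left.2 fun y hy => MonoidHom.mem_ker.2 (by
      rw [hχ, MonoidHom.comp_apply, MonoidHom.mem_ker.1 hy, map_one])
  rw [hr, hk2, card_range_inn] at h2
  exact h2.symm

/-- The order of the Sylow subgroup of the inner-diagonal part. -/
theorem Ctx.card_sylow (c : Ctx X F k) : ∃ o, Odd o ∧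
    Fintype.card F * ((Fintype.card F - 1) * (Fintype.card F + 1)) * k = Nat.card (c.S : Subgroup X) * o := by
  haveI : Fact (Nat.Prime 2) := ⟨Nat.prime_two⟩
  set χ := fld.comp c.ψ with hχ
  refine ⟨(c.S : Subgroup X).relIndex χ.ker,
    Nat.odd_iff.2 (Nat.two_dvd_ne_zero.1 (Grp.sylow_inf_normal_relIndex c.S χ.ker)), ?_⟩
  have hle : (c.S : Subgroup X) ≤ χ.ker := fun s hs => MonoidHom.mem_ker.2 (c.fld_eq_one hs)
  rw [← Fus.PSLTwo.natCard_SL_two, ← c.card_ker_fld, ← hχ, Grp.card_mul_relIndex hle]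

theorem exists_two_part {n : ℕ} (hn : n ≠ 0) : ∃ a b, Odd b ∧ n = 2 ^ a * b := by
  obtain ⟨a, b, hb, h⟩ := Nat.exists_eq_pow_mul_and_not_dvd hn 2 (by norm_num)
  exact ⟨a, b, Nat.odd_iff.2 (Nat.two_dvd_ne_zero.1 hb), h⟩

theorem two_part_unique {a b a' b' : ℕ} (hb : Odd b) (hb' : Odd b') (h : 2 ^ a * b = 2 ^ a' * b') : a = a' := by
  have h1 : 2 ^ a ∣ 2 ^ a' * b' := h ▸ dvd_mul_right _ _
  have h2 : 2 ^ a' ∣ 2 ^ a * b := h ▸ dvd_mul_right _ _
  exact le_antisymm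
    ((Nat.pow_dvd_pow_iff_le_right (le_refl 2)).1 (((Nat.coprime_two_left.2 hb').pow_left a).dvd_of_dvd_mul_right h1))
    ((Nat.pow_dvd_pow_iff_le_right (le_refl 2)).1 (((Nat.coprime_two_left.2 hb).pow_left a').dvd_of_dvd_mul_right h2))

/-- The `2`-part of the number of scalars of each model. -/
theorem exists_scalar_part (c : Ctx X F k) :
    (∃ b, Odd b ∧ Fintype.card F - 1 = k * b ∧
      ((k = 2 ∧ Fintype.card F % 4 = 3) ∨ (4 ≤ k ∧ Fintype.card F % 4 = 1))) ∨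
    (∃ b, Odd b ∧ Fintype.card F + 1 = k * b ∧
      ((k = 2 ∧ Fintype.card F % 4 = 1) ∨ (4 ≤ k ∧ Fintype.card F % 4 = 3))) := by
  obtain ⟨q, hq⟩ : ∃ q, q = Fintype.card F := ⟨_, rfl⟩
  obtain ⟨o, ho, hS⟩ := c.card_sylow
  rw [← hq] at hS ⊢
  obtain ⟨r, hr⟩ : Odd q := hq ▸ c.odd
  have hq2 : 2 ≤ q := hq ▸ Fintype.one_lt_card
  have hq4 : q % 4 = 1 ∨ q % 4 = 3 := by omega
  rcases c.d.lift with ⟨hk2, -, -⟩ | ⟨hk4, -, hcard⟩
  · rcases hq4 with h | h
    · exact Or.inr ⟨(q + 1) / 2, Nat.odd_iff.2 (by omega), by rw [hk2]; omega, Or.inl ⟨hk2, h⟩⟩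
    · exact Or.inl ⟨(q - 1) / 2, Nat.odd_iff.2 (by omega), by rw [hk2]; omega, Or.inl ⟨hk2, h⟩⟩
  · obtain ⟨m, -, hkm⟩ := c.d.pow_two
    rw [hcard] at hS
    have h : q * ((q - 1) * (q + 1)) = 2 ^ (m + 1) * o := by
      refine Nat.eq_of_mul_eq_mul_right c.d.k_pos ?_
      rw [hS, hkm, pow_succ]
      ring
    rcases hq4 with h1 | h1
    · obtain ⟨a, b, hb, hab⟩ := exists_two_part (show q - 1 ≠ 0 by omega)
      obtain ⟨c2, hc2⟩ : ∃ c2, q + 1 = 2 * c2 := ⟨(q + 1) / 2, by omega⟩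
      have hodd : Odd c2 := Nat.odd_iff.2 (by omega)
      have e : q * ((q - 1) * (q + 1)) = 2 ^ (a + 1) * (q * b * c2) := by
        rw [hab, hc2, pow_succ]
        ring
      have ha := two_part_unique ((((show Odd q from ⟨r, hr⟩).mul hb).mul hodd)) ho (e.symm.trans h)
      exact Or.inl ⟨b, hb, by rw [hkm, hab, show a = m by omega], Or.inr ⟨hk4, h1⟩⟩
    · obtain ⟨a, b, hb, hab⟩ := exists_two_part (show q + 1 ≠ 0 by omega)
      obtain ⟨c2, hc2⟩ : ∃ c2, q - 1 = 2 * c2 := ⟨(q - 1) / 2, by omega⟩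
      have hodd : Odd c2 := Nat.odd_iff.2 (by omega)
      have e : q * ((q - 1) * (q + 1)) = 2 ^ (a + 1) * (q * b * c2) := by
        rw [hab, hc2, pow_succ]
        ring
      have ha := two_part_unique ((((show Odd q from ⟨r, hr⟩).mul hb).mul hodd)) ho (e.symm.trans h)
      exact Or.inr ⟨b, hb, by rw [hkm, hab, show a = m by omega], Or.inr ⟨hk4, h1⟩⟩

theorem card_scal_pos [DecidableEq F] {K : Type*} [Field K] [Algebra F K] [Fintype K] :
    Nat.card (scal Kˣ (Fintype.card F : ℤ)) = Fintype.card F - 1 := by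
  rw [← Nat.card_congr (BrauerL3.embScal (F := F) K).toEquiv, Nat.card_units, Nat.card_eq_fintype_card]

theorem card_scal_neg {L : Type*} [Field L] [Fintype L] [Algebra F L] (hL : Module.finrank F L = 2) :
    Nat.card (scal Lˣ (-(Fintype.card F : ℤ))) = Fintype.card F + 1 := by
  have e : Nat.card (scal Lˣ (-(Fintype.card F : ℤ))) =
      Nat.card (powMonoidHom (Fintype.card F + 1) : Lˣ →* Lˣ).ker :=
    Nat.card_congr (Equiv.subtypeEquivRight fun c => by
      rw [mem_scal, show -(Fintype.card F : ℤ) - 1 = -((Fintype.card F + 1 : ℕ) : ℤ) by push_cast; ring,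
        _root_.zpow_neg, inv_eq_one, zpow_natCast, MonoidHom.mem_ker, powMonoidHom_apply])
  classical
  rw [e, IsCyclic.card_powMonoidHom_ker, BrauerL3.GU.card_units_L hL, Nat.gcd_mul_right_left]

/-- The quadratic extension. -/
theorem exists_quadratic (F : Type v) [Field F] [Fintype F] :
    ∃ (L : Type) (_ : Field L) (_ : Fintype L) (_ : Algebra F L),
      Module.finrank F L = 2 ∧ Fintype.card L = Fintype.card F ^ 2 := by
  classical
  obtain ⟨p, hp⟩ := CharP.exists F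
  obtain ⟨n, hpp, hn⟩ := FiniteField.card F p
  haveI := Fact.mk hpp
  have h0 : 2 * (n : ℕ) ≠ 0 := Nat.mul_ne_zero two_ne_zero n.ne_zero
  haveI : Fintype (GaloisField p (2 * n)) := Fintype.ofFinite _
  have hk : Fintype.card (GaloisField p (2 * n)) = Fintype.card F ^ 2 := by
    rw [← Nat.card_eq_fintype_card, GaloisField.card p _ h0, hn, ← pow_mul, mul_comm]
  obtain ⟨f⟩ := Dickson.exists_ringHom_of_card_pow (K := F) (F := GaloisField p (2 * n)) (m := 2) hk.symm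
  letI := f.toAlgebra
  refine ⟨GaloisField p (2 * n), inferInstance, inferInstance, f.toAlgebra, ?_, hk⟩
  have h := Module.card_eq_pow_finrank (K := F) (V := GaloisField p (2 * n))
  rw [hk] at h
  exact (Nat.pow_right_injective Fintype.one_lt_card h).symm

/-- Only trivial field parts when the degree is a power of two. -/
theorem Shape0.orderOf_f_dvd {H K : Type*} [Group H] [CommGroup K] {Q : ℤ} (s : Shape0 X F H K Q) {p n : ℕ}
    [Fact p.Prime] (hF : Fintype.card F = p ^ n) : orderOf s.f ∣ n ∧ Odd (orderOf s.f) := by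
  refine ⟨?_, s.orderOf_f ▸ s.σ_odd⟩
  rw [s.orderOf_f]
  exact (PSLAut.card_ringAut (F := F) hF).2 ▸ orderOf_dvd_natCard s.σ

/-- The shape, by cases. -/
theorem exists_shape0 (S : Sylow 2 X)
    (hS : Cfsg.IsQuasiDihedral (S : Subgroup X) ∨ Cfsg.IsWreathed (S : Subgroup X))
    (hO : Cfsg.oddCore X = ⊥) (N : Subgroup X) (hN : N.Normal) (e : N ≃* Matrix.SpecialLinearGroup (Fin 2) F)
    (hodd : Odd (Fintype.card F)) :
    (((Cfsg.IsQuasiDihedral (S : Subgroup X) ∧ Fintype.card F % 4 = 3) ∨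
        (Cfsg.IsWreathed (S : Subgroup X) ∧ Fintype.card F % 4 = 1)) ∧
      ∃ (L : Type) (_ : Field L) (_ : Fintype L) (_ : Algebra F L), Module.finrank F L = 2 ∧
        Nonempty (Shape0 X F (GL (Fin 2) F) Lˣ (Fintype.card F : ℤ))) ∨
    (((Cfsg.IsQuasiDihedral (S : Subgroup X) ∧ Fintype.card F % 4 = 1) ∨
        (Cfsg.IsWreathed (S : Subgroup X) ∧ Fintype.card F % 4 = 3)) ∧
      ∃ (L : Type) (_ : Field L) (_ : Fintype L) (_ : Algebra F L), Module.finrank F L = 2 ∧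
        Fintype.card L = Fintype.card F ^ 2 ∧
        Nonempty (Shape0 X F (Cfsg.GU 2 L (Fintype.card F)) Lˣ (-(Fintype.card F : ℤ)))) := by
  classical
  obtain ⟨L, _, _, _, hL, hcL⟩ := exists_quadratic F
  have build : ∀ {k : ℕ} (c : Ctx X F k),
      ((k = 2 ∧ Fintype.card F % 4 = 3 ∨ 4 ≤ k ∧ Fintype.card F % 4 = 1) ∧
        Nonempty (Shape0 X F (GL (Fin 2) F) Lˣ (Fintype.card F : ℤ))) ∨
      ((k = 2 ∧ Fintype.card F % 4 = 1 ∨ 4 ≤ k ∧ Fintype.card F % 4 = 3) ∧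
        Nonempty (Shape0 X F (Cfsg.GU 2 L (Fintype.card F)) Lˣ (-(Fintype.card F : ℤ)))) := by
    intro k c
    rcases exists_scalar_part c with ⟨b, hb, hkb, hcase⟩ | ⟨b, hb, hkb, hcase⟩
    · obtain ⟨M⟩ := exists_mdlGL (F := F) (K := L) hL hodd
      exact Or.inl ⟨hcase, exists_shape M c hb (card_scal_pos.trans hkb)⟩
    · obtain ⟨M⟩ := exists_mdlGU (k := F) (L := L) hL hodd
      exact Or.inr ⟨hcase, exists_shape M c hb ((card_scal_neg hL).trans hkb)⟩
  rcases exists_sylData hS with ⟨hqd, ⟨d⟩⟩ | ⟨hwr, k, hk, ⟨d⟩⟩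
  · rcases build ⟨S, hO, N, hN, e, hodd, d⟩ with ⟨hc, h⟩ | ⟨hc, h⟩
    · exact Or.inl ⟨Or.inl ⟨hqd, by rcases hc with ⟨-, h'⟩ | ⟨h', -⟩ <;> omega⟩, L, inferInstance, inferInstance, inferInstance, hL, h⟩
    · exact Or.inr ⟨Or.inl ⟨hqd, by rcases hc with ⟨-, h'⟩ | ⟨h', -⟩ <;> omega⟩, L, inferInstance, inferInstance, inferInstance, hL, hcL, h⟩
  · rcases build ⟨S, hO, N, hN, e, hodd, d⟩ with ⟨hc, h⟩ | ⟨hc, h⟩
    · exact Or.inl ⟨Or.inr ⟨hwr, by rcases hc with ⟨h', -⟩ | ⟨-, h'⟩ <;> omega⟩, L, inferInstance, inferInstance, inferInstance, hL, h⟩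
    · exact Or.inr ⟨Or.inr ⟨hwr, by rcases hc with ⟨h', -⟩ | ⟨-, h'⟩ <;> omega⟩, L, inferInstance, inferInstance, inferInstance, hL, hcL, h⟩

end Cfsg.Agent.Invol.AbgOrder
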