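import Cfsg.Agent.Lib.Invol.AbgOrder.Shape0Local
import Cfsg.Agent.Lib.Invol.AbgOrder.Shape0Cases
import Cfsg.Agent.Lib.Invol.AbgConsumers.WeakEmbedded
import Cfsg.Agent.S1240
import Cfsg.Agent.S0484
import Cfsg.Agent.S0485

/-!
# The frame of the classifications for quasi-dihedral and wreathed Sylow 2-subgroups

The shape of a centraliser of an involution modulo its odd core, and the final step from the centraliser itself.
-/

set_option autoImplicit false
set_option linter.style.haveILetI false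

namespace Cfsg.Agent.Invol.AbgOrder

open Subgroup

universe u

variable {G : Type u} [Group G] [Finite G]

attribute [local instance] oddCore_normal

theorem not_qd_and_wreathed {P : Type u} [Group P] (hq : Cfsg.IsQuasiDihedral P) (hw : Cfsg.IsWreathed P) : False := by
  obtain ⟨n, x, y, h⟩ := Invol.exists_qd hq
  obtain ⟨m, a, b, c, h'⟩ := Invol.exists_wr hw
  haveI := h.finite
  obtain ⟨d⟩ := sylData_qd h
  obtain ⟨d'⟩ := sylData_wr h'
  have e : 2 = 2 ^ m := d.card_center.symm.trans d'.card_center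
  have := Nat.pow_le_pow_right (show 0 < 2 by norm_num) h'.hn
  omega

/-- The quotient of the centraliser by its odd core. -/
abbrev CQ (z : G) : Type u := ↥(centralizer ({z} : Set G)) ⧸ Cfsg.oddCore ↥(centralizer ({z} : Set G))

/-- The centraliser is `GL(2, F)` modulo a central subgroup of odd order. -/
def GLCent (z : G) (F : Type) [Field F] : Prop :=
  ∃ (Z : Subgroup (GL (Fin 2) F)) (_ : Z.Normal), Z ≤ Subgroup.center (GL (Fin 2) F) ∧ Odd (Nat.card Z) ∧
    Nonempty (↥(centralizer ({z} : Set G)) ≃* GL (Fin 2) F ⧸ Z)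

/-- The centraliser is `GU(2, q)` modulo a central subgroup of odd order. -/
def GUCent (z : G) (L : Type) [Field L] (q : ℕ) : Prop :=
  ∃ (Z : Subgroup (Cfsg.GU 2 L q)) (_ : Z.Normal), Z ≤ Subgroup.center (Cfsg.GU 2 L q) ∧ Odd (Nat.card Z) ∧
    Nonempty (↥(centralizer ({z} : Set G)) ≃* Cfsg.GU 2 L q ⧸ Z)

/-- A simple group with such Sylow 2-subgroups is not abelian and has no subgroup of index two. -/
theorem simple_facts [IsSimpleGroup G] (S : Sylow 2 G)
    (hS : Cfsg.IsQuasiDihedral (S : Subgroup G) ∨ Cfsg.IsWreathed (S : Subgroup G)) :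
    ¬ IsMulCommutative G ∧ ∀ N : Subgroup G, N.index ≠ 2 := by
  obtain ⟨-, ⟨a, b, -, -, hab⟩, -⟩ := AbgConsumers.sylow_facts hS
  have hna : ¬ IsMulCommutative G := fun h => hab (Subtype.ext (h.is_comm.comm (a : G) (b : G)))
  refine ⟨hna, fun N hN => ?_⟩
  haveI := normal_of_index_eq_two hN
  rcases (inferInstance : N.Normal).eq_bot_or_eq_top with rfl | rfl
  · rw [index_bot] at hN
    haveI : Fact (Nat.Prime 2) := ⟨Nat.prime_two⟩
    haveI : IsCyclic G := isCyclic_of_prime_card hN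
    exact hna IsCyclic.isMulCommutative
  · rw [index_top] at hN
    omega

/-- A central involution of the Sylow subgroup. -/
theorem exists_central [IsSimpleGroup G] (S : Sylow 2 G)
    (hS : Cfsg.IsQuasiDihedral (S : Subgroup G) ∨ Cfsg.IsWreathed (S : Subgroup G)) :
    ∃ z : G, orderOf z = 2 ∧ z ∈ S ∧ ∀ s ∈ (S : Subgroup G), s * z = z * s := by
  obtain ⟨⟨z, hz, hzc⟩, -, -⟩ := AbgConsumers.sylow_facts hS
  exact ⟨z, by rw [Subgroup.orderOf_coe, hz], z.2, fun s hs => congrArg Subtype.val (hzc ⟨s, hs⟩)⟩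

/-- All involutions are conjugate to the central one. -/
theorem one_class [IsSimpleGroup G] (S : Sylow 2 G)
    (hS : Cfsg.IsQuasiDihedral (S : Subgroup G) ∨ Cfsg.IsWreathed (S : Subgroup G)) (a b : G)
    (ha : orderOf a = 2) (hb : orderOf b = 2) : IsConj a b :=
  AbgConsumers.all_conj_of_no_index_two S hS (simple_facts S hS).2 a b ha hb

/-- The shape of the centraliser modulo its odd core. -/
theorem exists_shape_at [IsSimpleGroup G] (S : Sylow 2 G)
    (hS : Cfsg.IsQuasiDihedral (S : Subgroup G) ∨ Cfsg.IsWreathed (S : Subgroup G)) (z : G) (hz : orderOf z = 2)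
    (hzc : ∀ s ∈ (S : Subgroup G), s * z = z * s) :
    ∃ (F : Type) (_ : Field F) (_ : Fintype F), Odd (Fintype.card F) ∧
      ((((Cfsg.IsQuasiDihedral (S : Subgroup G) ∧ Fintype.card F % 4 = 3) ∨
          (Cfsg.IsWreathed (S : Subgroup G) ∧ Fintype.card F % 4 = 1)) ∧
        ∃ (L : Type) (_ : Field L) (_ : Fintype L) (_ : Algebra F L), Module.finrank F L = 2 ∧
          Nonempty (Shape0 (CQ z) F (GL (Fin 2) F) Lˣ (Fintype.card F : ℤ))) ∨
      (((Cfsg.IsQuasiDihedral (S : Subgroup G) ∧ Fintype.card F % 4 = 1) ∨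
          (Cfsg.IsWreathed (S : Subgroup G) ∧ Fintype.card F % 4 = 3)) ∧
        ∃ (L : Type) (_ : Field L) (_ : Fintype L) (_ : Algebra F L), Module.finrank F L = 2 ∧
          Fintype.card L = Fintype.card F ^ 2 ∧
          Nonempty (Shape0 (CQ z) F (Cfsg.GU 2 L (Fintype.card F)) Lˣ (-(Fintype.card F : ℤ))))) := by
  obtain ⟨hO, S', e, -⟩ := quotient_setup S z hzc
  obtain ⟨F, i1, i2, hodd, ⟨f⟩⟩ :=
    Cfsg.Agent.S1240.result S hS (simple_facts S hS).2 (one_class S hS) z hz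
  have hS' : Cfsg.IsQuasiDihedral (S' : Subgroup (CQ z)) ∨ Cfsg.IsWreathed (S' : Subgroup (CQ z)) :=
    hS.imp (sylShape_congr e).1 (sylShape_congr e).2
  haveI : (commutator (CQ z)).Normal := inferInstance
  refine ⟨F, i1, i2, hodd, ?_⟩
  rcases exists_shape0 S' hS' hO (commutator (CQ z)) inferInstance f hodd with ⟨hc, h⟩ | ⟨hc, h⟩
  · exact Or.inl ⟨hc.imp (fun h => ⟨(sylShape_congr e.symm).1 h.1, h.2⟩)
      fun h => ⟨(sylShape_congr e.symm).2 h.1, h.2⟩, h⟩
  · exact Or.inr ⟨hc.imp (fun h => ⟨(sylShape_congr e.symm).1 h.1, h.2⟩)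
      fun h => ⟨(sylShape_congr e.symm).2 h.1, h.2⟩, h⟩

/-- From the centraliser `GL(2, F)/Z`. -/
theorem linear_end [IsSimpleGroup G] {z : G} (hz : orderOf z = 2) {F : Type} [Field F] [Fintype F]
    (hodd : Odd (Fintype.card F)) (h : GLCent z F) :
    Nonempty (G ≃* Matrix.ProjectiveSpecialLinearGroup (Fin 3) F) ∨ Cfsg.IsM11 G := by
  obtain ⟨Z, hn, hc, ho, he⟩ := h
  haveI := hn
  exact Cfsg.Agent.S0484.result hodd Z hc ho z hz he

/-- From the centraliser `GU(2, q)/Z`. -/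
theorem unitary_end [IsSimpleGroup G] {z : G} (hz : orderOf z = 2) {L : Type} [Field L] [Fintype L] {q : ℕ}
    (hq : Odd q) (hL : Fintype.card L = q ^ 2) (h : GUCent z L q) : Nonempty (G ≃* Cfsg.PSU 3 L q) := by
  obtain ⟨Z, hn, hc, ho, he⟩ := h
  haveI := hn
  exact Cfsg.Agent.S0485.result q hq hL Z hc ho z hz he

/-- The linear step: from the shape to the centraliser. -/
def LinearStep (G : Type u) [Group G] [Finite G] : Prop :=
  ∀ (S : Sylow 2 G) (z : G) (F L : Type) [Field F] [Fintype F] [Field L] [Fintype L] [Algebra F L],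
    (Cfsg.IsQuasiDihedral (S : Subgroup G) ∧ Fintype.card F % 4 = 3) ∨
      (Cfsg.IsWreathed (S : Subgroup G) ∧ Fintype.card F % 4 = 1) →
    orderOf z = 2 → z ∈ S → (∀ s ∈ (S : Subgroup G), s * z = z * s) → Module.finrank F L = 2 →
    Shape0 (CQ z) F (GL (Fin 2) F) Lˣ (Fintype.card F : ℤ) → GLCent z F

/-- The unitary step: from the shape to the centraliser. -/
def UnitaryStep (G : Type u) [Group G] [Finite G] : Prop :=
  ∀ (S : Sylow 2 G) (z : G) (F L : Type) [Field F] [Fintype F] [Field L] [Fintype L] [Algebra F L],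
    (Cfsg.IsQuasiDihedral (S : Subgroup G) ∧ Fintype.card F % 4 = 1) ∨
      (Cfsg.IsWreathed (S : Subgroup G) ∧ Fintype.card F % 4 = 3) →
    orderOf z = 2 → z ∈ S → (∀ s ∈ (S : Subgroup G), s * z = z * s) → Module.finrank F L = 2 →
    Fintype.card L = Fintype.card F ^ 2 →
    Shape0 (CQ z) F (Cfsg.GU 2 L (Fintype.card F)) Lˣ (-(Fintype.card F : ℤ)) → GUCent z L (Fintype.card F)

/-- The classification from the two steps. -/
theorem final_of_steps [IsSimpleGroup G] (S : Sylow 2 G)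
    (hS : Cfsg.IsQuasiDihedral (S : Subgroup G) ∨ Cfsg.IsWreathed (S : Subgroup G)) (hl : LinearStep G)
    (hu : UnitaryStep G) :
    (∃ (F : Type) (_ : Field F) (_ : Fintype F),
        ((Cfsg.IsQuasiDihedral (S : Subgroup G) ∧ Fintype.card F % 4 = 3) ∨
          (Cfsg.IsWreathed (S : Subgroup G) ∧ Fintype.card F % 4 = 1)) ∧
        Nonempty (G ≃* Matrix.ProjectiveSpecialLinearGroup (Fin 3) F)) ∨
      (∃ (L : Type) (_ : Field L) (_ : Fintype L) (q : ℕ), Fintype.card L = q ^ 2 ∧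
        ((Cfsg.IsQuasiDihedral (S : Subgroup G) ∧ q % 4 = 1) ∨ (Cfsg.IsWreathed (S : Subgroup G) ∧ q % 4 = 3)) ∧
        Nonempty (G ≃* Cfsg.PSU 3 L q)) ∨
      Cfsg.IsM11 G := by
  obtain ⟨z, hz, hzS, hzc⟩ := exists_central S hS
  obtain ⟨F, i1, i2, hodd, hcase⟩ := exists_shape_at S hS z hz hzc
  rcases hcase with ⟨hc, L, j1, j2, j3, hL, ⟨s⟩⟩ | ⟨hc, L, j1, j2, j3, hL, hcL, ⟨s⟩⟩
  · rcases linear_end hz hodd (hl S z F L hc hz hzS hzc hL s) with h | h
    · exact Or.inl ⟨F, i1, i2, hc, h⟩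
    · exact Or.inr (Or.inr h)
  · exact Or.inr (Or.inl ⟨L, j1, j2, Fintype.card F, hcL, hc,
      unitary_end hz hodd hcL (hu S z F L hc hz hzS hzc hL hcL s)⟩)

/-- The classification with a quasi-dihedral Sylow 2-subgroup, from the two steps. -/
theorem sd_of_steps (hl : ∀ (G : Type u) [Group G] [Finite G] [IsSimpleGroup G], LinearStep G)
    (hu : ∀ (G : Type u) [Group G] [Finite G] [IsSimpleGroup G], UnitaryStep G) : AbgConsumers.SDStmt.{u} := by
  intro G _ _ _ S hS
  have hnw : ¬ Cfsg.IsWreathed (S : Subgroup G) := not_qd_and_wreathed hS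
  rcases final_of_steps S (Or.inl hS) (hl G) (hu G) with ⟨F, i1, i2, hc, h⟩ | ⟨L, i1, i2, q, hq, hc, h⟩ | h
  · exact Or.inl ⟨F, i1, i2, (hc.resolve_right fun e => hnw e.1).2, h⟩
  · exact Or.inr (Or.inl ⟨L, i1, i2, q, hq, (hc.resolve_right fun e => hnw e.1).2, h⟩)
  · exact Or.inr (Or.inr h)

/-- The classification with a wreathed Sylow 2-subgroup, from the two steps. -/
theorem wr_of_steps (hl : ∀ (G : Type u) [Group G] [Finite G] [IsSimpleGroup G], LinearStep G)
    (hu : ∀ (G : Type u) [Group G] [Finite G] [IsSimpleGroup G], UnitaryStep G) : AbgConsumers.WrStmt.{u} := by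
  intro G _ _ _ S hS
  rcases final_of_steps S (Or.inr hS) (hl G) (hu G) with ⟨F, i1, i2, hc, h⟩ | ⟨L, i1, i2, q, hq, hc, h⟩ | h
  · exact Or.inl ⟨F, i1, i2, Nat.odd_iff.2 (by rcases hc with ⟨-, e⟩ | ⟨-, e⟩ <;> omega), h⟩
  · exact Or.inr (Or.inl ⟨L, i1, i2, q, hq, Nat.odd_iff.2 (by rcases hc with ⟨-, e⟩ | ⟨-, e⟩ <;> omega), h⟩)
  · exact Or.inr (Or.inr h)

end Cfsg.Agent.Invol.AbgOrder
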