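import Cfsg.Agent.Lib.Char.CyclicGlauberman
import Cfsg.Agent.Lib.Char.Constituent

/-!
# A character on the coset of an involution acting coprimely

On the fixed points it is an integral combination of the Glauberman correspondents, each coefficient bounded by the
multiplicity; when the bound is attained only one extension occurs.
-/

set_option autoImplicit false
set_option linter.unusedSectionVars false
set_option linter.style.haveILetI false

namespace Cfsg.Agent.Invol.AbgOrder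

open Cfsg Cfsg.Agent.Char Cfsg.Agent.Char.CycGlaub Cfsg.Agent.Block
open scoped ComplexConjugate

universe u

variable {Γ : Type u} [Group Γ] {G C : Subgroup Γ} {s : Γ}

/-- The character of `G` is fixed by `s`. -/
def Fixd [G.Normal] (s : Γ) (θ : G → ℂ) : Prop :=
  ∀ g : G, θ ⟨s * g * s⁻¹, (inferInstance : G.Normal).conj_mem g g.2 s⟩ = θ g

variable [Fintype Γ] [G.Normal] [Fintype G] [Fintype C]

theorem exists_glaub_ext (h : Setup G s C) (θ : IrrCharacter G) (hfix : Fixd s (θ : G → ℂ)) :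
    ∃ (ψ : IrrCharacter Γ) (β : IrrCharacter C) (ε : ℤ), (∀ g : G, (ψ : Γ → ℂ) g = (θ : G → ℂ) g) ∧
      (ε = 1 ∨ ε = -1) ∧ (∀ c : C, (ψ : Γ → ℂ) (c * s) = (ε : ℂ) * (β : C → ℂ) c) ∧
      classInner (fun c : C => (θ : G → ℂ) ⟨c, h.le c.2⟩) (β : C → ℂ) ≠ 0 := by
  classical
  obtain ⟨d, hd⟩ := IsChar.one_eq_nat (irr_isChar θ)
  have hinv : ∀ (x : Γ) (n : G),
      (θ : G → ℂ) ⟨x * n * x⁻¹, (inferInstance : G.Normal).conj_mem (n : Γ) n.2 x⟩ = (θ : G → ℂ) n := by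
    intro x n
    obtain ⟨i, hi⟩ := h.dec x
    have hpow : ∀ (j : ℕ) (m : G),
        (θ : G → ℂ) ⟨s ^ j * m * (s ^ j)⁻¹, (inferInstance : G.Normal).conj_mem (m : Γ) m.2 _⟩ = (θ : G → ℂ) m := by
      intro j
      induction j with
      | zero => intro m; exact congrArg (θ : G → ℂ) (Subtype.ext (by show s ^ 0 * (m : Γ) * (s ^ 0)⁻¹ = m; group))
      | succ j ih =>
        intro m
        rw [← ih m, ← hfix ⟨s ^ j * m * (s ^ j)⁻¹, (inferInstance : G.Normal).conj_mem (m : Γ) m.2 _⟩]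
        refine congrArg (θ : G → ℂ) (Subtype.ext ?_)
        show s ^ (j + 1) * (m : Γ) * (s ^ (j + 1))⁻¹ = s * (s ^ j * (m : Γ) * (s ^ j)⁻¹) * s⁻¹
        rw [pow_succ']; group
    rw [← hpow i n, ← IsIrr.classFun θ.2 ⟨s ^ i * n * (s ^ i)⁻¹, (inferInstance : G.Normal).conj_mem (n : Γ) n.2 _⟩ ⟨x * (s ^ i)⁻¹, hi⟩]
    refine congrArg (θ : G → ℂ) (Subtype.ext ?_)
    show x * (n : Γ) * x⁻¹ = x * (s ^ i)⁻¹ * (s ^ i * (n : Γ) * (s ^ i)⁻¹) * (x * (s ^ i)⁻¹)⁻¹
    group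
  have hoG : detOrder (θ : G → ℂ) ∣ Nat.card G := by
    obtain ⟨μ, hμ⟩ := isCharacter_detChar θ.2
    rw [detOrder, hμ, orderOf_unitsFun]
    exact orderOf_dvd_of_pow_eq_one (MonoidHom.ext fun g => by
      rw [MonoidHom.pow_apply, ← map_pow, pow_card_eq_one', map_one, MonoidHom.one_apply])
  have hcopI : Nat.Coprime G.index (detOrder (θ : G → ℂ) * d) := by
    rw [h.idx]
    exact Nat.Coprime.mul_right (h.cop.symm.coprime_dvd_right hoG)
      (h.cop.symm.coprime_dvd_right (IsIrr.degree_dvd_card θ.2 hd))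
  obtain ⟨χ₀, ⟨hχ₀, hχ₀res, hχ₀ord⟩, -⟩ := Cfsg.Agent.S0867.result G (θ : G → ℂ) θ.2 hinv d hd hcopI
  obtain ⟨β, ε, hε, hv, hne⟩ := h.exists_sign ⟨χ₀, hχ₀⟩
    (by rw [show (fun g : G => χ₀ g) = (θ : G → ℂ) from funext hχ₀res]; exact θ.2)
    (by rw [show detOrder χ₀ = detOrder (θ : G → ℂ) from hχ₀ord]; exact Nat.Coprime.coprime_dvd_left hoG h.cop)
  refine ⟨⟨χ₀, hχ₀⟩, β, ε, hχ₀res, hε, fun c => ?_, ?_⟩
  · have := hv 1 (Nat.coprime_one_left _) c
    rwa [pow_one] at this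
  · convert hne using 2
    funext c
    exact (hχ₀res ⟨c, h.le c.2⟩).symm

theorem sum_ite_eq_of_inner (θ θ' : IrrCharacter G) :
    classInner (θ : G → ℂ) (θ' : G → ℂ) = if θ = θ' then 1 else 0 := by
  rcases classInner_irr_zero_or_one θ.2 θ'.2 with ⟨he, h1⟩ | ⟨he, h1⟩
  · rw [h1, if_pos (Subtype.ext he)]
  · rw [h1, if_neg fun e => he (congrArg Subtype.val e)]

/-- The expansion on the fixed points. -/
theorem exists_glauberman (h : Setup G s C) (hs : orderOf s = 2) {φ : Γ → ℂ} (hφ : IsCharacter Γ φ) :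
    ∃ (β : IrrCharacter G → C → ℂ) (a : IrrCharacter G → ℤ),
      (∀ θ : IrrCharacter G, Fixd s (θ : G → ℂ) → IsIrrCharacter C (β θ) ∧
        classInner (fun c : C => (θ : G → ℂ) ⟨c, h.le c.2⟩) (β θ) ≠ 0 ∧
        (∀ ψ : IrrCharacter Γ, (∀ g : G, (ψ : Γ → ℂ) g = (θ : G → ℂ) g) →
          ∃ e : ℤ, (e = 1 ∨ e = -1) ∧ ∀ c : C, (ψ : Γ → ℂ) (c * s) = (e : ℂ) * β θ c) ∧
        classInner (fun c : C => φ (c * s)) (β θ) = (a θ : ℂ)) ∧
      (∀ θ θ' : IrrCharacter G, Fixd s (θ : G → ℂ) → Fixd s (θ' : G → ℂ) → β θ = β θ' → θ = θ') ∧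
      (∀ θ : IrrCharacter G, ¬ Fixd s (θ : G → ℂ) → a θ = 0) ∧
      (fun c : C => φ (c * s)) = ∑ θ, (a θ : ℂ) • β θ ∧
      (∀ (θ : IrrCharacter G) (m : ℕ), classInner (fun g : G => φ g) (θ : G → ℂ) = m →
        |a θ| ≤ m ∧ ((m : ℤ) = |a θ| → ∀ ψ ψ' : IrrCharacter Γ,
          (∀ g : G, (ψ : Γ → ℂ) g = (θ : G → ℂ) g) → (∀ g : G, (ψ' : Γ → ℂ) g = (θ : G → ℂ) g) →
          classInner φ (ψ : Γ → ℂ) ≠ 0 → classInner φ (ψ' : Γ → ℂ) ≠ 0 → ψ = ψ')) := by
  classical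
  obtain ⟨ω, l, hω, hls, hl, hlx⟩ := h.exists_twist
  let β : IrrCharacter G → C → ℂ := fun θ =>
    if hf : Fixd s (θ : G → ℂ) then ((exists_glaub_ext h θ hf).choose_spec.choose : C → ℂ) else 0
  have hβ : ∀ θ : IrrCharacter G, Fixd s (θ : G → ℂ) → IsIrrCharacter C (β θ) ∧
      classInner (fun c : C => (θ : G → ℂ) ⟨c, h.le c.2⟩) (β θ) ≠ 0 ∧
      ∃ (ψ₀ : IrrCharacter Γ) (e : ℤ), (∀ g : G, (ψ₀ : Γ → ℂ) g = (θ : G → ℂ) g) ∧ (e = 1 ∨ e = -1) ∧
        ∀ c : C, (ψ₀ : Γ → ℂ) (c * s) = (e : ℂ) * β θ c := by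
    intro θ hf
    obtain ⟨ε, h1, h2, h3, h4⟩ := (exists_glaub_ext h θ hf).choose_spec.choose_spec
    simp only [β, dif_pos hf]
    exact ⟨(exists_glaub_ext h θ hf).choose_spec.choose.2, h4, _, ε, h1, h2, h3⟩
  have hfixres : ∀ (ψ : IrrCharacter Γ) (θ : IrrCharacter G),
      (∀ g : G, (ψ : Γ → ℂ) g = (θ : G → ℂ) g) → Fixd s (θ : G → ℂ) := fun ψ θ hres g => by
    rw [← hres, ← hres]
    exact IsIrr.classFun ψ.2 _ _
  have hirrres : ∀ (ψ : IrrCharacter Γ) (θ : IrrCharacter G), (∀ g : G, (ψ : Γ → ℂ) g = (θ : G → ℂ) g) →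
      IsIrrCharacter G (fun g : G => (ψ : Γ → ℂ) g) := fun ψ θ hres => by
    rw [show (fun g : G => (ψ : Γ → ℂ) g) = (θ : G → ℂ) from funext hres]; exact θ.2
  -- every extension
  have hsgn : ∀ (ψ : IrrCharacter Γ) (θ : IrrCharacter G), (∀ g : G, (ψ : Γ → ℂ) g = (θ : G → ℂ) g) →
      ∃ e : ℤ, (e = 1 ∨ e = -1) ∧ ∀ c : C, (ψ : Γ → ℂ) (c * s) = (e : ℂ) * β θ c := by
    intro ψ θ hres
    obtain ⟨-, -, ψ₀, e, hres₀, he, hv⟩ := hβ θ (hfixres ψ θ hres)
    have h1 := h.res_inner_eq hω hl hls hlx ψ₀ ψ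
    rw [show (fun g : G => (ψ : Γ → ℂ) g) = fun g : G => (ψ₀ : Γ → ℂ) g from funext fun g => by rw [hres, hres₀],
      classInner_self_irr (hirrres ψ₀ θ hres₀), hs, Finset.sum_range_succ, Finset.sum_range_one] at h1
    have hω2 : ω = -1 := by
      have hω' : IsPrimitiveRoot ω 2 := hs ▸ hω
      exact hω'.eq_neg_one_of_two_right
    rcases classInner_irr_zero_or_one (IsIrr.mul_linear ψ₀.2 (l ^ 1)) ψ.2 with ⟨he', -⟩ | ⟨-, h0⟩
    · refine ⟨-e, by omega, fun c => ?_⟩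
      rw [← congrFun he' ((c : Γ) * s)]
      show (((l ^ 1) ((c : Γ) * s) : ℂˣ) : ℂ) * _ = _
      rw [pow_one, map_mul, hl _ (h.le c.2), one_mul, hls, hv, hω2]
      push_cast
      ring
    · rw [h0, add_zero] at h1
      rcases classInner_irr_zero_or_one (IsIrr.mul_linear ψ₀.2 (l ^ 0)) ψ.2 with ⟨he', -⟩ | ⟨-, h0'⟩
      · refine ⟨e, he, fun c => ?_⟩
        rw [← congrFun he' ((c : Γ) * s)]
        simp [hv]
      · rw [h0'] at h1
        exact absurd h1 one_ne_zero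
  have horth : ∀ θ θ' : IrrCharacter G, Fixd s (θ : G → ℂ) → Fixd s (θ' : G → ℂ) →
      classInner (β θ) (β θ') = if θ = θ' then 1 else 0 := by
    intro θ θ' hf hf'
    by_cases e : θ = θ'
    · subst e
      rw [if_pos rfl, classInner_self_irr (hβ θ hf).1]
    rw [if_neg e]
    obtain ⟨hi, -, ψ, a, hres, ha, hv⟩ := hβ θ hf
    obtain ⟨hi', -, ψ', a', hres', ha', hv'⟩ := hβ θ' hf'
    rcases classInner_irr_zero_or_one hi hi' with ⟨he, -⟩ | ⟨-, h0⟩
    · have h0 := h.inner_ne ψ ψ' (hirrres ψ θ hres) (hirrres ψ' θ' hres') fun hh => e (Subtype.ext (funext fun g => by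
        rw [← hres, ← hres']; exact congrFun hh g))
      rw [show (fun c : C => (ψ : Γ → ℂ) (c * s)) = (a : ℂ) • β θ from funext hv,
        show (fun c : C => (ψ' : Γ → ℂ) (c * s)) = (a' : ℂ) • β θ' from funext hv',
        classInner_smul_left, classInner_smul_right, ← he, classInner_self_irr hi, mul_one] at h0
      rcases ha with rfl | rfl <;> rcases ha' with rfl | rfl <;> simp at h0
    · exact h0
  obtain ⟨n, hn, hdec⟩ := IsChar.exists_decomp_inner hφ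
  let sg : IrrCharacter Γ → IrrCharacter G → ℤ := fun ψ θ =>
    if hres : ∀ g : G, (ψ : Γ → ℂ) g = (θ : G → ℂ) g then (hsgn ψ θ hres).choose else 0
  have hcoset : ∀ (ψ : IrrCharacter Γ) (c : C), (ψ : Γ → ℂ) (c * s) = ∑ θ, (sg ψ θ : ℂ) * β θ c := by
    intro ψ c
    by_cases hirr : IsIrrCharacter G (fun g : G => (ψ : Γ → ℂ) g)
    · rw [Finset.sum_eq_single (⟨_, hirr⟩ : IrrCharacter G)]
      · simp only [sg, dif_pos (show ∀ g : G, (ψ : Γ → ℂ) g = ((⟨_, hirr⟩ : IrrCharacter G) : G → ℂ) g from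
          fun g => rfl)]
        exact (hsgn ψ ⟨_, hirr⟩ fun g => rfl).choose_spec.2 c
      · intro θ _ hne
        simp only [sg]
        rw [dif_neg fun hres => hne (Subtype.ext (funext fun g => (hres g).symm)), Int.cast_zero, zero_mul]
      · exact fun hh => absurd (Finset.mem_univ _) hh
    · rw [h.eq_zero_of_red ψ hirr c]
      refine (Finset.sum_eq_zero fun θ _ => ?_).symm
      simp only [sg]
      rw [dif_neg fun hres => hirr (hirrres ψ θ hres), Int.cast_zero, zero_mul]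
  let a : IrrCharacter G → ℤ := fun θ => ∑ ψ, (n ψ : ℤ) * sg ψ θ
  have ha0 : ∀ θ : IrrCharacter G, ¬ Fixd s (θ : G → ℂ) → a θ = 0 := fun θ hf =>
    Finset.sum_eq_zero fun ψ _ => by
      simp only [sg]
      rw [dif_neg fun hres => hf (hfixres ψ θ hres), mul_zero]
  have hexp : (fun c : C => φ (c * s)) = ∑ θ, (a θ : ℂ) • β θ := by
    funext c
    rw [hdec, Finset.sum_apply, Finset.sum_apply]
    simp only [Pi.smul_apply, smul_eq_mul, hcoset, Finset.mul_sum, a, Int.cast_sum, Int.cast_mul, Int.cast_natCast,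
      Finset.sum_mul]
    rw [Finset.sum_comm]
    exact Finset.sum_congr rfl fun θ _ => Finset.sum_congr rfl fun ψ _ => by ring
  refine ⟨β, a, fun θ hf => ⟨(hβ θ hf).1, (hβ θ hf).2.1, fun ψ hres => hsgn ψ θ hres, ?_⟩, ?_, ha0, hexp, ?_⟩
  · rw [hexp, classInner_sum_left, Finset.sum_eq_single θ]
    · rw [classInner_smul_left, horth θ θ hf hf, if_pos rfl, mul_one]
    · intro θ' _ hne
      by_cases hf' : Fixd s (θ' : G → ℂ)
      · rw [classInner_smul_left, horth θ' θ hf' hf, if_neg hne, mul_zero]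
      · rw [ha0 θ' hf', Int.cast_zero, classInner_smul_left, zero_mul]
    · exact fun hh => absurd (Finset.mem_univ _) hh
  · intro θ θ' hf hf' he
    by_contra hne
    have h1 := horth θ θ' hf hf'
    rw [if_neg hne, ← he, horth θ θ hf hf, if_pos rfl] at h1
    exact one_ne_zero h1
  intro θ m hm
  -- the multiplicities
  have hle : ∑ ψ, (n ψ : ℤ) * |sg ψ θ| ≤ m := by
    have hc : ∀ ψ : IrrCharacter Γ, ∃ r : ℕ, classInner (fun g : G => (ψ : Γ → ℂ) g) (θ : G → ℂ) = r :=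
      fun ψ => IsChar.classInner_nat (IsChar.res (irr_isChar ψ) G) (irr_isChar θ)
    choose r hr using hc
    have hmr : m = ∑ ψ, n ψ * r ψ := by
      apply Nat.cast_injective (R := ℂ)
      rw [← hm, hdec]
      simp only [Finset.sum_apply, Pi.smul_apply, smul_eq_mul, Nat.cast_sum, Nat.cast_mul]
      rw [show (fun g : G => ∑ ψ : IrrCharacter Γ, (n ψ : ℂ) * (ψ : Γ → ℂ) g) =
        ∑ ψ : IrrCharacter Γ, (n ψ : ℂ) • (fun g : G => (ψ : Γ → ℂ) g) from funext fun g => by simp,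
        classInner_sum_left]
      exact Finset.sum_congr rfl fun ψ _ => by rw [classInner_smul_left, hr]
    rw [hmr]
    push_cast
    refine Finset.sum_le_sum fun ψ _ => mul_le_mul_of_nonneg_left ?_ (Int.natCast_nonneg _)
    simp only [sg]
    split_ifs with hres
    · obtain ⟨he, -⟩ := (hsgn ψ θ hres).choose_spec
      have h1 := hr ψ
      rw [show (fun g : G => (ψ : Γ → ℂ) g) = (θ : G → ℂ) from funext hres, classInner_self_irr θ.2] at h1
      have h1' : r ψ = 1 := by exact_mod_cast h1.symm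
      rw [h1']
      rcases he with e | e <;> rw [e] <;> simp
    · simp
  have habs : |a θ| ≤ ∑ ψ, (n ψ : ℤ) * |sg ψ θ| := (Finset.abs_sum_le_sum_abs _ _).trans
    (le_of_eq (Finset.sum_congr rfl fun ψ _ => by rw [abs_mul, Nat.abs_cast]))
  refine ⟨habs.trans hle, fun heq ψ ψ' hres hres' hne hne' => ?_⟩
  have hall : |a θ| = ∑ χ, (n χ : ℤ) * |sg χ θ| := le_antisymm habs (hle.trans heq.le)
  obtain ⟨e, he, hev⟩ := hsgn ψ θ hres
  obtain ⟨e', he', hev'⟩ := hsgn ψ' θ hres'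
  have hβ1 : ∃ c : C, β θ c ≠ 0 := ⟨1, IsIrr.one_ne_zero (hβ θ (hfixres ψ θ hres)).1⟩
  obtain ⟨c₀, hc₀⟩ := hβ1
  have hsgψ : ∀ (χ : IrrCharacter Γ) (e : ℤ), (∀ g : G, (χ : Γ → ℂ) g = (θ : G → ℂ) g) →
      (∀ c : C, (χ : Γ → ℂ) (c * s) = (e : ℂ) * β θ c) → sg χ θ = e := by
    intro χ e hr hv
    simp only [sg, dif_pos hr]
    have h1 := (hsgn χ θ hr).choose_spec.2 c₀
    rw [hv] at h1
    exact (Int.cast_injective (α := ℂ) (mul_right_cancel₀ hc₀ h1)).symm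
  have hnψ : ∀ χ : IrrCharacter Γ, classInner φ (χ : Γ → ℂ) ≠ 0 → 0 < n χ := fun χ hx =>
    Nat.pos_of_ne_zero fun h0 => hx (by rw [hn, h0, Nat.cast_zero])
  have hee : e = e' := by
    by_contra hd
    have hneg : e' = -e := by omega
    have hlt : |a θ| < ∑ χ, (n χ : ℤ) * |sg χ θ| := by
      rcases le_total 0 (a θ) with ha | ha
      · rw [abs_of_nonneg ha]
        refine Finset.sum_lt_sum (fun χ _ => mul_le_mul_of_nonneg_left (le_abs_self _) (Int.natCast_nonneg _)) ?_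
        rcases he with rfl | rfl
        · exact ⟨ψ', Finset.mem_univ _, by rw [hsgψ ψ' e' hres' hev', hneg]; have := hnψ ψ' hne'; norm_num; omega⟩
        · exact ⟨ψ, Finset.mem_univ _, by rw [hsgψ ψ (-1) hres hev]; have := hnψ ψ hne; norm_num; omega⟩
      · rw [abs_of_nonpos ha, ← Finset.sum_neg_distrib]
        refine Finset.sum_lt_sum (fun χ _ => by
          rw [← mul_neg]; exact mul_le_mul_of_nonneg_left (neg_le_abs _) (Int.natCast_nonneg _)) ?_
        rcases he with rfl | rfl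
        · exact ⟨ψ, Finset.mem_univ _, by rw [hsgψ ψ 1 hres hev]; have := hnψ ψ hne; norm_num; omega⟩
        · exact ⟨ψ', Finset.mem_univ _, by rw [hsgψ ψ' e' hres' hev', hneg]; have := hnψ ψ' hne'; norm_num; omega⟩
    exact hlt.ne hall
  subst hee
  have h1 := h.inner_eq hω hl hls hlx ψ ψ'
  rw [show (fun c : C => (ψ : Γ → ℂ) (c * s)) = (e : ℂ) • β θ from funext hev,
    show (fun c : C => (ψ' : Γ → ℂ) (c * s)) = (e : ℂ) • β θ from funext hev', classInner_smul_left,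
    classInner_smul_right, classInner_self_irr (hβ θ (hfixres ψ θ hres)).1, hs, Finset.sum_range_succ,
    Finset.sum_range_one] at h1
  have hω2 : ω = -1 := (hs ▸ hω : IsPrimitiveRoot ω 2).eq_neg_one_of_two_right
  rcases classInner_irr_zero_or_one ψ.2 ψ'.2 with ⟨hh, -⟩ | ⟨-, h0⟩
  · exact Subtype.ext hh
  · exfalso
    rw [show (fun x => (((l ^ 0) x : ℂˣ) : ℂ) * (ψ : Γ → ℂ) x) = (ψ : Γ → ℂ) from funext fun x => by simp,
      h0, mul_zero, zero_add, hω2] at h1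
    obtain ⟨r, hr⟩ := IsChar.classInner_nat (IsIrr.isCharacter (IsIrr.mul_linear ψ.2 (l ^ 1))) (irr_isChar ψ')
    rw [hr] at h1
    rcases he with rfl | rfl <;>
    · norm_num at h1
      have h2 : ((1 + r : ℕ) : ℂ) = ((0 : ℕ) : ℂ) := by push_cast; linear_combination h1
      have := Nat.cast_injective h2
      omega

end Cfsg.Agent.Invol.AbgOrder
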