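import Cfsg.Agent.Lib.Invol.AbgOrder.BudgetAct
import Cfsg.Agent.Lib.Invol.AbgOrder.BudgetGlaub
import Cfsg.Agent.Lib.Char.NearConstant

/-!
# The character on the coset of `w`

Its coefficients at the Glauberman correspondents, and what equality with the multiplicity gives.
-/

set_option autoImplicit false
set_option linter.unusedSectionVars false
set_option linter.style.haveILetI false

namespace Cfsg.Agent.Invol.AbgOrder

open Cfsg Cfsg.Agent.Char Cfsg.Agent.Char.CycGlaub Matrix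
open scoped ComplexConjugate

universe u v t

namespace BData

variable {C : Type u} [Group C] [Fintype C] {X : Type v} [Group X] {F : Type t} [Field F] [Fintype F]
  (B : BData C X F)

/-- The kernel extended by `w`. -/
def Gw : Subgroup C := (Subgroup.zpowers (B.σ B.w)).comap B.σ

theorem w_mem_Gw : B.w ∈ B.Gw := Subgroup.mem_zpowers (B.σ B.w)

theorem O_le_Gw : B.O ≤ B.Gw := fun o ho => by
  show B.σ o ∈ Subgroup.zpowers (B.σ B.w)
  rw [MonoidHom.mem_ker.1 ho]
  exact one_mem _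

theorem orderOf_σw : orderOf (B.σ B.w) = 2 :=
  orderOf_eq_prime (by rw [pow_two, ← map_mul, B.w2, map_one]) B.σw_ne

theorem image_cases {x : C} (hx : x ∈ B.Gw) : B.σ x = 1 ∨ B.σ x = B.σ B.w := by
  obtain ⟨k, hk⟩ := Subgroup.mem_zpowers_iff.1 (show B.σ x ∈ Subgroup.zpowers (B.σ B.w) from hx)
  rw [← hk, ← zpow_mod_orderOf, B.orderOf_σw]
  rcases Int.emod_two_eq_zero_or_one k with h | h <;> push_cast <;> rw [h]
  · exact Or.inl (zpow_zero _)
  · exact Or.inr (zpow_one _)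

theorem setup_w :
    Setup (B.O.subgroupOf B.Gw) (⟨B.w, B.w_mem_Gw⟩ : B.Gw) (B.R.subgroupOf B.Gw) where
  cop := by
    rw [Nat.card_congr (Subgroup.subgroupOfEquivOfLe B.O_le_Gw).toEquiv, Subgroup.orderOf_mk,
      orderOf_eq_prime (by rw [pow_two, B.w2]) fun h => B.σw_ne (by rw [h, map_one])]
    exact Nat.coprime_two_right.2 B.ker_odd
  idx := by
    rw [Subgroup.orderOf_mk, orderOf_eq_prime (by rw [pow_two, B.w2]) fun h => B.σw_ne (by rw [h, map_one]),
      ← B.orderOf_σw, ← Nat.card_zpowers]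
    rw [show B.O.subgroupOf B.Gw = (B.σ.comp B.Gw.subtype).ker from rfl, Subgroup.index_ker]
    refine Nat.card_congr (Equiv.setCongr ?_)
    ext y
    constructor
    · rintro ⟨x, rfl⟩
      exact x.2
    · intro hy
      obtain ⟨x, rfl⟩ := B.surj y
      exact ⟨⟨x, hy⟩, rfl⟩
  dec x := by
    rcases B.image_cases x.2 with h | h
    · exact ⟨0, by rw [pow_zero, inv_one, mul_one]; exact h⟩
    · refine ⟨1, ?_⟩
      show B.σ ((x : C) * (((⟨B.w, B.w_mem_Gw⟩ : B.Gw) ^ 1)⁻¹ : B.Gw).1) = 1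
      rw [pow_one, map_mul, Subgroup.coe_inv, map_inv, h, mul_inv_cancel]
  memC x := by
    constructor
    · intro hx
      exact ⟨hx.1, Subtype.ext (Subgroup.mem_centralizer_singleton_iff.1 hx.2)⟩
    · intro hx
      exact ⟨hx.1, Subgroup.mem_centralizer_singleton_iff.2 (congrArg Subtype.val hx.2)⟩

variable [Fintype B.O] [Fintype B.R] [Fintype B.Gw]

/-- The function on the fixed points. -/
noncomputable def cw (y : B.R) : ℂ := B.χp (B.w * y)

theorem cw_eq (y : B.R) : B.cw y = B.d1 + (B.πw y + B.πu y) / 2 := B.χp_w y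

theorem cw_one : B.cw 1 = (Fintype.card F : ℂ) - 1 + B.d1 := by
  rw [cw_eq, B.πw_one, B.πu_one]; ring

/-- The multiplicity in the half `z = 1`. -/
theorem χp_inner (θ : IrrCharacter B.O) :
    classInner (fun o : B.O => B.χp o) (θ : B.O → ℂ) =
      B.m θ + ((Fintype.card F : ℂ) - 1 + B.d1) * classInner (fun _ : B.O => (1 : ℂ)) (θ : B.O → ℂ) := by
  rw [← B.m_spec, ← classInner_smul_left, ← classInner_add_left]
  congr 1
  funext o
  have ho : B.σ (o : C) = 1 := o.2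
  simp only [Pi.add_apply, Pi.smul_apply, smul_eq_mul, mul_one]
  rw [← sub_eq_iff_eq_add', B.χp_sub_χm, B.χ_odd _ (B.odd_of_ker o.2), ho, B.κ_one]

theorem χp_inner_ne {θ : IrrCharacter B.O} (hθ : (θ : B.O → ℂ) ≠ fun _ => 1) :
    classInner (fun o : B.O => B.χp o) (θ : B.O → ℂ) = B.m θ := by
  rw [χp_inner, classInner_irr_ne (isIrr_one (G := B.O)) θ.2 (Ne.symm hθ), mul_zero, add_zero]

/-- The coefficients on the coset of `w`. -/
structure WExp where
  β : IrrCharacter B.O → B.R → ℂ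
  a : IrrCharacter B.O → ℤ
  irr : ∀ θ : IrrCharacter B.O, Char.conjN B.O B.w (θ : B.O → ℂ) = (θ : B.O → ℂ) → IsIrrCharacter B.R (β θ)
  below : ∀ θ : IrrCharacter B.O, Char.conjN B.O B.w (θ : B.O → ℂ) = (θ : B.O → ℂ) →
    classInner (fun y : B.R => (θ : B.O → ℂ) ⟨y, y.2.1⟩) (β θ) ≠ 0
  coef : ∀ θ : IrrCharacter B.O, Char.conjN B.O B.w (θ : B.O → ℂ) = (θ : B.O → ℂ) →
    classInner B.cw (β θ) = (a θ : ℂ)
  ext : ∀ θ : IrrCharacter B.O, ∀ ψ : B.Gw → ℂ, IsIrrCharacter B.Gw ψ →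
    (∀ o : B.O, ψ ⟨o, B.O_le_Gw o.2⟩ = (θ : B.O → ℂ) o) →
    ∃ e : ℤ, (e = 1 ∨ e = -1) ∧ ∀ y : B.R, ψ ⟨y * B.w, B.Gw.mul_mem (B.O_le_Gw y.2.1) B.w_mem_Gw⟩ = (e : ℂ) * β θ y
  inj : ∀ θ θ' : IrrCharacter B.O, Char.conjN B.O B.w (θ : B.O → ℂ) = (θ : B.O → ℂ) →
    Char.conjN B.O B.w (θ' : B.O → ℂ) = (θ' : B.O → ℂ) → β θ = β θ' → θ = θ'
  zero : ∀ θ : IrrCharacter B.O, Char.conjN B.O B.w (θ : B.O → ℂ) ≠ (θ : B.O → ℂ) → a θ = 0
  expansion : B.cw = ∑ θ, (a θ : ℂ) • β θ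
  bound : ∀ (θ : IrrCharacter B.O) (n : ℕ), classInner (fun o : B.O => B.χp o) (θ : B.O → ℂ) = n → |a θ| ≤ n
  equality : ∀ (θ : IrrCharacter B.O) (n : ℕ), classInner (fun o : B.O => B.χp o) (θ : B.O → ℂ) = n →
    Char.conjN B.O B.w (θ : B.O → ℂ) = (θ : B.O → ℂ) → |a θ| = n →
    classInner (fun g : B.Gw => isoPart B.χp (θ : B.O → ℂ) g) (fun g : B.Gw => isoPart B.χp (θ : B.O → ℂ) g) =
      (n : ℂ) ^ 2

theorem exists_wexp : Nonempty B.WExp := by
  classical
  haveI : (B.O.subgroupOf B.Gw).Normal := Subgroup.Normal.subgroupOf inferInstance _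
  haveI : Fintype (B.O.subgroupOf B.Gw) := Fintype.ofFinite _
  haveI : Fintype (B.R.subgroupOf B.Gw) := Fintype.ofFinite _
  set s : B.Gw := ⟨B.w, B.w_mem_Gw⟩ with hs
  have hR : B.R ≤ B.Gw := fun y hy => B.O_le_Gw hy.1
  set eO := Subgroup.subgroupOfEquivOfLe B.O_le_Gw with heO
  set eR := Subgroup.subgroupOfEquivOfLe hR with heR
  have hord : orderOf s = 2 := by
    rw [hs, Subgroup.orderOf_mk, orderOf_eq_prime (by rw [pow_two, B.w2]) fun h => B.σw_ne (by rw [h, map_one])]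
  obtain ⟨β, a, hβ, hinj, hzero, hexp, hm⟩ := exists_glauberman B.setup_w hord (IsChar.res B.isChar_χp B.Gw)
  let up : IrrCharacter B.O → IrrCharacter (B.O.subgroupOf B.Gw) := fun θ =>
    ⟨fun x => (θ : B.O → ℂ) (eO x), IsIrr.comp_mulEquiv eO θ.2⟩
  let dn : IrrCharacter (B.O.subgroupOf B.Gw) → IrrCharacter B.O := fun θ =>
    ⟨fun x => (θ : B.O.subgroupOf B.Gw → ℂ) (eO.symm x), IsIrr.comp_mulEquiv eO.symm θ.2⟩
  have hupdn : ∀ θ, up (dn θ) = θ := fun θ => Subtype.ext (funext fun x => by simp [up, dn])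
  have hdnup : ∀ θ, dn (up θ) = θ := fun θ => Subtype.ext (funext fun x => by simp [up, dn])
  have hfix : ∀ θ : IrrCharacter B.O, Fixd s (up θ : B.O.subgroupOf B.Gw → ℂ) ↔
      Char.conjN B.O B.w (θ : B.O → ℂ) = (θ : B.O → ℂ) := by
    intro θ
    constructor
    · intro h
      funext o
      exact h (eO.symm o)
    · intro h g
      exact congrFun h (eO g)
  have hsum : ∀ f : IrrCharacter (B.O.subgroupOf B.Gw) → (B.R → ℂ), ∑ θ', f θ' = ∑ θ, f (up θ) := fun f =>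
    (Fintype.sum_equiv (Equiv.mk up dn hdnup hupdn) _ _ fun _ => rfl).symm
  have hin : ∀ (f h : B.R.subgroupOf B.Gw → ℂ), classInner (fun y : B.R => f (eR.symm y))
      (fun y : B.R => h (eR.symm y)) = classInner f h := by
    intro f h
    rw [classInner, classInner, Nat.card_congr eR.toEquiv]
    congr 1
    exact Fintype.sum_equiv eR.symm.toEquiv _ _ fun _ => rfl
  have hc : ∀ y : B.R, B.cw y = B.χp ((((eR.symm y : B.R.subgroupOf B.Gw) : B.Gw) * s : B.Gw) : C) := fun y => by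
    show B.χp (B.w * y) = B.χp ((y : C) * B.w)
    rw [B.w_comm y]
  have hφ : ∀ (θ : IrrCharacter B.O) (n : ℕ), classInner (fun o : B.O => B.χp o) (θ : B.O → ℂ) = n →
      classInner (fun g : B.O.subgroupOf B.Gw => B.χp ((g : B.Gw) : C)) (up θ : B.O.subgroupOf B.Gw → ℂ) = n := by
    intro θ n hn
    rw [← hn, classInner, classInner, Nat.card_congr eO.toEquiv]
    congr 1
    exact Fintype.sum_equiv eO.toEquiv _ _ fun _ => rfl
  refine ⟨{
    β := fun θ y => β (up θ) (eR.symm y)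
    a := fun θ => a (up θ)
    irr := fun θ h => IsIrr.comp_mulEquiv eR.symm (hβ _ ((hfix θ).2 h)).1
    below := fun θ h => ?_
    coef := fun θ h => ?_
    ext := fun θ ψ hψ hres => ?_
    inj := fun θ θ' h h' he => ?_
    zero := fun θ h => hzero _ fun hh => h ((hfix θ).1 hh)
    expansion := ?_
    bound := fun θ n hn => (hm (up θ) n (hφ θ n hn)).1
    equality := fun θ n hn h ha => ?_ }⟩
  · exact fun h0 => (hβ _ ((hfix θ).2 h)).2.1 ((hin _ _).symm.trans h0)
  · rw [← (hβ _ ((hfix θ).2 h)).2.2.2, ← hin]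
    exact congrArg (fun f => classInner f _) (funext hc)
  · have h' : Fixd s (up θ : B.O.subgroupOf B.Gw → ℂ) := by
      intro g
      show (θ : B.O → ℂ) _ = (θ : B.O → ℂ) (eO g)
      rw [← hres, ← hres]
      exact IsIrr.classFun hψ (g : B.Gw) s
    obtain ⟨e, he, hv⟩ := (hβ _ h').2.2.1 ⟨ψ, hψ⟩ fun g => hres (eO g)
    exact ⟨e, he, fun y => hv (eR.symm y)⟩
  · have e := hinj _ _ ((hfix θ).2 h) ((hfix θ').2 h') (funext fun x => by simpa using congrFun he (eR x))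
    rw [← hdnup θ, e, hdnup]
  · funext y
    rw [hc]
    have h1 := congrFun hexp (eR.symm y)
    rw [Finset.sum_apply] at h1
    refine h1.trans ?_
    rw [Finset.sum_apply]
    exact (Fintype.sum_equiv (Equiv.mk up dn hdnup hupdn) _ _ fun _ => rfl).symm
  -- only one extension
  have huniq := (hm (up θ) n (hφ θ n hn)).2 ha.symm
  have hle : B.Gw ≤ inertia B.O (θ : B.O → ℂ) := by
    intro x hx
    rcases B.image_cases hx with e | e
    · exact le_inertia B.O (IsIrr.classFun θ.2) e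
    · have hx' : x * B.w⁻¹ ∈ B.O := by rw [MonoidHom.mem_ker, map_mul, map_inv, e, mul_inv_cancel]
      rw [show x = x * B.w⁻¹ * B.w by group]
      exact (inertia B.O _).mul_mem (le_inertia B.O (IsIrr.classFun θ.2) hx') ((mem_inertia B.O).2 h)
  obtain ⟨k, hk, hk'⟩ := exists_isoPart_decomp B.isChar_χp θ.2 B.O_le_Gw hle
  have hres : ∀ ψ : IrrCharacter B.Gw, k ψ ≠ 0 → ∀ g : B.O.subgroupOf B.Gw,
      (ψ : B.Gw → ℂ) g = (up θ : B.O.subgroupOf B.Gw → ℂ) g := by
    intro ψ hψ g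
    obtain ⟨e, he⟩ := (hk' ψ hψ).2
    have hne : classInner (fun g : B.O.subgroupOf B.Gw => (ψ : B.Gw → ℂ) g)
        (up θ : B.O.subgroupOf B.Gw → ℂ) ≠ 0 := by
      rw [show (fun g : B.O.subgroupOf B.Gw => (ψ : B.Gw → ℂ) g) = e • (up θ : B.O.subgroupOf B.Gw → ℂ) from
        funext fun g => he (eO g), classInner_smul_left, classInner_self_irr (up θ).2, mul_one]
      intro e0
      have h1 := he 1
      rw [e0, zero_mul] at h1
      exact IsIrr.one_ne_zero ψ.2 h1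
    have hcyc : IsCyclic (B.Gw ⧸ B.O.subgroupOf B.Gw) := by
      haveI : Fact (Nat.Prime 2) := ⟨Nat.prime_two⟩
      refine isCyclic_of_prime_card (p := 2) ?_
      rw [← Subgroup.index_eq_card]
      exact B.setup_w.idx.trans hord
    exact congrFun (Cfsg.Agent.Char.NearConst.res_eq hcyc (up θ).2 (fun x g => congrFun (hle x.2) (eO g))
      ψ.2 hne) g
  have hΦ1 := isoPart_one B.χp (θ : B.O → ℂ) (N := B.O)
  rw [hn] at hΦ1
  rw [hk, classInner_sum_left]
  simp only [classInner_smul_left]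
  have hsum1 : (∑ ψ, (k ψ : ℂ)) = n := by
    have h1 := congrFun hk 1
    rw [Finset.sum_apply, Subgroup.coe_one, hΦ1] at h1
    refine mul_left_cancel₀ (IsIrr.one_ne_zero θ.2) ?_
    rw [h1, Finset.mul_sum]
    refine Finset.sum_congr rfl fun ψ _ => ?_
    rw [Pi.smul_apply, smul_eq_mul]
    by_cases h0 : k ψ = 0
    · simp [h0]
    · rw [mul_comm, show (θ : B.O → ℂ) 1 = (ψ : B.Gw → ℂ) 1 from ((hres ψ h0 1).trans
        (by show (θ : B.O → ℂ) (eO 1) = _; rw [map_one])).symm]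
  by_cases hall : ∀ ψ, k ψ = 0
  · simp [hall] at hsum1
    simp [classInner, Finset.sum_apply, hall, ← hsum1]
  push Not at hall
  obtain ⟨ψ₀, h0⟩ := hall
  have hk0 : ∀ ψ, ψ ≠ ψ₀ → k ψ = 0 := fun ψ hne => by
    by_contra hψ
    exact hne (huniq ψ ψ₀ (hres ψ hψ) (hres ψ₀ h0) (hk' ψ hψ).1 (hk' ψ₀ h0).1)
  rw [Finset.sum_eq_single ψ₀ (fun ψ _ hne => by simp [hk0 ψ hne]) (fun hh => absurd (Finset.mem_univ _) hh)]
    at hsum1 ⊢
  rw [hsum1, classInner_sum_right, Finset.sum_eq_single ψ₀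
    (fun ψ _ hne => by simp [classInner_smul_right, hk0 ψ hne, classInner_zero_right]) (fun hh => absurd (Finset.mem_univ _) hh),
    classInner_smul_right, classInner_self_irr ψ₀.2, hsum1]
  simp [sq]

end BData

end Cfsg.Agent.Invol.AbgOrder
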