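import Cfsg.Agent.Lib.Invol.AbgOrder.BudgetUMove
import Cfsg.Agent.Lib.Invol.AbgOrder.BudgetW

/-!
# The unitary budget: the inequality, and what equality gives

The coefficients on the coset of `w` weigh at most `2 q` times the multiplicities, with strict inequality at a moved
constituent.  At equality every constituent is fixed by `SL(2, q)` and by `w` and restricts irreducibly to the fixed
points, to a constituent of one of the two permutation characters or to the trivial character.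
-/

set_option autoImplicit false
set_option linter.unusedSectionVars false
set_option linter.style.haveILetI false

namespace Cfsg.Agent.Invol.AbgOrder

open Cfsg Cfsg.Agent.Char Matrix
open scoped ComplexConjugate

universe u v t

namespace UData

variable {C : Type u} [Group C] [Fintype C] {X : Type v} [Group X] {F : Type t} [Field F] [Fintype F]
  (B : UData C X F) [Fintype B.O] [Fintype B.R] [Fintype B.Gw]

/-- A constituent of the character on the kernel. -/
def Cons (θ : IrrCharacter B.O) : Prop := classInner (fun o : B.O => B.χ o) (θ : B.O → ℂ) ≠ 0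

/-- The restriction to the fixed points of `w`. -/
def resR (θ : IrrCharacter B.O) : B.R → ℂ := fun y => (θ : B.O → ℂ) ⟨y, y.2.1⟩

/-- The trivial character. -/
noncomputable def triv : IrrCharacter B.O := ⟨fun _ => 1, isIrr_one⟩

theorem triv_fix (c : C) : Char.conjN B.O c (B.triv : B.O → ℂ) = (B.triv : B.O → ℂ) := rfl

theorem triv_lfix : B.Lfix (B.triv : B.O → ℂ) := B.lfix_trivial rfl

theorem β_triv (W : B.WExp) : W.β B.triv = fun _ => 1 := by
  by_contra hne
  exact W.below B.triv (B.triv_fix _) (classInner_irr_ne isIrr_one (W.irr B.triv (B.triv_fix _)) (Ne.symm hne))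

/-- The degree of the correspondent is at most the degree. -/
theorem exists_degrees (W : B.WExp) : ∃ d b : IrrCharacter B.O → ℕ, ∀ θ,
    0 < d θ ∧ (θ : B.O → ℂ) 1 = d θ ∧
      (Char.conjN B.O B.w (θ : B.O → ℂ) = (θ : B.O → ℂ) → 0 < b θ ∧ W.β θ 1 = b θ ∧ b θ ≤ d θ) := by
  have h : ∀ θ : IrrCharacter B.O, ∃ d b : ℕ, 0 < d ∧ (θ : B.O → ℂ) 1 = d ∧
      (Char.conjN B.O B.w (θ : B.O → ℂ) = (θ : B.O → ℂ) → 0 < b ∧ W.β θ 1 = b ∧ b ≤ d) := by
    intro θ
    obtain ⟨d, hd, hd1⟩ := IsIrr.one_eq_pos θ.2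
    by_cases hf : Char.conjN B.O B.w (θ : B.O → ℂ) = (θ : B.O → ℂ)
    · obtain ⟨b, hb, hb1⟩ := IsIrr.one_eq_pos (W.irr θ hf)
      refine ⟨d, b, hd, hd1, fun _ => ⟨hb, hb1, ?_⟩⟩
      exact degree_le_of_constituent (IsChar.comp (Subgroup.inclusion (show B.R ≤ B.O from inf_le_left))
        (IsIrr.isCharacter θ.2)) (W.irr θ hf) (W.below θ hf) hd1 hb1
    · exact ⟨d, 0, hd, hd1, fun h => absurd h hf⟩
  choose d b hdb using h
  exact ⟨d, b, hdb⟩

open _root_.Classical in
/-- The slack at each character. -/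
theorem budget_slack (W : B.WExp) (h5 : 5 ≤ Fintype.card F) {d b : IrrCharacter B.O → ℕ}
    (hdb : ∀ θ, 0 < d θ ∧ (θ : B.O → ℂ) 1 = d θ ∧
      (Char.conjN B.O B.w (θ : B.O → ℂ) = (θ : B.O → ℂ) → 0 < b θ ∧ W.β θ 1 = b θ ∧ b θ ≤ d θ)) :
    ∃ sl : IrrCharacter B.O → ℝ, (∀ θ, 0 ≤ sl θ) ∧
      (∑ θ, sl θ = 2 * (Fintype.card F : ℝ) * B.Dp -
        (Fintype.card F : ℝ) * ((Fintype.card F : ℝ) - 1) * ∑ θ, |(W.a θ : ℝ)| * b θ) ∧
      ∀ θ, sl θ = 0 → 0 < B.n θ → B.Lfix (θ : B.O → ℂ) ∧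
        Char.conjN B.O B.w (θ : B.O → ℂ) = (θ : B.O → ℂ) ∧ b θ = d θ ∧ W.a θ ≠ 0 := by
  haveI : Fintype (Ell B.ν) := Fintype.ofFinite _
  set q := Fintype.card F with hq
  let L : IrrCharacter B.O → Prop := fun θ => B.Lfix (θ : B.O → ℂ)
  let Fx : IrrCharacter B.O → Prop := fun θ => Char.conjN B.O B.w (θ : B.O → ℂ) = (θ : B.O → ℂ)
  let g : IrrCharacter B.O → ℝ := fun θ => |(W.a θ : ℝ)| * b θ
  let U : IrrCharacter B.O → ℝ := fun θ => if L θ then (q : ℝ) * ((q : ℝ) - 1) * g θ else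
    ∑ A ∈ Finset.univ.filter (fun A => A ∈ B.Kj (θ : B.O → ℂ)), g (B.mv A θ)
  let f : IrrCharacter B.O → ℝ := fun θ => (B.n θ : ℝ) * d θ
  have hq5 : (5 : ℝ) ≤ q := by exact_mod_cast h5
  have hg0 : ∀ θ, ¬ Fx θ → g θ = 0 := fun θ h => by simp [g, W.zero θ h]
  have hf : ∀ θ, 0 ≤ f θ := fun θ => by positivity
  -- a fixed character
  have hL : ∀ θ, L θ → Fx θ → ((q : ℝ) - 1) * |(W.a θ : ℝ)| ≤ 2 * B.n θ ∧ (b θ : ℝ) ≤ d θ ∧ (0 : ℝ) < b θ :=
    fun θ hθ hF => by
      have h := B.lfix_bound W hF hθ h5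
      refine ⟨?_, by exact_mod_cast ((hdb θ).2.2 hF).2.2, by exact_mod_cast ((hdb θ).2.2 hF).1⟩
      exact_mod_cast h
  -- a moved character
  have hM : ∀ θ, ¬ L θ → (U θ ≤ 2 * q * f θ) ∧ (0 < B.n θ → U θ < 2 * q * f θ) := by
    intro θ hθ
    have hle : U θ ≤ (∑ A ∈ Finset.univ.filter (fun A => A ∈ B.Kj (θ : B.O → ℂ)), |(W.a (B.mv A θ) : ℝ)|) * d θ := by
      simp only [U, if_neg hθ, Finset.sum_mul, g]
      refine Finset.sum_le_sum fun A hA => mul_le_mul_of_nonneg_left ?_ (abs_nonneg _)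
      have hF := B.mv_fixed (Finset.mem_filter.1 hA).2
      have hd : d (B.mv A θ) = d θ := by
        have h := B.one_conj (B.mover A) θ
        rw [(hdb _).2.1, (hdb _).2.1] at h
        exact_mod_cast h
      exact_mod_cast hd ▸ ((hdb _).2.2 hF).2.2
    by_cases hn : 0 < B.n θ
    · have h := B.moved_lt W hθ hn h5
      have h' := mul_lt_mul_of_pos_right h (show (0 : ℝ) < d θ by exact_mod_cast (hdb θ).1)
      have : U θ < 2 * q * f θ := by
        refine hle.trans_lt (h'.trans_eq ?_)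
        simp only [f]
        ring
      exact ⟨this.le, fun _ => this⟩
    · refine ⟨hle.trans ?_, fun h => absurd h hn⟩
      have hz : ∀ A : Ell B.ν, W.a (B.mv A θ) = 0 := fun A => by
        have h := W.bound (B.mv A θ) (B.n θ) (by rw [B.n_spec, mv, B.n_conj])
        rw [show B.n θ = 0 by omega] at h
        simpa using h
      simp only [hz, Int.cast_zero, abs_zero, Finset.sum_const_zero, zero_mul]
      positivity
  refine ⟨fun θ => 2 * q * f θ - U θ, fun θ => sub_nonneg.2 ?_, ?_, fun θ h0 hn => ?_⟩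
  · by_cases hθ : L θ
    · simp only [U, if_pos hθ]
      by_cases hF : Fx θ
      · obtain ⟨h1, h2, h3⟩ := hL θ hθ hF
        calc (q : ℝ) * ((q : ℝ) - 1) * g θ = q * ((((q : ℝ) - 1) * |(W.a θ : ℝ)|) * b θ) := by simp only [g]; ring
          _ ≤ q * (2 * B.n θ * d θ) := by gcongr
          _ = 2 * q * f θ := by simp only [f]; ring
      · rw [hg0 θ hF, mul_zero]
        have := hf θ
        positivity
    · exact (hM θ hθ).1
  · have hD : ∑ θ, f θ = B.Dp := by
      have h := B.sum_weight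
      simp only [fun θ => (hdb θ).2.1] at h
      have h' : ((∑ θ, B.n θ * d θ : ℕ) : ℂ) = ((B.Dp : ℕ) : ℂ) := by push_cast; exact h
      rw [← Nat.cast_injective h']
      push_cast
      rfl
    have hU : ∑ θ, U θ = (q : ℝ) * ((q : ℝ) - 1) * ∑ θ, g θ := by
      have h := B.sum_Kj (fun θ => ¬ L θ) (fun c θ => not_congr (B.lfix_conj_iff (IsIrr.classFun θ.2) c)) g
      have h2 : ∑ θ ∈ Finset.univ.filter (fun θ => ¬ L θ ∧ Fx θ), g θ = ∑ θ ∈ Finset.univ.filter (fun θ => ¬ L θ), g θ := by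
        refine Finset.sum_subset (fun θ hθ => ?_) fun θ hθ hθ' => hg0 θ fun hF => hθ' ?_
        · exact Finset.mem_filter.2 ⟨Finset.mem_univ _, (Finset.mem_filter.1 hθ).2.1⟩
        · exact Finset.mem_filter.2 ⟨Finset.mem_univ _, (Finset.mem_filter.1 hθ).2, hF⟩
      rw [← Finset.sum_filter_add_sum_filter_not Finset.univ L g, mul_add, ← h2, Finset.mul_sum,
        show (q : ℝ) * ((q : ℝ) - 1) = ((q * (q - 1) : ℕ) : ℝ) by
          rw [Nat.cast_mul, Nat.cast_sub (by omega)]; norm_num]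
      have h' : ∑ θ ∈ Finset.univ.filter (fun θ => ¬ L θ), U θ =
          ((q * (q - 1) : ℕ) : ℝ) * ∑ θ ∈ Finset.univ.filter (fun θ => ¬ L θ ∧ Fx θ), g θ := by
        rw [Finset.sum_congr rfl fun θ hθ => show U θ =
          ∑ A ∈ Finset.univ.filter (fun A => A ∈ B.Kj (θ : B.O → ℂ)), g (B.mv A θ) by
            simp only [U, if_neg (Finset.mem_filter.1 hθ).2]]
        convert h using 3
        ext; simp [Fx]
      refine Eq.trans ?_ (congrArg _ h')
      rw [← Finset.sum_filter_add_sum_filter_not Finset.univ L U]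
      congr 1
      · refine Finset.sum_congr rfl fun θ hθ => ?_
        simp only [U, if_pos (Finset.mem_filter.1 hθ).2]
        congr 1
        rw [Nat.cast_mul, Nat.cast_sub (by omega)]
        norm_num
    rw [Finset.sum_sub_distrib, ← Finset.mul_sum, hD, hU]
  · have hθ : L θ := by
      by_contra hθ
      linarith [(hM θ hθ).2 hn]
    have hfp : (0 : ℝ) < f θ := mul_pos (Nat.cast_pos.2 hn) (Nat.cast_pos.2 (hdb θ).1)
    simp only [U, if_pos hθ] at h0
    have hqf : (0 : ℝ) < 2 * q * f θ := by positivity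
    have hF : Fx θ := by
      by_contra hF
      rw [hg0 θ hF, mul_zero] at h0
      linarith
    obtain ⟨h1, h2, h3⟩ := hL θ hθ hF
    have he : ((q : ℝ) - 1) * |(W.a θ : ℝ)| * b θ = 2 * B.n θ * d θ :=
      mul_left_cancel₀ (show (q : ℝ) ≠ 0 by positivity) (by simp only [f, g] at h0; linear_combination -h0)
    refine ⟨hθ, hF, ?_, fun ha => ?_⟩
    · have h4 : (d θ : ℝ) ≤ b θ := by
        refine le_of_mul_le_mul_left (a := 2 * (B.n θ : ℝ)) ?_ (by positivity)
        rw [← he]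
        exact mul_le_mul_of_nonneg_right h1 h3.le
      exact le_antisymm ((hdb θ).2.2 hF).2.2 (by exact_mod_cast h4)
    · rw [ha] at he
      simp only [Int.cast_zero, abs_zero, mul_zero, zero_mul] at he
      simp only [f] at hfp
      linarith

/-- The sum of the coefficients weighted by the degrees. -/
theorem sum_coef (W : B.WExp) {d b : IrrCharacter B.O → ℕ}
    (hdb : ∀ θ, 0 < d θ ∧ (θ : B.O → ℂ) 1 = d θ ∧
      (Char.conjN B.O B.w (θ : B.O → ℂ) = (θ : B.O → ℂ) → 0 < b θ ∧ W.β θ 1 = b θ ∧ b θ ≤ d θ)) :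
    ∑ θ, (W.a θ : ℝ) * b θ = (B.e : ℝ) - ((Fintype.card F : ℝ) + 1) := by
  classical
  have h := congrFun W.expansion 1
  rw [Finset.sum_apply, B.cw_one] at h
  have h' : ((∑ θ, W.a θ * (b θ : ℤ) : ℤ) : ℂ) = (((B.e : ℤ) - ((Fintype.card F : ℤ) + 1) : ℤ) : ℂ) := by
    push_cast
    refine Eq.trans (Finset.sum_congr rfl fun θ _ => ?_) h.symm
    by_cases hF : Char.conjN B.O B.w (θ : B.O → ℂ) = (θ : B.O → ℂ)
    · rw [Pi.smul_apply, smul_eq_mul, ((hdb θ).2.2 hF).2.1]
    · rw [W.zero θ hF]; simp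
  rw [Int.cast_inj] at h'
  exact_mod_cast h'

/-- The budget inequality. -/
theorem budget_le (h5 : 5 ≤ Fintype.card F) :
    ((Fintype.card F : ℤ) - 1) * ((Fintype.card F : ℤ) + 1 - B.e) ≤ 2 * B.Dp := by
  classical
  obtain ⟨W⟩ := B.exists_wexp
  obtain ⟨d, b, hdb⟩ := B.exists_degrees W
  obtain ⟨sl, hpos, hsum, -⟩ := B.budget_slack W h5 hdb
  have h0 := hsum ▸ Finset.sum_nonneg fun θ _ => hpos θ
  have hq5 : (5 : ℝ) ≤ Fintype.card F := by exact_mod_cast h5
  have h1 : (Fintype.card F : ℝ) + 1 - B.e ≤ ∑ θ, |(W.a θ : ℝ)| * b θ := by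
    rw [← neg_sub, ← B.sum_coef W hdb, ← Finset.sum_neg_distrib]
    exact Finset.sum_le_sum fun θ _ => by
      rw [← neg_mul]
      exact mul_le_mul_of_nonneg_right (neg_le_abs _) (Nat.cast_nonneg _)
  have h2 := mul_le_mul_of_nonneg_left h1
    (show (0 : ℝ) ≤ (Fintype.card F : ℝ) * ((Fintype.card F : ℝ) - 1) from mul_nonneg (by linarith) (by linarith))
  have h3 : ((Fintype.card F : ℝ) - 1) * ((Fintype.card F : ℝ) + 1 - B.e) ≤ 2 * B.Dp :=
    le_of_mul_le_mul_left (a := (Fintype.card F : ℝ)) (by linarith) (by linarith)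
  exact_mod_cast h3

/-- What equality gives at a single character of positive multiplicity. -/
theorem key (W : B.WExp) (h5 : 5 ≤ Fintype.card F)
    (heq : 2 * (B.Dp : ℤ) = ((Fintype.card F : ℤ) - 1) * ((Fintype.card F : ℤ) + 1 - B.e))
    {θ : IrrCharacter B.O} (hn : 0 < B.n θ) :
    B.Lfix (θ : B.O → ℂ) ∧ Char.conjN B.O B.w (θ : B.O → ℂ) = (θ : B.O → ℂ) ∧
      W.β θ 1 = (θ : B.O → ℂ) 1 ∧ W.a θ < 0 := by
  classical
  obtain ⟨d, b, hdb⟩ := B.exists_degrees W
  obtain ⟨sl, hpos, hsum, hzero⟩ := B.budget_slack W h5 hdb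
  have hq5 : (5 : ℝ) ≤ Fintype.card F := by exact_mod_cast h5
  have heq' : 2 * (B.Dp : ℝ) = ((Fintype.card F : ℝ) - 1) * ((Fintype.card F : ℝ) + 1 - B.e) := by
    exact_mod_cast heq
  -- the negative parts
  have hb : ∀ θ, 0 ≤ (|(W.a θ : ℝ)| + W.a θ) * b θ := fun θ =>
    mul_nonneg (by linarith [neg_le_abs (W.a θ : ℝ)]) (Nat.cast_nonneg _)
  have hneg : ∑ θ, (|(W.a θ : ℝ)| + W.a θ) * b θ =
      ∑ θ, |(W.a θ : ℝ)| * b θ - ((Fintype.card F : ℝ) + 1 - B.e) := by
    simp only [add_mul, Finset.sum_add_distrib, B.sum_coef W hdb]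
    ring
  have hsl := Finset.sum_nonneg fun θ (_ : θ ∈ Finset.univ) => hpos θ
  have hng := Finset.sum_nonneg fun θ (_ : θ ∈ Finset.univ) => hb θ
  have hqq : (0 : ℝ) < (Fintype.card F : ℝ) * ((Fintype.card F : ℝ) - 1) := mul_pos (by linarith) (by linarith)
  have htot : ∑ θ, sl θ +
      (Fintype.card F : ℝ) * ((Fintype.card F : ℝ) - 1) * ∑ θ, (|(W.a θ : ℝ)| + W.a θ) * b θ = 0 := by
    rw [hsum, hneg]
    linear_combination (Fintype.card F : ℝ) * heq'
  have h1 : ∑ θ, sl θ = 0 := by linarith [mul_nonneg hqq.le hng]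
  have h2 : ∑ θ, (|(W.a θ : ℝ)| + W.a θ) * b θ = 0 := by
    refine (mul_eq_zero.1 ?_).resolve_left hqq.ne'
    linarith
  obtain ⟨hL, hF, hbd, ha⟩ :=
    hzero θ ((Finset.sum_eq_zero_iff_of_nonneg fun θ _ => hpos θ).1 h1 θ (Finset.mem_univ _)) hn
  refine ⟨hL, hF, ?_, lt_of_le_of_ne ?_ ha⟩
  · rw [((hdb θ).2.2 hF).2.1, (hdb θ).2.1, hbd]
  · have h3 := (Finset.sum_eq_zero_iff_of_nonneg fun θ _ => hb θ).1 h2 θ (Finset.mem_univ _)
    rw [mul_eq_zero, or_iff_left (Nat.cast_ne_zero.2 ((hdb θ).2.2 hF).1.ne')] at h3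
    have h4 : (|W.a θ| + W.a θ : ℤ) = 0 := by exact_mod_cast h3
    linarith [abs_nonneg (W.a θ)]

/-- Away from the trivial character the constituents are those of positive multiplicity. -/
theorem cons_iff {θ : IrrCharacter B.O} (h : θ ≠ B.triv) : B.Cons θ ↔ 0 < B.n θ := by
  have e : (fun o : B.O => B.χ o) = (2 : ℂ) • (fun o : B.O => B.χp o) + (-B.χ B.z) • fun _ : B.O => (1 : ℂ) :=
    funext fun o => by
      simp only [Pi.add_apply, Pi.smul_apply, smul_eq_mul, χp, B.χ_zo (o : C) o.2]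
      ring
  rw [Cons, e, classInner_add_left, classInner_smul_left, classInner_smul_left, B.n_spec,
    classInner_irr_ne isIrr_one θ.2 (fun e => h (Subtype.ext e.symm)), mul_zero, add_zero, mul_ne_zero_iff,
    Nat.cast_ne_zero, Nat.pos_iff_ne_zero]
  exact and_iff_right two_ne_zero

/-- The conclusions. -/
structure Out : Prop where
  fixed : ∀ θ : IrrCharacter B.O, B.Cons θ → Char.conjN B.O B.w (θ : B.O → ℂ) = (θ : B.O → ℂ)
  lfix : ∀ θ : IrrCharacter B.O, B.Cons θ → B.Lfix (θ : B.O → ℂ)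
  restr : ∀ θ : IrrCharacter B.O, B.Cons θ → IsIrrCharacter B.R (B.resR θ)
  cases : ∀ θ : IrrCharacter B.O, B.Cons θ →
    (B.resR θ = fun _ => 1) ∨ classInner B.πw (B.resR θ) ≠ 0 ∨ classInner B.πu (B.resR θ) ≠ 0
  attain : ∀ β : B.R → ℂ, IsIrrCharacter B.R β → β ≠ (fun _ => 1) →
    classInner B.πw β ≠ 0 ∨ classInner B.πu β ≠ 0 →
    ∃ θ : IrrCharacter B.O, B.Cons θ ∧ B.resR θ = β
  unique : ∀ θ θ' : IrrCharacter B.O, B.Cons θ → B.Cons θ' → B.resR θ = B.resR θ' → θ = θ'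

/-- An irreducible character of the fixed points other than `1` outside both permutation characters. -/
theorem cw_inner {β : B.R → ℂ} (hβ : IsIrrCharacter B.R β) (h1 : β ≠ fun _ => 1) :
    classInner B.cw β = -(classInner B.πw β + classInner B.πu β) / 2 := by
  rw [show B.cw = (B.e : ℂ) • (fun _ : B.R => (1 : ℂ)) + (-2⁻¹ : ℂ) • (B.πw + B.πu) from funext fun y => by
    rw [B.cw_eq]; simp; ring, classInner_add_left, classInner_smul_left, classInner_smul_left, classInner_add_left,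
    classInner_irr_ne (isIrr_one (G := B.R)) hβ (Ne.symm h1)]
  ring

/-- The consequences of equality. -/
theorem budget_out (h5 : 5 ≤ Fintype.card F)
    (heq : 2 * (B.Dp : ℤ) = ((Fintype.card F : ℤ) - 1) * ((Fintype.card F : ℤ) + 1 - B.e)) : B.Out := by
  classical
  obtain ⟨W⟩ := B.exists_wexp
  have hkey : ∀ θ, B.Cons θ → Char.conjN B.O B.w (θ : B.O → ℂ) = (θ : B.O → ℂ) ∧ B.Lfix (θ : B.O → ℂ) ∧
      B.resR θ = W.β θ ∧ (θ ≠ B.triv → W.a θ < 0) := by
    intro θ hc
    by_cases h : θ = B.triv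
    · subst h
      exact ⟨B.triv_fix _, B.triv_lfix, (B.β_triv W).symm, fun h => absurd rfl h⟩
    · obtain ⟨hL, hF, hb, ha⟩ := B.key W h5 heq ((B.cons_iff h).1 hc)
      exact ⟨hF, hL, eq_of_constituent_degree (IsChar.comp (Subgroup.inclusion (show B.R ≤ B.O from inf_le_left))
        (IsIrr.isCharacter θ.2)) (W.irr θ hF) (W.below θ hF) hb.symm, fun _ => ha⟩
  refine ⟨fun θ hc => (hkey θ hc).1, fun θ hc => (hkey θ hc).2.1, fun θ hc => ?_, fun θ hc => ?_,
    fun β hβ h1 hπ => ?_, fun θ θ' hc hc' he => ?_⟩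
  · rw [(hkey θ hc).2.2.1]
    exact W.irr θ (hkey θ hc).1
  · obtain ⟨hF, -, hres, ha⟩ := hkey θ hc
    by_cases h1 : B.resR θ = fun _ => 1
    · exact Or.inl h1
    by_contra hh
    push Not at hh
    obtain ⟨-, hw, hu⟩ := hh
    have hne : θ ≠ B.triv := fun e => h1 (by rw [e]; rfl)
    rw [hres] at h1 hw hu
    have hcoef := W.coef θ hF
    rw [B.cw_inner (W.irr θ hF) h1, hw, hu] at hcoef
    simp only [add_zero, neg_zero, zero_div] at hcoef
    have : W.a θ = 0 := by exact_mod_cast hcoef.symm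
    linarith [ha hne]
  · obtain ⟨x, hx⟩ := IsChar.classInner_nat B.πw_char (IsIrr.isCharacter hβ)
    obtain ⟨y, hy⟩ := IsChar.classInner_nat B.πu_char (IsIrr.isCharacter hβ)
    have hne : classInner B.cw β ≠ 0 := by
      rw [B.cw_inner hβ h1, hx, hy]
      intro h0
      have h' : ((x + y : ℕ) : ℂ) = ((0 : ℕ) : ℂ) := by
        push_cast
        linear_combination (-2 : ℂ) * h0
      have h'' := Nat.cast_injective h'
      rcases hπ with h | h
      · exact h (by rw [hx, show x = 0 by omega, Nat.cast_zero])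
      · exact h (by rw [hy, show y = 0 by omega, Nat.cast_zero])
    rw [W.expansion, classInner_sum_left] at hne
    obtain ⟨θ, -, hθ⟩ := Finset.exists_ne_zero_of_sum_ne_zero hne
    rw [classInner_smul_left] at hθ
    have ha : W.a θ ≠ 0 := fun e => hθ (by rw [e, Int.cast_zero, zero_mul])
    have hf : Char.conjN B.O B.w (θ : B.O → ℂ) = (θ : B.O → ℂ) := by
      by_contra e
      exact ha (W.zero θ e)
    have hβθ : W.β θ = β := by
      by_contra e
      exact hθ (by rw [classInner_irr_ne (W.irr θ hf) hβ e, mul_zero])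
    have hc : B.Cons θ := by
      refine (B.cons_iff ?_).2 ?_
      · intro e
        exact h1 (by rw [← hβθ, e, B.β_triv W])
      · have h := W.bound θ (B.n θ) (B.n_spec θ)
        have := abs_pos.2 ha
        omega
    exact ⟨θ, hc, by rw [(hkey θ hc).2.2.1, hβθ]⟩
  · exact W.inj θ θ' (hkey θ hc).1 (hkey θ' hc').1 (by rw [← (hkey θ hc).2.2.1, ← (hkey θ' hc').2.2.1, he])

end UData

end Cfsg.Agent.Invol.AbgOrder
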