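import Cfsg.Agent.Lib.Invol.AbgOrder.CorePoints
import Cfsg.Agent.Lib.Char.Kernel

/-!
# Unitary case: every constituent fixed makes `w` centralise the odd core

A character of a normal subgroup fixed by an involution and irreducible on a subgroup centralised by it is trivial on
the commutators with the involution.  If this holds for every constituent of a character faithful on `O(z)`, and each
kills the elements lying in all three cores, the hypotheses of `CoreSetup` follow.
-/

set_option autoImplicit false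
set_option linter.unusedSectionVars false
set_option linter.style.haveILetI false

namespace Cfsg.Agent.Invol.AbgOrder

open Cfsg Cfsg.Agent.Char

universe u v w x

/-- A fixed character with irreducible restriction to fixed points is trivial on the commutators. -/
theorem comm_of_fixed {C : Type u} [Group C] [Fintype C] {N R : Subgroup C} [hN : N.Normal] [Fintype R]
    (hRN : R ≤ N) {s : C} (hs : s * s = 1) (hR : ∀ r ∈ R, s * r = r * s) {θ : IrrCharacter N}
    (hfix : Char.conjN N s (θ : N → ℂ) = (θ : N → ℂ))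
    (hres : IsIrrCharacter R fun r : R => (θ : N → ℂ) ⟨r, hRN r.2⟩) (o : N) (hmem : (o : C)⁻¹ * (s * o * s) ∈ N) :
    (θ : N → ℂ) ⟨(o : C)⁻¹ * (s * o * s), hmem⟩ = (θ : N → ℂ) 1 := by
  classical
  haveI : Fintype N := Fintype.ofFinite N
  obtain ⟨n, ρ, hρ, hρθ⟩ := θ.2
  haveI := hρ
  set e : N ≃* N := conjEquivN N s
  let ρ' : Representation ℂ N (Fin n → ℂ) := ρ.comp e.toMonoidHom
  have hchar : ρ'.character = ρ.character := by
    funext g
    show ρ.character (e g) = _
    rw [hρθ]
    exact (congrFun (conjN_eq_comp N s (θ : N → ℂ)) g).symm.trans (congrFun hfix g)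
  have h1 : classInner ρ.character ρ'.character = 1 := by
    rw [hchar, hρθ]; exact classInner_self_irr θ.2
  rw [classInner_character] at h1
  have hfr : Module.finrank ℂ (Representation.IntertwiningMap ρ' ρ) = 1 := by exact_mod_cast h1
  haveI : Nontrivial (Representation.IntertwiningMap ρ' ρ) := Module.nontrivial_of_finrank_eq_succ hfr
  obtain ⟨T, hT⟩ := exists_ne (0 : Representation.IntertwiningMap ρ' ρ)
  -- on the fixed points both representations agree
  let ρR : Representation ℂ R (Fin n → ℂ) := ρ.comp (Subgroup.inclusion hRN)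
  have heR : ∀ r : R, e (Subgroup.inclusion hRN r) = Subgroup.inclusion hRN r := fun r => by
    refine Subtype.ext ?_
    rw [conjEquivN_apply]
    show s * (r : C) * s⁻¹ = r
    rw [hR r r.2, mul_inv_cancel_right]
  have hTR : ∀ (r : R) (v : Fin n → ℂ), T.toLinearMap (ρR r v) = ρR r (T.toLinearMap v) := fun r v => by
    have h := LinearMap.congr_fun (T.isIntertwining' (Subgroup.inclusion hRN r)) v
    simp only [LinearMap.comp_apply] at h
    rw [show ρ' (Subgroup.inclusion hRN r) = ρR r by
      show ρ (e _) = _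
      rw [heR]
      rfl] at h
    exact h
  let TR : Representation.IntertwiningMap ρR ρR := LinearMap.intertwiningMap_of_isIntertwiningMap ρR ρR _ hTR
  have hfR : Module.finrank ℂ (Representation.IntertwiningMap ρR ρR) = 1 := by
    have h2 : classInner ρR.character ρR.character = 1 := by
      rw [show ρR.character = fun r : R => (θ : N → ℂ) ⟨r, hRN r.2⟩ from funext fun r => congrFun hρθ _]
      exact classInner_self_irr hres
    rw [classInner_character] at h2
    exact_mod_cast h2
  have hid : (Representation.IntertwiningMap.id ρR) ≠ 0 := by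
    intro h0
    have h3 : ∀ v : Fin n → ℂ, v = 0 := fun v => LinearMap.congr_fun (congrArg (fun f => f.toLinearMap) h0) v
    refine hT (Representation.IntertwiningMap.ext (LinearMap.ext fun v => ?_))
    rw [h3 v, map_zero, map_zero]
  obtain ⟨a, ha⟩ := exists_smul_eq_of_finrank_eq_one hfR hid TR
  have hTa : ∀ v, T.toLinearMap v = a • v := fun v =>
    (LinearMap.congr_fun (congrArg (fun f => f.toLinearMap) ha) v).symm
  have ha0 : a ≠ 0 := fun h0 => hT (Representation.IntertwiningMap.ext (LinearMap.ext fun v => by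
    rw [hTa, h0, zero_smul]; rfl))
  have hρe : ∀ g : N, ρ (e g) = ρ g := fun g => LinearMap.ext fun v => by
    have h := LinearMap.congr_fun (T.isIntertwining' g) v
    simp only [LinearMap.comp_apply, hTa, map_smul] at h
    exact smul_right_injective _ ha0 h
  rw [show (⟨(o : C)⁻¹ * (s * o * s), hmem⟩ : N) = o⁻¹ * e o from Subtype.ext (by
    rw [Subgroup.coe_mul, Subgroup.coe_inv, conjEquivN_apply]
    show (o : C)⁻¹ * (s * o * s) = (o : C)⁻¹ * (s * o * s⁻¹)
    rw [inv_eq_of_mul_eq_one_right hs]),
    ← hρθ, Representation.char_one, character_eq_finrank_iff, map_mul, hρe, ← map_mul, inv_mul_cancel, map_one,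
    Module.End.one_eq_id]

namespace PreSetup

variable {G : Type u} [Group G] [Finite G] {F : Type v} [Field F] [Fintype F] {H : Type w} [Group H] {K : Type x}
  [CommGroup K] {Q : ℤ} (c : PreSetup G F H K Q)

/-- All constituents fixed, irreducible on the fixed points and killing the common part of the cores. -/
theorem core_setup_of_constituents [Fintype ↥(Subgroup.centralizer ({c.z} : Set G))]
    {N R : Subgroup ↥(Subgroup.centralizer ({c.z} : Set G))} [N.Normal] [Fintype N] [Fintype R]
    (hN : N = Cfsg.oddCore ↥(Subgroup.centralizer ({c.z} : Set G))) (hRN : R ≤ N)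
    (hR : ∀ r ∈ R, r ∈ c.MW) {χ : ↥(Subgroup.centralizer ({c.z} : Set G)) → ℂ}
    (hχ : IsCharacter ↥(Subgroup.centralizer ({c.z} : Set G)) χ)
    (hfaith : ∀ o ∈ N, χ o = χ 1 → o = 1)
    (hall : ∀ θ : IrrCharacter N, classInner (fun o : N => χ o) (θ : N → ℂ) ≠ 0 →
      Char.conjN N c.wC (θ : N → ℂ) = (θ : N → ℂ) ∧
      IsIrrCharacter R (fun r : R => (θ : N → ℂ) ⟨r, hRN r.2⟩) ∧
      ∀ o : N, (o : ↥(Subgroup.centralizer ({c.z} : Set G))) ∈ c.Nw →
        (o : ↥(Subgroup.centralizer ({c.z} : Set G))) ∈ c.Nu → (θ : N → ℂ) o = (θ : N → ℂ) 1) :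
    ∃ cs : CoreSetup G F H K Q, cs.toPreSetup = c := by
  classical
  have key : ∀ o : N, (∀ θ : IrrCharacter N, classInner (fun o : N => χ o) (θ : N → ℂ) ≠ 0 →
      (θ : N → ℂ) o = (θ : N → ℂ) 1) → o = 1 := fun o ho => by
    refine Subtype.ext (hfaith o o.2 ?_)
    by_contra hne
    obtain ⟨θ, hc, hθ⟩ := exists_nonprincipal_constituent (IsChar.res hχ N) (g := o) hne
    exact hθ (ho θ hc)
  have hw : ∀ y ∈ coreAt c.z, c.w * y = y * c.w := by
    rintro _ ⟨y, hy, rfl⟩
    have hy' : y ∈ N := hN ▸ hy
    have hm : y⁻¹ * (c.wC * y * c.wC) ∈ N := by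
      refine mul_mem (inv_mem hy') ?_
      have h := (inferInstance : N.Normal).conj_mem y hy' c.wC
      rwa [inv_eq_of_mul_eq_one_right c.wC_sq] at h
    have h1 := key ⟨_, hm⟩ fun θ hc =>
      comm_of_fixed hRN c.wC_sq (fun r hr => (Subgroup.mem_centralizer_singleton_iff.1 (hR r hr)).symm)
        (hall θ hc).1 (hall θ hc).2.1 ⟨y, hy'⟩ hm
    have h2 : c.wC * y * c.wC = y := (inv_mul_eq_one.1 (congrArg Subtype.val h1)).symm
    have h3 := c.fix_iff.1 h2
    exact (c.mem_MW.1 h3).symm
  refine ⟨{ c with w_O := hw, triple := fun y hz hw' hu => ?_ }, rfl⟩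
  obtain ⟨y, hy, rfl⟩ := hz
  have h1 := key ⟨y, hN ▸ hy⟩ fun θ hc => (hall θ hc).2.2 _ ⟨hy, hw'⟩ ⟨hy, hu⟩
  exact congrArg (fun o : N => ((o : ↥(Subgroup.centralizer ({c.z} : Set G))) : G)) h1

end PreSetup

end Cfsg.Agent.Invol.AbgOrder
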