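import Cfsg.Agent.Lib.Invol.AbgOrder.BudgetExtend
import Cfsg.Agent.Lib.Lie.SLTwoNine

/-!
# Invariant characters extend over `SL(2, 9)` inside a group inducing a diagonal outer automorphism

The automorphism inverts the exceptional part of the multiplier, so the lifts of a root subgroup commute.
-/

set_option autoImplicit false
set_option linter.unusedSectionVars false

namespace Cfsg.Agent.Invol.AbgOrder

open Cfsg Cfsg.Agent.Char Cfsg.Agent.Lie.SLMult
open scoped commutatorElement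

universe u v

variable {F : Type v} [Field F] [Fintype F]

local notation "SL₂" => Matrix.SpecialLinearGroup (Fin 2) F

/-- A central extension of `SL(2, 9)` with a root subgroup lifting to commuting elements has a retraction. -/
theorem exists_retraction_nine {E : Type*} [Group E] [Finite E] (hF : Fintype.card F = 9) (σ : E →* SL₂)
    (hσ : Function.Surjective σ) (hc : σ.ker ≤ Subgroup.center E)
    (hlc : ∀ (e f : E) (t u : F), σ e = tv 0 1 t → σ f = tv 0 1 u → Commute e f) :
    ∃ r : E →* σ.ker, ∀ k : σ.ker, r k = k := by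
  classical
  refine exists_retraction_of σ hσ hc (by omega) fun D hD => ?_
  obtain ⟨g, hg, hg3, hle⟩ := Lie.SLTwoNine.stem_bound hF _ hD
  have h01 : (0 : Fin 2) ≠ 1 := by decide
  let root : Multiplicative F →* SL₂ :=
    MonoidHom.mk' (fun a => tv 0 1 a.toAdd) fun a b => (tv_add h01 _ _).symm
  have hinj : Function.Injective root := fun a b h => by
    have := congrArg (fun M : SL₂ => (M : Matrix (Fin 2) (Fin 2) F) 0 1) h
    simpa [root, tv_coe h01, Matrix.transvection] using this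
  have hQ : Nat.card root.range = 9 := by
    rw [← Nat.card_congr (MonoidHom.ofInjective hinj).toEquiv, Nat.card_congr Multiplicative.toAdd,
      Nat.card_eq_fintype_card, hF]
  have hidx : root.range.index = 80 := by
    have h := root.range.card_mul_index
    rw [hQ, Lie.SLTwoNine.card_SL hF] at h
    omega
  refine (Subgroup.eq_bot_iff_forall _).2 fun z hz => ?_
  have hord : orderOf z ∣ 3 := orderOf_dvd_of_pow_eq_one (by
    obtain ⟨k, rfl⟩ := Subgroup.mem_zpowers_iff.1 (hle hz)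
    rw [← zpow_natCast, ← zpow_mul, mul_comm, zpow_mul, zpow_natCast, hg3, one_zpow])
  have hz' := Spor.Mult.mem_derived_of_coprime (root.range.comap (σ.comp D.subtype)) (hD.2.1 hz) (hD.2.2 hz)
    (by rw [Subgroup.index_comap_of_surjective _ hD.1, hidx]
        exact Nat.Coprime.coprime_dvd_left hord (by norm_num))
  have hab : ⁅root.range.comap (σ.comp D.subtype), root.range.comap (σ.comp D.subtype)⁆ = ⊥ := by
    refine Subgroup.commutator_eq_bot_iff_le_centralizer.2 fun x hx => Subgroup.mem_centralizer_iff.2 fun y hy => ?_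
    obtain ⟨a, ha⟩ := hx
    obtain ⟨b, hb⟩ := hy
    exact Subtype.ext (hlc (y : E) (x : E) b.toAdd a.toAdd hb.symm ha.symm)
  rwa [hab, Subgroup.mem_bot] at hz'

theorem isSquare_or_mul {δ : F} (hδ : ¬ IsSquare δ) (c : F) : IsSquare c ∨ IsSquare (δ * c) := by
  classical
  by_cases hc : c = 0
  · exact Or.inl (hc ▸ IsSquare.zero)
  by_contra h
  push Not at h
  have hδ0 : δ ≠ 0 := fun e => hδ (e ▸ IsSquare.zero)
  have hchar : ringChar F ≠ 2 := fun e => h.1 (FiniteField.isSquare_of_char_two e c)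
  have h1 := (quadraticChar_neg_one_iff_not_isSquare (F := F)).2 hδ
  have h2 := (quadraticChar_neg_one_iff_not_isSquare (F := F)).2 h.1
  have h3 := (quadraticChar_neg_one_iff_not_isSquare (F := F)).2 h.2
  rw [map_mul, h1, h2] at h3
  norm_num at h3

variable {G : Type u} [Group G] [Finite G] {N : Subgroup G} [hN : N.Normal]

/-- An invariant irreducible character extends over a normal subgroup with quotient `SL(2, 9)`. -/
theorem exists_ext_nine (hF : Fintype.card F = 9) {H : Subgroup G} [hH : H.Normal] (hNH : N ≤ H)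
    (σ : H →* SL₂) (hσ : Function.Surjective σ) (hker : σ.ker = N.subgroupOf H) (t : G) {δ : F}
    (hδ : ¬ IsSquare δ)
    (ht : ∀ (x : F) (h : H), σ h = tv 0 1 x → σ ⟨t * h * t⁻¹, hH.conj_mem _ h.2 _⟩ = tv 0 1 (δ * x))
    {θ : N → ℂ} (hθ : IsIrrCharacter N θ)
    (hinv : ∀ (g : G) (n : N), θ ⟨g * n * g⁻¹, hN.conj_mem (n : G) n.2 g⟩ = θ n) :
    ∃ χ : H → ℂ, IsIrrCharacter H χ ∧ ∀ m : N, χ ⟨m, hNH m.2⟩ = θ m := by
  classical
  obtain ⟨k, ρ, hρ, rfl, -, -⟩ := IsIrr.exists_rep hθ
  haveI := hρ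
  have hinv' : ∀ (g : G) (m : N), ρ.character (conjEquivN N g m) = ρ.character m := fun g m => by
    rw [conjEquivN_apply]
    exact hinv g m
  haveI := Ext.finite_cover N ρ
  set H' : Subgroup (Ext.cover N ρ) := H.comap (Ext.coverFst N ρ) with hH'
  haveI : H'.Normal := Subgroup.Normal.comap hH _
  let p : H' →* H := ((Ext.coverFst N ρ).comp H'.subtype).codRestrict H fun x => x.2
  have hp : Function.Surjective p := fun h => by
    obtain ⟨x, hx⟩ := Ext.coverFst_surjective N ρ hinv' (h : G)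
    exact ⟨⟨x, show Ext.coverFst N ρ x ∈ H by rw [hx]; exact h.2⟩, Subtype.ext hx⟩
  let φ : N →* H' := (Ext.coverEmb N ρ).codRestrict H' fun m => hNH m.2
  set L : Subgroup H' := φ.range with hL
  haveI : L.Normal := ⟨by
    rintro _ ⟨m, rfl⟩ x
    exact ⟨conjEquivN N (Ext.coverFst N ρ x) m, Subtype.ext (Ext.coverEmb_conj N ρ x m).symm⟩⟩
  have hLk : L ≤ (σ.comp p).ker := by
    rintro _ ⟨m, rfl⟩
    have : p (φ m) ∈ σ.ker := by
      rw [hker]
      exact m.2
    exact this
  let σE : H' ⧸ L →* SL₂ := QuotientGroup.lift L (σ.comp p) hLk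
  have hsurj : Function.Surjective σE := fun s => by
    obtain ⟨h, rfl⟩ := hσ s
    obtain ⟨x, rfl⟩ := hp h
    exact ⟨(x : H' ⧸ L), rfl⟩
  -- the kernel comes from the kernel of the cover
  have hzH : ∀ z : (Ext.coverFst N ρ).ker, (z : Ext.cover N ρ) ∈ H' := fun z => by
    show Ext.coverFst N ρ z ∈ H
    rw [MonoidHom.mem_ker.1 z.2]
    exact H.one_mem
  have hkerE : ∀ y ∈ σE.ker, ∃ z : (Ext.coverFst N ρ).ker, y = ((⟨z, hzH z⟩ : H') : H' ⧸ L) := by
    intro y hy
    induction y using QuotientGroup.induction_on with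
    | _ x =>
      have hx : p x ∈ σ.ker := hy
      rw [hker] at hx
      have hx' : Ext.coverFst N ρ x ∈ N := hx
      refine ⟨⟨(x : Ext.cover N ρ) * (Ext.coverEmb N ρ ⟨_, hx'⟩)⁻¹, by simp [MonoidHom.mem_ker]⟩, ?_⟩
      refine (QuotientGroup.eq.2 ?_).symm
      refine ⟨⟨_, hx'⟩, Subtype.ext ?_⟩
      show Ext.coverEmb N ρ ⟨_, hx'⟩ =
        ((x : Ext.cover N ρ) * (Ext.coverEmb N ρ ⟨_, hx'⟩)⁻¹)⁻¹ * (x : Ext.cover N ρ)
      group
  have hc : σE.ker ≤ Subgroup.center (H' ⧸ L) := by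
    intro y hy
    obtain ⟨z, rfl⟩ := hkerE y hy
    refine Subgroup.mem_center_iff.2 fun u => ?_
    induction u using QuotientGroup.induction_on with
    | _ u =>
      rw [← QuotientGroup.mk_mul, ← QuotientGroup.mk_mul]
      exact congrArg _ (Subtype.ext (Subgroup.mem_center_iff.1 (Ext.ker_central N ρ z.2) (u : Ext.cover N ρ)))
  -- the automorphism over `t`
  obtain ⟨T, hT⟩ := Ext.coverFst_surjective N ρ hinv' t
  let α : H' →* H' := (MulAut.conjNormal T).toMonoidHom
  have hαL : L ≤ L.comap α := by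
    rintro _ ⟨m, rfl⟩
    exact ⟨conjEquivN N (Ext.coverFst N ρ T) m, Subtype.ext (Ext.coverEmb_conj N ρ T m).symm⟩
  let αE : H' ⧸ L →* H' ⧸ L := QuotientGroup.map L L α hαL
  have hαfix : ∀ y ∈ σE.ker, αE y = y := by
    intro y hy
    obtain ⟨z, rfl⟩ := hkerE y hy
    refine congrArg (QuotientGroup.mk' L) (Subtype.ext ?_)
    show T * (z : Ext.cover N ρ) * T⁻¹ = z
    rw [Subgroup.mem_center_iff.1 (Ext.ker_central N ρ z.2) T, mul_inv_cancel_right]
  have hαtv : ∀ y x, σE y = tv 0 1 x → σE (αE y) = tv 0 1 (δ * x) := by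
    intro y x hy
    induction y using QuotientGroup.induction_on with
    | _ u =>
      have h := ht x (p u) hy
      refine Eq.trans (congrArg σ (Subtype.ext ?_)) h
      show Ext.coverFst N ρ (T * (u : Ext.cover N ρ) * T⁻¹) = t * ((p u : H) : G) * t⁻¹
      rw [map_mul, map_mul, map_inv, hT]
      rfl
  -- the lifts commute
  have h01 : (0 : Fin 2) ≠ 1 := by decide
  let l : F → H' ⧸ L := fun x => lift σE hsurj (tv 0 1 x)
  have hl0 : ∀ x, σE (l x) = tv 0 1 x := fun x => map_lift σE hsurj _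
  let z : F → F → H' ⧸ L := fun x y => ⁅l x, l y⁆
  have hzk : ∀ x y, z x y ∈ σE.ker := fun x y => by
    simp only [z, MonoidHom.mem_ker, map_commutatorElement, hl0, commutatorElement_eq_one_iff_commute,
      Commute, SemiconjBy, tv_add h01, add_comm]
  have hzc : ∀ x y, z x y ∈ Subgroup.center (H' ⧸ L) := fun x y => hc (hzk x y)
  have hadd : ∀ x x' y, z (x + x') y = z x y * z x' y := fun x x' y => by
    simp only [z]
    rw [congr σE hc (e' := l x * l x') (f' := l y) (by rw [map_mul σE, hl0, hl0, hl0, tv_add h01]) rfl,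
      show ∀ p q y : H' ⧸ L, ⁅p * q, y⁆ = p * ⁅q, y⁆ * p⁻¹ * ⁅p, y⁆ from fun p q y => by group,
      Subgroup.mem_center_iff.1 (hzc x' y), mul_inv_cancel_right,
      Subgroup.mem_center_iff.1 (hzc x' y)]
  have hswap : ∀ x y, z x y = (z y x)⁻¹ := fun x y => (commutatorElement_inv _ _).symm
  have hr : ∀ x y y', z x (y + y') = z x y * z x y' := fun x y y' => by
    rw [hswap x (y + y'), hadd, _root_.mul_inv_rev, ← hswap, ← hswap,
      Subgroup.mem_center_iff.1 (hzc x y)]
  have hsq : ∀ (c : Fˣ) x y, z ((c : F) ^ 2 * x) ((c : F) ^ 2 * y) = z x y := fun c x y => by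
    have e := conjugate_commutatorElement (l x) (l y)
      (lift σE hsurj (dia (pairD c (0 : Fin 2) 1) (pairD_prod c (0 : Fin 2) 1)))
    rw [Subgroup.mem_center_iff.1 (hzc x y), mul_inv_cancel_right] at e
    refine Eq.trans ?_ e.symm
    have hk : ((pairD c (0 : Fin 2) 1 0 / pairD c (0 : Fin 2) 1 1 : Fˣ) : F) = (c : F) ^ 2 := by
      simp [pairD, sq]
    exact congr σE hc (by simp only [map_mul σE, map_inv σE, hl0, map_lift, dia_conj _ _ h01, hk])
      (by simp only [map_mul σE, map_inv σE, hl0, map_lift, dia_conj _ _ h01, hk])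
  have hdel : ∀ x y, z (δ * x) (δ * y) = z x y := fun x y => by
    rw [← hαfix _ (hzk x y)]
    simp only [z, map_commutatorElement]
    exact congr σE hc (by rw [hl0, hαtv _ _ (hl0 x)]) (by rw [hl0, hαtv _ _ (hl0 y)])
  have hall : ∀ c : F, c ≠ 0 → ∀ x y, z (c * x) (c * y) = z x y := by
    intro c hc0 x y
    have hδ0 : δ ≠ 0 := fun e => hδ (e ▸ IsSquare.zero)
    rcases isSquare_or_mul hδ c with ⟨r, hr'⟩ | ⟨r, hr'⟩
    · have hr0 : r ≠ 0 := fun e => hc0 (by rw [hr', e, zero_mul])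
      rw [hr', ← sq]
      exact hsq (Units.mk0 r hr0) x y
    · have hr0 : r ≠ 0 := fun e => mul_ne_zero hδ0 hc0 (by rw [hr', e, zero_mul])
      rw [← hdel, ← mul_assoc, ← mul_assoc, hr', ← sq]
      exact hsq (Units.mk0 r hr0) x y
  obtain ⟨a, ha0, ha1, ha⟩ := exists_good_scalar_sl (F := F) ⟨Finset.univ, by rw [Finset.card_univ]; omega⟩
  have hzero : ∀ t u, z t u = 1 := by
    intro t u
    have hd : 1 / (a * (1 - a)) - 1 ≠ 0 := by
      rw [sub_ne_zero, Ne, div_eq_one_iff_eq (mul_ne_zero ha0 ha1)]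
      exact fun e => ha e.symm
    set v := u / (1 / (a * (1 - a)) - 1)
    have e1 : z (a * t) v = z t (a⁻¹ * v) := by
      have := hall a ha0 t (a⁻¹ * v)
      rwa [← mul_assoc, mul_inv_cancel₀ ha0, one_mul] at this
    have e2 : z ((1 - a) * t) v = z t ((1 - a)⁻¹ * v) := by
      have := hall _ ha1 t ((1 - a)⁻¹ * v)
      rwa [← mul_assoc, mul_inv_cancel₀ ha1, one_mul] at this
    have h3 := hadd (a * t) ((1 - a) * t) v
    rw [show a * t + (1 - a) * t = t by ring, e1, e2, ← hr,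
      show a⁻¹ * v + (1 - a)⁻¹ * v = v + u by
        have hv : v * (1 / (a * (1 - a)) - 1) = u := div_mul_cancel₀ _ hd
        rw [← hv]; field_simp; ring, hr, left_eq_mul] at h3
    exact h3
  obtain ⟨r, hr⟩ := exists_retraction_nine hF σE hsurj hc fun e f t u he hf =>
    commutatorElement_eq_one_iff_commute.1 ((congr σE hc (e' := l t) (f' := l u) (by rw [he, hl0])
      (by rw [hf, hl0])).trans (hzero t u))
  -- the twist
  have hiker : ∀ z : (Ext.coverFst N ρ).ker, ((⟨z, hzH z⟩ : H') : H' ⧸ L) ∈ σE.ker := fun z => by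
    show σ (p ⟨z, hzH z⟩) = 1
    rw [show p ⟨z, hzH z⟩ = 1 from Subtype.ext z.2, map_one]
  let i : (Ext.coverFst N ρ).ker →* σE.ker :=
    MonoidHom.mk' (fun z => ⟨((⟨z, hzH z⟩ : H') : H' ⧸ L), hiker z⟩) fun a b => rfl
  have hi : Function.Bijective i := by
    refine ⟨?_, fun y => ?_⟩
    · rw [injective_iff_map_eq_one]
      intro z hz
      obtain ⟨m, hm⟩ := (QuotientGroup.eq_one_iff _).mp (congrArg Subtype.val hz)
      have hm' : Ext.coverEmb N ρ m = (z : Ext.cover N ρ) := congrArg Subtype.val hm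
      have h1 : (m : G) = 1 := by
        rw [← Ext.coverFst_emb N ρ m, hm']
        exact MonoidHom.mem_ker.mp z.2
      refine Subtype.ext (hm'.symm.trans ?_)
      rw [show m = 1 from Subtype.ext h1, map_one]
      rfl
    · obtain ⟨z, hz⟩ := hkerE y y.2
      exact ⟨z, Subtype.ext hz.symm⟩
  let ψ : H' →* ℂˣ := (Ext.scalar N ρ).comp ((MulEquiv.ofBijective i hi).symm.toMonoidHom.comp
    (r.comp (QuotientGroup.mk' L)))
  have hψ1 : ∀ m, ψ (φ m) = 1 := fun m => by
    simp only [ψ, MonoidHom.comp_apply, QuotientGroup.mk'_apply,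
      (QuotientGroup.eq_one_iff (N := L) _).mpr (MonoidHom.mem_range.mpr ⟨m, rfl⟩), map_one]
  have hψ2 : ∀ z : (Ext.coverFst N ρ).ker, ψ ⟨z, hzH z⟩ = Ext.scalar N ρ z := fun z => by
    show Ext.scalar N ρ ((MulEquiv.ofBijective i hi).symm (r ((i z : σE.ker) : H' ⧸ L))) = _
    rw [hr]
    congr 1
    exact (MulEquiv.ofBijective i hi).symm_apply_apply z
  let R : Representation ℂ H' (Fin k → ℂ) := (Ext.coverRep N ρ).comp H'.subtype
  haveI : R.IsIrreducible := Ext.isIrr_of_comp N ρ R φ fun m => rfl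
  have hirr := IsIrr.mul_linear (isIrrCharacter_character R) ψ⁻¹
  obtain ⟨χ, hχ, hχe⟩ := IsIrr.exists_factor hirr p hp (fun z hz => by
    have hz1 : (z : Ext.cover N ρ) ∈ (Ext.coverFst N ρ).ker := congrArg Subtype.val (MonoidHom.mem_ker.1 hz)
    have hzs := Ext.coverRep_ker N ρ ⟨z, hz1⟩
    have hR : R z = Ext.coverRep N ρ (z : Ext.cover N ρ) := rfl
    simp only [Representation.character] at *
    rw [hR, hzs, map_smul, map_one, map_one, LinearMap.trace_one, LinearMap.trace_id,
      MonoidHom.inv_apply, show ψ z = Ext.scalar N ρ ⟨(z : Ext.cover N ρ), hz1⟩ from hψ2 ⟨(z : Ext.cover N ρ), hz1⟩, smul_eq_mul, ← mul_assoc,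
      Units.inv_mul, one_mul, Units.val_one, one_mul])
  refine ⟨χ, hχ, fun m => ?_⟩
  rw [show (⟨(m : G), hNH m.2⟩ : H) = p (φ m) from rfl, hχe, MonoidHom.inv_apply, hψ1, inv_one, Units.val_one,
    one_mul]
  rfl

end Cfsg.Agent.Invol.AbgOrder
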