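import Cfsg.Agent.Lib.Invol.AbgOrder.BudgetUCount
import Cfsg.Agent.Lib.Invol.AbgOrder.BudgetExtNine

/-!
# A weight on the members over a proper subgroup adds up to less than `2 q` times its bound

Dickson's list.  For `q = 5, 7, 11` the exceptional subgroups need the pairs of anticommuting members.
-/

set_option autoImplicit false
set_option linter.unusedSectionVars false

namespace Cfsg.Agent.Invol.AbgOrder

open Matrix Cfsg.Agent.Grp.SL2 Cfsg.Agent.PSL2Spec Cfsg.Agent.Dickson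

variable {F : Type*} [Field F] [Fintype F]

local notation "SL₂" => Matrix.SpecialLinearGroup (Fin 2) F
local notation "M₂" => Matrix (Fin 2) (Fin 2) F
local notation "PSL₂" => Matrix.ProjectiveSpecialLinearGroup (Fin 2) F
local notation "H[" K "]" => Subgroup.map (proj (F := F)) K

theorem card_inv_alt_four : Fintype.card {x : alternatingGroup (Fin 4) // x * x = 1 ∧ x ≠ 1} = 3 := by decide +kernel

theorem cent_inv_alt_four : ∀ p : alternatingGroup (Fin 4) × alternatingGroup (Fin 4),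
    p.1 * p.1 = 1 ∧ p.1 ≠ 1 ∧ p.1 * p.2 = p.2 * p.1 →
      p.2 = 1 ∨ p.2 = p.1 ∨ (p.2 * p.2 = 1 ∧ p.2 ≠ 1) := by decide +kernel

theorem deg_inv_perm_four : ∀ x : Equiv.Perm (Fin 4), x * x = 1 → x ≠ 1 →
    2 ≤ Fintype.card {y : Equiv.Perm (Fin 4) // (y * y = 1 ∧ y ≠ 1) ∧ x * y = y * x ∧ y ≠ x} := by decide +kernel

theorem pairs_inv_perm_four : Fintype.card {p : Equiv.Perm (Fin 4) × Equiv.Perm (Fin 4) //
    (p.1 * p.1 = 1 ∧ p.1 ≠ 1) ∧ (p.2 * p.2 = 1 ∧ p.2 ≠ 1) ∧ p.1 * p.2 = p.2 * p.1 ∧ p.2 ≠ p.1} ≤ 24 := by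
  decide +kernel

theorem deg_inv_alt_five : ∀ x : alternatingGroup (Fin 5), x * x = 1 → x ≠ 1 →
    2 ≤ Fintype.card {y : alternatingGroup (Fin 5) // (y * y = 1 ∧ y ≠ 1) ∧ x * y = y * x ∧ y ≠ x} := by
  decide +kernel

theorem pairs_inv_alt_five : Fintype.card {p : alternatingGroup (Fin 5) × alternatingGroup (Fin 5) //
    (p.1 * p.1 = 1 ∧ p.1 ≠ 1) ∧ (p.2 * p.2 = 1 ∧ p.2 ≠ 1) ∧ p.1 * p.2 = p.2 * p.1 ∧ p.2 ≠ p.1} ≤ 30 := by
  decide +kernel

theorem three_alt_five : 20 ≤ Fintype.card {x : alternatingGroup (Fin 5) // x ^ 3 = 1 ∧ x ≠ 1} := by decide +kernel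

variable {ν : F} {K₀ : Subgroup (Matrix.SpecialLinearGroup (Fin 2) F)} {S : Set (Ell ν)}

theorem neg_ns_of_square (hν : ¬ IsSquare ν) (h : IsSquare (-1 : F)) : ¬ IsSquare (-ν) := by
  rintro ⟨r, hr⟩
  obtain ⟨i, hi⟩ := h
  exact hν ⟨i * r, by linear_combination (r * r) * hi - hr⟩

open _root_.Classical in
/-- The alternating group of degree four over five elements. -/
theorem sum_lt_five [Fintype (Ell ν)] (h2 : (2 : F) ≠ 0) (hν : ¬ IsSquare ν) (hq : Fintype.card F = 5)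
    (hC : EllClosed K₀ S) (i : H[K₀] ≃* alternatingGroup (Fin 4)) {f : Ell ν → ℝ} {n : ℝ} (hn : 0 < n)
    (hf : ∀ A, 0 ≤ f A)
    (hpair : ∀ A ∈ S, ∀ B ∈ S, (A : M₂) * (B : M₂) = -((B : M₂) * (A : M₂)) → f A + f B ≤ n) :
    ∑ A ∈ Finset.univ.filter (fun A => A ∈ S), f A < 2 * (Fintype.card F : ℝ) * n := by
  have hνneg := neg_ns_of_square hν (FiniteField.isSquare_neg_one_iff.2 (by rw [hq]; norm_num))
  have hν0 : ν ≠ 0 := fun h => hν (h ▸ IsSquare.zero)
  have hI : Nat.card {x : H[K₀] // IsInv x} = 3 := by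
    rw [Nat.card_congr (i.toEquiv.subtypeEquiv (q := fun x => IsInv x) fun x => (isInv_map i x).symm),
      Nat.card_eq_fintype_card, ← card_inv_alt_four]
    exact Fintype.card_congr (Equiv.refl _)
  -- every member has two partners
  have hdeg : ∀ A ∈ S, 2 ≤ Nat.card {t : K₀ // (t : SL₂) * t = -1 ∧
      (A : M₂) * ((t : SL₂) : M₂) = -(((t : SL₂) : M₂) * (A : M₂))} := by
    intro A hA
    choose ψ hψ hψe using fun s : K₀ => hC.normal A hA s s.2
    let Ψ : K₀ → K₀ := fun s => ⟨ψ s, hψ s⟩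
    have hAA : (A : M₂) * (A : M₂) = ν • 1 := Ell.mul_self A.2
    have hcan : ∀ x y : SL₂, (x : M₂) * (A : M₂) = (y : M₂) * (A : M₂) → x = y := fun x y h => by
      have h' := congrArg (· * (A : M₂)) h
      simp only [Matrix.mul_assoc, hAA, Matrix.mul_smul, Matrix.mul_one] at h'
      exact Subtype.ext (smul_right_injective M₂ hν0 h')
    have hinv : ∀ s : K₀, Ψ (Ψ s) = s := fun s => Subtype.ext (hcan _ _ (by
      have h1 : ((Ψ (Ψ s) : SL₂) : M₂) * (A : M₂) = (A : M₂) * ((Ψ s : SL₂) : M₂) := hψe (Ψ s)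
      have h2' : ((Ψ s : SL₂) : M₂) * (A : M₂) = (A : M₂) * ((s : SL₂) : M₂) := hψe s
      have h3 : ((Ψ (Ψ s) : SL₂) : M₂) * (A : M₂) * (A : M₂) = (A : M₂) * (A : M₂) * ((s : SL₂) : M₂) := by
        rw [h1, Matrix.mul_assoc, h2', ← Matrix.mul_assoc]
      rw [Matrix.mul_assoc, hAA, Matrix.mul_smul, Matrix.mul_one, Matrix.smul_mul, Matrix.one_mul] at h3
      rw [smul_right_injective M₂ hν0 h3]))
    have hneg : ∀ s t : K₀, (s : SL₂) = -(t : SL₂) → (Ψ s : SL₂) = -(Ψ t : SL₂) := fun s t h => hcan _ _ (by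
      show (ψ s : M₂) * (A : M₂) = _
      rw [hψe, h, Matrix.SpecialLinearGroup.coe_neg, Matrix.mul_neg, ← hψe, Matrix.SpecialLinearGroup.coe_neg,
        Matrix.neg_mul])
    have hsq : ∀ s : K₀, (s : SL₂) * s = -1 → (Ψ s : SL₂) * Ψ s = -1 := fun s hs => hcan _ _ (by
      have hs' : ((s : SL₂) : M₂) * ((s : SL₂) : M₂) = -1 := by
        rw [← Matrix.SpecialLinearGroup.coe_mul, hs]; rfl
      show ((ψ s * ψ s : SL₂) : M₂) * (A : M₂) = ((-1 : SL₂) : M₂) * (A : M₂)
      rw [Matrix.SpecialLinearGroup.coe_mul, Matrix.mul_assoc, hψe, ← Matrix.mul_assoc, hψe, Matrix.mul_assoc, hs']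
      simp)
    obtain ⟨φ, hφ⟩ := exists_lift_equiv h2 K₀ hC.neg
    have hwd : ∀ s t : K₀, proj (s : SL₂) = proj (t : SL₂) → proj (Ψ s : SL₂) = proj (Ψ t : SL₂) := by
      intro s t h
      rcases proj_eq_iff.1 h with e | e
      · rw [Subtype.ext e]
      · exact proj_eq_iff.2 (Or.inr (hneg t s e))
    have hIs : ∀ x : {x : H[K₀] // IsInv x}, (φ (x.1, true) : SL₂) * φ (x.1, true) = -1 := fun x => by
      rw [sq_neg_one_iff h2, hφ]
      exact (isInv_coe _).2 x.2
    let π : {x : H[K₀] // IsInv x} → {x : H[K₀] // IsInv x} := fun x =>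
      ⟨⟨proj (Ψ (φ (x.1, true)) : SL₂), Subgroup.mem_map_of_mem _ (Ψ _).2⟩,
        (isInv_coe _).1 ((sq_neg_one_iff h2 _).1 (hsq _ (hIs x)))⟩
    have hπ : Function.Involutive π := fun x => Subtype.ext (Subtype.ext (by
      show proj (Ψ (φ ((π x).1, true)) : SL₂) = _
      rw [hwd _ (Ψ (φ (x.1, true))) (hφ _), hinv, hφ]))
    haveI : Fintype {x : H[K₀] // IsInv x} := Fintype.ofFinite _
    haveI : Fact (Nat.Prime 2) := ⟨Nat.prime_two⟩
    obtain ⟨x, hx⟩ := Equiv.Perm.exists_fixed_point_of_prime (p := 2) (n := 1)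
      (by rw [← Nat.card_eq_fintype_card, hI]; norm_num) (σ := hπ.toPerm π)
      (Equiv.ext fun y => by rw [pow_one, sq]; exact hπ y)
    set t := φ (x.1, true)
    have ht : (t : SL₂) * t = -1 := hIs x
    have hxe : proj (Ψ t : SL₂) = proj (t : SL₂) := by
      rw [hφ]
      exact congrArg (fun y : {x : H[K₀] // IsInv x} => (y.1 : PSL₂)) hx
    have hanti : (A : M₂) * ((t : SL₂) : M₂) = -(((t : SL₂) : M₂) * (A : M₂)) := by
      rw [← hψe t]
      rcases proj_eq_iff.1 hxe with e | e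
      swap
      · show ((Ψ t : SL₂) : M₂) * _ = _
        rw [show (Ψ t : SL₂) = -(t : SL₂) by rw [e, neg_neg], Matrix.SpecialLinearGroup.coe_neg, Matrix.neg_mul]
      exfalso
      have hc : (A : M₂) * ((t : SL₂) : M₂) = ((t : SL₂) : M₂) * (A : M₂) := by
        rw [← hψe t]
        show ((Ψ t : SL₂) : M₂) * _ = _
        rw [← e]
      set M := (A : M₂) * ((t : SL₂) : M₂) with hM
      have ht' : ((t : SL₂) : M₂) * ((t : SL₂) : M₂) = -1 := by
        rw [← Matrix.SpecialLinearGroup.coe_mul, ht]; rfl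
      have hM2 : M * M = (-ν) • 1 := by
        rw [hM]
        calc (A : M₂) * ((t : SL₂) : M₂) * ((A : M₂) * ((t : SL₂) : M₂))
            = (A : M₂) * (((t : SL₂) : M₂) * (A : M₂)) * ((t : SL₂) : M₂) := by simp only [Matrix.mul_assoc]
          _ = (A : M₂) * ((A : M₂) * ((t : SL₂) : M₂)) * ((t : SL₂) : M₂) := by rw [← hc]
          _ = (A : M₂) * (A : M₂) * (((t : SL₂) : M₂) * ((t : SL₂) : M₂)) := by simp only [Matrix.mul_assoc]
          _ = _ := by rw [hAA, ht']; simp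
      have hdet := (det_fin_two M).symm.trans
        (show M.det = -ν by rw [hM, det_mul, A.2.2, Matrix.SpecialLinearGroup.det_coe, mul_one])
      have e00 := congrFun (congrFun hM2 0) 0
      have e01 := congrFun (congrFun hM2 0) 1
      have e10 := congrFun (congrFun hM2 1) 0
      have e11 := congrFun (congrFun hM2 1) 1
      simp [Matrix.mul_apply, Fin.sum_univ_two] at e00 e01 e10 e11
      by_cases hT : M 0 0 + M 1 1 = 0
      · exact hν0 ((mul_eq_zero.1 (show (2 : F) * ν = 0 by linear_combination hdet + e00 - (M 0 0) * hT)).resolve_left h2 |>.trans rfl)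
      · have h01 : M 0 1 = 0 :=
          (mul_eq_zero.1 (show (M 0 0 + M 1 1) * M 0 1 = 0 by linear_combination e01)).resolve_left hT
        rw [h01, zero_mul, add_zero] at e00
        exact hνneg ⟨M 0 0, e00.symm⟩
    have hn2 : (-1 : SL₂) * t ∈ K₀ := K₀.mul_mem hC.neg t.2
    haveI : Fintype {t : K₀ // (t : SL₂) * t = -1 ∧
      (A : M₂) * ((t : SL₂) : M₂) = -(((t : SL₂) : M₂) * (A : M₂))} := Fintype.ofFinite _
    rw [Nat.card_eq_fintype_card]
    refine Fintype.one_lt_card_iff.2 ⟨⟨t, ht, hanti⟩, ⟨⟨-(t : SL₂), neg_one_mul (t : SL₂) ▸ hn2⟩, ?_, ?_⟩, ?_⟩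
    · show (-(t : SL₂)) * -(t : SL₂) = -1
      rw [neg_mul_neg, ht]
    · show (A : M₂) * ((-(t : SL₂) : SL₂) : M₂) = -(((-(t : SL₂) : SL₂) : M₂) * (A : M₂))
      rw [Matrix.SpecialLinearGroup.coe_neg, Matrix.mul_neg, Matrix.neg_mul, hanti]
    · intro h
      exact neg_ne_self h2 (t : SL₂) (congrArg (fun z : {t : K₀ // _} => ((z.1 : SL₂))) h).symm
  -- each element has four
  have hE : Nat.card {p : S × K₀ // (p.2 : SL₂) * p.2 = -1 ∧
      ((p.1 : Ell ν) : M₂) * ((p.2 : SL₂) : M₂) = -(((p.2 : SL₂) : M₂) * ((p.1 : Ell ν) : M₂))} ≤ 24 := by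
    let T : S → K₀ → Prop := fun A t => (t : SL₂) * t = -1 ∧
      ((A : Ell ν) : M₂) * ((t : SL₂) : M₂) = -(((t : SL₂) : M₂) * ((A : Ell ν) : M₂))
    let D := Σ t : {t : K₀ // (t : SL₂) * t = -1}, {g : K₀ // proj (g : SL₂) = 1 ∨ proj (g : SL₂) = proj (t.1 : SL₂)}
    have hbase : ∀ p : {p : S × K₀ // T p.1 p.2}, ∃ A : S, T A p.1.2 := fun p => ⟨_, p.2⟩
    let base : K₀ → Option S := fun t => if h : ∃ A, T A t then some h.choose else none
    have key : ∀ (A : S) (t : K₀) (B : S), T A t → T B t → ∃ g : K₀,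
        ((A : Ell ν) : M₂) = ((B : Ell ν) : M₂) * ((g : SL₂) : M₂) ∧
          (proj (g : SL₂) = 1 ∨ proj (g : SL₂) = proj (t : SL₂)) := by
      rintro A t B ⟨ht, hA⟩ ⟨-, hB⟩
      obtain ⟨g, hg, hge⟩ := hC.rel _ B.2 _ A.2
      refine ⟨⟨g, hg⟩, hge, ?_⟩
      rw [hge, Matrix.mul_assoc, ← Matrix.mul_assoc ((t : SL₂) : M₂), ← Matrix.neg_mul, ← hB, Matrix.mul_assoc] at hA
      have hcan : ∀ U V : M₂, ((B : Ell ν) : M₂) * U = ((B : Ell ν) : M₂) * V → U = V := fun U V h => by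
        have h' := congrArg (((B : Ell ν) : M₂) * ·) h
        simp only [← Matrix.mul_assoc, Ell.mul_self (B : Ell ν).2, Matrix.smul_mul, Matrix.one_mul] at h'
        exact smul_right_injective M₂ hν0 h'
      have hc : g * (t : SL₂) = (t : SL₂) * g := Subtype.ext (hcan _ _ hA)
      have hx := (isInv_map i ⟨proj (t : SL₂), Subgroup.mem_map_of_mem _ t.2⟩).2
        ((isInv_coe _).1 ((sq_neg_one_iff h2 _).1 ht))
      have hcx := cent_inv_alt_four (i ⟨proj (t : SL₂), Subgroup.mem_map_of_mem _ t.2⟩,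
        i ⟨proj g, Subgroup.mem_map_of_mem _ hg⟩) ⟨hx.1, hx.2, by
          rw [← map_mul, ← map_mul]
          refine congrArg i (Subtype.ext ?_)
          show proj (t : SL₂) * proj g = proj g * proj (t : SL₂)
          rw [← map_mul, ← map_mul, hc]⟩
      rcases hcx with h | h | h
      · exact Or.inl (congrArg Subtype.val ((map_eq_one_iff _ i.injective).1 h))
      · exact Or.inr (congrArg Subtype.val (i.injective h))
      · have hgi : IsInv (proj g) := (isInv_coe (⟨_, Subgroup.mem_map_of_mem _ hg⟩ : H[K₀])).2 ((isInv_map i _).1 h)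
        by_contra hne
        push Not at hne
        have hanti := (anti_iff h2 ht ((sq_neg_one_iff h2 g).2 hgi)).2 ⟨(show Commute (t : SL₂) g from hc.symm).map proj, hne.2⟩
        rw [hc] at hanti
        exact neg_ne_self h2 ((t : SL₂) * g) hanti.symm
    choose g hg hgQ using key
    let Φ : {p : S × K₀ // T p.1 p.2} → D := fun p =>
      have h : ∃ A, T A p.1.2 := ⟨_, p.2⟩
      ⟨⟨p.1.2, p.2.1⟩, ⟨g p.1.1 p.1.2 h.choose p.2 h.choose_spec, hgQ _ _ _ _ _⟩⟩
    have hΦ : Function.Injective Φ := by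
      rintro ⟨⟨A, t⟩, hA⟩ ⟨⟨A', t'⟩, hA'⟩ h
      have et : t = t' := congrArg (fun x : D => x.1.1) h
      subst et
      have hex : ∃ B, T B t := ⟨A, hA⟩
      refine Subtype.ext (Prod.ext (Subtype.ext (Subtype.ext ?_)) rfl)
      show ((A : Ell ν) : M₂) = ((A' : Ell ν) : M₂)
      rw [hg A t hex.choose hA hex.choose_spec, hg A' t hex.choose hA' hex.choose_spec]
      exact congrArg (fun x : D => (((hex.choose : S) : Ell ν) : M₂) * ((x.2.1 : SL₂) : M₂)) h
    refine (Nat.card_le_card_of_injective Φ hΦ).trans ?_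
    haveI : Fintype {t : K₀ // (t : SL₂) * t = -1} := Fintype.ofFinite _
    rw [Nat.card_sigma]
    refine (Finset.sum_le_card_nsmul _ _ 4 fun t _ => ?_).trans ?_
    · rw [card_lift h2 hC.neg (fun g : K₀ => proj (g : SL₂) = 1 ∨ proj (g : SL₂) = proj (t.1 : SL₂))
        (fun x => (x : PSL₂) = 1 ∨ (x : PSL₂) = proj (t.1 : SL₂)) fun s => Iff.rfl]
      have : Nat.card {x : H[K₀] // (x : PSL₂) = 1 ∨ (x : PSL₂) = proj (t.1 : SL₂)} ≤ 2 := by
        refine (Nat.card_le_card_of_injective (fun x : {x : H[K₀] // (x : PSL₂) = 1 ∨ (x : PSL₂) = proj (t.1 : SL₂)} =>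
          decide ((x.1 : PSL₂) = 1)) fun x y h => ?_).trans_eq (by simp)
        refine Subtype.ext (Subtype.ext ?_)
        simp only [decide_eq_decide] at h
        rcases x.2 with hx | hx
        · rw [hx, h.1 hx]
        · rcases y.2 with hy | hy
          · rw [hy, h.2 hy]
          · rw [hx, hy]
      omega
    · rw [smul_eq_mul, Finset.card_univ, ← Nat.card_eq_fintype_card,
        card_lift h2 hC.neg (fun t : K₀ => (t : SL₂) * t = -1) (fun x => IsInv x) fun s => by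
          rw [sq_neg_one_iff h2, ← isInv_coe (⟨proj (s : SL₂), Subgroup.mem_map_of_mem _ s.2⟩ : H[K₀])], hI]
  have h := pair_bound h2 hC hf hpair hn.le hdeg hE
  push_cast at h
  rw [hq]
  push_cast
  linarith

open _root_.Classical in
/-- The members are multiples of the elements with square `-1`. -/
theorem sum_lt_square [Fintype (Ell ν)] (h2 : (2 : F) ≠ 0) {c : F} (hc : -ν = c * c) (hν : ¬ IsSquare ν)
    (hC : EllClosed K₀ S) (hdvd : ¬ 2 * Nat.card K₀ ∣ Nat.card SL₂) {E : ℕ} (hEq : E < 4 * Fintype.card F)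
    (hd : ∀ x : H[K₀], IsInv x → 2 ≤ Nat.card {y : H[K₀] // IsInv y ∧ Commute x y ∧ y ≠ x})
    (hpairs : Nat.card {p : H[K₀] × H[K₀] // IsInv p.1 ∧ IsInv p.2 ∧ Commute p.1 p.2 ∧ p.2 ≠ p.1} ≤ E)
    {f : Ell ν → ℝ} {n : ℝ} (hn : 0 < n) (hf : ∀ A, 0 ≤ f A)
    (hpair : ∀ A ∈ S, ∀ B ∈ S, (A : M₂) * (B : M₂) = -((B : M₂) * (A : M₂)) → f A + f B ≤ n) :
    ∑ A ∈ Finset.univ.filter (fun A => A ∈ S), f A < 2 * (Fintype.card F : ℝ) * n := by
  have hν0 : ν ≠ 0 := fun h => hν (h ▸ IsSquare.zero)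
  have hc0 : c ≠ 0 := fun h => hν0 (by rw [h, mul_zero] at hc; exact neg_eq_zero.1 hc)
  let sA : Ell ν → SL₂ := fun A => ⟨c⁻¹ • (A : M₂), by
    rw [det_smul, A.2.2, Fintype.card_fin, hc]
    field_simp⟩
  have hsq : ∀ A, sA A * sA A = -1 := fun A => Subtype.ext (by
    show (c⁻¹ • (A : M₂)) * (c⁻¹ • (A : M₂)) = -1
    rw [Matrix.smul_mul, Matrix.mul_smul, Ell.mul_self A.2, smul_smul, smul_smul,
      show c⁻¹ * c⁻¹ * ν = (-1 : F) by field_simp; linear_combination -hc]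
    simp)
  have hmem : ∀ A ∈ S, sA A ∈ K₀ := by
    intro A hA
    by_contra hn'
    have hnorm : sA A ∈ Subgroup.normalizer (K₀ : Set SL₂) := mem_normalizer_of_forall fun s hs => by
      obtain ⟨t, ht, hte⟩ := hC.normal A hA s hs
      rw [show sA A * s * (sA A)⁻¹ = t by
        rw [mul_inv_eq_iff_eq_mul]
        refine Subtype.ext ?_
        show (c⁻¹ • (A : M₂)) * (s : M₂) = (t : M₂) * (c⁻¹ • (A : M₂))
        rw [Matrix.smul_mul, Matrix.mul_smul, hte]]
      exact ht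
    set N := Subgroup.normalizer (K₀ : Set SL₂)
    haveI : (K₀.subgroupOf N).Normal := Subgroup.normal_subgroupOf_of_le_normalizer le_rfl
    have ho : orderOf ((⟨sA A, hnorm⟩ : N) : N ⧸ K₀.subgroupOf N) = 2 := by
      refine orderOf_eq_prime ?_ fun h => hn' (Subgroup.mem_subgroupOf.1
        ((QuotientGroup.eq_one_iff (N := K₀.subgroupOf N) (⟨sA A, hnorm⟩ : N)).1 h))
      rw [← QuotientGroup.mk_pow, QuotientGroup.eq_one_iff, Subgroup.mem_subgroupOf, Subgroup.coe_pow, pow_two,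
        hsq]
      exact hC.neg
    apply hdvd
    refine dvd_trans ?_ (Subgroup.card_subgroup_dvd_card N)
    rw [← (K₀.subgroupOf N).card_mul_index, mul_comm 2,
      Nat.card_congr (Subgroup.subgroupOfEquivOfLe (Subgroup.le_normalizer (H := K₀))).toEquiv]
    refine Nat.mul_dvd_mul_left _ ?_
    rw [Subgroup.index_eq_card]
    exact dvd_trans (dvd_of_eq ho.symm) (orderOf_dvd_natCard _)
  have hiff : ∀ (A : Ell ν) (t : SL₂), (A : M₂) * (t : M₂) = -((t : M₂) * (A : M₂)) ↔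
      sA A * t = -(t * sA A) := by
    intro A t
    have e : ((sA A * t : SL₂) : M₂) = c⁻¹ • ((A : M₂) * (t : M₂)) := Matrix.smul_mul _ _ _
    have e' : ((-(t * sA A) : SL₂) : M₂) = c⁻¹ • (-((t : M₂) * (A : M₂))) := by
      rw [Matrix.SpecialLinearGroup.coe_neg, Matrix.SpecialLinearGroup.coe_mul]
      show -((t : M₂) * (c⁻¹ • (A : M₂))) = _
      rw [Matrix.mul_smul, smul_neg]
    exact ⟨fun h => Subtype.ext (by rw [e, e', h]),
      fun h => smul_right_injective M₂ (inv_ne_zero hc0) (e.symm.trans ((congrArg Subtype.val h).trans e'))⟩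
  have hdeg : ∀ A ∈ S, 4 ≤ Nat.card {t : K₀ // (t : SL₂) * t = -1 ∧
      (A : M₂) * ((t : SL₂) : M₂) = -(((t : SL₂) : M₂) * (A : M₂))} := by
    intro A hA
    set x : H[K₀] := ⟨proj (sA A), Subgroup.mem_map_of_mem _ (hmem A hA)⟩
    rw [card_lift h2 hC.neg _ (fun y => IsInv y ∧ Commute x y ∧ y ≠ x) fun t => ?_]
    · have := hd x ((isInv_coe _).1 ((sq_neg_one_iff h2 _).1 (hsq A)))
      omega
    rw [hiff, sq_neg_one_iff h2, ← isInv_coe (⟨proj (t : SL₂), Subgroup.mem_map_of_mem _ t.2⟩ : H[K₀])]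
    refine and_congr_right fun ht => ?_
    rw [anti_iff h2 (hsq A) ((sq_neg_one_iff h2 _).2 ht)]
    simp only [Commute, SemiconjBy, ne_eq, Subtype.ext_iff, Subgroup.coe_mul, x]
  have hE : Nat.card {p : S × K₀ // (p.2 : SL₂) * p.2 = -1 ∧
      ((p.1 : Ell ν) : M₂) * ((p.2 : SL₂) : M₂) = -(((p.2 : SL₂) : M₂) * ((p.1 : Ell ν) : M₂))} ≤ 4 * E := by
    refine le_trans ?_ (Nat.mul_le_mul_left 4 hpairs)
    rw [← card_lift_pairs h2 hC.neg
      (fun s t => (s : SL₂) * s = -1 ∧ (t : SL₂) * t = -1 ∧ (s : SL₂) * t = -((t : SL₂) * s))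
      (fun x y => IsInv x ∧ IsInv y ∧ Commute x y ∧ y ≠ x) fun s t => ?_]
    swap
    · rw [sq_neg_one_iff h2, sq_neg_one_iff h2,
        ← isInv_coe (⟨proj (s : SL₂), Subgroup.mem_map_of_mem _ s.2⟩ : H[K₀]),
        ← isInv_coe (⟨proj (t : SL₂), Subgroup.mem_map_of_mem _ t.2⟩ : H[K₀])]
      refine and_congr_right fun hs => and_congr_right fun ht => ?_
      rw [anti_iff h2 ((sq_neg_one_iff h2 _).2 hs) ((sq_neg_one_iff h2 _).2 ht)]
      simp only [Commute, SemiconjBy, ne_eq, Subtype.ext_iff, Subgroup.coe_mul]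
    refine Nat.card_le_card_of_injective (fun p => ⟨(⟨sA p.1.1, hmem _ p.1.1.2⟩, p.1.2),
      hsq _, p.2.1, (hiff _ _).1 p.2.2⟩) ?_
    rintro ⟨⟨A, t⟩, h1⟩ ⟨⟨A', t'⟩, h1'⟩ h
    simp only [Subtype.mk.injEq, Prod.mk.injEq] at h
    obtain ⟨hA, rfl⟩ := h
    refine Subtype.ext (Prod.ext (Subtype.ext (Subtype.ext ?_)) rfl)
    exact smul_right_injective M₂ (inv_ne_zero hc0) (congrArg Subtype.val hA)
  have h := pair_bound h2 hC hf hpair hn.le hdeg hE
  push_cast at h
  have hq' : (E : ℝ) < 4 * (Fintype.card F : ℝ) := by exact_mod_cast hEq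
  have := mul_lt_mul_of_pos_right hq' hn
  linarith

theorem inv_facts {G : Type*} [Group G] [Fintype G] [DecidableEq G] {H : Type*} [Group H] (i : H ≃* G) {E : ℕ}
    (hdeg : ∀ x : G, x * x = 1 → x ≠ 1 →
      2 ≤ Fintype.card {y : G // (y * y = 1 ∧ y ≠ 1) ∧ x * y = y * x ∧ y ≠ x})
    (hE : Fintype.card {p : G × G //
      (p.1 * p.1 = 1 ∧ p.1 ≠ 1) ∧ (p.2 * p.2 = 1 ∧ p.2 ≠ 1) ∧ p.1 * p.2 = p.2 * p.1 ∧ p.2 ≠ p.1} ≤ E) :
    (∀ x : H, IsInv x → 2 ≤ Nat.card {y : H // IsInv y ∧ Commute x y ∧ y ≠ x}) ∧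
      Nat.card {p : H × H // IsInv p.1 ∧ IsInv p.2 ∧ Commute p.1 p.2 ∧ p.2 ≠ p.1} ≤ E := by
  have hcomm : ∀ x y : H, Commute x y ↔ i x * i y = i y * i x := fun x y => by
    rw [← map_mul, ← map_mul, i.injective.eq_iff]
    rfl
  refine ⟨fun x hx => ?_, ?_⟩
  · rw [Nat.card_congr (i.toEquiv.subtypeEquiv
      (q := fun y => (y * y = 1 ∧ y ≠ 1) ∧ i x * y = y * i x ∧ y ≠ i x) fun y => ?_), Nat.card_eq_fintype_card]
    · exact hdeg _ ((isInv_map i x).2 hx).1 ((isInv_map i x).2 hx).2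
    show IsInv y ∧ _ ↔ IsInv (i y) ∧ _
    rw [isInv_map, hcomm]
    simp
  · rw [Nat.card_congr ((i.toEquiv.prodCongr i.toEquiv).subtypeEquiv
      (q := fun p : G × G =>
        (p.1 * p.1 = 1 ∧ p.1 ≠ 1) ∧ (p.2 * p.2 = 1 ∧ p.2 ≠ 1) ∧ p.1 * p.2 = p.2 * p.1 ∧ p.2 ≠ p.1)
      fun p => ?_), Nat.card_eq_fintype_card]
    · exact hE
    show IsInv p.1 ∧ IsInv p.2 ∧ _ ↔ IsInv (i p.1) ∧ IsInv (i p.2) ∧ _
    rw [isInv_map, isInv_map, hcomm]
    simp

/-- Elements of exponent `p` give noncentral elements of trace `± 2`. -/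
theorem u_ge {K₀ : Subgroup SL₂} (h2 : (2 : F) ≠ 0) (p : ℕ) [Fact p.Prime] [CharP F p] (hneg : (-1 : SL₂) ∈ K₀) {M : ℕ}
    (hM : M ≤ Nat.card {x : H[K₀] // x ^ p = 1 ∧ x ≠ 1}) :
    2 * M ≤ Nat.card {s : SL₂ // s ∈ K₀ ∧ ¬ IsCen s ∧ tr s ^ 2 = 4} := by
  refine (Nat.mul_le_mul_left 2 hM).trans ?_
  rw [← card_lift h2 hneg (fun s : K₀ => proj (s : SL₂) ^ p = 1 ∧ proj (s : SL₂) ≠ 1)
    (fun x => x ^ p = 1 ∧ x ≠ 1) fun s => by
      simp only [ne_eq, Subtype.ext_iff, Subgroup.coe_pow, Subgroup.coe_one]]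
  refine Nat.card_le_card_of_injective (fun s => ⟨s.1.1, s.1.2, fun h => s.2.2 ?_, ?_⟩) fun a b h =>
    Subtype.ext (Subtype.ext (congrArg (fun z : {s : SL₂ // _} => (z : SL₂)) h))
  · exact proj_one_iff.2 ((isCen_iff _).1 h)
  · exact (pow_eq_one_iff p fun h => s.2.2 (proj_one_iff.2 h)).1 s.2.1

set_option maxHeartbeats 1600000 in
open _root_.Classical in
/-- The sum over the members of a proper subgroup. -/
theorem sum_lt [Fintype (Ell ν)] (h2 : (2 : F) ≠ 0) (hν : ¬ IsSquare ν) (h5 : 5 ≤ Fintype.card F)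
    (hC : EllClosed K₀ S) (hK : K₀ ≠ ⊤) {f : Ell ν → ℝ} {n : ℝ} (hn : 0 < n) (hf : ∀ A, 0 ≤ f A)
    (hb : ∀ A ∈ S, f A ≤ n)
    (hpair : ∀ A ∈ S, ∀ B ∈ S, (A : M₂) * (B : M₂) = -((B : M₂) * (A : M₂)) → f A + f B ≤ n) :
    ∑ A ∈ Finset.univ.filter (fun A => A ∈ S), f A < 2 * (Fintype.card F : ℝ) * n := by
  set q := Fintype.card F with hq
  obtain ⟨p, hp⟩ := CharP.exists F
  obtain ⟨e, hpp, hqe⟩ := FiniteField.card F p
  rw [← hq] at hqe
  haveI : Fact p.Prime := ⟨hpp⟩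
  have hodd : q % 2 = 1 := FiniteField.odd_card_of_char_ne_two fun h => h2 (by
    haveI := ringChar.of_eq h
    exact_mod_cast CharP.cast_eq_zero F 2)
  have hN : (Nat.card SL₂ : ℤ) = (q : ℤ) * ((q : ℤ) ^ 2 - 1) := by
    rw [card_sl2_bruhat, Nat.cast_mul, Nat.cast_sub Fintype.card_pos]
    push_cast
    ring
  have hlt : Nat.card K₀ < Nat.card SL₂ :=
    lt_of_le_of_ne (Subgroup.card_le_card_group K₀) fun h => hK (Subgroup.eq_top_of_card_eq _ h)
  have hdvd : Nat.card K₀ ∣ Nat.card SL₂ := Subgroup.card_subgroup_dvd_card K₀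
  have hKH := card_eq_two_mul_image h2 hC.neg
  set H := H[K₀]
  have hpow : ∀ r : ℕ, r.Prime → q = r → p = r := fun r hr h => by
    rw [h] at hqe
    exact ((Nat.prime_dvd_prime_iff_eq hpp hr).1 (hqe ▸ dvd_pow_self p e.ne_zero))
  have h9p : q = 9 → p = 3 := fun h => by
    rw [h] at hqe
    exact (Nat.prime_dvd_prime_iff_eq hpp Nat.prime_three).1
      (hpp.dvd_of_dvd_pow (n := 2) (show p ∣ 3 ^ 2 by rw [show (3 : ℕ) ^ 2 = 9 from rfl, hqe]; exact dvd_pow_self p e.ne_zero))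
  have hsum : ∀ {u₀ : ℕ} (K : ℕ), u₀ ≤ Nat.card {s : SL₂ // s ∈ K₀ ∧ ¬ IsCen s ∧ tr s ^ 2 = 4} →
      Nat.card K₀ = K → (K : ℤ) * q ≤ 2 * ((q : ℤ) * ((q : ℤ) ^ 2 - 1)) →
      (K : ℤ) * (6 * (q : ℤ) ^ 2 - 8 * q + 2) <
        2 * ((q : ℤ) * ((q : ℤ) ^ 2 - 1)) * ((q : ℤ) + 1) + (K : ℤ) * K + ((q : ℤ) * ((q : ℤ) ^ 2 - 1) - K) * u₀ →
      ∑ A ∈ Finset.univ.filter (fun A => A ∈ S), f A < 2 * (q : ℝ) * n :=
    fun K hu hK' h1 h3 => sum_lt_of_card hb hn (card_lt_of_num h2 hν hC hu hK' h1 h3)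
  have hq5 : (5 : ℤ) ≤ q := by exact_mod_cast h5
  have htorus : Nat.card H ≤ q + 1 → ∑ A ∈ Finset.univ.filter (fun A => A ∈ S), f A < 2 * (q : ℝ) * n := by
    intro hle
    have hK2 : (Nat.card K₀ : ℤ) ≤ 2 * ((q : ℤ) + 1) := by exact_mod_cast (by omega)
    have hK0 : (0 : ℤ) ≤ Nat.card K₀ := Nat.cast_nonneg _
    refine hsum (u₀ := 0) (Nat.card K₀) (Nat.zero_le _) rfl ?_ ?_
    · nlinarith [mul_le_mul_of_nonneg_right hK2 (show (0 : ℤ) ≤ q by positivity)]
    · have h6 : 6 * (q : ℤ) ^ 2 - 8 * q + 2 < (q : ℤ) * ((q : ℤ) ^ 2 - 1) := by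
        nlinarith [mul_nonneg (sub_nonneg.2 hq5) (sq_nonneg ((q : ℤ) - 1))]
      have hp0 : 0 ≤ 6 * (q : ℤ) ^ 2 - 8 * q + 2 := by nlinarith
      nlinarith [mul_le_mul_of_nonneg_right hK2 hp0,
        mul_lt_mul_of_pos_left h6 (show (0 : ℤ) < 2 * ((q : ℤ) + 1) by linarith)]
  have halt : ∀ r : ℕ, q = r → Nat.card SL₂ = r * (r * r - 1) := fun r h => by
    subst h
    have h1 : 1 ≤ q * q := Nat.one_le_iff_ne_zero.2 (by positivity)
    have h' : ((Nat.card SL₂ : ℕ) : ℤ) = ((q * (q * q - 1) : ℕ) : ℤ) := by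
      rw [hN]
      push_cast [Nat.cast_sub h1]
      ring
    exact_mod_cast h'
  rw [hKH] at hdvd hlt
  cases dickson p H with
  | trivial h =>
    refine htorus ?_
    rw [h, Subgroup.card_bot]
    omega
  | cyclic a ha ha1 hap h =>
    refine htorus ?_
    have := Subgroup.card_le_of_le h
    have := two_card_tor_le p h2 ha1 hap
    omega
  | dihedral a ha ha1 hap hidx h iso =>
    refine htorus ?_
    have h1 := ((tor a).subgroupOf H).card_mul_index
    rw [hidx] at h1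
    have h3 : Nat.card ((tor a).subgroupOf H) ≤ Nat.card (tor a) :=
      Nat.card_le_card_of_injective (fun x => ⟨x.1.1, x.2⟩) fun x y e => Subtype.ext (Subtype.ext
        (congrArg (fun z : tor a => (z : PSL₂)) e))
    have := two_card_tor_le p h2 ha1 hap
    omega
  | borel a ha ha1 hap h =>
    rw [Finset.filter_false_of_mem fun A _ => empty_of_borel p hν hC ha ha1 hap h A, Finset.sum_empty]
    positivity
  | alt4 hc iso hdiv =>
    obtain ⟨i⟩ := iso
    by_cases hq7 : 7 ≤ q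
    · have hq7' : (7 : ℤ) ≤ q := by exact_mod_cast hq7
      refine hsum (u₀ := 0) 24 (Nat.zero_le _) (by omega) ?_ ?_ <;> push_cast
      · nlinarith
      · nlinarith [mul_nonneg (sub_nonneg.2 hq7') (sq_nonneg ((q : ℤ) + 1)),
          mul_nonneg (mul_nonneg (sub_nonneg.2 hq7') (sub_nonneg.2 hq7')) (show (0 : ℤ) ≤ q by positivity)]
    · exact sum_lt_five h2 hν (by omega) hC i hn hf hpair
  | perm4 hc iso hd =>
    obtain ⟨i⟩ := iso
    by_cases hq13 : 13 ≤ q
    · have hq13' : (13 : ℤ) ≤ q := by exact_mod_cast hq13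
      refine hsum (u₀ := 0) 48 (Nat.zero_le _) (by omega) ?_ ?_ <;> push_cast
      · nlinarith
      · nlinarith [mul_nonneg (sub_nonneg.2 hq13') (sq_nonneg ((q : ℤ) + 1)),
          mul_nonneg (mul_nonneg (sub_nonneg.2 hq13') (sub_nonneg.2 hq13')) (show (0 : ℤ) ≤ q by positivity)]
    · rcases (show q = 5 ∨ q = 7 ∨ q = 9 ∨ q = 11 by omega) with hq' | hq' | hq' | hq'
      · rw [hc, halt 5 hq'] at hdvd hlt
        first | done | (norm_num at hdvd; done) | norm_num at hlt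
      · have hsl : Nat.card SL₂ = 336 := by
          rw [halt 7 hq']
        obtain ⟨c, hc'⟩ : IsSquare (-ν) := by
          rcases isSquare_or_mul (δ := (-1 : F)) (fun h => (FiniteField.isSquare_neg_one_iff.1 h)
            (by rw [← hq, hq'])) ν with h | h
          · exact absurd h hν
          · rwa [neg_one_mul] at h
        obtain ⟨hdeg, hE⟩ := inv_facts i deg_inv_perm_four pairs_inv_perm_four
        exact sum_lt_square h2 hc' hν hC (by rw [hsl, hKH, hc]; norm_num) (by omega) hdeg hE hn hf hpair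
      · exfalso
        obtain rfl := h9p hq'
        exact hd (by rw [hc]; norm_num)
      · rw [hc, halt 11 hq'] at hdvd hlt
        first | done | (norm_num at hdvd; done) | norm_num at hlt
  | alt5 hc iso hdiv =>
    obtain ⟨i⟩ := iso
    by_cases hq19 : 19 ≤ q
    · have hq19' : (19 : ℤ) ≤ q := by exact_mod_cast hq19
      refine hsum (u₀ := 0) 120 (Nat.zero_le _) (by omega) ?_ ?_ <;> push_cast
      · nlinarith
      · nlinarith [mul_nonneg (sub_nonneg.2 hq19') (sq_nonneg ((q : ℤ) + 1)),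
          mul_nonneg (mul_nonneg (sub_nonneg.2 hq19') (sub_nonneg.2 hq19')) (show (0 : ℤ) ≤ q by positivity)]
    · rcases (show q = 5 ∨ q = 7 ∨ q = 9 ∨ q = 11 ∨ q = 13 ∨ q = 15 ∨ q = 17 by omega) with
        hq' | hq' | hq' | hq' | hq' | hq' | hq'
      · rw [hc, halt 5 hq'] at hdvd hlt
        first | done | (norm_num at hdvd; done) | norm_num at hlt
      · rw [hc, halt 7 hq'] at hdvd hlt
        first | done | (norm_num at hdvd; done) | norm_num at hlt
      · obtain rfl := h9p hq'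
        have hM : 20 ≤ Nat.card {x : H // x ^ 3 = 1 ∧ x ≠ 1} := by
          rw [Nat.card_congr (i.toEquiv.subtypeEquiv (q := fun y => y ^ 3 = 1 ∧ y ≠ 1) fun x => by
            show _ ↔ (i x) ^ 3 = 1 ∧ i x ≠ 1
            rw [← map_pow, map_eq_one_iff _ i.injective, Ne, Ne, map_eq_one_iff _ i.injective]),
            Nat.card_eq_fintype_card]
          exact three_alt_five
        refine hsum 120 (u_ge h2 3 hC.neg hM) (by omega) ?_ ?_ <;> rw [hq'] <;> norm_num
      · have hsl : Nat.card SL₂ = 1320 := by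
          rw [halt 11 hq']
        obtain ⟨c, hc'⟩ : IsSquare (-ν) := by
          rcases isSquare_or_mul (δ := (-1 : F)) (fun h => (FiniteField.isSquare_neg_one_iff.1 h)
            (by rw [← hq, hq'])) ν with h | h
          · exact absurd h hν
          · rwa [neg_one_mul] at h
        obtain ⟨hdeg, hE⟩ := inv_facts i deg_inv_alt_five pairs_inv_alt_five
        exact sum_lt_square h2 hc' hν hC (by rw [hsl, hKH, hc]; norm_num) (by omega) hdeg hE hn hf hpair
      · rw [hc, halt 13 hq'] at hdvd hlt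
        first | done | (norm_num at hdvd; done) | norm_num at hlt
      · exfalso
        rw [hq'] at hqe
        have h15 : p ∣ 15 := hqe ▸ dvd_pow_self p e.ne_zero
        have hp15 : p ≤ 15 := Nat.le_of_dvd (by norm_num) h15
        have he : (e : ℕ) ≤ 3 := by
          by_contra h
          have := Nat.pow_le_pow_left hpp.two_le (e : ℕ)
          have := Nat.pow_le_pow_right (show 0 < 2 by norm_num) (show 4 ≤ (e : ℕ) by omega)
          omega
        interval_cases p <;> first | (norm_num at hpp; done) | (norm_num at h15; done) | (interval_cases (e : ℕ) <;> norm_num at hqe)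
      · rw [hc, halt 17 hq'] at hdvd hlt
        first | done | (norm_num at hdvd; done) | norm_num at hlt
  | subfield h =>
    obtain ⟨K, hF, hFi, m, h3, hm, hiso⟩ := SubfieldType.nonempty h
    rw [← hq] at hm
    haveI : CharP K p := charP_model p hm
    set k := Fintype.card K with hk
    have hkodd : k % 2 = 1 := by
      rcases Nat.eq_zero_or_pos m with rfl | hm'
      · rw [pow_zero] at hm; omega
      · have h1 : Odd (k ^ m) := by rw [hm]; exact Nat.odd_iff.2 hodd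
        exact Nat.odd_iff.1 ((Nat.odd_pow_iff hm'.ne').1 h1)
    have hpsl : 2 * Nat.card (Matrix.ProjectiveSpecialLinearGroup (Fin 2) K) = k * ((k - 1) * (k + 1)) := by
      have h := card_psl (F := K)
      rcases del_cases K with ⟨hd', hev⟩ | ⟨hd', -⟩
      · exact absurd hev (Nat.not_even_iff_odd.2 (Nat.odd_iff.2 hkodd))
      · rw [hd', ← hk] at h
        omega
    have hH : 2 * Nat.card H = k * ((k - 1) * (k + 1)) ∨ Nat.card H = k * ((k - 1) * (k + 1)) := by
      rcases hiso with ⟨⟨j⟩⟩ | ⟨⟨j⟩⟩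
      · exact Or.inl (by rw [Nat.card_congr j.toEquiv, hpsl])
      · exact Or.inr (by rw [Nat.card_congr j.toEquiv, card_pgl])
    set P := k * ((k - 1) * (k + 1)) with hP
    have hPz : (P : ℤ) = (k : ℤ) * ((k : ℤ) ^ 2 - 1) := by
      rw [hP, Nat.cast_mul, Nat.cast_mul, Nat.cast_sub (show 1 ≤ k by omega)]
      push_cast
      ring
    have hm2 : 2 ≤ m := by
      by_contra hlt'
      rcases (show m = 0 ∨ m = 1 by omega) with rfl | rfl
      · rw [pow_zero] at hm; omega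
      · rw [pow_one] at hm
        have hh : (P : ℤ) = Nat.card SL₂ := by rw [hPz, hN, hm]
        omega
    have hk2 : k ^ 2 ≤ q := hm ▸ Nat.pow_le_pow_right (by omega) hm2
    by_cases h6 : 6 * k ≤ q
    · have hKle : (Nat.card K₀ : ℤ) ≤ 2 * ((k : ℤ) * ((q : ℤ) - 1)) := by
        have hh : (Nat.card K₀ : ℤ) ≤ 2 * (P : ℤ) := by exact_mod_cast (by omega)
        have hk2' : ((k : ℤ) ^ 2) ≤ q := by exact_mod_cast hk2
        have := mul_le_mul_of_nonneg_left (sub_le_sub_right hk2' 1) (show (0 : ℤ) ≤ k by positivity)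
        linarith
      have h6' : 6 * (k : ℤ) ≤ q := by exact_mod_cast h6
      have hK0 : (0 : ℤ) ≤ Nat.card K₀ := Nat.cast_nonneg _
      have hq0 : (0 : ℤ) ≤ q := by positivity
      refine hsum (u₀ := 0) (Nat.card K₀) (Nat.zero_le _) rfl ?_ ?_
      · have h1 := mul_le_mul_of_nonneg_right hKle hq0
        have h2' : (k : ℤ) * ((q : ℤ) - 1) * q ≤ (q : ℤ) * ((q : ℤ) ^ 2 - 1) := by
          nlinarith [mul_nonneg (mul_nonneg hq0 (show (0 : ℤ) ≤ (q : ℤ) - 1 by linarith))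
            (show (0 : ℤ) ≤ (q : ℤ) + 1 - k by linarith)]
        linarith
      · have hp0 : 0 ≤ 6 * (q : ℤ) ^ 2 - 8 * q + 2 := by nlinarith
        have h1 := mul_le_mul_of_nonneg_right hKle hp0
        have h3' : (k : ℤ) * ((q : ℤ) - 1) * (6 * (q : ℤ) ^ 2 - 8 * q + 2) ≤
            (q : ℤ) * ((q : ℤ) ^ 2 - 1) * q := by
          have hk0 : (0 : ℤ) ≤ (k : ℤ) * ((q : ℤ) - 1) := mul_nonneg (by positivity) (by linarith)
          have h4 := mul_le_mul_of_nonneg_left (show 6 * (q : ℤ) ^ 2 - 8 * q + 2 ≤ 6 * (q : ℤ) ^ 2 by linarith) hk0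
          have h5' := mul_le_mul_of_nonneg_right h6' (mul_nonneg (mul_nonneg hq0 hq0) (show (0 : ℤ) ≤ (q : ℤ) - 1 by linarith))
          nlinarith
        have hpos : 0 < (q : ℤ) * ((q : ℤ) ^ 2 - 1) := by
          refine mul_pos (by linarith) ?_
          nlinarith
        nlinarith [mul_nonneg hK0 hK0]
    · have hkq : k ≤ 5 := by nlinarith
      have hk5 : k = 3 ∨ k = 5 := by omega
      have hm3 : m = 2 := by
        by_contra hne
        have := Nat.pow_le_pow_right (show 0 < k by omega) (show 3 ≤ m by omega)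
        rw [hm] at this
        rcases hk5 with hk' | hk' <;> rw [hk'] at this h6 <;> norm_num at this <;> omega
      subst hm3
      rcases hk5 with hk' | hk'
      · have hq' : q = 9 := by rw [← hm, hk']; rfl
        have hp3 := h9p hq'
        rcases hH with hH | hH <;> rw [hP, hk'] at hH <;> norm_num [-Nat.card_eq_fintype_card] at hH
        · refine hsum (u₀ := 0) 24 (Nat.zero_le _) (by omega) ?_ ?_ <;> rw [hq'] <;> norm_num
        · obtain rfl := hp3
          rcases hiso with ⟨⟨j⟩⟩ | ⟨⟨j⟩⟩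
          · exfalso
            have := Nat.card_congr j.toEquiv
            rw [hP, hk'] at hpsl
            norm_num [-Nat.card_eq_fintype_card] at hpsl
            omega
          have hK2 : (2 : K) ≠ 0 := fun h0 => by
            have h2' : ((2 : ℕ) : K) = 0 := by exact_mod_cast h0
            rw [CharP.cast_eq_zero_iff K 3] at h2'
            omega
          have h3K : (3 : K) = 0 := by exact_mod_cast CharP.cast_eq_zero K 3
          let v : Fin 3 → Matrix.SpecialLinearGroup (Fin 2) K := ![up 1, up (-1), low 1]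
          have hv : ∀ a, tr (v a) = 2 := by
            intro a; fin_cases a <;> simp [v, tr, up, low] <;> norm_num
          have hv1 : ∀ a, v a ≠ 1 := by
            intro a h
            have h' := congrArg (fun m : Matrix.SpecialLinearGroup (Fin 2) K =>
              ((m : Matrix (Fin 2) (Fin 2) K) 0 1, (m : Matrix (Fin 2) (Fin 2) K) 1 0)) h
            fin_cases a <;> simp [v, up, low] at h' 
          have hvi : Function.Injective v := by
            intro a b h
            have h' := congrArg (fun m : Matrix.SpecialLinearGroup (Fin 2) K =>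
              ((m : Matrix (Fin 2) (Fin 2) K) 0 1, (m : Matrix (Fin 2) (Fin 2) K) 1 0)) h
            fin_cases a <;> fin_cases b <;> first
              | rfl
              | (exfalso; simp [v, up, low] at h'; done)
              | (exfalso; simp [v, up, low] at h'; exact hK2 (by linear_combination h'))
              | (exfalso; simp [v, up, low] at h'; exact hK2 (by linear_combination -h'))
          let V : Fin 3 → H := fun a => j.symm (Matrix.ProjectiveSpecialLinearGroup.toPGL (proj (v a)))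
          have hV : Function.Injective V := fun a b h => hvi (proj_injOn_unip hK2 (hv a) (hv b)
            (Matrix.ProjectiveSpecialLinearGroup.toPGL_injective (j.symm.injective h)))
          have hM : 3 ≤ Nat.card {x : H // x ^ 3 = 1 ∧ x ≠ 1} := by
            refine le_trans (le_of_eq (by simp)) (Nat.card_le_card_of_injective
              (fun a : Fin 3 => (⟨V a, ?_, ?_⟩ : {x : H // x ^ 3 = 1 ∧ x ≠ 1})) fun a b h => hV (congrArg Subtype.val h))
            · rw [← map_pow, ← map_pow, pow_eq_one_of_tr 3 (by rw [hv a]; norm_num), map_one, map_one]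
            · rw [map_ne_one_iff _ j.symm.injective, map_ne_one_iff _ Matrix.ProjectiveSpecialLinearGroup.toPGL_injective]
              exact fun h => hv1 a (isScalar_unip hK2 (hv a) (proj_one_iff.1 h))
          refine hsum 48 (u_ge h2 3 hC.neg hM) (by omega) ?_ ?_ <;> rw [hq'] <;> norm_num
      · have hq' : q = 25 := by rw [← hm, hk']; rfl
        rcases hH with hH | hH <;> rw [hP, hk'] at hH <;> norm_num [-Nat.card_eq_fintype_card] at hH
        · refine hsum (u₀ := 0) 120 (Nat.zero_le _) (by omega) ?_ ?_ <;> rw [hq'] <;> norm_num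
        · refine hsum (u₀ := 0) 240 (Nat.zero_le _) (by omega) ?_ ?_ <;> rw [hq'] <;> norm_num

end Cfsg.Agent.Invol.AbgOrder
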