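import Cfsg.Agent.Lib.Invol.AbgOrder.BudgetUFixed
import Cfsg.Agent.Lib.Invol.AbgOrder.BudgetUCases
import Cfsg.Agent.Lib.Block.RelGalAux
import Cfsg.Agent.Lib.Char.ExtendMain
import Mathlib.GroupTheory.Sylow

/-!
# `2`-parts divide the multiplicities

A nontrivial constituent extends to the preimage of a `2`-subgroup of its stabiliser; the character vanishes against
it on the elements with a root of `z` among their powers, so the order of the `2`-subgroup modulo `z` divides the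
multiplicity.
-/

set_option autoImplicit false
set_option linter.unusedSectionVars false
set_option linter.style.haveILetI false

namespace Cfsg.Agent.Invol.AbgOrder

open Cfsg Cfsg.Agent.Char Cfsg.Agent.Char.CycGlaub Matrix
open Cfsg.Agent.Grp.SL2 Cfsg.Agent.PSL2Spec Cfsg.Agent.Dickson
open scoped ComplexConjugate

universe u v t

/-- In a `2`-subgroup, the square of an element of order at least four has the involution among its powers. -/
theorem root_of_two_group {Γ : Type*} [Group Γ] {d z : Γ} {j : ℕ} (hd : d ^ 2 ^ j = 1) (hd2 : d * d ≠ 1)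
    (h : ∀ x ∈ Subgroup.zpowers (d * d), x * x = 1 → x ≠ 1 → x = z) : ∃ k : ℕ, d ^ (2 * k) = z := by
  obtain ⟨i, -, hi⟩ := (Nat.dvd_prime_pow Nat.prime_two).1
    (orderOf_dvd_of_pow_eq_one (show (d * d) ^ 2 ^ j = 1 by rw [← sq, ← pow_mul, mul_comm, pow_mul, hd, one_pow]))
  obtain ⟨i, rfl⟩ : ∃ i', i = i' + 1 := Nat.exists_eq_succ_of_ne_zero fun h0 => hd2 (by
    rw [h0, pow_zero] at hi
    exact orderOf_eq_one_iff.1 hi)
  refine ⟨2 ^ i, ?_⟩
  rw [pow_mul, pow_two]
  refine h _ (Subgroup.pow_mem _ (Subgroup.mem_zpowers _) _) ?_ fun h1 => ?_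
  · rw [← pow_add, show 2 ^ i + 2 ^ i = 2 ^ (i + 1) by rw [pow_succ]; ring, ← hi, pow_orderOf_eq_one]
  · have := orderOf_le_of_pow_eq_one (pow_pos two_pos i) h1
    rw [hi, pow_succ] at this
    have := pow_pos (show (0 : ℕ) < 2 by norm_num) i
    omega

namespace UData

variable {C : Type u} [Group C] [Fintype C] {X : Type v} [Group X] {F : Type t} [Field F] [Fintype F]
  (B : UData C X F) [Fintype B.O]

local notation "SL₂" => Matrix.SpecialLinearGroup (Fin 2) F
local notation "M₂" => Matrix (Fin 2) (Fin 2) F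

open _root_.Classical in
/-- A `2`-subgroup of the stabiliser, given the vanishing off `1` and `z`. -/
theorem dvd_of_roots [Fintype B.R] [Fintype B.Gw] {θ : IrrCharacter B.O} (h1 : (θ : B.O → ℂ) ≠ fun _ => 1)
    (D : Subgroup X) (hz : B.σ B.z ∈ D) (hD : D ≤ (inertia B.O (θ : B.O → ℂ)).map B.σ) {k : ℕ}
    (hk : Nat.card D = 2 ^ (k + 1))
    (hroot : ∀ d ∈ D, d ≠ 1 → d ≠ B.σ B.z → (∃ m : ℕ, d ^ (2 * m) = B.σ B.z) ∨
      ∀ (P : Subgroup C) (hP : B.O ≤ P) (η : P → ℂ) (g : P), B.σ (g : C) = d → P = D.comap B.σ →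
        IsIrrCharacter P η → (∀ o : B.O, η ⟨o, hP o.2⟩ = (θ : B.O → ℂ) o) →
        ∑ o : B.O, B.χp ((o : C) * g) * conj (η (⟨o, hP o.2⟩ * g)) = 0) :
    2 ^ k ∣ B.n θ := by
  haveI : Finite X := Finite.of_surjective _ B.surj
  haveI : Fintype D := Fintype.ofFinite _
  set P := D.comap B.σ with hPdef
  have hOP : B.O ≤ P := fun o ho => by
    show B.σ o ∈ D
    rw [MonoidHom.mem_ker.1 ho]
    exact one_mem _
  haveI : Fintype P := Fintype.ofFinite _
  let zP : P := ⟨B.z, hz⟩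
  set Z := Subgroup.zpowers zP
  haveI hZn : Z.Normal := ⟨fun x hx g => by
    obtain ⟨m, rfl⟩ := Subgroup.mem_zpowers_iff.1 hx
    rw [((show Commute g zP from Subtype.ext (B.z_central g)).zpow_right m).eq, mul_inv_cancel_right]
    exact hx⟩
  let π : P →* P ⧸ Z := QuotientGroup.mk' Z
  have hπs : Function.Surjective π := QuotientGroup.mk'_surjective _
  haveI : Fintype (P ⧸ Z) := Fintype.ofFinite _
  let iO : B.O →* P ⧸ Z := π.comp (Subgroup.inclusion hOP)
  have hiO : Function.Injective iO := by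
    rw [injective_iff_map_eq_one]
    intro o ho
    obtain ⟨m, hm⟩ := Subgroup.mem_zpowers_iff.1 ((QuotientGroup.eq_one_iff (N := Z) (Subgroup.inclusion hOP o)).1 ho)
    have hm' : B.z ^ m = (o : C) := by
      have := congrArg Subtype.val hm
      simpa [zP, Subgroup.coe_zpow] using this
    refine Subtype.ext ?_
    show (o : C) = 1
    rw [← orderOf_eq_one_iff]
    exact Nat.eq_one_of_dvd_coprimes (Nat.coprime_two_right.2 (B.odd_of_ker o.2)) dvd_rfl (orderOf_dvd_of_pow_eq_one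
      (by rw [← hm', ← zpow_natCast, ← _root_.zpow_mul, mul_comm, _root_.zpow_mul, zpow_natCast, pow_two, B.z2,
        _root_.one_zpow]))
  let e : B.O ≃* iO.range := MonoidHom.ofInjective hiO
  haveI hNn : iO.range.Normal := ⟨by
    rintro _ ⟨o, rfl⟩ q
    obtain ⟨p, rfl⟩ := hπs q
    refine ⟨⟨(p : C) * o * (p : C)⁻¹, (inferInstance : B.O.Normal).conj_mem _ o.2 _⟩, ?_⟩
    show π _ = π p * π _ * (π p)⁻¹
    rw [← map_inv, ← map_mul, ← map_mul]
    exact congrArg π (Subtype.ext rfl)⟩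
  haveI : Fintype iO.range := Fintype.ofFinite _
  let θN : iO.range → ℂ := fun n => (θ : B.O → ℂ) (e.symm n)
  have hθN : IsIrrCharacter iO.range θN := IsIrr.comp_mulEquiv e.symm θ.2
  have hinv : ∀ (q : P ⧸ Z) (n : iO.range), θN ⟨q * n * q⁻¹, hNn.conj_mem (n : P ⧸ Z) n.2 q⟩ = θN n := by
    intro q n
    obtain ⟨p, rfl⟩ := hπs q
    obtain ⟨o, rfl⟩ := e.surjective n
    have hfix : Char.conjN B.O (p : C) (θ : B.O → ℂ) = (θ : B.O → ℂ) :=
      (B.mem_map_inertia (IsIrr.classFun θ.2) rfl).1 (hD p.2)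
    simp only [θN, MulEquiv.symm_apply_apply]
    conv_rhs => rw [← congrFun hfix o, conjN_apply]
    refine congrArg (θ : B.O → ℂ) ?_
    rw [MulEquiv.symm_apply_eq]
    refine Subtype.ext ?_
    show π p * π _ * (π p)⁻¹ = π _
    rw [← map_inv, ← map_mul, ← map_mul]
    exact congrArg π (Subtype.ext rfl)
  -- the index
  have hcP : Nat.card P = Nat.card B.O * 2 ^ (k + 1) := by
    let f : P →* D := (B.σ.comp P.subtype).codRestrict D fun p => p.2
    have hf : Function.Surjective f := fun d => by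
      obtain ⟨c, hc⟩ := B.surj (d : X)
      exact ⟨⟨c, show B.σ c ∈ D from hc ▸ d.2⟩, Subtype.ext hc⟩
    have hker : f.ker = B.O.subgroupOf P := by
      ext p
      rw [MonoidHom.mem_ker, Subgroup.mem_subgroupOf, MonoidHom.mem_ker]
      exact ⟨fun h => congrArg Subtype.val h, fun h => Subtype.ext h⟩
    rw [← f.ker.card_mul_index, Subgroup.index_ker, MonoidHom.range_eq_top.2 hf, Subgroup.card_top, hk, hker,
      Nat.card_congr (Subgroup.subgroupOfEquivOfLe hOP).toEquiv]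
  have hidx : iO.range.index = 2 ^ k := by
    have h1 := iO.range.index_mul_card
    rw [← Nat.card_congr e.toEquiv] at h1
    have h2 := Z.card_mul_index
    rw [Subgroup.index_eq_card Z, Nat.card_zpowers, ← Subgroup.orderOf_coe zP, show ((zP : P) : C) = B.z from rfl,
      orderOf_eq_prime (by rw [pow_two, B.z2]) B.z_ne, hcP, ← h1, pow_succ] at h2
    refine Nat.eq_of_mul_eq_mul_left (show 0 < 2 * Nat.card B.O by have := Nat.card_pos (α := B.O); omega) ?_
    linarith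
  obtain ⟨d, -, hd⟩ := IsIrr.one_eq_pos hθN
  have hcop : Nat.Coprime iO.range.index (orderOf (detChar θN) * d) := by
    rw [hidx]
    refine Nat.Coprime.pow_left _ (Nat.coprime_two_left.2 ?_)
    have hodd : Odd (Nat.card iO.range) := by rw [← Nat.card_congr e.toEquiv]; exact B.ker_odd
    obtain ⟨δ, hδ⟩ := isCharacter_detChar hθN
    refine (hodd.of_dvd_nat (orderOf_dvd_of_pow_eq_one ?_)).mul
      (hodd.of_dvd_nat (IsIrr.degree_dvd_card hθN hd))
    funext n
    rw [Pi.pow_apply, hδ, Pi.one_apply, ← Units.val_pow_eq_pow_val, ← map_pow, pow_card_eq_one', map_one,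
      Units.val_one]
  obtain ⟨ζ, hζ, hζres⟩ := Ext.exists_extension_of_witness hθN hinv hd fun p hp => Ext.witness_of_coprime hθN hcop hp
  set η : P → ℂ := fun p => ζ (π p) with hη
  have hηirr : IsIrrCharacter P η := IsIrr.comp_surjective π hπs hζ
  have hηres : ∀ o : B.O, η ⟨o, hOP o.2⟩ = (θ : B.O → ℂ) o := fun o => by
    have := hζres (e o)
    rw [show θN (e o) = (θ : B.O → ℂ) o by simp [θN]] at this
    exact this
  have hηz : ∀ p : P, η (zP * p) = η p := fun p => by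
    show ζ (π (zP * p)) = ζ (π p)
    rw [map_mul, show π zP = 1 from (QuotientGroup.eq_one_iff _).2 (Subgroup.mem_zpowers _), one_mul]
  -- the fibres
  haveI : (B.O.subgroupOf P).Normal := Subgroup.Normal.subgroupOf inferInstance _
  haveI : Fintype (B.O.subgroupOf P) := Fintype.ofFinite _
  have hlift : ∀ d : D, ∃ g : P, B.σ (g : C) = d ∧ ((d : X) = 1 → g = 1) ∧ ((d : X) = B.σ B.z → g = zP) := by
    intro d
    by_cases h1' : (d : X) = 1
    · exact ⟨1, by simp [h1'], fun _ => rfl, fun h => absurd (h.symm.trans h1') B.σz_ne⟩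
    by_cases h2' : (d : X) = B.σ B.z
    · exact ⟨zP, h2'.symm, fun h => absurd h h1', fun _ => rfl⟩
    obtain ⟨c, hc⟩ := B.surj (d : X)
    exact ⟨⟨c, show B.σ c ∈ D from hc ▸ d.2⟩, hc, fun h => absurd h h1', fun h => absurd h h2'⟩
  choose g hg hg1 hgz using hlift
  let Φ : D × B.O → P := fun x => ⟨x.2, hOP x.2.2⟩ * g x.1
  have hΦ : Function.Bijective Φ := by
    refine ⟨fun a b hab => ?_, fun p => ?_⟩
    · have h' := congrArg (fun p : P => B.σ (p : C)) hab
      simp only [Φ, Subgroup.coe_mul, map_mul, hg, MonoidHom.mem_ker.1 a.2.2, MonoidHom.mem_ker.1 b.2.2, one_mul] at h'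
      have he : a.1 = b.1 := Subtype.ext h'
      refine Prod.ext he (Subtype.ext ?_)
      have h'' := congrArg Subtype.val hab
      simp only [Φ, he, Subgroup.coe_mul] at h''
      exact mul_right_cancel h''
    · refine ⟨(⟨B.σ p, p.2⟩, ⟨(p : C) * (g ⟨B.σ p, p.2⟩ : C)⁻¹, ?_⟩), Subtype.ext ?_⟩
      · rw [MonoidHom.mem_ker, map_mul, map_inv, hg, mul_inv_cancel]
      · show (p : C) * (g _ : C)⁻¹ * (g _ : C) = p
        rw [inv_mul_cancel_right]
  obtain ⟨m, hm⟩ := IsChar.classInner_nat (IsChar.res B.isChar_χp P) (IsIrr.isCharacter hηirr)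
  rw [classInner, inv_mul_eq_iff_eq_mul₀ (Nat.cast_ne_zero.2 Nat.card_pos.ne'), ← hΦ.sum_comp,
    Fintype.sum_prod_type] at hm
  have hn : ∀ o : B.O, B.χp o * conj (η ⟨o, hOP o.2⟩) = B.χp o * conj ((θ : B.O → ℂ) o) := fun o => by rw [hηres]
  have hsum : ∑ o : B.O, B.χp o * conj ((θ : B.O → ℂ) o) = (Nat.card B.O : ℂ) * B.n θ := by
    rw [← B.n_spec, classInner, mul_inv_cancel_left₀ (Nat.cast_ne_zero.2 Nat.card_pos.ne')]
  let one' : D := 1
  let z' : D := ⟨B.σ B.z, hz⟩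
  have hne : one' ≠ z' := fun h => B.σz_ne (congrArg Subtype.val h).symm
  rw [Fintype.sum_eq_add one' z' hne fun d hd => ?_] at hm
  swap
  · have hd1 : (d : X) ≠ 1 := fun h => hd.1 (Subtype.ext h)
    have hdz : (d : X) ≠ B.σ B.z := fun h => hd.2 (Subtype.ext h)
    rcases hroot d d.2 hd1 hdz with ⟨i, hi⟩ | hzero
    swap
    · exact hzero P hOP η (g d) (hg d) rfl hηirr hηres
    have hr : ∃ i : ℕ, B.σ (g d : C) ^ (2 * i) = B.σ B.z := ⟨i, by rw [hg]; exact hi⟩
    show ∑ o : B.O, B.χp ((o : C) * g d) * conj (η (⟨o, hOP o.2⟩ * g d)) = 0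
    simp only [fun o : B.O => B.χp_root hr o.2, ← Finset.mul_sum, ← map_sum]
    have havg : Char.avgN (B.O.subgroupOf P) η (g d) =
        (Nat.card B.O : ℂ)⁻¹ * ∑ o : B.O, η (⟨o, hOP o.2⟩ * g d) := by
      show (Nat.card (B.O.subgroupOf P) : ℂ)⁻¹ * _ = _
      rw [Nat.card_congr (Subgroup.subgroupOfEquivOfLe hOP).toEquiv]
      congr 1
      exact Fintype.sum_equiv (Subgroup.subgroupOfEquivOfLe hOP).toEquiv _ _ fun o => rfl
    rcases avgN_irr (B.O.subgroupOf P) hηirr with ⟨-, e'⟩ | ⟨hker, -⟩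
    · rw [e', Pi.zero_apply, eq_comm, mul_eq_zero] at havg
      rw [havg.resolve_left (inv_ne_zero (Nat.cast_ne_zero.2 Nat.card_pos.ne')), map_zero, mul_zero]
    · exfalso
      apply h1
      have hval : ∀ o : B.O, (θ : B.O → ℂ) o = η 1 := fun o => by
        rw [← hηres]
        exact hker ⟨⟨o, hOP o.2⟩, o.2⟩
      have hn' := classInner_self_irr θ.2
      rw [classInner] at hn'
      simp only [hval, Finset.sum_const, Finset.card_univ, nsmul_eq_mul, ← Nat.card_eq_fintype_card] at hn'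
      rw [inv_mul_cancel_left₀ (Nat.cast_ne_zero.2 Nat.card_pos.ne' : (Nat.card B.O : ℂ) ≠ 0)] at hn'
      obtain ⟨d', hd', hd1'⟩ := IsIrr.one_eq_pos hηirr
      rw [hd1', map_natCast] at hn'
      have : d' = 1 := Nat.eq_one_of_mul_eq_one_left (show d' * d' = 1 by exact_mod_cast hn')
      funext o
      rw [hval, hd1', this, Nat.cast_one]
  have e1 : ∑ o : B.O, B.χp (Φ (one', o) : C) * conj (η (Φ (one', o))) = (Nat.card B.O : ℂ) * B.n θ := by
    rw [← hsum]
    refine Finset.sum_congr rfl fun o _ => ?_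
    rw [← hn, show Φ (one', o) = ⟨o, hOP o.2⟩ by simp only [Φ]; rw [hg1 one' rfl, mul_one]]
  have ez : ∑ o : B.O, B.χp (Φ (z', o) : C) * conj (η (Φ (z', o))) = (Nat.card B.O : ℂ) * B.n θ := by
    rw [← hsum]
    refine Finset.sum_congr rfl fun o _ => ?_
    rw [← hn, show Φ (z', o) = zP * ⟨o, hOP o.2⟩ by
      simp only [Φ]; rw [hgz z' rfl]; exact Subtype.ext (B.z_central _), hηz, Subgroup.coe_mul,
      show ((zP : P) : C) = B.z from rfl, B.χp_z]
  rw [e1, ez, hcP] at hm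
  refine ⟨m, ?_⟩
  have h' : 2 * (Nat.card B.O * B.n θ) = Nat.card B.O * 2 ^ (k + 1) * m := by
    rw [← two_mul] at hm
    exact_mod_cast hm
  refine Nat.eq_of_mul_eq_mul_left (show 0 < 2 * Nat.card B.O by have := Nat.card_pos (α := B.O); omega) ?_
  rw [pow_succ] at h'
  linarith

variable [Fintype B.R] [Fintype B.Gw]

/-- The `2`-part of the stabiliser modulo `± 1` divides the multiplicity. -/
theorem two_part_dvd {θ : IrrCharacter B.O} (h1 : (θ : B.O → ℂ) ≠ fun _ => 1) {k : ℕ}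
    (hk : 2 ^ k ∣ Nat.card ((B.K0 (θ : B.O → ℂ)).map (proj (F := F)))) : 2 ^ k ∣ B.n θ := by
  haveI : Fact (Nat.Prime 2) := ⟨Nat.prime_two⟩
  have hneg := B.neg_one_mem_K0 (IsIrr.classFun θ.2)
  have hdvd : 2 ^ (k + 1) ∣ Nat.card (B.K0 (θ : B.O → ℂ)) := by
    rw [card_eq_two_mul_image B.char2 hneg, pow_succ']
    exact mul_dvd_mul_left 2 hk
  obtain ⟨E, hE⟩ := Sylow.exists_subgroup_card_pow_prime 2 hdvd
  set E' : Subgroup SL₂ := E.map (B.K0 (θ : B.O → ℂ)).subtype
  have hE' : Nat.card E' = 2 ^ (k + 1) := by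
    rw [Subgroup.card_map_of_injective (Subgroup.subtype_injective _), hE]
  have hinv : ∀ x : SL₂, x * x = 1 → x ≠ 1 → x = -1 := fun x hx hx1 =>
    (mul_self_eq_one B.char2 hx).resolve_left hx1
  have hz : B.σ B.z ∈ E'.map B.ι := by
    obtain ⟨x, hx⟩ := exists_prime_orderOf_dvd_card' (G := E') 2 (by rw [hE', pow_succ]; exact Dvd.intro_left _ rfl)
    refine ⟨(x : SL₂), x.2, ?_⟩
    have h2 : (x : SL₂) * (x : SL₂) = 1 := by
      have h := pow_orderOf_eq_one (x : SL₂)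
      rwa [Subgroup.orderOf_coe, hx, pow_two] at h
    rw [hinv _ h2 fun h => by rw [← Subgroup.orderOf_coe, h, orderOf_one] at hx; omega, B.gz]
  refine B.dvd_of_roots h1 (E'.map B.ι) hz ?_ (by rw [Subgroup.card_map_of_injective B.ι_inj, hE']) ?_
  · rintro _ ⟨s, ⟨s', -, rfl⟩, rfl⟩
    exact s'.2
  · rintro _ ⟨s, hs, rfl⟩ hs1 hsz
    refine Or.inl ?_
    have hpow : s ^ 2 ^ (k + 1) = 1 := orderOf_dvd_iff_pow_eq_one.1 (hE' ▸ E'.orderOf_dvd_natCard hs)
    have hss : s * s ≠ 1 := fun h => by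
      by_cases h' : s = 1
      · exact hs1 (by rw [h', map_one])
      · exact hsz (by rw [hinv s h h', B.gz])
    obtain ⟨m, hm⟩ := root_of_two_group hpow hss (z := -1) fun x _ hx hx1 => hinv x hx hx1
    exact ⟨m, by rw [← map_pow, hm, B.gz]⟩

open _root_.Classical in
/-- An `L`-fixed character with zero coefficient: the whole `2`-part divides the multiplicity. -/
theorem two_part_dvd_outer (W : B.WExp) {θ : IrrCharacter B.O} (h1 : (θ : B.O → ℂ) ≠ fun _ => 1)
    (hfix : Char.conjN B.O B.w (θ : B.O → ℂ) = (θ : B.O → ℂ)) (hL : B.Lfix (θ : B.O → ℂ)) (ha : W.a θ = 0)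
    {k : ℕ} (hk : 2 ^ k ∣ Nat.card SL₂) : 2 ^ k ∣ B.n θ := by
  haveI : Fact (Nat.Prime 2) := ⟨Nat.prime_two⟩
  haveI : Finite X := Finite.of_surjective _ B.surj
  have hKj : ∀ y ∈ B.Yw, y ∈ (inertia B.O (θ : B.O → ℂ)).map B.σ := by
    intro y hy
    refine (sup_le ?_ ?_ : B.Yw ≤ _) hy
    · rintro _ ⟨s, rfl⟩
      exact (Subgroup.eq_top_iff' _).1 hL s
    · rw [Subgroup.zpowers_le]
      exact (B.mem_map_inertia (IsIrr.classFun θ.2) rfl).2 hfix
  have hdvd : 2 ^ (k + 1) ∣ Nat.card B.Yw := by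
    haveI := B.range_normal
    have hsub : B.ι.range ≤ B.Yw := fun _ ⟨s, e⟩ => e ▸ B.ι_mem_Yw s
    have hidx : (B.ι.range.subgroupOf B.Yw).index = 2 := by
      rw [Subgroup.index_eq_two_iff]
      refine ⟨⟨B.σ B.w, B.σw_mem_Yw⟩, fun b => ?_⟩
      simp only [Subgroup.mem_subgroupOf, Subgroup.coe_mul]
      obtain ⟨s, h | h⟩ := B.mem_Yw.1 b.2 <;> rw [h]
      · refine Or.inr ⟨⟨s, rfl⟩, fun ⟨r, hr⟩ => B.w_out (s⁻¹ * r) ?_⟩
        rw [map_mul, map_inv, hr, inv_mul_cancel_left]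
      · refine Or.inl ⟨⟨s, ?_⟩, fun ⟨r, hr⟩ => B.w_out (s⁻¹ * r) ?_⟩
        · rw [mul_assoc, ← map_mul B.σ, B.w2, map_one, mul_one]
        · rw [map_mul, map_inv, hr, inv_mul_cancel_left]
    have hc := (B.ι.range.subgroupOf B.Yw).index_mul_card
    rw [hidx, Nat.card_congr (Subgroup.subgroupOfEquivOfLe hsub).toEquiv,
      ← Nat.card_congr (MonoidHom.ofInjective B.ι_inj).toEquiv] at hc
    rw [← hc, pow_succ']
    exact mul_dvd_mul_left 2 hk
  obtain ⟨E, hE⟩ := Sylow.exists_subgroup_card_pow_prime 2 hdvd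
  -- the central involution lies in every Sylow subgroup, so enlarge
  set Zc : Subgroup B.Yw := Subgroup.zpowers ⟨B.σ B.z, B.gz ▸ B.ι_mem_Yw (-1)⟩
  haveI : Zc.Normal := ⟨fun x hx g => by
    obtain ⟨m, rfl⟩ := Subgroup.mem_zpowers_iff.1 hx
    have hcomm : Commute g (⟨B.σ B.z, B.gz ▸ B.ι_mem_Yw (-1)⟩ : B.Yw) := Subtype.ext (by
      obtain ⟨c, hc⟩ := B.surj (g : X)
      show (g : X) * B.σ B.z = B.σ B.z * g
      rw [← hc, ← map_mul, ← map_mul, B.z_central])
    rw [(hcomm.zpow_right m).eq, mul_inv_cancel_right]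
    exact hx⟩
  have hEp : IsPGroup 2 E := IsPGroup.of_card hE
  have hZp : IsPGroup 2 Zc := IsPGroup.of_card (n := 1) (by
    rw [Nat.card_zpowers, Subgroup.orderOf_mk, orderOf_eq_prime (by rw [pow_two, ← map_mul, B.z2, map_one]) B.σz_ne,
      pow_one])
  obtain ⟨j, hj⟩ := IsPGroup.iff_card.1 (hEp.to_sup_of_normal_right hZp)
  obtain ⟨j, rfl⟩ : ∃ j', j = j' + 1 := Nat.exists_eq_succ_of_ne_zero fun h0 => by
    have h := Nat.le_of_dvd Nat.card_pos (Subgroup.card_dvd_of_le (le_sup_left : E ≤ E ⊔ Zc))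
    rw [hE, hj, h0, pow_succ] at h
    have := Nat.one_le_two_pow (n := k)
    omega
  have hkj : k ≤ j := by
    have h := Subgroup.card_dvd_of_le (le_sup_left : E ≤ E ⊔ Zc)
    rw [hE, hj] at h
    have := (Nat.pow_dvd_pow_iff_le_right (by norm_num : 1 < 2)).1 h
    omega
  refine (pow_dvd_pow 2 hkj).trans (B.dvd_of_roots h1 ((E ⊔ Zc).map B.Yw.subtype) ?_ ?_
    (by rw [Subgroup.card_map_of_injective (Subgroup.subtype_injective _), hj]) ?_)
  · exact ⟨⟨B.σ B.z, _⟩, Subgroup.mem_sup_right (Subgroup.mem_zpowers _), rfl⟩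
  · rintro _ ⟨y, -, rfl⟩
    exact hKj _ y.2
  · rintro _ ⟨⟨y, hyY⟩, hy, rfl⟩ hy1 hyz
    have hpow : y ^ 2 ^ (j + 1) = 1 := by
      have h := orderOf_dvd_iff_pow_eq_one.1 (hj ▸ (E ⊔ Zc).orderOf_dvd_natCard hy)
      simpa using congrArg Subtype.val h
    have hinner : ∀ x ∈ B.ι.range, x * x = 1 → x ≠ 1 → x = B.σ B.z := by
      rintro _ ⟨s, rfl⟩ h h'
      rw [← map_mul] at h
      rcases mul_self_eq_one B.char2 (B.ι_inj (h.trans (map_one _).symm)) with e | e
      · exact absurd (by rw [e, map_one]) h'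
      · rw [e, B.gz]
    have hsq : y * y ∈ B.ι.range := by
      obtain ⟨s, h | h⟩ := B.mem_Yw.1 hyY <;> rw [h]
      · exact ⟨s * s, map_mul _ _ _⟩
      · exact ⟨_, (congrArg Subtype.val (B.ellY.ι_mul_w s s)).symm⟩
    by_cases hyy : y * y = 1
    swap
    · exact Or.inl (root_of_two_group hpow hyy fun x hx => hinner x (Subgroup.zpowers_le.2 hsq hx))
    refine Or.inr fun P hP η g hg hPD hηi hηr => ?_
    obtain ⟨s, h | h⟩ := B.mem_Yw.1 hyY
    · exact absurd (hinner y ⟨s, h.symm⟩ hyy hy1) hyz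
    -- a member of the class of `w`
    have hA : ((s : M₂) * (B.gw : M₂)) ∈ Ell B.ν := by
      have h' : s * inn B.gw s = 1 := B.ι_inj (by
        rw [map_one, ← hyy, h]
        exact (congrArg Subtype.val (B.ellY.ι_mul_w s s)).symm)
      have hTT : ((s : M₂) * (B.gw : M₂)) * ((s : M₂) * (B.gw : M₂)) = B.ν • (1 : M₂) := by
        have e := congrArg Subtype.val h'
        change ((s * inn B.ellY.gw s : SL₂) : M₂) = _ at e
        rw [B.ellY.mul_inn] at e
        change B.ν⁻¹ • _ = _ at e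
        rw [Matrix.SpecialLinearGroup.coe_one, inv_smul_eq_iff₀ (show B.ν ≠ 0 from B.ellY.ν_ne)] at e
        exact e
      have hdet : ((s : M₂) * (B.gw : M₂)).det = -B.ν := by
        rw [det_mul, Matrix.SpecialLinearGroup.det_coe, one_mul, B.gw_mem.2]
      refine ⟨?_, hdet⟩
      set T := (s : M₂) * (B.gw : M₂)
      by_contra htr
      rw [det_fin_two] at hdet
      have e00 := congrFun (congrFun hTT 0) 0
      have e01 := congrFun (congrFun hTT 0) 1
      simp [Matrix.mul_apply, Fin.sum_univ_two] at e00 e01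
      have h01 : T 0 1 = 0 := (mul_eq_zero.1 (show T 0 1 * (T 0 0 + T 1 1) = 0 by linear_combination e01)).resolve_right htr
      exact B.ν_ns ⟨T 0 0, by rw [h01] at e00; linear_combination -e00⟩
    have hjX : y = B.jX ⟨_, hA⟩ := by
      rw [h, UData.jX]
      refine congrArg (fun r => B.ι r * B.σ B.w) (Subtype.ext ?_)
      show (s : M₂) = (s : M₂) * (B.gw : M₂) * ((B.gw⁻¹ : GL (Fin 2) F) : M₂)
      rw [Matrix.mul_assoc, Units.mul_inv, Matrix.mul_one]
    obtain ⟨t, ht⟩ := B.ellY.exists_conj_jOf ⟨_, hA⟩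
    obtain ⟨c, hc⟩ := B.surj (B.ι t)
    have hcw : B.σ (c * B.w * c⁻¹) = y := by
      rw [map_mul, map_mul, map_inv, hc, hjX, B.jX_eq]
      exact congrArg Subtype.val ht
    have hg' : B.σ (g : C) = y := hg
    have hOc : (g : C) * (c * B.w * c⁻¹)⁻¹ ∈ B.O := by
      rw [MonoidHom.mem_ker, map_mul, map_inv, hcw, hg', mul_inv_cancel]
    have hcG : ∀ x : B.Gw, c * (x : C) * c⁻¹ ∈ P := fun x => by
      rw [hPD]
      show B.σ (c * x * c⁻¹) ∈ (E ⊔ Zc).map B.Yw.subtype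
      rw [map_mul, map_mul, map_inv]
      rcases B.image_cases x.2 with e | e <;> rw [e]
      · rw [mul_one, mul_inv_cancel]; exact one_mem _
      · rw [← map_inv, ← map_mul, ← map_mul, hcw]
        exact ⟨⟨y, hyY⟩, hy, rfl⟩
    let cG : B.Gw →* P :=
      ((MulAut.conj c).toMonoidHom.comp B.Gw.subtype).codRestrict P fun x => hcG x
    have hcfix : Char.conjN B.O c (θ : B.O → ℂ) = (θ : B.O → ℂ) :=
      (B.lfix_iff (IsIrr.classFun θ.2)).1 hL c ⟨t, hc.symm⟩
    have hcO : ∀ o : B.O, cG ⟨o, B.O_le_Gw o.2⟩ =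
        ⟨c * (o : C) * c⁻¹, hP ((inferInstance : B.O.Normal).conj_mem _ o.2 c)⟩ := fun o => rfl
    have hres : ∀ o : B.O, η (cG ⟨o, B.O_le_Gw o.2⟩) = (θ : B.O → ℂ) o := fun o => by
      rw [hcO, hηr ⟨_, (inferInstance : B.O.Normal).conj_mem _ o.2 c⟩]
      conv_rhs => rw [← hcfix, conjN_apply]
    set ψ : B.Gw → ℂ := fun x => η (cG x) with hψ
    have hψi : IsIrrCharacter B.Gw ψ := by
      refine Block.RelGal.irr_of_res_irr (Subgroup.inclusion B.O_le_Gw) (IsChar.comp cG (IsIrr.isCharacter hηi)) ?_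
      rw [show (fun n => η (cG (Subgroup.inclusion B.O_le_Gw n))) = (θ : B.O → ℂ) from funext hres]
      exact θ.2
    haveI : (B.O.subgroupOf B.Gw).Normal := Subgroup.Normal.subgroupOf inferInstance _
    haveI : Fintype (B.O.subgroupOf B.Gw) := Fintype.ofFinite _
    haveI : Fintype (B.R.subgroupOf B.Gw) := Fintype.ofFinite _
    obtain ⟨ε, -, hv⟩ := W.ext θ ψ hψi fun o => hres o
    have hFc : IsClassFunction B.Gw (fun x : B.Gw => B.χp x * conj (ψ x)) := fun a b => by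
      show B.χp ((b * a * b⁻¹ : B.Gw) : C) * conj (ψ (b * a * b⁻¹)) = _
      rw [IsIrr.classFun hψi a b, Subgroup.coe_mul, Subgroup.coe_mul, Subgroup.coe_inv,
        IsChar.classFun B.isChar_χp (a : C) (b : C)]
    have hsum := B.setup_w.sum_coset hFc
    have hR0 : ∑ r : B.R.subgroupOf B.Gw,
        B.χp (((r : B.Gw) * ⟨B.w, B.w_mem_Gw⟩ : B.Gw) : C) * conj (ψ ((r : B.Gw) * ⟨B.w, B.w_mem_Gw⟩)) = 0 := by
      have h0 := W.coef θ hfix
      rw [ha, Int.cast_zero, classInner, mul_eq_zero] at h0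
      have hsum0 := h0.resolve_left (inv_ne_zero (Nat.cast_ne_zero.2 Nat.card_pos.ne'))
      rw [← mul_zero (ε : ℂ), ← hsum0, Finset.mul_sum]
      refine Fintype.sum_equiv
        (Subgroup.subgroupOfEquivOfLe (show B.R ≤ B.Gw from fun r hr => B.O_le_Gw hr.1)).toEquiv _ _ fun r => ?_
      set r' : B.R := Subgroup.subgroupOfEquivOfLe (show B.R ≤ B.Gw from fun r hr => B.O_le_Gw hr.1) r
      show B.χp ((r' : C) * B.w) * conj (ψ ⟨(r' : C) * B.w, _⟩) = (ε : ℂ) * (B.χp (B.w * r') * conj (W.β θ r'))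
      rw [hv r', map_mul, B.w_comm r', map_intCast]
      ring
    rw [hR0] at hsum
    simp only [mul_zero, mul_eq_zero] at hsum
    have h0 := hsum.resolve_left (Nat.cast_ne_zero.2 Nat.card_pos.ne')
    let o₁ : B.O := ⟨_, hOc⟩
    refine Eq.trans ?_ h0
    rw [show ∑ o : B.O, B.χp ((o : C) * g) * conj (η (⟨o, hP o.2⟩ * g)) =
        ∑ o : B.O, B.χp ((o : C) * (c * B.w * c⁻¹)) *
          conj (η (⟨o, hP o.2⟩ * cG ⟨B.w, B.w_mem_Gw⟩)) from
      (Fintype.sum_equiv (Equiv.mulRight o₁⁻¹) _ _ fun o => by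
        have e' : (((o * o₁⁻¹ : B.O)) : C) * (g : C) = (o : C) * (c * B.w * c⁻¹) := by
          show (o : C) * ((g : C) * (c * B.w * c⁻¹)⁻¹)⁻¹ * g = _
          group
        simp only [Equiv.coe_mulRight]
        rw [e', show (⟨((o * o₁⁻¹ : B.O) : C), hP (o * o₁⁻¹).2⟩ : P) * g = ⟨o, hP o.2⟩ * cG ⟨B.w, B.w_mem_Gw⟩ from
          Subtype.ext e']).symm]
    refine (Fintype.sum_equiv ((Subgroup.subgroupOfEquivOfLe B.O_le_Gw).toEquiv.trans
      (conjEquivN B.O c).toEquiv) _ _ fun x => ?_).symm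
    show B.χp ((x : B.Gw) * ⟨B.w, B.w_mem_Gw⟩ : B.Gw) * conj (η (cG ((x : B.Gw) * ⟨B.w, B.w_mem_Gw⟩))) = _
    rw [map_mul cG, Subgroup.coe_mul, ← IsChar.classFun B.isChar_χp (((x : B.Gw) : C) * B.w) c]
    congr 2
    show c * (((x : B.Gw) : C) * B.w) * c⁻¹ = (conjEquivN B.O c _ : C) * (c * B.w * c⁻¹)
    rw [conjEquivN_apply]
    show _ = c * ((x : B.Gw) : C) * c⁻¹ * _
    group

end UData

end Cfsg.Agent.Invol.AbgOrder
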