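import Cfsg.Agent.Lib.Invol.AbgOrder.BudgetUCases
import Cfsg.Agent.Lib.Classical.DicksonGeneration
import Cfsg.Agent.Lib.Classical.SLNormal
import Cfsg.Agent.Lib.Classical.DicksonSmallQ
import Mathlib.GroupTheory.Sylow

/-!
# Subgroups of `SL(2, 5)` and `SL(2, 9)`: index times `2`-part

For a proper subgroup containing `-1`, the index times any multiple of the `2`-part of the image in `PSL(2, q)` is
at least `12`, resp. `24`, and `72` if it is normalised by an element without fixed points on the line.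
-/

set_option autoImplicit false
set_option linter.unusedSectionVars false
set_option linter.unreachableTactic false
set_option linter.unusedTactic false
set_option linter.style.haveILetI false

namespace Cfsg.Agent.Invol.AbgOrder

open Matrix Cfsg.Agent.Grp.SL2 Cfsg.Agent.PSL2Spec Cfsg.Agent.Dickson

variable {F : Type*} [Field F] [Fintype F]

local notation "SL₂" => Matrix.SpecialLinearGroup (Fin 2) F
local notation "M₂" => Matrix (Fin 2) (Fin 2) F
local notation "PSL₂" => Matrix.ProjectiveSpecialLinearGroup (Fin 2) F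
local notation "H[" K "]" => Subgroup.map (proj (F := F)) K
local notation "cj" => Cfsg.Agent.Grp.SL2.conjHom

/-- The orders of the groups. -/
theorem card_two_groups (hodd : Fintype.card F % 2 = 1) :
    Nat.card SL₂ = 2 * Nat.card PSL₂ ∧
      2 * Nat.card PSL₂ = Fintype.card F * ((Fintype.card F - 1) * (Fintype.card F + 1)) := by
  have h := card_psl_odd (F := F) (Nat.odd_iff.2 hodd)
  refine ⟨?_, by omega⟩
  rw [Fus.PSLTwo.natCard_SL_two]
  omega

/-- A proper subgroup containing `-1` has index at least five. -/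
theorem five_le_index (h5 : 5 ≤ Fintype.card F) (h2 : (2 : F) ≠ 0) {K₀ : Subgroup SL₂}
    (hne : K₀ ≠ ⊤) : 5 ≤ K₀.index := by
  classical
  haveI : IsSimpleGroup PSL₂ := Classical.PSL_isSimple le_rfl fun _ => by omega
  by_contra hlt
  have hN : (K₀.normalCore : Subgroup SL₂) ≠ ⊤ := fun h => hne (top_le_iff.1 (h ▸ K₀.normalCore_le))
  have hc : (K₀.normalCore : Subgroup SL₂) ≤ Subgroup.center SL₂ := by
    by_contra h
    exact hN (Classical.SL_normal_eq_top (commutator_sl2_eq_top h5) _ h)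
  have h1 : (K₀.normalCore).index ∣ K₀.index.factorial := by
    rw [Subgroup.normalCore_eq_ker, Subgroup.index_ker, Subgroup.index_eq_card, ← Nat.card_perm]
    exact Subgroup.card_subgroup_dvd_card _
  have h2' : Nat.card (Subgroup.center SL₂) ≤ 2 := by
    refine (Nat.card_le_card_of_injective (fun x : Subgroup.center SL₂ =>
      (if (x : SL₂) = 1 then (0 : Fin 2) else 1)) fun x y h => Subtype.ext ?_).trans (by simp)
    have hx : ∀ x : Subgroup.center SL₂, (x : SL₂) = 1 ∨ (x : SL₂) = -1 := fun x => by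
      obtain ⟨r, -, hr⟩ := Matrix.SpecialLinearGroup.mem_center_iff.1 x.2
      refine (isCen_iff (x : SL₂)).1 ?_
      simp [IsCen, ← hr]
    rcases hx x with e | e <;> rcases hx y with e' | e' <;> simp [e, e', neg_ne_self h2] at h ⊢
  have h3 := (K₀.normalCore).index_mul_card
  have h4 : Nat.card (K₀.normalCore : Subgroup SL₂) ≤ 2 := (Subgroup.card_le_of_le hc).trans h2'
  have h6 : K₀.index.factorial ≤ 24 :=
    (Nat.factorial_le (show K₀.index ≤ 4 by omega)).trans (by decide)
  have h7 := Nat.le_of_dvd (Nat.factorial_pos _) h1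
  have h8 : Nat.card SL₂ ≤ 48 := by
    rw [← h3]
    exact Nat.mul_le_mul (h7.trans h6) h4
  rw [Fus.PSLTwo.natCard_SL_two] at h8
  have : 5 * (4 * 6) ≤ Fintype.card F * ((Fintype.card F - 1) * (Fintype.card F + 1)) :=
    Nat.mul_le_mul h5 (Nat.mul_le_mul (by omega) (by omega))
  omega

/-- Orders of a proper subgroup and of its image. -/
theorem image_card_index (h2 : (2 : F) ≠ 0) {K₀ : Subgroup SL₂} (hneg : (-1 : SL₂) ∈ K₀)
    (hodd : Fintype.card F % 2 = 1) :
    K₀.index * Nat.card H[K₀] = Nat.card PSL₂ := by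
  have h := K₀.index_mul_card
  rw [card_eq_two_mul_image h2 hneg, (card_two_groups hodd).1] at h
  refine Nat.eq_of_mul_eq_mul_left two_pos ?_
  rw [← h]
  ring

theorem odd_of_two_ne (h2 : (2 : F) ≠ 0) : Fintype.card F % 2 = 1 :=
  FiniteField.odd_card_of_char_ne_two fun h => h2 (by
    haveI := ringChar.of_eq h
    exact_mod_cast CharP.cast_eq_zero F 2)

/-- Index times `2`-part, `q = 5`. -/
theorem cost_five (h5 : Fintype.card F = 5) (h2 : (2 : F) ≠ 0) {K₀ : Subgroup SL₂} (hneg : (-1 : SL₂) ∈ K₀)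
    (hne : K₀ ≠ ⊤) {n : ℕ} (hn : 0 < n) (hd : ∀ k, 2 ^ k ∣ Nat.card H[K₀] → 2 ^ k ∣ n) :
    12 ≤ K₀.index * n := by
  have hi := five_le_index (by omega) h2 hne
  have hodd := odd_of_two_ne h2
  have hm := image_card_index h2 hneg hodd
  have hP : Nat.card PSL₂ = 60 := by
    have h := (card_two_groups (F := F) hodd).2
    rw [h5] at h
    omega
  rw [hP] at hm
  set m := Nat.card H[K₀]
  have hm12 : m ≤ 12 := by nlinarith
  have hk : ∀ k, 2 ^ k ∣ m → 2 ^ k ≤ n := fun k h => Nat.le_of_dvd hn (hd k h)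
  have h0 := hk 0 (one_dvd _)
  have h1 := hk 1
  have h2' := hk 2
  interval_cases m <;> first
    | omega
    | nlinarith [h0]
    | nlinarith [h1 (by norm_num)]
    | nlinarith [h2' (by norm_num)]

/-- The characteristic for `q = 9`. -/
theorem charP_three (h9 : Fintype.card F = 9) : CharP F 3 := by
  obtain ⟨p, hp⟩ := CharP.exists F
  obtain ⟨n, hpp, hn⟩ := FiniteField.card F p
  rw [h9] at hn
  have : p = 3 := (Nat.prime_dvd_prime_iff_eq hpp Nat.prime_three).1
    (hpp.dvd_of_dvd_pow (n := 2) (show p ∣ 3 ^ 2 by rw [show (3 : ℕ) ^ 2 = 9 from rfl, hn]; exact dvd_pow_self p n.ne_zero))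
  exact this ▸ hp

/-- No subgroup of order `45`. -/
theorem card_ne_forty_five (h9 : Fintype.card F = 9) (H : Subgroup PSL₂) : Nat.card H ≠ 45 := by
  classical
  intro h
  haveI := charP_three h9
  haveI : Fact (Nat.Prime 3) := ⟨Nat.prime_three⟩
  haveI : Fact (Nat.Prime 5) := ⟨by norm_num⟩
  obtain ⟨P⟩ : Nonempty (Sylow 3 H) := inferInstance
  have hPc : Nat.card (P : Subgroup H) = 3 ^ 2 := by
    rw [P.card_eq_multiplicity, h, show (45 : ℕ) = 3 ^ 2 * 5 by norm_num,
      Nat.factorization_mul (by norm_num) (by norm_num), Finsupp.add_apply, Nat.Prime.factorization_pow Nat.prime_three,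
      Finsupp.single_eq_same, Nat.factorization_eq_zero_of_not_dvd (show ¬ (3 : ℕ) ∣ 5 by norm_num)]
  have hidx : (P : Subgroup H).index = 5 := by
    have h1 := (P : Subgroup H).index_mul_card
    rw [hPc, h] at h1
    omega
  have hn1 : Nat.card (Sylow 3 H) = 1 := by
    have h1 := P.card_dvd_index
    rw [hidx] at h1
    have h3 : Nat.card (Sylow 3 H) % 3 = 1 := card_sylow_modEq_one 3 H
    rcases (Nat.dvd_prime (by norm_num)).1 h1 with e | e <;> omega
  haveI : (P : Subgroup H).Normal := by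
    haveI := (Nat.card_eq_one_iff_unique.1 hn1).1
    exact P.normal_of_subsingleton
  obtain ⟨a, ha⟩ := exists_prime_orderOf_dvd_card' (G := (P : Subgroup H)) 3 (by rw [hPc]; norm_num)
  obtain ⟨y, hy⟩ := exists_prime_orderOf_dvd_card' (G := H) 5 (by rw [h]; norm_num)
  set A : PSL₂ := ((a : H) : PSL₂)
  have hA : orderOf A = 3 := by rw [Subgroup.orderOf_coe, Subgroup.orderOf_coe, ha]
  have hA1 : A ≠ 1 := fun e => by rw [e, orderOf_one] at hA; omega
  have hA3 : A ^ 3 = 1 := hA ▸ pow_orderOf_eq_one A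
  have hcomm : Commute ((y : PSL₂) * A * (y : PSL₂)⁻¹) A := by
    have hmem := (inferInstance : (P : Subgroup H).Normal).conj_mem _ a.2 y
    exact congrArg (fun x : (P : Subgroup H) => ((x : H) : PSL₂))
      ((IsPGroup.isMulCommutative_of_card_eq_prime_sq hPc).is_comm.comm ⟨_, hmem⟩ a)
  obtain ⟨Q, hQ, e⟩ := uni_frame 3 hA1 hA3
  obtain ⟨g, hg⟩ := proj_surjective ((y : H) : PSL₂)
  obtain ⟨t, rfl⟩ := conjHom_surjective Q hQ g
  have ht : (t : M₂) 1 0 = 0 := by
    have h1 : proj (cj Q hQ t) * A * (proj (cj Q hQ t))⁻¹ ∈ tor A := by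
      rw [hg, e]
      rw [e] at hcomm
      obtain ⟨z, hz⟩ := proj_surjective ((y : PSL₂) * proj (cj Q hQ (up 1)) * (y : PSL₂)⁻¹)
      rw [← hz] at hcomm ⊢
      rw [mem_tor_iff]
      rcases proj_eq_iff.1 (show proj (cj Q hQ (up 1) * z) = proj (z * cj Q hQ (up 1)) by
        rw [map_mul, map_mul]; exact hcomm.eq.symm) with h' | h'
      · exact h'
      · exfalso
        have htr := congrArg tr (show z * cj Q hQ (up 1) * z⁻¹ = -cj Q hQ (up 1) by
          rw [h', neg_mul, mul_inv_cancel_right])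
        rw [tr_conj, tr_neg] at htr
        have h2 : (2 : F) ≠ 0 := fun h0 => by
          have : ((2 : ℕ) : F) = 0 := by exact_mod_cast h0
          rw [CharP.cast_eq_zero_iff F 3] at this
          omega
        rw [tr_conjHom] at htr
        simp [tr, up] at htr
        exact h2 (mul_self_eq_zero.1 (show (2 : F) * 2 = 0 by linear_combination htr))
    rwa [e, conj_mem_tor_iff, ← map_inv, ← map_mul, ← map_mul, commute_map_iff (conjHom_injective Q hQ),
      lower_entry_iff] at h1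
  have hpow : ∀ n : ℕ, ((t ^ n : SL₂) : M₂) 1 0 = 0 ∧ ((t ^ n : SL₂) : M₂) 0 0 = (t : M₂) 0 0 ^ n := by
    intro n
    induction n with
    | zero => simp
    | succ n ih =>
      rw [pow_succ, Matrix.SpecialLinearGroup.coe_mul]
      constructor <;> simp only [Matrix.mul_apply, Fin.sum_univ_two, ih.1, ht]
      · ring
      · rw [ih.2, pow_succ]; ring
  have h00 : (t : M₂) 0 0 ≠ 0 := fun h0 => by
    have := det_eq t
    rw [ht, h0] at this
    simp at this
  obtain ⟨u1, u2⟩ := hpow 8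
  rw [show (t : M₂) 0 0 ^ 8 = 1 by
    have := FiniteField.pow_card_sub_one_eq_one _ h00
    rwa [h9] at this] at u2
  have h11 : ((t ^ 8 : SL₂) : M₂) 1 1 = 1 := by
    have := det_eq (t ^ 8)
    rw [u1, u2] at this
    linear_combination this
  have hup : t ^ 8 = up (((t ^ 8 : SL₂) : M₂) 0 1) := Subtype.ext (Matrix.ext fun i j => by
    fin_cases i <;> fin_cases j <;> simp [up, u1, u2, h11])
  have h24 : t ^ 24 = 1 := by
    rw [show 24 = 8 * 3 from rfl, pow_mul, hup, up_pow]
    have : ((3 : ℕ) : F) = 0 := CharP.cast_eq_zero F 3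
    rw [this, zero_mul, up_zero]
  have hy24 : orderOf ((y : H) : PSL₂) ∣ 24 := orderOf_dvd_of_pow_eq_one (by
    rw [← hg, ← map_pow, ← map_pow, h24, map_one, map_one])
  rw [Subgroup.orderOf_coe, hy] at hy24
  omega

/-- Index times `2`-part, `q = 9`. -/
theorem cost_nine (h9 : Fintype.card F = 9) (h2 : (2 : F) ≠ 0) {K₀ : Subgroup SL₂} (hneg : (-1 : SL₂) ∈ K₀)
    (hne : K₀ ≠ ⊤) {n : ℕ} (hn : 0 < n) (hd : ∀ k, 2 ^ k ∣ Nat.card H[K₀] → 2 ^ k ∣ n) :
    24 ≤ K₀.index * n ∧ (¬ 3 ∣ Nat.card H[K₀] → 72 ≤ K₀.index * n) := by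
  have hi := five_le_index (by omega) h2 hne
  have hodd := odd_of_two_ne h2
  have hm := image_card_index h2 hneg hodd
  have hP : Nat.card PSL₂ = 360 := by
    have h := (card_two_groups (F := F) hodd).2
    rw [h9] at h
    omega
  rw [hP] at hm
  have h45 := card_ne_forty_five h9 H[K₀]
  generalize Nat.card H[K₀] = m at hd hm h45 ⊢
  have hm72 : m ≤ 72 := by nlinarith
  have hk : ∀ k, 2 ^ k ∣ m → K₀.index * 2 ^ k ≤ K₀.index * n := fun k h =>
    Nat.mul_le_mul_left _ (Nat.le_of_dvd hn (hd k h))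
  have h0 := hk 0 (one_dvd _)
  have h1 := hk 1
  have h2' := hk 2
  have h3' := hk 3
  interval_cases m <;> norm_num at h0 h1 h2' h3' ⊢ <;> omega

/-- With an element of order `3` and normalised by an element without fixed points: everything. -/
theorem top_of_three (h9 : Fintype.card F = 9) (h2 : (2 : F) ≠ 0) {ν : F} (hν : ¬ IsSquare ν) {gw : GL (Fin 2) F}
    (hgw : (gw : M₂) ∈ Ell ν) {K₀ : Subgroup SL₂} (hneg : (-1 : SL₂) ∈ K₀)
    (hnorm : ∀ s ∈ K₀, inn gw s ∈ K₀) (h3 : 3 ∣ Nat.card H[K₀]) : K₀ = ⊤ := by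
  classical
  haveI := charP_three h9
  haveI : Fact (Nat.Prime 3) := ⟨Nat.prime_three⟩
  obtain ⟨a, ha⟩ := exists_prime_orderOf_dvd_card' (G := H[K₀]) 3 h3
  obtain ⟨s, hs, hse⟩ := Subgroup.mem_map.1 a.2
  have ha1 : (a : PSL₂) ≠ 1 := fun e => by
    rw [← Subgroup.orderOf_coe, e, orderOf_one] at ha
    omega
  have hns : ¬ IsScalar s := fun h => ha1 (by rw [← hse]; exact proj_one_iff.2 h)
  have htr : tr s ^ 2 = 4 := (pow_eq_one_iff 3 hns).1 (by
    rw [hse]
    have := pow_orderOf_eq_one (a : PSL₂)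
    rwa [Subgroup.orderOf_coe, ha] at this)
  obtain ⟨u, hu, hut, hu1⟩ : ∃ u ∈ K₀, tr u = 2 ∧ u ≠ 1 := by
    rcases mul_eq_zero.1 (show (tr s - 2) * (tr s + 2) = 0 by linear_combination htr) with h | h
    · exact ⟨s, hs, sub_eq_zero.1 h, fun e => hns (Or.inl e)⟩
    · refine ⟨-s, by rw [← neg_one_mul]; exact K₀.mul_mem hneg hs, by rw [tr_neg]; linear_combination -h, fun e => ?_⟩
      exact hns (Or.inr (by rw [← e, neg_neg]))
  obtain ⟨P, hP, e⟩ := exists_up hut hu1
  set A : M₂ := P⁻¹ * (gw : M₂) * P with hA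
  have hAE : A ∈ Ell ν := by
    refine ⟨?_, ?_⟩
    · rw [← Matrix.trace_fin_two, hA, Matrix.trace_mul_cycle, Matrix.mul_nonsing_inv P hP, Matrix.one_mul,
        Matrix.trace_fin_two]
      exact hgw.1
    · rw [hA, det_mul, det_mul, hgw.2, mul_comm, ← mul_assoc, ← det_mul, Matrix.mul_nonsing_inv P hP, det_one,
        one_mul]
  have hc : A 1 0 ≠ 0 := Ell.lower_ne hν hAE
  have hν0 : ν ≠ 0 := fun h => hν (h ▸ IsSquare.zero)
  set lam : F := A 1 0 * A 1 0 / ν with hlam
  have hl0 : lam ≠ 0 := div_ne_zero (mul_ne_zero hc hc) hν0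
  have hlns : ¬ IsSquare lam := by
    rintro ⟨r, hr⟩
    refine hν ⟨A 1 0 / r, ?_⟩
    have hr0 : r ≠ 0 := fun h => hl0 (by rw [hr, h, zero_mul])
    rw [hlam] at hr
    field_simp at hr ⊢
    linear_combination -hr
  set R : M₂ := !![1, A 0 0 * A 1 0 / ν; 0, lam] with hR
  have hRd : IsUnit R.det := by
    rw [isUnit_iff_ne_zero, hR, det_fin_two]
    simp [hl0]
  set Q : M₂ := P * R
  have hQ : IsUnit Q.det := by rw [det_mul]; exact hP.mul hRd
  set B : M₂ := !![0, A 1 0; ν / A 1 0, 0] with hB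
  have h1 : cj Q hQ (up lam) = u := by
    rw [← e]
    refine Subtype.ext ?_
    rw [conjHom_coe, conjHom_coe, Matrix.mul_inv_rev]
    have hh : R * (up lam : SL₂) = ((up (1 : F) : SL₂) : M₂) * R := by
      ext i j
      fin_cases i <;> fin_cases j <;> simp [hR, up, Matrix.mul_apply, Fin.sum_univ_two] <;> ring
    calc P * R * ((up lam : SL₂) : M₂) * (R⁻¹ * P⁻¹) = P * (R * (up lam : SL₂)) * R⁻¹ * P⁻¹ := by
          simp only [Matrix.mul_assoc]
      _ = P * ((up (1 : F) : SL₂) : M₂) * P⁻¹ := by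
          rw [hh, ← Matrix.mul_assoc P, Matrix.mul_nonsing_inv_cancel_right _ _ hRd]
  have hAR : A * R = R * B := by
    have hd := hAE.2
    rw [det_fin_two] at hd
    have h11 : A 1 1 = -A 0 0 := by linear_combination hAE.1
    rw [h11] at hd
    ext i j
    fin_cases i <;> fin_cases j <;>
      simp [hR, hB, hlam, h11, Matrix.mul_apply, Fin.sum_univ_two] <;> field_simp <;>
      first | ring1 | linear_combination -hd | linear_combination hd
  have hgQ : (gw : M₂) * Q = Q * B := by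
    show (gw : M₂) * (P * R) = P * R * B
    rw [Matrix.mul_assoc P, ← hAR, hA]
    simp only [← Matrix.mul_assoc, Matrix.mul_nonsing_inv P hP, Matrix.one_mul]
  have h2' : cj Q hQ (low 1) = inn gw u := by
    refine Subtype.ext ?_
    rw [inn_coe, ← h1, conjHom_coe, conjHom_coe]
    have hh : ((low (1 : F) : SL₂) : M₂) * B = B * (up lam : SL₂) := by
      ext i j
      fin_cases i <;> fin_cases j <;> simp [hB, hlam, up, low, Matrix.mul_apply, Fin.sum_univ_two] <;> field_simp
    have key : Q * ((low (1 : F) : SL₂) : M₂) * Q⁻¹ * (gw : M₂) = (gw : M₂) * (Q * (up lam : SL₂) * Q⁻¹) := by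
      calc Q * ((low (1 : F) : SL₂) : M₂) * Q⁻¹ * (gw : M₂)
          = Q * ((low (1 : F) : SL₂) : M₂) * Q⁻¹ * ((gw : M₂) * Q * Q⁻¹) := by
            rw [Matrix.mul_nonsing_inv_cancel_right _ _ hQ]
        _ = Q * (((low (1 : F) : SL₂) : M₂) * B) * Q⁻¹ := by
            rw [hgQ]
            simp only [Matrix.mul_assoc]
            rw [Matrix.nonsing_inv_mul_cancel_left _ _ hQ]
        _ = Q * B * (up lam : SL₂) * Q⁻¹ := by rw [hh]; simp only [Matrix.mul_assoc]
        _ = _ := by rw [← hgQ]; simp only [Matrix.mul_assoc]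
    calc Q * ((low (1 : F) : SL₂) : M₂) * Q⁻¹
        = Q * ((low (1 : F) : SL₂) : M₂) * Q⁻¹ * ((gw : M₂) * ((gw⁻¹ : GL (Fin 2) F) : M₂)) := by
          rw [Units.mul_inv, Matrix.mul_one]
      _ = _ := by rw [← Matrix.mul_assoc, key]
  set G := Subgroup.closure ({low 1, up lam} : Set SL₂) with hG
  have hGK : G.map (cj Q hQ) ≤ K₀ := by
    rw [hG, MonoidHom.map_closure, Subgroup.closure_le, Set.image_pair]
    rintro x (rfl | rfl)
    · exact h2' ▸ hnorm _ hu
    · exact h1 ▸ hu
  have h4 : lam ^ 4 ≠ 1 := fun h => hlns ((FiniteField.isSquare_iff (fun hc2 => h2 (by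
    haveI := ringChar.of_eq hc2
    exact_mod_cast CharP.cast_eq_zero F 2)) hl0).2 (by rw [h9]; exact h))
  have hgen : Subfield.closure ({lam} : Set F) = ⊤ := by
    by_contra hne
    set L := Subfield.closure ({lam} : Set F)
    have hmem : lam ∈ L := Subfield.subset_closure rfl
    haveI : Fintype L := Fintype.ofFinite _
    obtain ⟨m, hm⟩ : ∃ m : ℕ, Fintype.card F = Fintype.card L ^ m :=
      ⟨_, Module.card_eq_pow_finrank (K := L) (V := F)⟩
    have hL : Fintype.card L = 3 := by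
      have h1L : 1 < Fintype.card L := Fintype.one_lt_card
      have hlt : Fintype.card L < 9 := h9 ▸ lt_of_le_of_ne (Fintype.card_le_of_injective _ Subtype.val_injective)
        fun heq => hne (SetLike.ext fun x => ⟨fun _ => trivial, fun _ => by
          obtain ⟨y, rfl⟩ := ((Fintype.bijective_iff_injective_and_card ((↑) : L → F)).2
            ⟨Subtype.val_injective, heq⟩).2 x
          exact y.2⟩)
      rw [h9] at hm
      have hm0 : m ≠ 0 := fun h => by simp [h] at hm
      obtain ⟨i, hi, hi'⟩ := (Nat.dvd_prime_pow Nat.prime_three).1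
        (show Fintype.card L ∣ 3 ^ 2 by rw [show (3 : ℕ) ^ 2 = 9 from rfl, hm]; exact dvd_pow_self _ hm0)
      interval_cases i <;> omega
    have h := FiniteField.pow_card_sub_one_eq_one (⟨lam, hmem⟩ : L) (fun h => hl0 (congrArg Subtype.val h))
    rw [hL] at h
    have h' : lam ^ 2 = 1 := congrArg Subtype.val h
    exact h4 (by linear_combination (lam ^ 2 + 1) * h')
  rcases Gen.classify (p := 3) h2 hl0 hgen with h | ⟨-, hsq, -⟩
  · have hG1 : (-1 : SL₂) ∈ G := Gen.neg_one_mem h2 (by rw [h, Subgroup.card_top]; exact Gen.even_card_psl h2)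
    have hGt : G = ⊤ := (Subgroup.eq_top_iff' _).2 fun x => by
      obtain ⟨y, hy, hye⟩ : proj x ∈ G.map proj := by rw [h]; exact Subgroup.mem_top _
      rcases proj_eq_iff.1 hye with e' | e'
      · exact e' ▸ hy
      · rw [e', ← neg_one_mul]; exact G.mul_mem hG1 hy
    refine (Subgroup.eq_top_iff' _).2 fun x => ?_
    obtain ⟨y, rfl⟩ := conjHom_surjective Q hQ x
    exact hGK (Subgroup.mem_map_of_mem _ (hGt ▸ Subgroup.mem_top y))
  · exact absurd (show lam ^ 4 = 1 by linear_combination (lam * lam - 1) * hsq) h4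

/-- Index times `2`-part, `q = 9`, normalised by an element without fixed points. -/
theorem cost_nine_fix (h9 : Fintype.card F = 9) (h2 : (2 : F) ≠ 0) {ν : F} (hν : ¬ IsSquare ν) {gw : GL (Fin 2) F}
    (hgw : (gw : M₂) ∈ Ell ν) {K₀ : Subgroup SL₂} (hneg : (-1 : SL₂) ∈ K₀) (hne : K₀ ≠ ⊤)
    (hnorm : ∀ s ∈ K₀, inn gw s ∈ K₀) {n : ℕ} (hn : 0 < n) (hd : ∀ k, 2 ^ k ∣ Nat.card H[K₀] → 2 ^ k ∣ n) :
    72 ≤ K₀.index * n :=
  (cost_nine h9 h2 hneg hne hn hd).2 fun h3 => hne (top_of_three h9 h2 hν hgw hneg hnorm h3)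

end Cfsg.Agent.Invol.AbgOrder
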