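import Cfsg.Agent.Lib.Invol.AbgOrder.ExcUnitTriv
import Cfsg.Agent.Lib.Invol.AbgOrder.ExcUnitGroup
import Cfsg.Agent.Lib.Invol.AbgOrder.ExcUnitDiv

/-!
# The budget of the two semidihedral exceptions

At `q = 5` (degree `34`) and `q = 9` (degree `134`) the budget is not met exactly.  Moved constituents cost the index
times their multiplicity, which the `2`-part bounds below, and the room left is smaller than that.  So every
constituent is fixed by `w`, restricts irreducibly to the fixed points and meets one of the permutation characters.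
-/

set_option autoImplicit false
set_option linter.unusedSectionVars false
set_option linter.style.haveILetI false

namespace Cfsg.Agent.Invol.AbgOrder

open Cfsg Cfsg.Agent.Char Cfsg.Agent.Grp.SL2 Cfsg.Agent.PSL2Spec Matrix
open scoped ComplexConjugate

universe u v t

namespace UData

variable {C : Type u} [Group C] [Fintype C] {X : Type v} [Group X] {F : Type t} [Field F] [Fintype F]
  (B : UData C X F) [Fintype B.O] [Fintype B.R] [Fintype B.Gw]

local notation "SL₂" => Matrix.SpecialLinearGroup (Fin 2) F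

/-- What the exceptions need at a constituent. -/
def Good (θ : IrrCharacter B.O) : Prop :=
  Char.conjN B.O B.w (θ : B.O → ℂ) = (θ : B.O → ℂ) ∧ IsIrrCharacter B.R (B.resR θ) ∧
    (θ = B.triv ∨ classInner B.πw (B.resR θ) ≠ 0 ∨ classInner B.πu (B.resR θ) ≠ 0)

open _root_.Classical in
/-- The orbit of a character under `SL(2, q)`. -/
theorem orbit_le {θ : IrrCharacter B.O} (hθ : θ ≠ B.triv) (g : IrrCharacter B.O → ℤ) (hg : ∀ φ, 0 ≤ g φ) {m : ℤ}
    (hm : ∀ c, m ≤ g (B.conjI c θ)) :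
    ((B.K0 (θ : B.O → ℂ)).index : ℤ) * m ≤ ∑ φ ∈ Finset.univ.erase B.triv, g φ := by
  haveI : Fintype (SL₂ ⧸ B.K0 (θ : B.O → ℂ)) := Fintype.ofFinite _
  choose l hl using fun x : SL₂ ⧸ B.K0 (θ : B.O → ℂ) => B.surj (B.ι (x.out)⁻¹)
  have hinj : Function.Injective fun x => B.conjI (l x) θ := by
    intro x y h
    have h' : Char.conjN B.O (l x) (θ : B.O → ℂ) = Char.conjN B.O (l y) (θ : B.O → ℂ) := congrArg Subtype.val h
    have hfix : Char.conjN B.O (l x * (l y)⁻¹) (θ : B.O → ℂ) = (θ : B.O → ℂ) := by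
      rw [conjN_mul, h', conjN_inv_cancel]
    have hs : B.σ (l x * (l y)⁻¹) = B.ι ((x.out)⁻¹ * y.out) := by
      rw [map_mul, map_inv, hl, hl, map_mul, ← map_inv B.ι, inv_inv]
    have h2 := (B.mem_K0 (IsIrr.classFun θ.2) hs).2 hfix
    rw [← QuotientGroup.out_eq' x, ← QuotientGroup.out_eq' y]
    exact QuotientGroup.eq.2 h2
  have htriv : ∀ c, B.conjI c θ ≠ B.triv := fun c h => hθ (Subtype.ext (by
    have h' := congrArg (fun φ : IrrCharacter B.O => Char.conjN B.O c⁻¹ (φ : B.O → ℂ)) h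
    simp only [conjI_coe, conjN_inv_cancel, B.triv_fix] at h'
    exact h'))
  calc ((B.K0 (θ : B.O → ℂ)).index : ℤ) * m = ∑ _x : SL₂ ⧸ B.K0 (θ : B.O → ℂ), m := by
        rw [Finset.sum_const, Finset.card_univ, ← Nat.card_eq_fintype_card, Subgroup.index_eq_card, nsmul_eq_mul]
    _ ≤ ∑ x, g (B.conjI (l x) θ) := Finset.sum_le_sum fun x _ => hm _
    _ = ∑ φ ∈ Finset.univ.image fun x => B.conjI (l x) θ, g φ := (Finset.sum_image fun x _ y _ h => hinj h).symm
    _ ≤ _ := Finset.sum_le_sum_of_subset_of_nonneg (fun φ hφ => by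
        obtain ⟨x, -, rfl⟩ := Finset.mem_image.1 hφ
        exact Finset.mem_erase.2 ⟨htriv _, Finset.mem_univ _⟩) fun φ _ _ => hg φ

/-- The stabiliser of a character fixed by `w` is normalised by its matrix. -/
theorem inn_mem_K0 {θ : B.O → ℂ} (hθ : IsClassFunction B.O θ) (hfix : Char.conjN B.O B.w θ = θ) {s : SL₂}
    (hs : s ∈ B.K0 θ) : inn B.gw s ∈ B.K0 θ := by
  show B.ι (inn B.gw s) ∈ (inertia B.O θ).map B.σ
  have hw : B.σ B.w ∈ (inertia B.O θ).map B.σ := (B.mem_map_inertia hθ rfl).2 hfix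
  have e : B.ι (inn B.gw s) = B.σ B.w * B.ι s * B.σ B.w := by
    rw [B.conj_w, mul_assoc, ← map_mul B.σ, B.w2, map_one, mul_one]
  rw [e]
  exact Subgroup.mul_mem _ (Subgroup.mul_mem _ hw hs) hw

/-- An `L`-fixed nontrivial character: the `2`-part of `PSL(2, q)` divides the multiplicity. -/
theorem two_part_dvd_lfix {θ : IrrCharacter B.O} (hθ : θ ≠ B.triv) (hL : B.Lfix (θ : B.O → ℂ)) {k : ℕ}
    (hk : 2 ^ k ∣ Nat.card (Matrix.ProjectiveSpecialLinearGroup (Fin 2) F)) : 2 ^ k ∣ B.n θ := by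
  refine B.two_part_dvd (fun h => hθ (Subtype.ext h)) ?_
  rw [show B.K0 (θ : B.O → ℂ) = ⊤ from hL, Subgroup.map_top_of_surjective _ Cfsg.Agent.Dickson.proj_surjective, Subgroup.card_top]
  exact hk

open _root_.Classical in
/-- The weights and the coefficients in integers. -/
theorem int_sums (W : B.WExp) (he : B.e = 0) {d b : IrrCharacter B.O → ℕ}
    (hdb : ∀ θ, 0 < d θ ∧ (θ : B.O → ℂ) 1 = d θ ∧
      (Char.conjN B.O B.w (θ : B.O → ℂ) = (θ : B.O → ℂ) → 0 < b θ ∧ W.β θ 1 = b θ ∧ b θ ≤ d θ)) :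
    (∑ θ, (B.n θ : ℤ) * d θ = B.Dp) ∧ (Fintype.card F : ℤ) + 1 ≤ ∑ θ, |W.a θ| * b θ := by
  constructor
  · have h := B.sum_weight
    simp only [fun θ => (hdb θ).2.1] at h
    exact_mod_cast h
  · have h := B.sum_coef W hdb
    rw [he, Nat.cast_zero, zero_sub] at h
    have h' : ∑ θ, W.a θ * b θ = -((Fintype.card F : ℤ) + 1) := by exact_mod_cast h
    rw [← neg_le_neg_iff, ← h', ← Finset.sum_neg_distrib]
    exact Finset.sum_le_sum fun θ _ => by
      rw [← neg_mul]
      exact mul_le_mul_of_nonneg_right (neg_abs_le _) (Nat.cast_nonneg _)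

/-- The coefficient at the trivial character. -/
theorem two_le_a_triv (W : B.WExp) (he : B.e = 0) (hw : 2 ≤ (classInner B.πw fun _ => 1).re)
    (hu : 2 ≤ (classInner B.πu fun _ => 1).re) : 2 ≤ |W.a B.triv| := by
  have h1 : IsCharacter B.R (fun _ => (1 : ℂ)) := IsIrr.isCharacter isIrr_one
  obtain ⟨x, hx⟩ := IsChar.classInner_nat B.πw_char h1
  obtain ⟨y, hy⟩ := IsChar.classInner_nat B.πu_char h1
  rw [hx, Complex.natCast_re] at hw
  rw [hy, Complex.natCast_re] at hu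
  have h := W.coef B.triv (B.triv_fix _)
  rw [B.β_triv W, show B.cw = (-2⁻¹ : ℂ) • (B.πw + B.πu) from funext fun r => by
    rw [B.cw_eq, he]; simp; ring, classInner_smul_left, classInner_add_left, hx, hy] at h
  have h' : ((-(2 * W.a B.triv) : ℤ) : ℂ) = (((x + y : ℕ) : ℤ) : ℂ) := by
    push_cast
    linear_combination 2 * h
  rw [Int.cast_inj] at h'
  have hx' : 2 ≤ x := by exact_mod_cast hw
  have hy' : 2 ≤ y := by exact_mod_cast hu
  have := neg_le_abs (W.a B.triv)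
  omega

open _root_.Classical in
/-- The case analysis, with room `r` away from the trivial character. -/
theorem exc_core (W : B.WExp) (h5 : 5 ≤ Fintype.card F) (he : B.e = 0) {k r : ℕ} (hk : 2 * k + 1 = Fintype.card F)
    (ht : (B.Dp : ℤ) ≤ k * (Fintype.card F + 1) + r + (B.n B.triv - k * |W.a B.triv|))
    (hfx : ∀ θ : IrrCharacter B.O, θ ≠ B.triv → 0 < B.n θ → ¬ B.Lfix (θ : B.O → ℂ) →
      Char.conjN B.O B.w (θ : B.O → ℂ) = (θ : B.O → ℂ) →
      B.Dp < B.n B.triv + (B.K0 (θ : B.O → ℂ)).index * B.n θ)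
    (hmv : ∀ θ : IrrCharacter B.O, θ ≠ B.triv → 0 < B.n θ → ¬ B.Lfix (θ : B.O → ℂ) →
      r < (B.K0 (θ : B.O → ℂ)).index * B.n θ)
    (htwo : ∀ θ : IrrCharacter B.O, θ ≠ B.triv → 0 < B.n θ → B.Lfix (θ : B.O → ℂ) → r < 2 * B.n θ)
    (hout : ∀ θ : IrrCharacter B.O, θ ≠ B.triv → 0 < B.n θ → B.Lfix (θ : B.O → ℂ) →
      Char.conjN B.O B.w (θ : B.O → ℂ) = (θ : B.O → ℂ) → W.a θ = 0 → r < B.n θ) :
    ∀ θ, B.Cons θ → B.Good θ := by
  obtain ⟨d, b, hdb⟩ := B.exists_degrees W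
  obtain ⟨hD, hA⟩ := B.int_sums W he hdb
  have hd1 : ∀ θ, (1 : ℤ) ≤ d θ := fun θ => by exact_mod_cast (hdb θ).1
  have hdc : ∀ c θ, d (B.conjI c θ) = d θ := fun c θ => by
    have h := B.one_conj c θ
    rw [(hdb _).2.1, (hdb _).2.1] at h
    exact_mod_cast h
  have htd : d B.triv = 1 := by
    have h : (1 : ℂ) = d B.triv := (hdb B.triv).2.1
    exact_mod_cast h.symm
  have htb : b B.triv = 1 := by
    have h := ((hdb B.triv).2.2 (B.triv_fix _)).2.1
    rw [B.β_triv W] at h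
    exact Nat.cast_eq_one.1 h.symm
  have ha0 : ∀ θ, B.n θ = 0 → W.a θ = 0 := fun θ h => by
    have := W.bound θ (B.n θ) (B.n_spec θ)
    rw [h] at this
    simpa using this
  -- no moved character fixed by `w`
  have hno : ∀ θ : IrrCharacter B.O, 0 < B.n θ → Char.conjN B.O B.w (θ : B.O → ℂ) = (θ : B.O → ℂ) →
      B.Lfix (θ : B.O → ℂ) := by
    intro θ hn hf
    by_contra hL
    have hθ : θ ≠ B.triv := fun e => hL (e ▸ B.triv_lfix)
    have h := B.orbit_le hθ (fun φ => (B.n φ : ℤ) * d φ) (fun φ => by positivity) (m := (B.n θ : ℤ)) fun c => by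
      show (B.n θ : ℤ) ≤ _ * _
      rw [B.n_conj, hdc]
      exact le_mul_of_one_le_right (Nat.cast_nonneg _) (hd1 θ)
    have h' : (B.n B.triv : ℤ) + ∑ φ ∈ Finset.univ.erase B.triv, (B.n φ : ℤ) * d φ = B.Dp := by
      rw [← hD, ← Finset.add_sum_erase _ _ (Finset.mem_univ B.triv), htd, Nat.cast_one, mul_one]
    have := hfx θ hθ hn hL hf
    zify at this
    linarith
  set g : IrrCharacter B.O → ℤ := fun θ => (B.n θ : ℤ) * d θ - k * (|W.a θ| * b θ) with hg
  have hg0 : ∀ θ, W.a θ = 0 → g θ = B.n θ * d θ := fun θ h => by simp [hg, h]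
  have hb : ∀ θ, 0 < B.n θ → Char.conjN B.O B.w (θ : B.O → ℂ) = (θ : B.O → ℂ) →
      (B.n θ : ℤ) * ((d θ : ℤ) - b θ) ≤ g θ := by
    intro θ hn hf
    have h := B.lfix_bound W hf (hno θ hn hf) h5
    have h' : (k : ℤ) * |W.a θ| ≤ B.n θ := by
      rw [← hk] at h
      push_cast at h
      linarith
    have h'' := mul_le_mul_of_nonneg_right h' (Nat.cast_nonneg (b θ) : (0 : ℤ) ≤ b θ)
    simp only [hg]
    linarith
  have hpos : ∀ θ, 0 ≤ g θ := by
    intro θ
    by_cases hn : B.n θ = 0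
    · rw [hg0 θ (ha0 θ hn), hn]; simp
    by_cases hf : Char.conjN B.O B.w (θ : B.O → ℂ) = (θ : B.O → ℂ)
    · refine le_trans ?_ (hb θ (Nat.pos_of_ne_zero hn) hf)
      exact mul_nonneg (Nat.cast_nonneg _) (sub_nonneg.2 (by exact_mod_cast ((hdb θ).2.2 hf).2.2))
    · rw [hg0 θ (W.zero θ hf)]
      positivity
  have hrest : ∑ φ ∈ Finset.univ.erase B.triv, g φ ≤ r := by
    have h1 : g B.triv + ∑ φ ∈ Finset.univ.erase B.triv, g φ = ∑ φ, g φ :=
      Finset.add_sum_erase _ _ (Finset.mem_univ B.triv)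
    have h2 : ∑ φ, g φ = (B.Dp : ℤ) - k * ∑ φ, |W.a φ| * b φ := by
      rw [← hD, Finset.mul_sum, ← Finset.sum_sub_distrib]
    have h3 : g B.triv = (B.n B.triv : ℤ) - k * |W.a B.triv| := by simp [hg, htd, htb]
    have h4 := mul_le_mul_of_nonneg_left hA (Nat.cast_nonneg k : (0 : ℤ) ≤ k)
    linarith
  intro θ hc
  by_cases hθ : θ = B.triv
  · subst hθ
    refine ⟨B.triv_fix _, ?_, Or.inl rfl⟩
    show IsIrrCharacter B.R fun _ => (1 : ℂ)
    exact isIrr_one
  have hn := (B.cons_iff hθ).1 hc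
  have hone : g θ ≤ r :=
    le_trans (Finset.single_le_sum (f := g) (fun φ _ => hpos φ) (Finset.mem_erase.2 ⟨hθ, Finset.mem_univ _⟩)) hrest
  have hL : B.Lfix (θ : B.O → ℂ) := by
    by_contra hL
    have hmove : ∀ c, g (B.conjI c θ) = B.n θ * d θ := fun c => by
      rw [hg0, B.n_conj, hdc]
      refine W.zero _ fun hf => hL ?_
      have hn' : 0 < B.n (B.conjI c θ) := by rw [B.n_conj]; exact hn
      exact (B.lfix_conj_iff (IsIrr.classFun θ.2) c).1 (hno _ hn' hf)
    have h := B.orbit_le hθ g hpos (m := (B.n θ : ℤ)) fun c => by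
      rw [hmove]
      exact le_mul_of_one_le_right (Nat.cast_nonneg _) (hd1 θ)
    have := hmv θ hθ hn hL
    zify at this
    linarith
  have h2n := htwo θ hθ hn hL
  zify at h2n
  have hf : Char.conjN B.O B.w (θ : B.O → ℂ) = (θ : B.O → ℂ) := by
    by_contra hf
    have hne : B.conjI B.w θ ≠ θ := fun e => hf (congrArg Subtype.val e)
    have hf' : Char.conjN B.O B.w (B.conjI B.w θ : B.O → ℂ) ≠ (B.conjI B.w θ : B.O → ℂ) := fun e => hf (by
      rw [conjI_coe, ← conjN_mul, B.w2, conjN_one] at e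
      exact e.symm)
    have ht' : B.conjI B.w θ ≠ B.triv := fun e => hf' (e ▸ B.triv_fix _)
    have h := Finset.sum_le_sum_of_subset_of_nonneg (f := g)
      (show ({θ, B.conjI B.w θ} : Finset (IrrCharacter B.O)) ⊆ Finset.univ.erase B.triv from fun φ hφ => by
        rcases Finset.mem_insert.1 hφ with rfl | hφ
        · exact Finset.mem_erase.2 ⟨hθ, Finset.mem_univ _⟩
        · rw [Finset.mem_singleton.1 hφ]
          exact Finset.mem_erase.2 ⟨ht', Finset.mem_univ _⟩) fun φ _ _ => hpos φ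
    rw [Finset.sum_pair hne.symm, hg0 θ (W.zero θ hf), hg0 _ (W.zero _ hf'), B.n_conj, hdc] at h
    have := le_mul_of_one_le_right (Nat.cast_nonneg (B.n θ) : (0 : ℤ) ≤ B.n θ) (hd1 θ)
    linarith
  have ha : W.a θ ≠ 0 := fun e => by
    have h := hout θ hθ hn hL hf e
    zify at h
    rw [hg0 θ e] at hone
    have := le_mul_of_one_le_right (Nat.cast_nonneg (B.n θ) : (0 : ℤ) ≤ B.n θ) (hd1 θ)
    linarith
  obtain ⟨hbp, hb1, hbd⟩ := (hdb θ).2.2 hf
  have hbd' : b θ = d θ := by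
    by_contra hne
    have hodd : Odd (Nat.card B.O) := B.ker_odd
    have hdo : Odd (d θ) := hodd.of_dvd_nat (IsIrr.degree_dvd_card θ.2 (hdb θ).2.1)
    have hbo : Odd (b θ) := hodd.of_dvd_nat
      ((IsIrr.degree_dvd_card (W.irr θ hf) hb1).trans (Subgroup.card_dvd_of_le inf_le_left))
    have h2 : b θ + 2 ≤ d θ := by
      obtain ⟨i, hi⟩ := hdo
      obtain ⟨j, hj⟩ := hbo
      omega
    zify at h2
    have h3 := mul_le_mul_of_nonneg_left (show (2 : ℤ) ≤ (d θ : ℤ) - b θ by linarith)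
      (Nat.cast_nonneg (B.n θ) : (0 : ℤ) ≤ B.n θ)
    linarith [hb θ hn hf]
  have hres : B.resR θ = W.β θ :=
    eq_of_constituent_degree (IsChar.comp (Subgroup.inclusion (show B.R ≤ B.O from inf_le_left))
      (IsIrr.isCharacter θ.2)) (W.irr θ hf) (W.below θ hf) (by
        show (θ : B.O → ℂ) 1 = _
        rw [(hdb θ).2.1, hb1, hbd'])
  refine ⟨hf, hres ▸ W.irr θ hf, Or.inr ?_⟩
  have hβ1 : W.β θ ≠ fun _ => 1 := fun e => hθ (W.inj θ B.triv hf (B.triv_fix _) (e.trans (B.β_triv W).symm))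
  by_contra hh
  push Not at hh
  rw [hres] at hh
  have hcoef := W.coef θ hf
  rw [B.cw_inner (W.irr θ hf) hβ1, hh.1, hh.2, add_zero, neg_zero, zero_div] at hcoef
  exact ha (by exact_mod_cast hcoef.symm)

/-- The exception at `q = 5`. -/
theorem exc_five (h5 : Fintype.card F = 5) (he : B.e = 0) (hD : B.Dp = 14)
    (hw : 2 ≤ (classInner B.πw fun _ => 1).re) (hu : 2 ≤ (classInner B.πu fun _ => 1).re) :
    ∀ θ, B.Cons θ → B.Good θ := by
  obtain ⟨W⟩ := B.exists_wexp
  have ha := B.two_le_a_triv W he hw hu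
  have hb := B.lfix_bound W (B.triv_fix _) B.triv_lfix h5.ge
  rw [h5] at hb
  push_cast at hb
  have hP : 2 ^ 2 ∣ Nat.card (Matrix.ProjectiveSpecialLinearGroup (Fin 2) F) := by
    have h := (card_two_groups (F := F) (odd_of_two_ne B.char2)).2
    rw [h5] at h
    rw [show Nat.card (Matrix.ProjectiveSpecialLinearGroup (Fin 2) F) = 60 by omega]
    norm_num
  have hcost : ∀ θ : IrrCharacter B.O, θ ≠ B.triv → 0 < B.n θ → ¬ B.Lfix (θ : B.O → ℂ) →
      12 ≤ (B.K0 (θ : B.O → ℂ)).index * B.n θ := fun θ hθ hn hL =>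
    cost_five h5 B.char2 (B.neg_one_mem_K0 (IsIrr.classFun θ.2)) hL hn fun j hj =>
      B.two_part_dvd (fun h => hθ (Subtype.ext h)) hj
  refine B.exc_core W h5.ge he (k := 2) (r := 2) (by rw [h5]) ?_ (fun θ hθ hn hL _ => ?_)
    (fun θ hθ hn hL => by linarith [hcost θ hθ hn hL]) (fun θ hθ hn hL => ?_) fun θ hθ hn hL _ _ => ?_
  · rw [hD, h5]
    push_cast
    linarith
  · have := hcost θ hθ hn hL
    omega
  all_goals
    have := Nat.le_of_dvd hn (B.two_part_dvd_lfix hθ hL hP)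
    omega

/-- The exception at `q = 9`, given a constituent of degree `q + 1` on the group itself. -/
theorem exc_nine [Fintype X] (h9 : Fintype.card F = 9) (he : B.e = 0) (hD : B.Dp = 62)
    (hw : 2 ≤ (classInner B.πw fun _ => 1).re) (hu : 2 ≤ (classInner B.πu fun _ => 1).re) (hY : B.Yw = ⊤)
    {ψ : X → ℂ} (hψ : IsIrrCharacter X ψ) (h10 : ψ 1 = 10) (hz : ψ (B.σ B.z) = ψ 1) (hψw : ψ (B.σ B.w) = 0)
    (hc : classInner (fun c : C => B.χ c) (fun c => ψ (B.σ c)) ≠ 0) :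
    ∀ θ, B.Cons θ → B.Good θ := by
  obtain ⟨W⟩ := B.exists_wexp
  have ha := B.two_le_a_triv W he hw hu
  have hb := B.triv_bound W hY hψ (d := 10) (by rw [h10]; norm_num) (by norm_num) (by rw [h9]; norm_num) hz hψw hc
  rw [h9] at hb
  push_cast at hb
  have hP : Nat.card (Matrix.ProjectiveSpecialLinearGroup (Fin 2) F) = 360 := by
    have h := (card_two_groups (F := F) (odd_of_two_ne B.char2)).2
    rw [h9] at h
    omega
  have hS : 2 ^ 4 ∣ Nat.card SL₂ := by
    rw [(card_two_groups (F := F) (odd_of_two_ne B.char2)).1, hP]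
    norm_num
  have h5 : 5 ≤ Fintype.card F := by omega
  refine B.exc_core W h5 he (k := 4) (r := 12) (by rw [h9]) ?_ (fun θ hθ hn hL hf => ?_)
    (fun θ hθ hn hL => ?_) (fun θ hθ hn hL => ?_) fun θ hθ hn hL hf ha0 => ?_
  · rw [hD, h9]
    push_cast
    linarith
  · have := cost_nine_fix h9 B.char2 B.ν_ns B.gw_mem (B.neg_one_mem_K0 (IsIrr.classFun θ.2)) hL
      (fun s hs => B.inn_mem_K0 (IsIrr.classFun θ.2) hf hs) hn fun j hj =>
        B.two_part_dvd (fun h => hθ (Subtype.ext h)) hj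
    omega
  · have := (cost_nine h9 B.char2 (B.neg_one_mem_K0 (IsIrr.classFun θ.2)) hL hn fun j hj =>
        B.two_part_dvd (fun h => hθ (Subtype.ext h)) hj).1
    omega
  · have := Nat.le_of_dvd hn (B.two_part_dvd_lfix hθ hL (k := 3) (by rw [hP]; norm_num))
    omega
  · have := Nat.le_of_dvd hn (B.two_part_dvd_outer W (fun h => hθ (Subtype.ext h)) hf hL ha0 hS)
    omega

end UData

end Cfsg.Agent.Invol.AbgOrder
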