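import Cfsg.Agent.Lib.Invol.AbgOrder.ProjKer
import Cfsg.Agent.Lib.Char.AlperinBlocks

/-!
# A normal subgroup of odd index supplemented by the centraliser of a Sylow `2`-subgroup

The kernel of the principal block is that of the subgroup, and conjugacy of `2`-elements is conjugacy in it.
-/

set_option autoImplicit false
set_option linter.unusedSectionVars false
set_option linter.style.haveILetI false

open scoped ComplexConjugate Classical

namespace Cfsg.Agent.Invol.AbgOrder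

open Cfsg Cfsg.Agent.Char Cfsg.Agent.Block

universe u

variable {X : Type u} [Group X] [Fintype X]

/-- `N` is normal of odd index and, with the centraliser of a Sylow `2`-subgroup, generates `X`. -/
structure NHyp (N : Subgroup X) : Prop where
  normal : N.Normal
  odd : ¬ 2 ∣ N.index
  ex : ∃ P : Sylow 2 X, Alperin.Hyp 2 N (P : Subgroup X)

theorem mem_of_two_power {N : Subgroup X} [N.Normal] (hN : ¬ 2 ∣ N.index) {x : X}
    (hx : ∃ k : ℕ, orderOf x = 2 ^ k) : x ∈ N := by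
  obtain ⟨k, hk⟩ := hx
  rw [← QuotientGroup.eq_one_iff, ← orderOf_eq_one_iff]
  refine Nat.eq_one_of_dvd_coprimes ?_ (hk ▸ orderOf_map_dvd (QuotientGroup.mk' N) x) (orderOf_dvd_natCard _)
  exact ((Nat.prime_two.coprime_iff_not_dvd).2 hN).pow_left k

/-- Frattini's argument with a Sylow subgroup having a `2`-group of automorphisms. -/
theorem nhyp_of_aut (N : Subgroup X) [hn : N.Normal] (hN : ¬ 2 ∣ N.index) (P : Sylow 2 X)
    (hA : IsPGroup 2 (MulAut (P : Subgroup X))) : NHyp N := by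
  haveI : Fact (Nat.Prime 2) := ⟨Nat.prime_two⟩
  have hle : (P : Subgroup X) ≤ N := fun x hx => mem_of_two_power hN (by
    obtain ⟨k, hk⟩ := IsPGroup.iff_orderOf.1 P.isPGroup' ⟨x, hx⟩
    exact ⟨k, by rw [← hk, Subgroup.orderOf_mk]⟩)
  refine ⟨hn, hN, P, hN, hle, P.not_dvd_index, eq_top_iff.2 fun g _ => ?_⟩
  let PN : Sylow 2 N := P.subtype hle
  have hF := Sylow.normalizer_sup_eq_top PN
  have hmap : (PN : Subgroup N).map N.subtype = (P : Subgroup X) := by
    rw [Sylow.coe_subtype, Subgroup.subgroupOf_map_subtype, inf_eq_left]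
    exact hle
  rw [hmap] at hF
  obtain ⟨a, ha, n, hn', rfl⟩ := Subgroup.mem_sup_of_normal_right.1 (hF ▸ Subgroup.mem_top g)
  refine mul_mem ?_ (Subgroup.mem_sup_left hn')
  obtain ⟨u, v, huv, -, ⟨k, hk⟩, hv, huz, hvz⟩ := exists_pPart_zpowers (p := 2) a
  rw [← huv]
  refine mul_mem (Subgroup.mem_sup_left (mem_of_two_power hN ⟨k, hk⟩)) (Subgroup.mem_sup_right ?_)
  have hvn : v ∈ Subgroup.normalizer ((P : Subgroup X) : Set X) := (Subgroup.zpowers_le.2 ha) hvz
  obtain ⟨j, hj⟩ := IsPGroup.iff_orderOf.1 hA ((P : Subgroup X).normalizerMonoidHom ⟨v, hvn⟩)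
  have h1 : (P : Subgroup X).normalizerMonoidHom ⟨v, hvn⟩ = 1 := by
    rw [← orderOf_eq_one_iff]
    refine Nat.eq_one_of_dvd_coprimes ?_ (dvd_of_eq hj)
      ((orderOf_map_dvd _ _).trans (dvd_of_eq (Subgroup.orderOf_mk v hvn)))
    exact ((Nat.prime_two.coprime_iff_not_dvd).2 hv).pow_left j
  have h2 : (⟨v, hvn⟩ : Subgroup.normalizer ((P : Subgroup X) : Set X)) ∈
      (P : Subgroup X).normalizerMonoidHom.ker := h1
  rw [Subgroup.normalizerMonoidHom_ker] at h2
  exact h2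

variable {N : Subgroup X}

namespace NHyp

variable (h : NHyp N)
include h

/-- An element of `N` conjugates a `2`-element into the Sylow subgroup. -/
theorem exists_into {x : X} (hx : ∃ k : ℕ, orderOf x = 2 ^ k) :
    ∃ P : Sylow 2 X, Alperin.Hyp 2 N (P : Subgroup X) ∧ x ∈ (P : Subgroup X) := by
  haveI : Fact (Nat.Prime 2) := ⟨Nat.prime_two⟩
  obtain ⟨P, hP⟩ := h.ex
  obtain ⟨k, hk⟩ := hx
  obtain ⟨R, hR⟩ := (IsPGroup.of_card (G := Subgroup.zpowers x) (p := 2) (n := k)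
    (by rw [Nat.card_zpowers, hk])).exists_le_sylow
  obtain ⟨g, hg⟩ := MulAction.exists_smul_eq X P R
  refine ⟨R, ⟨hP.idx, fun y hy => ?_, R.not_dvd_index, ?_⟩, hR (Subgroup.mem_zpowers x)⟩
  · obtain ⟨j, hj⟩ := IsPGroup.iff_orderOf.1 R.isPGroup' ⟨y, hy⟩
    haveI := h.normal
    exact mem_of_two_power h.odd ⟨j, by rw [← hj, Subgroup.orderOf_mk]⟩
  · rw [eq_top_iff]
    intro y _
    haveI := h.normal
    obtain ⟨n, hn, c, hc, e⟩ := Alperin.exists_rep N hP (g⁻¹ * y * g)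
    have e' : y = (g * n * g⁻¹) * (g * c * g⁻¹) := by rw [conj_mul, e]; group
    rw [e']
    refine mul_mem (Subgroup.mem_sup_left (h.normal.conj_mem n hn g)) (Subgroup.mem_sup_right ?_)
    rw [← hg, Subgroup.mem_centralizer_iff]
    intro t ht
    rw [Sylow.coe_subgroup_smul, SetLike.mem_coe, Subgroup.mem_pointwise_smul_iff_inv_smul_mem, ← map_inv,
      MulAut.smul_def, MulAut.conj_apply, inv_inv] at ht
    have h1 := Subgroup.mem_centralizer_iff.1 hc _ ht
    calc t * (g * c * g⁻¹) = g * (g⁻¹ * t * g * c) * g⁻¹ := by group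
      _ = g * (c * (g⁻¹ * t * g)) * g⁻¹ := by rw [h1]
      _ = _ := by group

/-- Conjugacy of a `2`-element is conjugacy by an element of `N`. -/
theorem conj_mem {x : X} (hx : ∃ k : ℕ, orderOf x = 2 ^ k) (g : X) : ∃ n ∈ N, g * x * g⁻¹ = n * x * n⁻¹ := by
  haveI := h.normal
  obtain ⟨P, hP, hxP⟩ := h.exists_into hx
  obtain ⟨n, hn, c, hc, rfl⟩ := Alperin.exists_rep N hP g
  refine ⟨n, hn, ?_⟩
  have h1 := Subgroup.mem_centralizer_iff.1 hc x hxP
  calc n * c * x * (n * c)⁻¹ = n * (c * x) * c⁻¹ * n⁻¹ := by group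
    _ = n * (x * c) * c⁻¹ * n⁻¹ := by rw [h1]
    _ = n * x * n⁻¹ := by group

theorem isConj_iff_mem {x y : N} (hx : ∃ k : ℕ, orderOf x = 2 ^ k) : IsConj (x : X) (y : X) ↔ IsConj x y := by
  refine ⟨fun hc => ?_, fun hc => N.subtype.map_isConj hc⟩
  obtain ⟨g, hg⟩ := isConj_iff.1 hc
  obtain ⟨n, hn, e⟩ := h.conj_mem (x := (x : X)) (by simpa only [Subgroup.orderOf_coe] using hx) g
  exact isConj_iff.2 ⟨⟨n, hn⟩, Subtype.ext (by show n * (x : X) * n⁻¹ = y; rw [← e, hg])⟩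

/-- The kernel of the principal block is that of `N`. -/
theorem blockKer_sub {M : Ideal AlgInt} (hM : IsPModular 2 M) (v w : N) :
    blockKer M (v : X) (w : X) = blockKer M v w := by
  haveI : Fact (Nat.Prime 2) := ⟨Nat.prime_two⟩
  haveI := h.normal
  obtain ⟨P, hP⟩ := h.ex
  obtain ⟨h1, h2⟩ := Alperin.isomorphic_blocks hM N hP
  choose r hr hres using h1
  refine Finset.sum_bij (fun χ hχ => r χ (Finset.mem_filter.1 hχ).2) (fun χ hχ => ?_) (fun a ha b hb e => ?_)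
    (fun θ hθ => ?_) (fun χ hχ => ?_)
  · exact Finset.mem_filter.2 ⟨Finset.mem_univ _, hr χ _⟩
  · refine (h2 _ (hr a (Finset.mem_filter.1 ha).2)).unique ⟨(Finset.mem_filter.1 ha).2, hres a _⟩
      ⟨(Finset.mem_filter.1 hb).2, fun n => ?_⟩
    rw [e]; exact hres b _ n
  · obtain ⟨χ, ⟨hχ, he⟩, -⟩ := h2 θ (Finset.mem_filter.1 hθ).2
    exact ⟨χ, Finset.mem_filter.2 ⟨Finset.mem_univ _, hχ⟩,
      Subtype.ext (funext fun n => by rw [← hres χ hχ n, he n])⟩
  · rw [hres, hres]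

end NHyp

end Cfsg.Agent.Invol.AbgOrder
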