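import Cfsg.Agent.Lib.Invol.AbgOrder.ProjData
import Cfsg.Agent.Lib.Invol.AbgOrder.OrdAlperin
import Cfsg.Agent.Lib.Char.Contrib

/-!
# The principal 2-block on elements of odd order

The span of the principal block is closed under cutting off to the elements of odd order and under restriction to
normal subgroups; a permutation character minus one, irreducible and of even degree plus one, lies in the principal
block.
-/

set_option autoImplicit false
set_option linter.unusedSectionVars false
set_option linter.style.haveILetI false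

open scoped ComplexConjugate Classical

namespace Cfsg.Agent.Invol.AbgOrder

open Cfsg Cfsg.Agent.Char Cfsg.Agent.Block

universe u v

variable {X : Type u} [Group X] [Fintype X] {M : Ideal AlgInt}

theorem InB0.expand {f : X → ℂ} (hf : InB0 M f) (x : X) :
    f x = ∑ χ ∈ Finset.univ.filter (fun χ : IrrCharacter X => χ ∈ principalBlock M X),
      classInner f χ * (χ : X → ℂ) x := by
  rw [Finset.sum_filter]
  refine (congrFun (classFunction_expansion hf.1) x).trans ?_
  rw [Finset.sum_apply]
  refine Finset.sum_congr rfl fun χ _ => ?_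
  split_ifs with h
  · rfl
  · rw [Pi.smul_apply, hf.2 χ h, zero_smul]

/-- Inner products of a combination. -/
theorem classInner_comb {Y : Type v} [Group Y] [Fintype Y] {ι : Type*} (S : Finset ι) (c : ι → ℂ)
    (φ : ι → Y → ℂ) {f : Y → ℂ} (hg : ∀ y, f y = ∑ i ∈ S, c i * φ i y) (ψ : Y → ℂ) :
    classInner f ψ = ∑ i ∈ S, c i * classInner (φ i) ψ := by
  simp only [classInner, hg, Finset.mul_sum, Finset.sum_mul]
  rw [Finset.sum_comm]
  exact Finset.sum_congr rfl fun i _ => Finset.sum_congr rfl fun y _ => by ring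

theorem InB0.of_expand {f : X → ℂ} (c : IrrCharacter X → ℂ)
    (h : ∀ x, f x = ∑ χ ∈ Finset.univ.filter (fun χ : IrrCharacter X => χ ∈ principalBlock M X),
      c χ * (χ : X → ℂ) x) : InB0 M f := by
  refine ⟨fun g t => ?_, fun ψ hψ => ?_⟩
  · rw [h, h]
    exact Finset.sum_congr rfl fun χ _ => by rw [irr_classFun χ g t]
  · have e : classInner f (ψ : X → ℂ) = ∑ χ ∈ Finset.univ.filter (fun χ : IrrCharacter X =>
        χ ∈ principalBlock M X), c χ * classInner (χ : X → ℂ) (ψ : X → ℂ) := by
      simp only [classInner, h, Finset.sum_mul, Finset.mul_sum]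
      rw [Finset.sum_comm]
      exact Finset.sum_congr rfl fun χ _ => Finset.sum_congr rfl fun x _ => by ring
    rw [e]
    refine Finset.sum_eq_zero fun χ hχ => ?_
    rw [classInner_irr_ne χ.2 ψ.2 (fun hh => hψ ((Subtype.ext hh : χ = ψ) ▸ (Finset.mem_filter.1 hχ).2)),
      mul_zero]

theorem InB0.sub {f g : X → ℂ} (hf : InB0 M f) (hg : InB0 M g) : InB0 M (fun x => f x - g x) :=
  InB0.of_expand (fun χ => classInner f χ - classInner g χ) fun x => by
    rw [hf.expand x, hg.expand x, ← Finset.sum_sub_distrib]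
    exact Finset.sum_congr rfl fun χ _ => by ring

theorem InB0.smul {f : X → ℂ} (hf : InB0 M f) (a : ℂ) : InB0 M (fun x => a * f x) :=
  InB0.of_expand (fun χ => a * classInner f χ) fun x => by
    rw [hf.expand x, Finset.mul_sum]
    exact Finset.sum_congr rfl fun χ _ => by ring

theorem InB0.irr {χ : IrrCharacter X} (h : χ ∈ principalBlock M X) : InB0 M (χ : X → ℂ) :=
  InB0.of_expand (fun ψ => if ψ = χ then 1 else 0) fun x => by
    rw [Finset.sum_eq_single χ]
    · rw [if_pos rfl, one_mul]
    · exact fun ψ _ hne => by rw [if_neg hne, zero_mul]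
    · exact fun hh => absurd (Finset.mem_filter.2 ⟨Finset.mem_univ _, h⟩) hh

/-- Cutting off to the elements of odd order stays in the span of the principal block. -/
theorem InB0.regular (hM : IsPModular 2 M) {f : X → ℂ} (hf : InB0 M f) :
    InB0 M (fun x => if ¬ 2 ∣ orderOf x then f x else 0) := by
  set g : X → ℂ := fun x => if ¬ 2 ∣ orderOf x then f x else 0
  refine InB0.of_expand (fun χ => classInner g χ) fun x => ?_
  have hK : ∑ χ ∈ Finset.univ.filter (fun χ : IrrCharacter X => χ ∈ principalBlock M X),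
      classInner g χ * (χ : X → ℂ) x = (Nat.card X : ℂ)⁻¹ * ∑ k : X, g k * blockKer M x k := by
    simp only [classInner, blockKer, Finset.mul_sum, Finset.sum_mul]
    rw [Finset.sum_comm]
    exact Finset.sum_congr rfl fun χ _ => Finset.sum_congr rfl fun k _ => by ring
  rw [hK]
  by_cases hx : 2 ∣ orderOf x
  · rw [show g x = 0 from if_neg (not_not.2 hx), Finset.sum_eq_zero, mul_zero]
    intro k _
    by_cases hk : 2 ∣ orderOf k
    · rw [show g k = 0 from if_neg (not_not.2 hk), zero_mul]
    · have h0 : blockKer M k x = 0 := blockKer_regular hM hk hx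
      have h1 : blockKer M x k = conj (blockKer M k x) := by
        simp only [blockKer, map_sum, map_mul, Complex.conj_conj]
        exact Finset.sum_congr rfl fun χ _ => mul_comm _ _
      rw [h1, h0, map_zero, mul_zero]
  · rw [show g x = f x from if_pos hx, ← sum_blockKer hf x]
    congr 1
    refine Finset.sum_congr rfl fun k _ => ?_
    by_cases hk : 2 ∣ orderOf k
    · rw [blockKer_regular hM hx hk, mul_zero, mul_zero]
    · rw [show g k = f k from if_pos hk]

/-- Restriction to a normal subgroup. -/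
theorem InB0.res (hM : IsPModular 2 M) {f : X → ℂ} (hf : InB0 M f) (N : Subgroup X) [N.Normal] [Fintype N] :
    InB0 M (fun n : N => f n) := by
  haveI : Fact (Nat.Prime 2) := ⟨Nat.prime_two⟩
  refine ⟨fun n m => hf.1 (n : X) (m : X), fun ψ hψ => ?_⟩
  have e := classInner_comb _ (fun χ : IrrCharacter X => classInner f χ)
    (fun χ : IrrCharacter X => fun n : N => (χ : X → ℂ) n) (f := fun n : N => f n) (fun n => hf.expand n)
    (ψ : N → ℂ)
  rw [e]
  refine Finset.sum_eq_zero fun χ hχ => ?_
  by_contra hne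
  have hne' := (mul_ne_zero_iff.1 hne).2
  have h1 : classInner (fun n : N => (trivialIrr X : X → ℂ) n) (trivialIrr N : N → ℂ) ≠ 0 := by
    rw [show classInner (fun n : N => (trivialIrr X : X → ℂ) n) (trivialIrr N : N → ℂ) = 1 from
      classInner_self_irr (isIrr_one (G := N))]
    exact one_ne_zero
  obtain ⟨g, θ', hθ', he⟩ := constituents_in_conjugates N hM isPBlock_principalBlock
    isPBlock_principalBlock (trivial_mem_principalBlock hM) (trivial_mem_principalBlock hM)
    h1 (Finset.mem_filter.1 hχ).2 hne'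
  refine hψ ?_
  have h2 : SameBlock M ((conjPerm N g (trivialIrr N) : IrrCharacter N) : N → ℂ)
      ((conjPerm N g θ' : IrrCharacter N) : N → ℂ) := sameBlock_conjPerm N g hθ'
  have e : ψ = conjPerm N g θ' := Subtype.ext (funext he)
  rw [e]
  exact h2

/-- Transport along an isomorphism. -/
theorem InB0.comp_mulEquiv {Y : Type u} [Group Y] [Fintype Y] (e : Y ≃* X) {f : X → ℂ} (hf : InB0 M f) :
    InB0 M (fun y => f (e y)) := by
  let pull : IrrCharacter X → IrrCharacter Y := fun χ =>
    ⟨fun y => (χ : X → ℂ) (e y), IsIrr.comp_mulEquiv e χ.2⟩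
  have hinj : Function.Injective pull := fun a b h => Subtype.ext (funext fun x => by
    have := congrFun (congrArg Subtype.val h) (e.symm x)
    simpa [pull] using this)
  refine ⟨fun g t => ?_, fun ψ hψ => ?_⟩
  · show f (e (t * g * t⁻¹)) = f (e g)
    rw [map_mul, map_mul, map_inv]
    exact hf.1 (e g) (e t)
  · have hsum := classInner_comb _ (fun χ : IrrCharacter X => classInner f χ)
      (fun χ : IrrCharacter X => (pull χ : Y → ℂ)) (f := fun y => f (e y)) (fun y => hf.expand (e y))
      (ψ : Y → ℂ)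
    rw [hsum]
    refine Finset.sum_eq_zero fun χ hχ => ?_
    rw [classInner_irr_ne (pull χ).2 ψ.2 (fun hh => hψ ((Subtype.ext hh : pull χ = ψ) ▸
      Alperin.mem_principal_comp_mulEquiv e (Finset.mem_filter.1 hχ).2)), mul_zero]

namespace NHyp

variable {N : Subgroup X}

/-- A function in the span of the principal block vanishing on `N` is zero. -/
theorem eq_zero_of_res (h : NHyp N) (hM : IsPModular 2 M) [Fintype N] {f : X → ℂ} (hf : InB0 M f)
    (h0 : ∀ n : N, f n = 0) (x : X) : f x = 0 := by
  haveI : Fact (Nat.Prime 2) := ⟨Nat.prime_two⟩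
  haveI := h.normal
  obtain ⟨P, hP⟩ := h.ex
  obtain ⟨h1, h2⟩ := Alperin.isomorphic_blocks hM N hP
  choose r hr hres using h1
  rw [hf.expand x]
  refine Finset.sum_eq_zero fun χ₀ hχ₀ => ?_
  have hχ' := (Finset.mem_filter.1 hχ₀).2
  have hc : classInner (fun n : N => f n) (r χ₀ hχ' : N → ℂ) = classInner f χ₀ := by
    have e := classInner_comb _ (fun χ : IrrCharacter X => classInner f χ)
      (fun χ : IrrCharacter X => fun n : N => (χ : X → ℂ) n) (f := fun n : N => f n) (fun n => hf.expand n)
      (r χ₀ hχ' : N → ℂ)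
    rw [e, Finset.sum_eq_single χ₀]
    · rw [show (fun n : N => (χ₀ : X → ℂ) n) = (r χ₀ hχ' : N → ℂ) from funext (hres χ₀ hχ'),
        classInner_self_irr (r χ₀ hχ').2, mul_one]
    · intro χ hχ hne
      have hχp := (Finset.mem_filter.1 hχ).2
      rw [show (fun n : N => (χ : X → ℂ) n) = (r χ hχp : N → ℂ) from funext (hres χ hχp),
        classInner_irr_ne (r χ hχp).2 (r χ₀ hχ').2 (fun hh => hne ?_), mul_zero]
      refine (h2 _ (hr χ hχp)).unique ⟨hχp, hres χ hχp⟩ ⟨hχ', fun n => ?_⟩
      rw [show (r χ hχp : N → ℂ) = (r χ₀ hχ' : N → ℂ) from hh]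
      exact hres χ₀ hχ' n
    · exact fun hh => absurd hχ₀ hh
  rw [← hc, show (fun n : N => f n) = fun _ => 0 from funext h0]
  simp [classInner]

/-- A function in the span of the principal block vanishing on the odd elements of `N` vanishes on all odd
elements. -/
theorem zero_of_odd (h : NHyp N) (hM : IsPModular 2 M) [Fintype N] {f : X → ℂ} (hf : InB0 M f)
    (h0 : ∀ n : N, Odd (orderOf (n : X)) → f n = 0) {x : X} (hx : Odd (orderOf x)) : f x = 0 := by
  have hx' : ¬ 2 ∣ orderOf x := fun hd => Nat.not_even_iff_odd.2 hx (even_iff_two_dvd.2 hd)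
  have h1 := h.eq_zero_of_res hM (hf.regular hM) (fun n => by
    by_cases hn : 2 ∣ orderOf (n : X)
    · exact if_neg (not_not.2 hn)
    · rw [if_pos hn]; exact h0 n (Nat.odd_iff.2 (Nat.two_dvd_ne_zero.1 hn))) x
  rwa [if_pos hx'] at h1

end NHyp

/-- A permutation character minus one, irreducible, on an even number of points, is in the principal 2-block. -/
theorem perm_mem_principal (hM : IsPModular 2 M) {Ω : Type v} [MulAction X Ω] [Finite Ω]
    (he : 2 ∣ Nat.card Ω) (χ : IrrCharacter X)
    (h : ∀ g, (χ : X → ℂ) g = (Nat.card (MulAction.fixedBy Ω g) : ℂ) - 1) : χ ∈ principalBlock M X := by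
  rw [PrinCol.mem_principal_iff hM, PrinCol.regTot]
  set S := Finset.univ.filter (fun x : X => ¬ 2 ∣ orderOf x)
  have h1 : ((∑ x ∈ S, ((Nat.card (MulAction.fixedBy Ω x) : ℤ) - 1) : ℤ) : ℂ) = ∑ x ∈ S, (χ : X → ℂ) x := by
    push_cast
    exact Finset.sum_congr rfl fun x _ => (h x).symm
  rw [← h1, Int.cast_ne_zero]
  intro h0
  have hz : ((∑ x ∈ S, ((Nat.card (MulAction.fixedBy Ω x) : ℤ) - 1) : ℤ) : ZMod 2) = 1 := by
    push_cast
    rw [← Finset.add_sum_erase S (a := 1) _ (by simp [S])]
    rw [MulAction.fixedBy_one_eq_univ, Nat.card_univ, (ZMod.natCast_eq_zero_iff_even).2 (even_iff_two_dvd.2 he)]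
    rw [Finset.sum_involution (fun x _ => x⁻¹) (fun x _ => ?_) (fun x hx _ => ?_) (fun x hx => ?_)
      (fun x _ => inv_inv x)]
    · decide
    · rw [MulAction.fixedBy_inv]
      exact CharTwo.add_self_eq_zero _
    · intro e
      obtain ⟨hne, hxS⟩ := Finset.mem_erase.1 hx
      have h2 : orderOf x ∣ 2 := orderOf_dvd_of_pow_eq_one (by
        rw [sq]; nth_rewrite 1 [← e]; exact inv_mul_cancel x)
      rcases (Nat.dvd_prime Nat.prime_two).1 h2 with h3 | h3
      · exact hne (orderOf_eq_one_iff.1 h3)
      · exact (Finset.mem_filter.1 hxS).2 (by rw [h3])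
    · obtain ⟨hne, hxS⟩ := Finset.mem_erase.1 hx
      refine Finset.mem_erase.2 ⟨inv_ne_one.2 hne, Finset.mem_filter.2 ⟨Finset.mem_univ _, ?_⟩⟩
      rw [orderOf_inv]
      exact (Finset.mem_filter.1 hxS).2
  rw [h0, Int.cast_zero] at hz
  exact zero_ne_one hz

/-- A transitive permutation character minus one is a character. -/
theorem isCharacter_ind_sub_one (B : Subgroup X) :
    IsCharacter X (fun x => indFun B (fun _ => (1 : ℂ)) x - 1) := by
  haveI := Fintype.ofFinite B
  have hone : IsCharacter B (fun _ : B => (1 : ℂ)) := IsIrr.isCharacter isIrr_one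
  refine isCharacter_of_classInner_nat (classFunction_sub (indFun_classFun B _) (fun _ _ => rfl)) fun χ hχ => ?_
  have hs : classInner (fun x => indFun B (fun _ => (1 : ℂ)) x - 1) χ =
      classInner (indFun B fun _ => (1 : ℂ)) χ - classInner (fun _ => (1 : ℂ)) χ := by
    simp [classInner, sub_mul, Finset.sum_sub_distrib, mul_sub]
  rw [hs, classInner_indFun B _ (IsIrr.classFun hχ), classInner_irr_eq_ite isIrr_one hχ]
  by_cases h1 : (fun _ => (1 : ℂ)) = χ
  · subst h1
    refine ⟨0, ?_⟩
    rw [if_pos rfl, classInner_self_irr (isIrr_one (G := B))]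
    simp
  · obtain ⟨n, hn⟩ := IsChar.classInner_nat hone (IsChar.res (IsIrr.isCharacter hχ) B)
    exact ⟨n, by rw [if_neg h1, sub_zero, hn]⟩

end Cfsg.Agent.Invol.AbgOrder
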