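import Cfsg.Agent.Lib.Invol.AbgOrder.Shape0Aut

/-!
# Commuting elements of `SL(2)` with equal trace, and tori against field automorphisms

A semilinear automorphism fixing a torus element fixes its trace, so that the element has order dividing
`2 |Q₁ - 1|`, `Q₁` the signed order of the fixed field.
-/

set_option autoImplicit false

namespace Cfsg.Agent.Invol.AbgOrder

open Matrix

universe u

variable {F : Type u} [Field F]

local notation "SL₂" => Matrix.SpecialLinearGroup (Fin 2) F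
local notation "M₂" => Matrix (Fin 2) (Fin 2) F

/-- The trace of an element of `SL(2)`. -/
def str (t : SL₂) : F := (t : M₂) 0 0 + (t : M₂) 1 1

theorem cmul (A B : SL₂) : ((A * B : SL₂) : M₂) = (A : M₂) * (B : M₂) := rfl

theorem cinv (A : SL₂) : ((A⁻¹ : SL₂) : M₂) = ((A : M₂)).adjugate := rfl

theorem cpow (A : SL₂) (n : ℕ) : ((A ^ n : SL₂) : M₂) = (A : M₂) ^ n := by
  induction n with
  | zero => rw [pow_zero, pow_zero]; rfl
  | succ n ih => rw [pow_succ, pow_succ, cmul, ih]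

theorem coe_inv_add (t : SL₂) : (t : M₂) + ((t⁻¹ : SL₂) : M₂) = str t • (1 : M₂) := by
  rw [cinv, Matrix.adjugate_fin_two]
  ext i j
  fin_cases i <;> fin_cases j <;> simp [str, add_comm]

theorem str_inv (t : SL₂) : str t⁻¹ = str t := by
  show ((t⁻¹ : SL₂) : M₂) 0 0 + ((t⁻¹ : SL₂) : M₂) 1 1 = _
  rw [cinv, Matrix.adjugate_fin_two]
  simp [str, add_comm]

/-- Commuting elements with the same trace are equal or inverse. -/
theorem eq_or_inv {s t : SL₂} (hc : s * t = t * s) (htr : str s = str t) (hss : str t * str t ≠ 4) :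
    s = t ∨ s = t⁻¹ := by
  have hsplit : ∀ A : SL₂, (A : M₂) * (A : M₂) = str A • (A : M₂) - 1 := by
    intro A
    have h2 : ((A * A⁻¹ : SL₂) : M₂) = 1 := by rw [mul_inv_cancel]; rfl
    rw [cmul, eq_sub_of_add_eq' (coe_inv_add A), mul_sub, mul_smul_comm, mul_one] at h2
    exact eq_sub_of_add_eq (by rw [← h2]; abel)
  have hcm : (s : M₂) * (t : M₂) = (t : M₂) * (s : M₂) := by
    rw [← cmul, ← cmul, hc]
  -- `(s - t)(s - t⁻¹) = 0`
  have hprod : ((s : M₂) - (t : M₂)) * ((s : M₂) - (str t • (1 : M₂) - (t : M₂))) = 0 := by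
    simp only [mul_sub, sub_mul, mul_smul_comm, mul_one, hcm, hsplit s, hsplit t, htr, smul_sub]
    abel
  set D := (s : M₂) - (t : M₂) with hD
  set E := (s : M₂) - (str t • (1 : M₂) - (t : M₂)) with hE
  -- `D - E` is invertible and both commute with it
  have hne : (D - E).det ≠ 0 := by
    have hd := t.2
    rw [Matrix.det_fin_two] at hd ⊢
    intro h
    apply hss
    simp only [hD, hE, str, Matrix.sub_apply, Matrix.smul_apply, Matrix.one_apply, smul_eq_mul] at h ⊢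
    simp at h
    linear_combination -h + 4 * hd
  have hDE : D * E = 0 := hprod
  have hED : E * D = 0 := by
    rw [← hprod, hD, hE]
    simp only [mul_sub, sub_mul, mul_smul_comm, smul_mul_assoc, mul_one, one_mul, hcm, smul_sub]
    abel
  have key : ∀ {A B : M₂}, A * B = 0 → B.det ≠ 0 → A = 0 := fun {A B} h hB => by
    have h1 := congrArg (· * B⁻¹) h
    rwa [zero_mul, mul_assoc, Matrix.mul_nonsing_inv _ (isUnit_iff_ne_zero.2 hB), mul_one] at h1
  by_cases hDdet : D.det = 0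
  · by_cases hEdet : E.det = 0
    · -- both singular: impossible
      exfalso
      have hd := t.2
      have hd' := s.2
      rw [Matrix.det_fin_two] at hd hd' hDdet hEdet
      simp only [hD, hE, Matrix.sub_apply, Matrix.smul_apply, Matrix.one_apply, smul_eq_mul] at hDdet hEdet
      simp [str] at hDdet hEdet
      apply hss
      simp only [str] at htr ⊢
      linear_combination -(hDdet + hEdet) + 2 * hd' + 2 * hd -
        ((t : M₂) 0 0 + (t : M₂) 1 1) * htr
    · refine Or.inl (Subtype.ext (sub_eq_zero.1 (key hDE hEdet)))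
  · refine Or.inr (Subtype.ext ?_)
    rw [eq_sub_of_add_eq' (coe_inv_add t), ← sub_eq_zero]
    exact key hED hDdet

variable [Fintype F]

omit [Fintype F] in
/-- The trace of a Frobenius power. -/
theorem str_pow_frob {p : ℕ} [Fact p.Prime] [CharP F p] (t : SL₂) (j : ℕ) :
    str (t ^ p ^ j) = str t ^ p ^ j := by
  have : CharP M₂ p := inferInstance
  have hc : Commute (t : M₂) ((t⁻¹ : SL₂) : M₂) := by
    show _ = _
    rw [← cmul, ← cmul, mul_inv_cancel, inv_mul_cancel]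
  have h1 := add_pow_char_pow_of_commute p j hc
  rw [coe_inv_add, smul_pow, one_pow, ← cpow, ← cpow, inv_pow,
    coe_inv_add] at h1
  have h3 := congrFun (congrFun h1 0) 0
  simp at h3
  exact h3.symm

omit [Fintype F] in
/-- Trace `±2` forces order dividing `2 p`. -/
theorem pow_eq_one_of_trace {p : ℕ} [Fact p.Prime] [CharP F p] (h2 : (2 : F) ≠ 0) {t : SL₂}
    (h : str t * str t = 4) : t ^ (2 * p) = 1 := by
  obtain ⟨c, hc, hct⟩ : ∃ c : F, c * c = 1 ∧ str t = 2 * c := by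
    refine ⟨str t * 2⁻¹, ?_, by field_simp⟩
    field_simp
    linear_combination h
  have hsq : (t : M₂) * (t : M₂) = str t • (t : M₂) - 1 := by
    have h2' : ((t * t⁻¹ : SL₂) : M₂) = 1 := by rw [mul_inv_cancel]; rfl
    rw [cmul, eq_sub_of_add_eq' (coe_inv_add t), mul_sub, mul_smul_comm, mul_one] at h2'
    exact eq_sub_of_add_eq (by rw [← h2']; abel)
  have hnil : ((t : M₂) - c • (1 : M₂)) ^ 2 = 0 := by
    simp only [sq, mul_sub, sub_mul, mul_smul_comm, smul_mul_assoc, mul_one, one_mul, hsq, hct, smul_sub, smul_smul, hc, one_smul]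
    rw [two_mul c, add_smul]
    abel
  have hp2 : 2 ≤ p := (Fact.out : p.Prime).two_le
  have hnp : ((t : M₂) - c • (1 : M₂)) ^ p = 0 := by
    rw [← Nat.sub_add_cancel hp2, pow_add, hnil, mul_zero]
  have : CharP M₂ p := inferInstance
  have hcm : Commute ((t : M₂) - c • (1 : M₂)) (c • (1 : M₂)) := (Commute.one_right _).smul_right c
  have htp : (t : M₂) ^ p = c ^ p • (1 : M₂) := by
    conv_lhs => rw [← sub_add_cancel (t : M₂) (c • (1 : M₂))]
    rw [add_pow_char_of_commute p hcm, hnp, zero_add, smul_pow, one_pow]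
  refine Subtype.ext ?_
  rw [cpow, mul_comm, pow_mul, htp, smul_pow, one_pow, ← pow_mul, mul_comm, pow_mul, sq, hc,
    one_pow, one_smul]
  rfl

/-- The arithmetic: the torus is too large. -/
theorem torus_big {e F₁ Fo : ℕ} (he : 0 < e) (hF₁ : Odd F₁) (h3 : 3 ≤ F₁) (hFo : Fo ≤ F₁ * e) (hFo0 : 0 < Fo)
    {p : ℕ} (hp : 3 ≤ p) (hpo : Odd p) {Q₁ : ℤ} (hQ : Q₁ = (p : ℤ) ^ e ∨ Q₁ = -(p : ℤ) ^ e) (a : ℕ) :
    ¬ (Q₁ ^ F₁ - 1).natAbs ∣ 2 ^ a * Fo * (Q₁ - 1).natAbs := by
  intro hd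
  set q1 := p ^ e with hq1
  have hQo : Odd Q₁ := by
    rcases hQ with rfl | rfl
    · exact Int.odd_pow.2 (Or.inl (by exact_mod_cast hpo))
    · exact (Int.odd_pow.2 (Or.inl (by exact_mod_cast hpo))).neg
  set R := ∑ i ∈ Finset.range F₁, Q₁ ^ i with hR
  have hgeo : Q₁ ^ F₁ - 1 = R * (Q₁ - 1) := (geom_sum_mul Q₁ F₁).symm
  have hRo : Odd R.natAbs := by
    refine Int.natAbs_odd.2 ?_
    have hsum : ∀ r : ℕ, Odd (∑ i ∈ Finset.range r, Q₁ ^ i) ↔ Odd r := by
      intro r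
      induction r with
      | zero => simp
      | succ r ih =>
        rw [Finset.sum_range_succ, Int.odd_add, ih, Nat.odd_add_one]
        simp [← Int.not_odd_iff_even, hQo.pow]
    rw [hR]
    exact (hsum F₁).2 hF₁
  have hq3 : e + 2 ≤ q1 := by
    have h1 : 3 ^ e ≤ q1 := Nat.pow_le_pow_left hp e
    have h2 : e + 2 ≤ 3 ^ e := by
      clear hd h1 hFo hQ hq1
      induction e with
      | zero => omega
      | succ i ih =>
        rcases Nat.eq_zero_or_pos i with rfl | hi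
        · norm_num
        · have := ih hi
          rw [pow_succ]
          omega
    omega
  have hne : (Q₁ - 1).natAbs ≠ 0 := by
    have h1 : Q₁.natAbs = q1 := by rcases hQ with rfl | rfl <;> simp [hq1, Int.natAbs_pow]
    omega
  rw [hgeo, Int.natAbs_mul] at hd
  have hd' := Nat.dvd_of_mul_dvd_mul_right (Nat.pos_of_ne_zero hne) hd
  have hR' : R.natAbs ≤ Fo :=
    Nat.le_of_dvd hFo0 (Nat.Coprime.dvd_of_dvd_mul_left ((Nat.coprime_two_right.2 hRo).pow_right a) hd')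
  -- but `|R|` is larger
  have hmul : (Q₁ ^ F₁ - 1).natAbs ≤ Fo * (q1 + 1) := by
    rw [hgeo, Int.natAbs_mul]
    refine Nat.mul_le_mul hR' ?_
    have : ((p ^ e : ℕ) : ℤ) = (p : ℤ) ^ e := by push_cast; rfl
    rcases hQ with rfl | rfl <;> omega
  have hlow : q1 ^ F₁ ≤ (Q₁ ^ F₁ - 1).natAbs + 1 := by
    have h1 : (Q₁ ^ F₁).natAbs = q1 ^ F₁ := by
      rw [Int.natAbs_pow]
      congr 1
      rcases hQ with rfl | rfl <;> simp [hq1, Int.natAbs_pow]
    omega
  obtain ⟨d, hd2⟩ : ∃ d, F₁ = d + 2 := ⟨F₁ - 2, by omega⟩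
  have hX : F₁ ≤ q1 ^ d := by
    have h1 : 3 ^ d ≤ q1 ^ d := Nat.pow_le_pow_left (by omega) d
    have h2 : d + 2 ≤ 3 ^ d := by
      have hd1 : 1 ≤ d := by omega
      clear h1 hd2
      induction d with
      | zero => omega
      | succ i ih =>
        rcases Nat.eq_zero_or_pos i with rfl | hi
        · norm_num
        · have := ih hi
          rw [pow_succ]
          omega
    omega
  have hkey : e * (q1 + 1) + 2 ≤ q1 ^ 2 := by
    calc e * (q1 + 1) + 2 ≤ e * (q1 + 1) + (q1 + 1) := by omega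
      _ = (e + 1) * (q1 + 1) := by ring
      _ ≤ (q1 - 1) * (q1 + 1) := Nat.mul_le_mul_right _ (by omega)
      _ ≤ q1 * q1 := by
          obtain ⟨r, hr⟩ : ∃ r, q1 = r + 1 := ⟨q1 - 1, by omega⟩
          rw [hr, Nat.add_sub_cancel]; nlinarith
      _ = q1 ^ 2 := (sq q1).symm
  have hfin : F₁ * e * (q1 + 1) + 2 ≤ q1 ^ F₁ := by
    rw [hd2, pow_add]
    calc (d + 2) * e * (q1 + 1) + 2 ≤ q1 ^ d * (e * (q1 + 1)) + q1 ^ d * 2 := by
          rw [mul_assoc]
          exact Nat.add_le_add (Nat.mul_le_mul_right _ (hd2 ▸ hX)) (Nat.le_mul_of_pos_left _ (by omega))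
      _ ≤ q1 ^ d * q1 ^ 2 := by rw [← mul_add]; exact Nat.mul_le_mul_left _ hkey
  have := Nat.mul_le_mul_right (q1 + 1) hFo
  omega

/-- A torus element whose trace a field automorphism fixes has small order; the bound is below the torus order. -/
theorem exists_fixed_bound {p n : ℕ} [Fact p.Prime] (hF : Fintype.card F = p ^ n) (hp : p ≠ 2) {Q : ℤ}
    (hQ : Q = (p : ℤ) ^ n ∨ Q = -(p : ℤ) ^ n) {τ : RingAut F} (hτ : τ ≠ 1) (hτo : Odd (orderOf τ)) {Fo : ℕ}
    (hFo : Fo ≤ n) (hFo0 : 0 < Fo) (a : ℕ) :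
    ∃ N, 2 ∣ N ∧ (∀ t : SL₂, t ^ (Q - 1).natAbs = 1 → τ (str t) = str t → t ^ N = 1) ∧
      ¬ (Q - 1).natAbs ∣ 2 ^ a * Fo * N := by
  have : CharP F p := charP_of_card_eq_prime_pow hF
  have hpo : Odd p := (Fact.out : p.Prime).odd_of_ne_two hp
  have hp3 : 3 ≤ p := by
    have := (Fact.out : p.Prime).two_le
    omega
  have h2 : (2 : F) ≠ 0 := fun e => by
    have := (CharP.cast_eq_zero_iff F p 2).1 (by exact_mod_cast e)
    exact hp ((Nat.prime_dvd_prime_iff_eq (Fact.out : p.Prime) Nat.prime_two).1 this)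
  have hn0 : 0 < n := by omega
  obtain ⟨j, hjn, hj⟩ := ringAut_exists_pow τ hF
  have hit : ∀ (i : ℕ) x, (τ ^ i) x = x ^ p ^ (i * j) := by
    intro i
    induction i with
    | zero => intro x; simp
    | succ i ih =>
      intro x
      rw [pow_succ', show (τ * τ ^ i) x = τ ((τ ^ i) x) from rfl, ih, map_pow, hj, ← pow_mul, ← pow_add, add_comm,
        Nat.succ_mul]
  have hone : ∀ r, (∀ x : F, x ^ p ^ r = x) ↔ n ∣ r := by
    intro r
    constructor
    · intro h
      obtain ⟨u, hu⟩ := IsCyclic.exists_ofOrder_eq_natCard (α := Fˣ)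
      have h1 : Nat.card Fˣ = p ^ n - 1 := by rw [Nat.card_units, Nat.card_eq_fintype_card, hF]
      have h3 : u ^ p ^ r = u := Units.ext (by rw [Units.val_pow_eq_pow_val, h])
      have h4 : p ^ n - 1 ∣ p ^ r - 1 := by
        rw [← h1, ← hu]
        refine orderOf_dvd_of_pow_eq_one ?_
        rw [← mul_left_inj u, ← pow_succ, Nat.sub_add_cancel (Nat.one_le_pow _ _ (by omega)), h3, one_mul]
      have h5 := Nat.gcd_eq_left h4
      rw [Nat.pow_sub_one_gcd_pow_sub_one] at h5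
      have h6 : p ^ Nat.gcd n r = p ^ n := by
        have := Nat.one_le_pow (Nat.gcd n r) p (by omega)
        have := Nat.one_le_pow n p (by omega)
        omega
      exact Nat.gcd_eq_left_iff_dvd.1 (Nat.pow_right_injective (Fact.out : p.Prime).two_le h6)
    · rintro ⟨i, rfl⟩ x
      rw [pow_mul p, ← hF]
      exact FiniteField.pow_card_pow i x
  set e := Nat.gcd j n with he
  have he0 : 0 < e := Nat.gcd_pos_of_pos_right _ hn0
  obtain ⟨F₁, hF₁⟩ : e ∣ n := Nat.gcd_dvd_right j n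
  obtain ⟨j', hj'⟩ : e ∣ j := Nat.gcd_dvd_left j n
  have hcop : Nat.Coprime F₁ j' := by
    have h : Nat.gcd (e * j') (e * F₁) = e * 1 := by rw [← hj', ← hF₁, mul_one, he]
    rw [Nat.gcd_mul_left] at h
    exact (Nat.gcd_comm _ _).trans (Nat.eq_of_mul_eq_mul_left he0 h)
  have hord : orderOf τ = F₁ := by
    refine Nat.dvd_antisymm (orderOf_dvd_of_pow_eq_one (RingEquiv.ext fun x => ?_)) ?_
    · rw [hit, (hone _).2 ⟨j', by rw [hj', hF₁]; ring⟩]; rfl
    · have h : ∀ x : F, x ^ p ^ (orderOf τ * j) = x := fun x => by rw [← hit, pow_orderOf_eq_one]; rfl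
      have h1 := (hone _).1 h
      rw [hj', hF₁, ← mul_assoc, mul_comm (orderOf τ) e, mul_assoc] at h1
      exact hcop.dvd_of_dvd_mul_right (Nat.dvd_of_mul_dvd_mul_left he0 h1)
  have hF₁o : Odd F₁ := hord ▸ hτo
  have hF₁3 : 3 ≤ F₁ := by
    have h1 : F₁ ≠ 1 := fun h => hτ (orderOf_eq_one_iff.1 (hord.trans h))
    obtain ⟨r, hr⟩ := hF₁o
    omega
  have hg2 : Nat.gcd (2 * j) n = e := by
    rw [hj', hF₁, ← mul_assoc, mul_comm 2 e, mul_assoc, Nat.gcd_mul_left]
    have : Nat.gcd (2 * j') F₁ = 1 :=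
      Nat.Coprime.mul_left (Nat.coprime_two_left.2 hF₁o) hcop.symm
    rw [this, mul_one]
  obtain ⟨Q₁, hQ₁, hQ₁F⟩ : ∃ Q₁ : ℤ, (Q₁ = (p : ℤ) ^ e ∨ Q₁ = -(p : ℤ) ^ e) ∧ Q₁ ^ F₁ = Q := by
    rcases hQ with rfl | rfl
    · exact ⟨_, Or.inl rfl, by rw [← pow_mul, ← hF₁]⟩
    · exact ⟨_, Or.inr rfl, by rw [hF₁o.neg_pow, ← pow_mul, ← hF₁]⟩
  refine ⟨2 * (Q₁ - 1).natAbs, dvd_mul_right 2 _, fun t htm hfix => ?_, fun hd => ?_⟩
  · have hmo : Nat.Coprime p (Q - 1).natAbs := by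
      refine ((Fact.out : p.Prime).coprime_iff_not_dvd).2 fun h => ?_
      have h1 : (p : ℤ) ∣ Q - 1 := Int.natCast_dvd.2 h
      have h3 : (p : ℤ) ∣ Q := by rcases hQ with rfl | rfl <;> simp [hn0.ne']
      have h4 := Int.natCast_dvd.1 (by simpa using dvd_sub h3 h1 : (p : ℤ) ∣ 1)
      simp at h4
      omega
    by_cases hss : str t * str t = 4
    · have h1 := pow_eq_one_of_trace h2 hss
      have h3 : t ^ Nat.gcd (2 * p) (Q - 1).natAbs = 1 := pow_gcd_eq_one.2 ⟨h1, htm⟩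
      have h4 : Nat.gcd (2 * p) (Q - 1).natAbs ∣ 2 * (Q₁ - 1).natAbs :=
        dvd_mul_of_dvd_left ((dvd_of_eq (Nat.Coprime.gcd_mul_right_cancel 2 hmo)).trans (Nat.gcd_dvd_left _ _)) _
      obtain ⟨r, hr⟩ := h4
      rw [hr, pow_mul, h3, one_pow]
    have hs : str (t ^ p ^ j) = str t := by rw [str_pow_frob, ← hj, hfix]
    have h1 : t ^ (p ^ (2 * j) - 1) = 1 := by
      have hpj := Nat.one_le_pow j p (by omega)
      have h2j : (t ^ p ^ j) ^ p ^ j = t := by
        rcases eq_or_inv ((Commute.pow_self t (p ^ j)).eq) hs hss with h | h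
        · rw [h, h]
        · rw [h, inv_pow, h, inv_inv]
      rw [← pow_mul, ← pow_add, ← two_mul] at h2j
      refine mul_left_cancel (a := t) ?_
      rw [← pow_succ', Nat.sub_add_cancel (Nat.one_le_pow _ p (by omega)), h2j, mul_one]
    have hdiv : Nat.gcd (p ^ (2 * j) - 1) (Q - 1).natAbs ∣ 2 * (Q₁ - 1).natAbs := by
      have hp1 : 1 ≤ p ^ e := Nat.one_le_pow _ _ (by omega)
      have hpn : 1 ≤ p ^ n := Nat.one_le_pow _ _ (by omega)
      rcases hQ₁ with rfl | rfl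
      · have hQn : (Q - 1).natAbs = p ^ n - 1 := by
          rw [← hQ₁F, ← pow_mul, ← hF₁]
          have : ((p ^ n : ℕ) : ℤ) = (p : ℤ) ^ n := by push_cast; rfl
          omega
        rw [hQn, Nat.pow_sub_one_gcd_pow_sub_one, hg2]
        refine dvd_mul_of_dvd_right (dvd_of_eq ?_) _
        have : ((p ^ e : ℕ) : ℤ) = (p : ℤ) ^ e := by push_cast; rfl
        omega
      · have hQn : (Q - 1).natAbs = p ^ n + 1 := by
          rw [← hQ₁F, hF₁o.neg_pow, ← pow_mul, ← hF₁]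
          have : ((p ^ n : ℕ) : ℤ) = (p : ℤ) ^ n := by push_cast; rfl
          omega
        have hQe : (-(p : ℤ) ^ e - 1).natAbs = p ^ e + 1 := by
          have : ((p ^ e : ℕ) : ℤ) = (p : ℤ) ^ e := by push_cast; rfl
          omega
        rw [hQn, hQe]
        have h3 : p ^ n + 1 ∣ p ^ (2 * n) - 1 := ⟨p ^ n - 1, by
          rw [← Nat.sq_sub_sq, one_pow, ← pow_mul, mul_comm 2 n]⟩
        have h4 : Nat.gcd (p ^ (2 * j) - 1) (p ^ n + 1) ∣ p ^ (2 * e) - 1 := by
          have := Nat.gcd_dvd_gcd_of_dvd_right (p ^ (2 * j) - 1) h3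
          rwa [Nat.pow_sub_one_gcd_pow_sub_one, Nat.gcd_mul_left, ← he] at this
        have h5 : p ^ (2 * e) - 1 = (p ^ e + 1) * (p ^ e - 1) := by
          rw [← Nat.sq_sub_sq, one_pow, ← pow_mul, mul_comm]
        have h6 : Nat.gcd (p ^ e - 1) (p ^ n + 1) ∣ 2 := by
          have h7 : p ^ e - 1 ∣ p ^ n - 1 := by rw [hF₁]; exact Nat.pow_sub_one_dvd_pow_sub_one p (dvd_mul_right _ _)
          have h8 := Nat.dvd_sub (Nat.gcd_dvd_right (p ^ e - 1) (p ^ n + 1))
            ((Nat.gcd_dvd_left (p ^ e - 1) (p ^ n + 1)).trans h7)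
          rwa [show p ^ n + 1 - (p ^ n - 1) = 2 by omega] at h8
        have h9 := Nat.dvd_gcd h4 (Nat.gcd_dvd_right (p ^ (2 * j) - 1) (p ^ n + 1))
        rw [h5] at h9
        refine h9.trans ((Nat.gcd_mul_left_dvd_mul_gcd _ _ _).trans ?_)
        rw [mul_comm 2]
        exact Nat.mul_dvd_mul (Nat.gcd_dvd_left _ _) h6
    obtain ⟨r, hr⟩ := hdiv
    rw [hr, pow_mul, pow_gcd_eq_one.2 ⟨h1, htm⟩, one_pow]
  · refine torus_big he0 hF₁o hF₁3 (Fo := Fo) (by rw [mul_comm, ← hF₁]; exact hFo) hFo0 hp3 hpo hQ₁ (a + 1) ?_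
    rw [hQ₁F]
    convert hd using 1
    rw [pow_succ]
    ring

end Cfsg.Agent.Invol.AbgOrder
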