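import Cfsg.Agent.Lib.Invol.AbgOrder.Shape0Orders
import Cfsg.Agent.Lib.Invol.AbgOrder.CoreMat
import Cfsg.Agent.Lib.Invol.BrauerL3.Torus
import Cfsg.Agent.Lib.Classical.SLNormal

/-!
# The centraliser of a non-central involution in a group of shape `Shape0`

It is the torus extended by field parts; a field part acts on the torus as a power, a nontrivial one fixes only a
small part, and an element of the normal `SL(2, q)` exchanges the factors of the torus.
-/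

set_option autoImplicit false
set_option linter.style.haveILetI false

namespace Cfsg.Agent.Invol.AbgOrder

open Matrix Cfsg.Agent.Classical
open Cfsg.Agent.Invol.BrauerL3 (Tbl scal mem_scal)

universe u v w x

theorem eq_one_of_sq_odd {A : Type u} [Group A] {a : A} (h : a * a = 1) (ho : Odd (orderOf a)) : a = 1 := by
  rw [← orderOf_eq_one_iff, ← Nat.dvd_one, ← Nat.coprime_two_left.2 ho]
  exact Nat.dvd_gcd (orderOf_dvd_of_pow_eq_one (by rw [sq, h])) dvd_rfl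

theorem pow_mulAut_apply {A : Type u} [Group A] (θ : MulAut A) (a : A) :
    ∀ i : ℕ, (⇑θ)^[i] a = (θ ^ i) a
  | 0 => rfl
  | i + 1 => by rw [Function.iterate_succ_apply', pow_mulAut_apply θ a i, pow_succ']; rfl

variable {X : Type u} [Group X] [Finite X] {F : Type v} [Field F] [Fintype F] {H : Type w} [Group H]
  {K : Type x} [CommGroup K] {Q : ℤ}

namespace Shape0

variable (s : Shape0 X F H K Q)
include s

local notation "SL₂" => Matrix.SpecialLinearGroup (Fin 2) F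

omit [Finite X] in
theorem π_ι_inj : Function.Injective (s.π.comp s.M.ι) := by
  refine (injective_iff_map_eq_one _).2 fun t ht => ?_
  obtain ⟨a, ha, hao⟩ := s.M.T.ker_eq s.π s.ker_central s.ker_odd (MonoidHom.mem_ker.2 ht)
  have h := congrArg s.M.T.dt ha
  rw [s.M.dt_ι, s.M.T.dt_D] at h
  refine s.M.ι_inj ?_
  rw [ha, eq_one_of_sq_odd h.symm hao, s.M.T.D_one, map_one]

omit [Finite X] in
theorem conj_f_pow (i : ℕ) (t : SL₂) :
    s.f ^ i * s.π (s.M.ι t) * (s.f ^ i)⁻¹ = s.π (s.M.ι (((smi 1 s.σ) ^ i : MulAut SL₂) t)) := by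
  induction i with
  | zero => simp
  | succ i ih =>
    rw [pow_succ', pow_succ', show s.f * s.f ^ i * s.π (s.M.ι t) * (s.f * s.f ^ i)⁻¹ =
      s.f * (s.f ^ i * s.π (s.M.ι t) * (s.f ^ i)⁻¹) * s.f⁻¹ by group, ih, s.conj_f, s.Φ_ι]
    rfl

omit [Finite X] in
theorem conj_form {h : H} {g : GL (Fin 2) F} (hg : ∀ t, h * s.M.ι t * h⁻¹ = s.M.ι (inn g t)) (i : ℕ) (t : SL₂) :
    s.π h * s.f ^ i * s.π (s.M.ι t) * (s.π h * s.f ^ i)⁻¹ =
      s.π (s.M.ι ((inn g * (smi 1 s.σ) ^ i : MulAut SL₂) t)) := by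
  rw [show s.π h * s.f ^ i * s.π (s.M.ι t) * (s.π h * s.f ^ i)⁻¹ =
    s.π h * (s.f ^ i * s.π (s.M.ι t) * (s.f ^ i)⁻¹) * (s.π h)⁻¹ by group, s.conj_f_pow, ← map_inv, ← map_mul,
    ← map_mul, hg]
  rfl

omit [Finite X] in
theorem exists_conj (x : X) : ∃ θ : MulAut SL₂, ∀ t, x * s.π (s.M.ι t) * x⁻¹ = s.π (s.M.ι (θ t)) := by
  obtain ⟨h, i, rfl⟩ := s.gen x
  obtain ⟨g, hg⟩ := s.M.back h
  exact ⟨_, s.conj_form hg i⟩

/-- The action on the normal `SL(2, q)`. -/
noncomputable def act₂ (x : X) : MulAut SL₂ := (s.exists_conj x).choose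

omit [Finite X] in
theorem conj_ι (x : X) (t : SL₂) : x * s.π (s.M.ι t) * x⁻¹ = s.π (s.M.ι (s.act₂ x t)) :=
  (s.exists_conj x).choose_spec t

omit [Finite X] in
theorem act₂_eq {x : X} {θ : MulAut SL₂} (h : ∀ t, x * s.π (s.M.ι t) * x⁻¹ = s.π (s.M.ι (θ t))) : s.act₂ x = θ :=
  MulEquiv.ext fun t => s.π_ι_inj ((s.conj_ι x t).symm.trans (h t))

/-- The same as a homomorphism. -/
noncomputable def ψ : X →* MulAut SL₂ where
  toFun := s.act₂
  map_one' := s.act₂_eq fun t => by simp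
  map_mul' a b := s.act₂_eq fun t => by
    rw [show a * b * s.π (s.M.ι t) * (a * b)⁻¹ = a * (b * s.π (s.M.ι t) * b⁻¹) * a⁻¹ by group, s.conj_ι, s.conj_ι]
    rfl

/-- The field component. -/
noncomputable def fldX : X →* RingAut F := fld.comp s.ψ

omit [Finite X] in
theorem fldX_form (h : H) (i : ℕ) : s.fldX (s.π h * s.f ^ i) = s.σ ^ i := by
  obtain ⟨g, hg⟩ := s.M.back h
  show fld (s.act₂ _) = _
  rw [s.act₂_eq (s.conj_form hg i), map_mul, map_pow, fld_smi, show fld (inn g) = 1 from fld_smi g 1, one_mul]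

omit [Finite X] in
theorem fldX_π (h : H) : s.fldX (s.π h) = 1 := by simpa using s.fldX_form h 0

omit [Finite X] in
theorem fldX_pow (x : X) : s.fldX x ^ orderOf s.σ = 1 := by
  obtain ⟨h, i, rfl⟩ := s.gen x
  rw [s.fldX_form, ← pow_mul, mul_comm, pow_mul, pow_orderOf_eq_one, one_pow]

omit [Finite X] in
theorem fldX_odd (x : X) : Odd (orderOf (s.fldX x)) :=
  s.σ_odd.of_dvd_nat (orderOf_dvd_of_pow_eq_one (s.fldX_pow x))

omit [Finite X] in
theorem mem_range_of_fld {x : X} (hx : s.fldX x = 1) : x ∈ s.π.range := by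
  obtain ⟨h, i, rfl⟩ := s.gen x
  rw [s.fldX_form, ← orderOf_dvd_iff_pow_eq_one, ← s.orderOf_f, orderOf_dvd_iff_pow_eq_one] at hx
  rw [hx, mul_one]
  exact ⟨h, rfl⟩

omit [Finite X] in
theorem cardH (hQ : Q.natAbs = Fintype.card F) : (Nat.card H : ℤ) = Q * (Q ^ 2 - 1) * (Q - 1) := by
  haveI := s.M.finite
  haveI := Fintype.ofFinite H
  rw [s.M.card, Fus.PSLTwo.natCard_SL_two, s.M.T.cardS, ← hQ]
  have hb := s.M.T.big
  push_cast [Nat.cast_sub (show 1 ≤ Q.natAbs by omega)]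
  rcases Int.natAbs_eq Q with h | h
  · rw [abs_of_nonneg (by omega : (0 : ℤ) ≤ Q), abs_of_nonneg (by omega : (0 : ℤ) ≤ Q - 1)]
    ring
  · rw [abs_of_nonpos (by omega : Q ≤ 0), abs_of_nonpos (by omega : Q - 1 ≤ 0)]
    ring

end Shape0

/-- The involution and a generator of the scalars. -/
structure Frame (s : Shape0 X F H K Q) where
  e : scal K Q
  e_ne : e ≠ 1
  e_sq : e * e = 1
  e_uniq : ∀ y : K, y * y = 1 → y = 1 ∨ y = e
  g : scal K Q
  g_gen : ∀ a : scal K Q, ∃ i : ℕ, g ^ i = a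
  hQ : Q.natAbs = Fintype.card F

namespace Frame

variable {s : Shape0 X F H K Q} (k : Frame s)
include k

local notation "SL₂" => Matrix.SpecialLinearGroup (Fin 2) F

omit [Finite X] k in
theorem nonempty (s : Shape0 X F H K Q) (hQ : Q.natAbs = Fintype.card F) : Nonempty (Frame s) := by
  haveI := s.M.T.cyc
  haveI := s.M.T.finiteK
  obtain ⟨e, h1, h2, h3, -⟩ := s.M.T.exists_e
  obtain ⟨g, hg⟩ := IsCyclic.exists_generator (α := scal K Q)
  exact ⟨⟨e, h1, h2, h3, g, fun a => mem_powers_iff_mem_zpowers.2 (hg a), hQ⟩⟩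

/-- The non-central involution. -/
def u : X := s.π (s.M.T.D (1, k.e))

/-- The central involution. -/
def zc : X := s.π (s.M.T.D (k.e, k.e))

omit [Finite X] in
theorem ord_g : orderOf k.g = (Q - 1).natAbs := by
  haveI := s.M.finite
  haveI := Fintype.ofFinite H
  haveI := s.M.T.finiteK
  rw [← s.M.T.cardS]
  exact orderOf_eq_card_of_forall_mem_zpowers fun a => by
    obtain ⟨i, hi⟩ := k.g_gen a
    exact ⟨(i : ℤ), by simpa using hi⟩

omit [Finite X] in
theorem pow_m (p : scal K Q × scal K Q) : p ^ (Q - 1).natAbs = 1 := by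
  have : ∀ a : scal K Q, a ^ (Q - 1).natAbs = 1 := fun a => by
    obtain ⟨i, rfl⟩ := k.g_gen a
    rw [← k.ord_g, ← pow_mul, mul_comm, pow_mul, pow_orderOf_eq_one, one_pow]
  exact Prod.ext (this _) (this _)

omit [Finite X] in
theorem commute_u (p : scal K Q × scal K Q) : Commute (s.π (s.M.T.D p)) k.u :=
  ((Commute.all p (1, k.e)).map s.M.T.D).map s.π

omit [Finite X] in
theorem exists_D {h : H} (hc : Commute (s.π h) k.u) : ∃ p, s.M.T.D p = h := by
  haveI := s.M.finite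
  haveI := Fintype.ofFinite H
  refine s.M.T.mem_range_of_commute (s.cardH k.hQ) k.e_ne (mul_inv_eq_iff_eq_mul.1 ?_)
  have h2 : s.M.T.D (1, k.e) * s.M.T.D (1, k.e) = 1 := by
    rw [← map_mul, show ((1 : scal K Q), k.e) * (1, k.e) = 1 from Prod.ext (one_mul 1) k.e_sq, map_one]
  refine s.M.T.map_inj_invol s.π s.ker_central s.ker_odd ?_ h2 ?_
  · rw [conj_mul, h2, mul_one, mul_inv_cancel]
  · rw [map_mul, map_mul, map_inv]
    exact mul_inv_eq_iff_eq_mul.2 hc.eq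

omit [Finite X] in
/-- The torus. -/
theorem exists_torus {x : X} (hc : Commute x k.u) (hf : s.fldX x = 1) : ∃ p, s.π (s.M.T.D p) = x := by
  obtain ⟨h, rfl⟩ := s.mem_range_of_fld hf
  obtain ⟨p, rfl⟩ := k.exists_D hc
  exact ⟨p, rfl⟩

omit [Finite X] in
theorem torus_comm {a b : X} (ha : Commute a k.u) (hfa : s.fldX a = 1) (hb : Commute b k.u) (hfb : s.fldX b = 1) :
    a * b = b * a := by
  obtain ⟨p, rfl⟩ := k.exists_torus ha hfa
  obtain ⟨r, rfl⟩ := k.exists_torus hb hfb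
  exact (((Commute.all p r).map s.M.T.D).map s.π).eq

omit [Finite X] in
theorem torus_pow {a : X} (ha : Commute a k.u) (hfa : s.fldX a = 1) : a ^ (Q - 1).natAbs = 1 := by
  obtain ⟨p, rfl⟩ := k.exists_torus ha hfa
  rw [← map_pow, ← map_pow, k.pow_m, map_one, map_one]

omit [Finite X] in
theorem exists_t0 : ∃ t : SL₂, s.M.ι t = s.M.T.D (k.g, k.g⁻¹) ∧ orderOf t = (Q - 1).natAbs := by
  obtain ⟨t, ht⟩ := s.M.exists_of_dt (h := s.M.T.D (k.g, k.g⁻¹)) (by rw [s.M.T.dt_D, mul_inv_cancel])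
  refine ⟨t, ht.symm, ?_⟩
  rw [← orderOf_injective s.M.ι s.M.ι_inj, ← ht, orderOf_injective s.M.T.D s.M.T.D_inj, Prod.orderOf_mk, orderOf_inv,
    Nat.lcm_self, k.ord_g]

omit [Finite X] in
/-- The central part has `2`-power exponent. -/
theorem central_pow {mm b : ℕ} (hm : (Q - 1).natAbs = 2 ^ mm * b) (hb : Odd b) (a : scal K Q) :
    s.π (s.M.T.D (a, a)) ^ 2 ^ mm = 1 := by
  rw [← map_pow]
  refine s.ker_all _ (pow_mem (s.M.T.D_center a) _) (hb.of_dvd_nat (orderOf_dvd_of_pow_eq_one ?_))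
  rw [← pow_mul, ← hm, ← map_pow, k.pow_m, map_one]

theorem central_fixed {mm b : ℕ} (hm : (Q - 1).natAbs = 2 ^ mm * b) (hb : Odd b) (x : X) (a : scal K Q) :
    x * s.π (s.M.T.D (a, a)) * x⁻¹ = s.π (s.M.T.D (a, a)) := by
  haveI : Fact (Nat.Prime 2) := ⟨Nat.prime_two⟩
  set c := s.π (s.M.T.D (k.g, k.g)) with hc
  obtain ⟨i, -, hi⟩ := (Nat.dvd_prime_pow Nat.prime_two).1
    (orderOf_dvd_of_pow_eq_one (k.central_pow hm hb k.g))
  have hΦc : s.Φ (s.M.T.D (k.g, k.g)) ∈ Subgroup.center H := by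
    refine Subgroup.mem_center_iff.2 fun y => s.Φ.symm.injective ?_
    rw [map_mul, map_mul, MulEquiv.symm_apply_apply]
    exact Subgroup.mem_center_iff.1 (s.M.T.D_center _) _
  have hfix : (MulAut.conj s.f).toMonoidHom c = c := by
    refine fixed_of_odd (r := orderOf s.f) (i := i) _ (s.orderOf_f ▸ s.σ_odd) hi ?_ ?_
    · show s.f * c * s.f⁻¹ ∈ _
      obtain ⟨a', ha'⟩ := s.M.T.central _ hΦc
      obtain ⟨j, rfl⟩ := k.g_gen a'
      rw [hc, s.conj_f, ha', ← Prod.pow_mk, map_pow, map_pow]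
      exact Subgroup.npow_mem_zpowers _ _
    · show (⇑(MulAut.conj s.f))^[orderOf s.f] c = c
      rw [pow_mulAut_apply, ← map_pow, pow_orderOf_eq_one, map_one]
      rfl
  have hall : ∀ y : X, Commute y c := by
    intro y
    obtain ⟨h, j, rfl⟩ := s.gen y
    have h1 : Commute (s.π h) c := (show Commute h (s.M.T.D (k.g, k.g)) from
      Subgroup.mem_center_iff.1 (s.M.T.D_center _) h).map s.π
    have h2 : Commute s.f c := mul_inv_eq_iff_eq_mul.1 hfix
    exact h1.mul_left (h2.pow_left j)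
  obtain ⟨j, rfl⟩ := k.g_gen a
  rw [← Prod.pow_mk, map_pow, map_pow, ((hall x).pow_right j).eq, mul_inv_cancel_right]

omit [Finite X] in
/-- An element centralising the involution acts on the split torus of `SL(2)` as a power. -/
theorem exists_power {t : SL₂} (ht : s.M.ι t = s.M.T.D (k.g, k.g⁻¹)) (_hto : orderOf t = (Q - 1).natAbs) {v : X}
    (hv : Commute v k.u) : ∃ j : ℕ, s.ψ v t = t ^ j := by
  have h1 : Commute (v * s.π (s.M.ι t) * v⁻¹) k.u := by
    have := (k.commute_u (k.g, k.g⁻¹)).map (MulAut.conj v).toMonoidHom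
    rw [← ht] at this
    simpa [MulAut.conj_apply, hv.eq] using this
  rw [s.conj_ι] at h1
  obtain ⟨⟨a, a'⟩, hp⟩ := k.exists_D h1
  have hdt := congrArg s.M.T.dt hp
  rw [s.M.T.dt_D, s.M.dt_ι] at hdt
  obtain rfl : a' = a⁻¹ := eq_inv_of_mul_eq_one_right hdt
  obtain ⟨j, rfl⟩ := k.g_gen a
  refine ⟨j, s.M.ι_inj ?_⟩
  show s.M.ι (s.act₂ v t) = _
  rw [← hp, map_pow, ht, ← map_pow, Prod.pow_mk, inv_pow]

/-- An element centralising the involution acts on the torus as a power. -/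
theorem exists_act {v : X} (hv : Commute v k.u) :
    ∃ j : ℕ, ∀ a, Commute a k.u → s.fldX a = 1 → v * a * v⁻¹ = a ^ j := by
  haveI : Fact (Nat.Prime 2) := ⟨Nat.prime_two⟩
  obtain ⟨t, ht, hto⟩ := k.exists_t0
  obtain ⟨j, hj⟩ := k.exists_power ht hto hv
  have hne : (Q - 1).natAbs ≠ 0 := by have := s.M.T.ne_one; omega
  obtain ⟨mm, b, hb, hm⟩ := exists_two_part hne
  have hmm : 1 ≤ mm := by
    by_contra h0
    rw [show mm = 0 by omega, pow_zero, one_mul] at hm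
    obtain ⟨r, hr⟩ := s.M.T.odd
    obtain ⟨r', hr'⟩ := hb
    omega
  -- the iterates
  have hit : ∀ i : ℕ, (s.ψ v ^ i) t = t ^ j ^ i := by
    intro i
    induction i with
    | zero => simp
    | succ i ih => rw [pow_succ', MulAut.mul_apply, ih, map_pow, hj, ← pow_mul, ← pow_succ']
  set N := orderOf s.σ with hN
  have hvN : s.fldX (v ^ N) = 1 := by rw [map_pow, s.fldX_pow]
  have hvtriv : ∀ a, Commute a k.u → s.fldX a = 1 → v ^ N * a * (v ^ N)⁻¹ = a := fun a ha hfa => by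
    rw [k.torus_comm (hv.pow_left N) hvN ha hfa, mul_inv_cancel_right]
  have htN : t ^ j ^ N = t := by
    rw [← hit]
    refine s.π_ι_inj ?_
    show s.π (s.M.ι _) = s.π (s.M.ι t)
    rw [← map_pow s.ψ]
    show s.π (s.M.ι (s.act₂ (v ^ N) t)) = _
    rw [← s.conj_ι]
    exact hvtriv _ (ht ▸ k.commute_u _) (s.fldX_π _)
  -- `j` is `1` modulo the `2`-part
  have h2 : t ^ b * 1 = (t ^ b) ^ j := by
    have hfix : (s.ψ v).toMonoidHom (t ^ b) = t ^ b := by
      refine fixed_of_odd (r := N) (i := mm) _ (hN ▸ s.σ_odd) ?_ ?_ ?_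
      · rw [orderOf_pow' _ hb.pos.ne', hto, hm, Nat.gcd_mul_left_left, Nat.mul_div_cancel _ hb.pos]
      · show s.ψ v (t ^ b) ∈ _
        rw [map_pow, hj, pow_right_comm]
        exact Subgroup.npow_mem_zpowers _ _
      · show (⇑(s.ψ v))^[N] (t ^ b) = t ^ b
        rw [pow_mulAut_apply, map_pow, hit, htN]
    rw [mul_one]
    conv_lhs => rw [← hfix]
    show s.ψ v (t ^ b) = _
    rw [map_pow, hj, pow_right_comm]
  have hjmod : j ≡ 1 [MOD 2 ^ mm] := by
    have h3 : (t ^ b) ^ j = (t ^ b) ^ 1 := by rw [← h2, mul_one, pow_one]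
    rw [pow_eq_pow_iff_modEq, orderOf_pow' _ hb.pos.ne', hto, hm, Nat.gcd_mul_left_left,
      Nat.mul_div_cancel _ hb.pos] at h3
    exact h3
  have hjodd : Odd j := by
    have h3 : j ≡ 1 [MOD 2] := Nat.ModEq.of_dvd (dvd_pow_self 2 (by omega)) hjmod
    exact Nat.odd_iff.2 h3
  have hpowN : ∀ p : scal K Q × scal K Q, p ^ j ^ N = p := by
    intro p
    have h3 : t ^ j ^ N = t ^ 1 := by rw [htN, pow_one]
    rw [pow_eq_pow_iff_modEq, hto] at h3
    rw [pow_eq_pow_mod (j ^ N) (k.pow_m p), h3, ← pow_eq_pow_mod 1 (k.pow_m p), pow_one]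
  have hsq : ∀ a b' : scal K Q, v * s.π (s.M.T.D (a, b') * s.M.T.D (a, b')) * v⁻¹ =
      s.π (s.M.T.D (a, b') * s.M.T.D (a, b')) ^ j := by
    intro a b'
    obtain ⟨i, hi⟩ := k.g_gen (a * b'⁻¹)
    have e1 : s.M.T.D (a, b') * s.M.T.D (a, b') = s.M.T.D (a * b', a * b') * s.M.ι (t ^ i) := by
      rw [map_pow, ht, ← map_pow, ← map_mul, ← map_mul, Prod.pow_mk, inv_pow, hi]
      congr 1
      refine Prod.ext ?_ ?_
      · show a * a = a * b' * (a * b'⁻¹)
        rw [mul_mul_mul_comm, mul_inv_cancel, mul_one]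
      · show b' * b' = a * b' * (a * b'⁻¹)⁻¹
        rw [mul_inv, inv_inv, mul_mul_mul_comm, mul_inv_cancel, one_mul]
    have hcomm : Commute (s.π (s.M.T.D (a * b', a * b'))) (s.π (s.M.ι (t ^ i))) :=
      (show Commute (s.M.T.D (a * b', a * b')) (s.M.ι (t ^ i)) from
        (Subgroup.mem_center_iff.1 (s.M.T.D_center _) _).symm).map s.π
    rw [e1, map_mul, hcomm.mul_pow, ← conj_mul, k.central_fixed hm hb, s.conj_ι]
    congr 1
    · rw [pow_eq_pow_mod j (k.central_pow hm hb _), hjmod, ← pow_eq_pow_mod 1 (k.central_pow hm hb _), pow_one]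
    · show s.π (s.M.ι (s.ψ v (t ^ i))) = _
      rw [map_pow, hj, ← map_pow, ← map_pow, pow_right_comm]
  refine ⟨j, fun a ha hfa => ?_⟩
  obtain ⟨⟨a₁, a₂⟩, rfl⟩ := k.exists_torus ha hfa
  set A := s.π (s.M.T.D (a₁, a₂)) with hA
  have hvA : Commute (v * A * v⁻¹) k.u ∧ s.fldX (v * A * v⁻¹) = 1 := by
    refine ⟨?_, by rw [map_mul, map_mul, hfa, mul_one, map_inv, mul_inv_cancel]⟩
    have := ha.map (MulAut.conj v).toMonoidHom
    simpa [MulAut.conj_apply, hv.eq] using this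
  set δ := v * A * v⁻¹ * (A ^ j)⁻¹ with hδ
  have hδc : Commute δ k.u := hvA.1.mul_left (ha.pow_left j).inv_left
  have hδf : s.fldX δ = 1 := by rw [hδ, map_mul, hvA.2, map_inv, map_pow, hfa, one_pow, inv_one, mul_one]
  have hδ2 : δ * δ = 1 := by
    have hc := (show Commute (v * A * v⁻¹) (A ^ j)⁻¹ from
      k.torus_comm hvA.1 hvA.2 (ha.pow_left j).inv_left (by rw [map_inv, map_pow, hfa, one_pow, inv_one]))
    rw [hδ, ← sq, hc.mul_pow, sq, conj_mul, hA, ← map_mul, hsq, inv_pow, map_mul,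
      (Commute.refl (s.π (s.M.T.D (a₁, a₂)))).mul_pow, sq, mul_inv_cancel]
  have hδfix : v * δ * v⁻¹ = δ := by
    obtain ⟨⟨c₁, c₂⟩, hc⟩ := k.exists_torus hδc hδf
    have hker : s.M.T.D (c₁, c₂) * s.M.T.D (c₁, c₂) ∈ s.π.ker := by
      rw [MonoidHom.mem_ker, map_mul, hc, hδ2]
    obtain ⟨c, hce, hco⟩ := s.M.T.ker_eq s.π s.ker_central s.ker_odd hker
    obtain ⟨r, hr⟩ := hco
    have h5 : δ ^ orderOf c = δ := by rw [hr, pow_succ, pow_mul, sq, hδ2, one_pow, one_mul]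
    have h6 : (c₁ ^ orderOf c) * (c₁ ^ orderOf c) = 1 ∧ (c₂ ^ orderOf c) * (c₂ ^ orderOf c) = 1 := by
      rw [← map_mul, Prod.mk_mul_mk] at hce
      have h := s.M.T.D_inj hce
      obtain ⟨g1, g2⟩ := Prod.ext_iff.1 h
      simp only at g1 g2
      rw [← mul_pow, ← mul_pow, g1, g2, pow_orderOf_eq_one]
      exact ⟨rfl, rfl⟩
    have hS : ∀ a : scal K Q, a * a = 1 → a = 1 ∨ a = k.e := fun a h =>
      (k.e_uniq a (congrArg Subtype.val h)).imp (fun h => Subtype.ext h) fun h => Subtype.ext h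
    have hz := k.central_fixed hm hb v k.e
    have hu : v * k.u * v⁻¹ = k.u := by rw [hv.eq, mul_inv_cancel_right]
    rw [← h5, ← hc, ← map_pow, ← map_pow, Prod.pow_mk]
    rcases hS _ h6.1 with e1 | e1 <;> rcases hS _ h6.2 with e2 | e2 <;> rw [e1, e2]
    · rw [show ((1 : scal K Q), (1 : scal K Q)) = 1 from rfl, map_one, map_one, mul_one, mul_inv_cancel]
    · exact hu
    · have he : (k.e, (1 : scal K Q)) = (k.e, k.e) * (1, k.e) := Prod.ext (mul_one _).symm k.e_sq.symm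
      rw [he, map_mul, map_mul, ← conj_mul, hz]
      exact congrArg _ hu
    · exact hz
  have hδj : δ ^ j = δ := by
    obtain ⟨r, hr⟩ := hjodd
    rw [hr, pow_succ, pow_mul, sq, hδ2, one_pow, one_mul]
  have hvA' : v * A * v⁻¹ = δ * A ^ j := by rw [hδ, inv_mul_cancel_right]
  have hδA : Commute δ A := k.torus_comm hδc hδf ha hfa
  have hiter : ∀ i : ℕ, v ^ i * A * (v ^ i)⁻¹ = δ ^ i * A ^ j ^ i := by
    intro i
    induction i with
    | zero => simp
    | succ i ih =>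
      calc v ^ (i + 1) * A * (v ^ (i + 1))⁻¹ = v * (v ^ i * A * (v ^ i)⁻¹) * v⁻¹ := by rw [pow_succ']; group
        _ = (v * δ * v⁻¹) ^ i * (v * A * v⁻¹) ^ j ^ i := by rw [ih, conj_pow, conj_pow, conj_mul]
        _ = δ ^ i * (δ ^ j ^ i * (A ^ j) ^ j ^ i) := by rw [hδfix, hvA', (hδA.pow_right j).mul_pow]
        _ = _ := by
          have hj' : δ ^ j ^ i = δ := by
            obtain ⟨r, hr⟩ := hjodd.pow (n := i)
            rw [hr, pow_succ, pow_mul, sq, hδ2, one_pow, one_mul]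
          rw [hj', ← mul_assoc, ← pow_succ, ← pow_mul, ← pow_succ']
  have hAN : A ^ j ^ N = A := by rw [hA, ← map_pow, ← map_pow, hpowN]
  have h7 := hiter N
  rw [hvtriv A ha hfa, hAN] at h7
  have h8 : δ = 1 := by
    have h9 : δ ^ N = 1 := mul_eq_right.1 h7.symm
    obtain ⟨r, hr⟩ := (hN ▸ s.σ_odd : Odd N)
    rwa [hr, pow_succ, pow_mul, sq, hδ2, one_pow, one_mul] at h9
  rw [hvA', h8, one_mul]

/-- The exponents, as a function of the field component. -/
theorem exists_eps : ∃ ε : RingAut F → ℕ, ∀ v a, Commute v k.u → Commute a k.u → s.fldX a = 1 →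
    v * a * v⁻¹ = a ^ ε (s.fldX v) := by
  classical
  refine ⟨fun γ => if h : ∃ v, Commute v k.u ∧ s.fldX v = γ then (k.exists_act h.choose_spec.1).choose else 0,
    fun v a hv ha hfa => ?_⟩
  have h : ∃ v', Commute v' k.u ∧ s.fldX v' = s.fldX v := ⟨v, hv, rfl⟩
  simp only [dif_pos h]
  rw [← (k.exists_act h.choose_spec.1).choose_spec a ha hfa]
  set v' := h.choose
  have hd : Commute (v'⁻¹ * v) k.u := h.choose_spec.1.inv_left.mul_left hv
  have hdf : s.fldX (v'⁻¹ * v) = 1 := by rw [map_mul, map_inv, h.choose_spec.2, inv_mul_cancel]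
  rw [show v * a * v⁻¹ = v' * (v'⁻¹ * v * a * (v'⁻¹ * v)⁻¹) * v'⁻¹ by group, k.torus_comm hd hdf ha hfa,
    mul_inv_cancel_right]

/-- A nontrivial field part fixes only a small part of the torus. -/
theorem exists_big {p n : ℕ} [Fact p.Prime] (hF : Fintype.card F = p ^ n) (hp : p ≠ 2) {Fo : ℕ} (hFo : Fo ≤ n)
    (hFo0 : 0 < Fo) {v : X} (hne : s.fldX v ≠ 1) :
    ∃ N, ¬ (Q - 1).natAbs ∣ 2 * (Fo * N) ∧
      ∀ a, Commute a k.u → s.fldX a = 1 → v * a * v⁻¹ = a → a ^ N = 1 := by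
  have hne0 : (Q - 1).natAbs ≠ 0 := by have := s.M.T.ne_one; omega
  obtain ⟨mm, b, hb, hm⟩ := exists_two_part hne0
  have hQ' : Q = (p : ℤ) ^ n ∨ Q = -(p : ℤ) ^ n := by
    rcases Int.natAbs_eq Q with h | h <;> rw [k.hQ, hF] at h <;> push_cast at h
    · exact Or.inl h
    · exact Or.inr h
  obtain ⟨N, -, hfix, hbig⟩ := exists_fixed_bound hF hp hQ' hne (s.fldX_odd v) hFo hFo0 (mm + 2)
  refine ⟨2 * N * 2 ^ mm, fun hd => hbig ?_, fun a ha hfa hva => ?_⟩
  · convert hd using 1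
    rw [pow_add]
    ring
  · obtain ⟨t, ht, hto⟩ := k.exists_t0
    obtain ⟨⟨a₁, a₂⟩, rfl⟩ := k.exists_torus ha hfa
    obtain ⟨i, hi⟩ := k.g_gen (a₁ * a₂⁻¹)
    have e1 : s.M.T.D (a₁, a₂) * s.M.T.D (a₁, a₂) = s.M.T.D (a₁ * a₂, a₁ * a₂) * s.M.ι (t ^ i) := by
      rw [map_pow, ht, ← map_pow, ← map_mul, ← map_mul, Prod.pow_mk, inv_pow, hi]
      congr 1
      refine Prod.ext ?_ ?_
      · show a₁ * a₁ = a₁ * a₂ * (a₁ * a₂⁻¹)
        rw [mul_mul_mul_comm, mul_inv_cancel, mul_one]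
      · show a₂ * a₂ = a₁ * a₂ * (a₁ * a₂⁻¹)⁻¹
        rw [mul_inv, inv_inv, mul_mul_mul_comm, mul_inv_cancel, one_mul]
    set A := s.π (s.M.T.D (a₁, a₂)) with hA
    have e2 : A * A = s.π (s.M.T.D (a₁ * a₂, a₁ * a₂)) * s.π (s.M.ι (t ^ i)) := by
      rw [hA, ← map_mul, e1, map_mul]
    have h3 : s.ψ v (t ^ i) = t ^ i := by
      refine s.π_ι_inj ?_
      show s.π (s.M.ι (s.act₂ v (t ^ i))) = s.π (s.M.ι (t ^ i))
      have h := congrArg (fun y => v * y * v⁻¹) e2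
      rw [← conj_mul, hva, ← conj_mul, k.central_fixed hm hb, s.conj_ι] at h
      exact (mul_left_cancel (e2.symm.trans h)).symm
    have h4 : s.fldX v (str (t ^ i)) = str (t ^ i) := by
      obtain ⟨g, hg⟩ := exists_eq (s.ψ v)
      have h := congrArg (fun A : SL₂ => Matrix.trace (A : Matrix (Fin 2) (Fin 2) F)) h3
      rw [hg, trace_smi, Matrix.trace_fin_two] at h
      exact h
    have h5 : (t ^ i) ^ N = 1 := hfix _ (by
      rw [← pow_mul, mul_comm, pow_mul, ← hto, pow_orderOf_eq_one, one_pow]) h4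
    have hcomm : Commute (s.π (s.M.T.D (a₁ * a₂, a₁ * a₂))) (s.π (s.M.ι (t ^ i))) :=
      (show Commute (s.M.T.D (a₁ * a₂, a₁ * a₂)) (s.M.ι (t ^ i)) from
        (Subgroup.mem_center_iff.1 (s.M.T.D_center _) _).symm).map s.π
    rw [show 2 * N * 2 ^ mm = 2 * (2 ^ mm * N) by ring, pow_mul, sq, e2, hcomm.mul_pow,
      pow_mul, k.central_pow hm hb, one_pow, one_mul, mul_comm (2 ^ mm), pow_mul, ← map_pow s.π, ← map_pow s.M.ι, h5,
      map_one, map_one, one_pow]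

omit [Finite X] in
/-- An element of `SL(2)` exchanging the factors of the torus. -/
theorem exists_weyl : ∃ t : SL₂, t * t = -1 ∧
    ∀ a b, s.M.ι t * s.M.T.D (a, b) * (s.M.ι t)⁻¹ = s.M.T.D (b, a) := by
  obtain ⟨h, hh⟩ := isConj_iff.1 (s.M.T.D_swap k.g 1)
  have hh' : h * s.M.T.D (1, k.g) * h⁻¹ = s.M.T.D (k.g, 1) := by
    have e : s.M.T.D (1, k.g) = (s.M.T.D (k.g, 1))⁻¹ * s.M.T.D (k.g, k.g) := by
      rw [eq_inv_mul_iff_mul_eq, ← map_mul, Prod.mk_mul_mk, mul_one, one_mul]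
    conv_lhs => rw [e]
    rw [← conj_mul, ← conj_inv, hh, Subgroup.mem_center_iff.1 (s.M.T.D_center _) h, mul_inv_cancel_right,
      inv_mul_eq_iff_eq_mul, ← map_mul, Prod.mk_mul_mk, mul_one, one_mul]
  have hswap : ∀ a b, h * s.M.T.D (a, b) * h⁻¹ = s.M.T.D (b, a) := by
    intro a b
    obtain ⟨i, rfl⟩ := k.g_gen a
    obtain ⟨j, rfl⟩ := k.g_gen b
    have e : (k.g ^ i, k.g ^ j) = (k.g, 1) ^ i * (1, k.g) ^ j := by simp
    rw [e, map_mul, map_pow, map_pow, ← conj_mul, ← conj_pow, ← conj_pow, hh, hh', ← map_pow, ← map_pow, ← map_mul]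
    simp
  set d := (s.M.T.dt h)⁻¹ with hd
  obtain ⟨t, ht⟩ := s.M.exists_of_dt (h := h * s.M.T.D (d, 1)) (by
    rw [map_mul, s.M.T.dt_D, mul_one, mul_inv_cancel])
  have hsw : ∀ a b, s.M.ι t * s.M.T.D (a, b) * (s.M.ι t)⁻¹ = s.M.T.D (b, a) := fun a b => by
    rw [← ht, show h * s.M.T.D (d, 1) * s.M.T.D (a, b) * (h * s.M.T.D (d, 1))⁻¹ =
      h * (s.M.T.D (d, 1) * s.M.T.D (a, b) * (s.M.T.D (d, 1))⁻¹) * h⁻¹ by group,
      ((Commute.all (d, (1 : scal K Q)) (a, b)).map s.M.T.D).eq, mul_inv_cancel_right, hswap]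
  refine ⟨t, ?_, hsw⟩
  have hsq : ∀ a b, s.M.ι (t * t) * s.M.T.D (a, b) = s.M.T.D (a, b) * s.M.ι (t * t) := fun a b => by
    have h1 := hsw b a
    rw [← hsw a b] at h1
    rw [← mul_inv_eq_iff_eq_mul, map_mul, _root_.mul_inv_rev]
    simpa [mul_assoc] using h1
  obtain ⟨⟨c₁, c₂⟩, hp⟩ := k.exists_D (h := s.M.ι (t * t))
    ((show Commute (s.M.ι (t * t)) (s.M.T.D (1, k.e)) from hsq _ _).map s.π)
  have h1 := hsw c₁ c₂
  rw [hp, map_mul, show s.M.ι t * (s.M.ι t * s.M.ι t) * (s.M.ι t)⁻¹ = s.M.ι t * s.M.ι t by group, ← map_mul,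
    ← hp] at h1
  have h2 := congrArg Prod.fst (s.M.T.D_inj h1)
  have h3 := congrArg s.M.T.dt hp
  rw [s.M.T.dt_D, s.M.dt_ι, ← show c₁ = c₂ from h2] at h3
  have h4 : t * t * (t * t) = 1 := s.M.ι_inj (by
    rw [map_mul, ← hp, ← map_mul, ← show c₁ = c₂ from h2, Prod.mk_mul_mk, h3, map_one]
    exact map_one _)
  rcases eq_one_or_neg_one (odd_card k) h4 with h5 | h5
  · exfalso
    have h6 := hsw k.g 1
    rcases eq_one_or_neg_one (odd_card k) h5 with rfl | rfl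
    · rw [map_one, one_mul, inv_one, mul_one] at h6
      exact g_ne k (congrArg Prod.fst (s.M.T.D_inj h6))
    · rw [(show Commute (s.M.ι (-1)) (s.M.T.D (k.g, 1)) from ?_).eq, mul_inv_cancel_right] at h6
      · exact g_ne k (congrArg Prod.fst (s.M.T.D_inj h6))
      · obtain ⟨g, hg⟩ := s.M.back (s.M.T.D (k.g, 1))
        have h7 := hg (-1)
        rw [show inn g (-1 : SL₂) = -1 by
          refine Subtype.ext ?_
          rw [inn_coe]
          simp [Matrix.SpecialLinearGroup.coe_neg]] at h7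
        exact (mul_inv_eq_iff_eq_mul.1 h7).symm
  · exact h5
where
  odd_card (k : Frame s) : Odd (Fintype.card F) := by
    rw [← k.hQ]
    exact Int.natAbs_odd.2 s.M.T.odd
  g_ne (k : Frame s) : k.g ≠ 1 := fun h => by
    obtain ⟨i, hi⟩ := k.g_gen k.e
    rw [h, one_pow] at hi
    exact k.e_ne hi.symm

omit [Finite X] in
/-- The conjugates of the non-central involution generate the normal `SL(2, q)`. -/
theorem ι_mem_closure (h4 : 4 ≤ Fintype.card F) (t : SL₂) :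
    s.π (s.M.ι t) ∈ Subgroup.closure {y : X | ∃ c, c * k.u * c⁻¹ = y} := by
  set W := Subgroup.closure {y : X | ∃ c, c * k.u * c⁻¹ = y} with hW
  have hu : k.u ∈ W := Subgroup.subset_closure ⟨1, by simp⟩
  haveI hWn : W.Normal := by
    refine ⟨fun y hy c => ?_⟩
    refine Subgroup.closure_induction ?_ ?_ (fun a b _ _ ha hb => ?_) (fun a _ ha => ?_) hy
    · rintro _ ⟨d, rfl⟩
      exact Subgroup.subset_closure ⟨c * d, by group⟩
    · simp
    · rw [← conj_mul]; exact mul_mem ha hb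
    · rw [← conj_inv]; exact inv_mem ha
  haveI : IsSimpleGroup (Matrix.ProjectiveSpecialLinearGroup (Fin 2) F) := PSL_isSimple le_rfl fun _ => h4
  have hperf : commutator SL₂ = ⊤ := SL_commutator_eq_top fun _ => exists_sq_ne_one_field h4
  set N := W.comap (s.π.comp s.M.ι) with hN
  suffices h : N = ⊤ by
    have : t ∈ N := h ▸ Subgroup.mem_top t
    exact this
  refine SL_normal_eq_top hperf N fun hle => ?_
  -- `[u, x]` is central for every `x`
  have hcen : ∀ x : SL₂, s.ψ k.u x * x⁻¹ ∈ Subgroup.center SL₂ := by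
    intro x
    refine hle ?_
    show s.π (s.M.ι (s.act₂ k.u x * x⁻¹)) ∈ W
    rw [map_mul, map_mul, ← s.conj_ι, mul_assoc, mul_assoc]
    refine mul_mem hu ?_
    rw [← mul_assoc, map_inv, map_inv]
    exact hWn.conj_mem _ (inv_mem hu) _
  let χ : SL₂ →* Subgroup.center SL₂ :=
    { toFun := fun x => ⟨s.ψ k.u x * x⁻¹, hcen x⟩
      map_one' := Subtype.ext (by simp)
      map_mul' := fun a b => Subtype.ext (by
        show s.ψ k.u (a * b) * (a * b)⁻¹ = s.ψ k.u a * a⁻¹ * (s.ψ k.u b * b⁻¹)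
        rw [map_mul, _root_.mul_inv_rev, mul_assoc (s.ψ k.u a), mul_assoc (s.ψ k.u a), ← mul_assoc (s.ψ k.u b),
          Subgroup.mem_center_iff.1 (hcen b) a⁻¹]) }
  have htriv : ∀ x, s.ψ k.u x = x := by
    intro x
    have h1 : x ∈ χ.ker := by
      have : commutator SL₂ ≤ χ.ker := by
        rw [commutator_def, Subgroup.commutator_le]
        intro a _ b _
        rw [MonoidHom.mem_ker, map_commutatorElement, commutatorElement_eq_one_iff_mul_comm]
        exact Subtype.ext (Subgroup.mem_center_iff.1 (χ b).2 (χ a : SL₂))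
      exact this (hperf ▸ Subgroup.mem_top x)
    exact mul_inv_eq_one.1 (congrArg Subtype.val (MonoidHom.mem_ker.1 h1))
  have hc : s.M.T.D (1, k.e) ∈ Subgroup.center H := by
    refine s.M.cent _ fun x => mul_inv_eq_iff_eq_mul.1 ?_
    obtain ⟨g, hg⟩ := s.M.back (s.M.T.D (1, k.e))
    rw [hg]
    refine congrArg s.M.ι (s.π_ι_inj ?_)
    show s.π (s.M.ι (inn g x)) = s.π (s.M.ι x)
    rw [← hg, map_mul, map_mul, map_inv]
    show k.u * s.π (s.M.ι x) * k.u⁻¹ = _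
    rw [s.conj_ι]
    exact congrArg _ (congrArg _ (htriv x))
  obtain ⟨c, hc'⟩ := s.M.T.central _ hc
  have h' := s.M.T.D_inj hc'
  exact k.e_ne ((congrArg Prod.snd h').trans (congrArg Prod.fst h').symm)

omit [Finite X] in
/-- An element of odd order centralising all conjugates of the non-central involution is trivial. -/
theorem eq_one_of_kill (h4 : 4 ≤ Fintype.card F) {y : X} (hy : Odd (orderOf y))
    (h : ∀ c, Commute y (c * k.u * c⁻¹)) : y = 1 := by
  have hι : ∀ t, Commute y (s.π (s.M.ι t)) := fun t => by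
    have hle : Subgroup.closure {a : X | ∃ c, c * k.u * c⁻¹ = a} ≤ Subgroup.centralizer ({y} : Set X) :=
      (Subgroup.closure_le _).2 fun a ⟨c, hc⟩ => Subgroup.mem_centralizer_singleton_iff.2 (hc ▸ (h c).eq.symm)
    exact (Subgroup.mem_centralizer_singleton_iff.1 (hle (k.ι_mem_closure h4 t))).symm
  have hψ : s.ψ y = 1 := s.act₂_eq fun t => by rw [(hι t).eq, mul_inv_cancel_right]; rfl
  obtain ⟨h₀, rfl⟩ := s.mem_range_of_fld (x := y) (by show fld (s.ψ y) = 1; rw [hψ, map_one])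
  have hc : h₀ ∈ Subgroup.center H := by
    refine s.M.cent _ fun x => mul_inv_eq_iff_eq_mul.1 ?_
    obtain ⟨g, hg⟩ := s.M.back h₀
    rw [hg]
    refine congrArg s.M.ι (s.π_ι_inj ?_)
    show s.π (s.M.ι (inn g x)) = s.π (s.M.ι x)
    rw [← hg, map_mul, map_mul, map_inv, (hι x).eq, mul_inv_cancel_right]
  obtain ⟨a, rfl⟩ := s.M.T.central _ hc
  obtain ⟨mm, b, hb, hm⟩ := exists_two_part (n := (Q - 1).natAbs) (by have := s.M.T.ne_one; omega)
  rw [← orderOf_eq_one_iff, ← Nat.dvd_one, ← (Nat.coprime_two_left.2 hy).pow_left mm]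
  exact Nat.dvd_gcd (orderOf_dvd_of_pow_eq_one (k.central_pow hm hb a)) dvd_rfl

omit [Finite X] k in
/-- Only the trivial element of the split part is killed. -/
theorem eq_one_of_split {a : scal K Q} (h : s.π (s.M.T.D (a⁻¹, a)) = 1) : a = 1 := by
  obtain ⟨c, hc, hco⟩ := s.M.T.ker_eq s.π s.ker_central s.ker_odd (MonoidHom.mem_ker.2 h)
  have h' := s.M.T.D_inj hc
  have h1 : a⁻¹ = c := congrArg Prod.fst h'
  have h2 : a = c := congrArg Prod.snd h'
  rw [h2, eq_one_of_sq_odd (inv_eq_iff_mul_eq_one.1 (h2 ▸ h1)) hco]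

omit [Finite X] in
/-- Elements of odd order of the torus lie in the split part. -/
theorem mem_zpowers_of_odd {t : SL₂} (ht : s.M.ι t = s.M.T.D (k.g, k.g⁻¹)) {a : X} (ha : Commute a k.u)
    (hfa : s.fldX a = 1) (ho : Odd (orderOf a)) : a ∈ Subgroup.zpowers (s.π (s.M.ι t)) := by
  obtain ⟨⟨a₁, a₂⟩, rfl⟩ := k.exists_torus ha hfa
  obtain ⟨i, hi⟩ := k.g_gen (a₁ * a₂⁻¹)
  obtain ⟨mm, b, hb, hm⟩ := exists_two_part (n := (Q - 1).natAbs) (by have := s.M.T.ne_one; omega)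
  have e1 : s.M.T.D (a₁, a₂) * s.M.T.D (a₁, a₂) = s.M.T.D (a₁ * a₂, a₁ * a₂) * s.M.ι (t ^ i) := by
    rw [map_pow, ht, ← map_pow, ← map_mul, ← map_mul, Prod.pow_mk, inv_pow, hi]
    congr 1
    refine Prod.ext ?_ ?_
    · show a₁ * a₁ = a₁ * a₂ * (a₁ * a₂⁻¹)
      rw [mul_mul_mul_comm, mul_inv_cancel, mul_one]
    · show a₂ * a₂ = a₁ * a₂ * (a₁ * a₂⁻¹)⁻¹
      rw [mul_inv, inv_inv, mul_mul_mul_comm, mul_inv_cancel, one_mul]
  set A := s.π (s.M.T.D (a₁, a₂)) with hA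
  have h1 : A ^ (2 ^ (mm + 1)) ∈ Subgroup.zpowers (s.π (s.M.ι t)) := by
    have hcomm : Commute (s.π (s.M.T.D (a₁ * a₂, a₁ * a₂))) (s.π (s.M.ι (t ^ i))) :=
      (show Commute (s.M.T.D (a₁ * a₂, a₁ * a₂)) (s.M.ι (t ^ i)) from
        (Subgroup.mem_center_iff.1 (s.M.T.D_center _) _).symm).map s.π
    rw [pow_succ', pow_mul, sq, hA, ← map_mul, e1, map_mul, hcomm.mul_pow, k.central_pow hm hb, one_mul, map_pow,
      map_pow, ← pow_mul]
    exact Subgroup.npow_mem_zpowers _ _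
  obtain ⟨r, hr⟩ := exists_pow_eq_self_of_coprime (n := 2 ^ (mm + 1)) (x := A)
    ((Nat.coprime_two_left.2 ho).pow_left _)
  exact hr ▸ pow_mem h1 r

omit [Finite X] in
/-- The image of `SL(2, q)` has `2`-power index exponent in the image. -/
theorem pow_two_part_mem {mm b : ℕ} (hm : (Q - 1).natAbs = 2 ^ mm * b) (hb : Odd b) (h : H) :
    ∃ t, s.π h ^ 2 ^ mm = s.π (s.M.ι t) := by
  set a := s.M.T.dt h ^ 2 ^ mm with ha
  have hab : a ^ b = 1 := by
    rw [ha, ← pow_mul, ← hm]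
    exact congrArg Prod.fst (k.pow_m (s.M.T.dt h, 1))
  obtain ⟨r, hr⟩ := hb
  set c := a ^ (r + 1) with hc
  have hcc : c * c = a := by
    rw [hc, ← pow_add, show r + 1 + (r + 1) = b + 1 by omega, pow_succ, hab, one_mul]
  obtain ⟨t, ht⟩ := s.M.exists_of_dt (h := h ^ 2 ^ mm * (s.M.T.D (c, c))⁻¹) (by
    rw [map_mul, map_inv, map_pow, s.M.T.dt_D, hcc, ← ha, mul_inv_cancel])
  refine ⟨t, ?_⟩
  have hk : s.π (s.M.T.D (c, c)) = 1 := by
    refine s.ker_all _ (s.M.T.D_center c) ((show Odd b from ⟨r, hr⟩).of_dvd_nat (orderOf_dvd_of_pow_eq_one ?_))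
    rw [← map_pow, Prod.pow_mk, hc, ← pow_mul, mul_comm, pow_mul, hab, one_pow]
    exact map_one _
  rw [← ht, map_mul, map_inv, hk, inv_one, mul_one, map_pow]

end Frame

end Cfsg.Agent.Invol.AbgOrder
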