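import Cfsg.Agent.Lib.Invol.AbgOrder.ColSLTwo
import Cfsg.Agent.Lib.Invol.AbgOrder.ColOdd
import Cfsg.Agent.Lib.Invol.AbgOrder.CoreShape

/-!
# The principal 2-block of `GL^ε(2, q)` modulo odd scalars, extended by field automorphisms, on odd elements

The projective line is `X / borel`; its permutation character minus one is `refSt`.  Every function in the span of the
principal block is, on the elements of odd order, a combination of `1` and `refSt`.
-/

set_option autoImplicit false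
set_option linter.unusedSectionVars false
set_option linter.style.haveILetI false

open scoped Classical

namespace Cfsg.Agent.Invol.AbgOrder

open Cfsg Cfsg.Agent.Char Cfsg.Agent.Block Cfsg.Agent.Block.SL2Char Matrix
open Cfsg.Agent.Invol.BrauerL3 (Tbl scal)

universe u v w x

variable {X : Type u} [Group X] [Fintype X] {F : Type v} [Field F] [Fintype F] [DecidableEq F] {H : Type w}
  [Group H] {K : Type x} [CommGroup K] {Q : ℤ}

local notation "SL₂" => Matrix.SpecialLinearGroup (Fin 2) F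
local notation "M₂" => Matrix (Fin 2) (Fin 2) F
local notation "tg" => (Matrix.SpecialLinearGroup.toGL : SL₂ →* GL (Fin 2) F)

theorem uT_conj (t : SL₂) (h : (t : M₂) 1 0 = 0) (a : F) :
    t * uT (Multiplicative.ofAdd a) * t⁻¹ = uT (Multiplicative.ofAdd (a * ((t : M₂) 0 0) ^ 2)) := by
  have hd : (t : M₂) 0 0 * (t : M₂) 1 1 = 1 := by
    have := t.2
    rw [det_fin_two, h, mul_zero, sub_zero] at this
    exact this
  rw [mul_inv_eq_iff_eq_mul]
  refine Subtype.ext (Matrix.ext fun i j => ?_)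
  fin_cases i <;> fin_cases j <;>
    simp [Matrix.SpecialLinearGroup.coe_mul, uT_val, Matrix.mul_apply, Fin.sum_univ_two, h]
  linear_combination (-(a * (t : M₂) 0 0)) * hd

theorem lower_zero_of_conj {t : SL₂} {b : F}
    (h : t * uT (Multiplicative.ofAdd 1) * t⁻¹ = uT (Multiplicative.ofAdd b)) : (t : M₂) 1 0 = 0 := by
  rw [mul_inv_eq_iff_eq_mul] at h
  have h' := congrArg (fun m : SL₂ => (m : M₂) 1 1) h
  simpa [Matrix.SpecialLinearGroup.coe_mul, uT_val, Matrix.mul_apply, Fin.sum_univ_two] using h'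

namespace Shape0

variable (s : Shape0 X F H K Q)
include s

/-- `SL(2, q)` inside. -/
noncomputable def eSL : SL₂ →* X := s.π.comp s.M.ι

/-- The root group. -/
noncomputable def root : Subgroup X := (uT (F := F)).range.map s.eSL

/-- The stabiliser of a point of the projective line. -/
noncomputable def borel : Subgroup X := Subgroup.normalizer (s.root : Set X)

theorem mem_root {x : X} : x ∈ s.root ↔ ∃ a : F, s.eSL (uT (Multiplicative.ofAdd a)) = x := by
  constructor
  · rintro ⟨_, ⟨a, rfl⟩, rfl⟩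
    exact ⟨a.toAdd, rfl⟩
  · rintro ⟨a, rfl⟩
    exact ⟨_, ⟨_, rfl⟩, rfl⟩

theorem mem_borel {x : X} : x ∈ s.borel ↔ ∀ a : F, ∃ b : F,
    x * s.eSL (uT (Multiplicative.ofAdd a)) * x⁻¹ = s.eSL (uT (Multiplicative.ofAdd b)) := by
  rw [borel, Subgroup.mem_normalizer_iff]
  refine ⟨fun h a => ?_, fun h y => ⟨fun hy => ?_, fun hy => ?_⟩⟩
  · obtain ⟨b, hb⟩ := s.mem_root.1 ((h _).1 (s.mem_root.2 ⟨a, rfl⟩))
    exact ⟨b, hb.symm⟩
  · obtain ⟨a, rfl⟩ := s.mem_root.1 hy
    obtain ⟨b, hb⟩ := h a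
    exact s.mem_root.2 ⟨b, hb.symm⟩
  · choose b hb using h
    obtain ⟨c, hc⟩ := s.mem_root.1 hy
    have hinj : Function.Injective b := fun a a' e => by
      have h1 : s.eSL (uT (Multiplicative.ofAdd a)) = s.eSL (uT (Multiplicative.ofAdd a')) :=
        mul_left_cancel (mul_right_cancel ((hb a).trans ((congrArg (fun r => s.eSL (uT (Multiplicative.ofAdd r)))
          e).trans (hb a').symm)))
      have h2 := congrArg (fun m : SL₂ => (m : M₂) 0 1) (s.π_ι_inj h1)
      simpa [uT_val] using h2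
    obtain ⟨a, ha⟩ := (Finite.injective_iff_surjective.1 hinj) c
    refine s.mem_root.2 ⟨a, ?_⟩
    have h1 := hb a
    rw [ha, hc] at h1
    exact mul_left_cancel (mul_right_cancel h1)

theorem eSL_mem_borel {t : SL₂} : s.eSL t ∈ s.borel ↔ t ∈ (Cfsg.upperTriangularGL 2 F).comap (Matrix.SpecialLinearGroup.toGL : SL₂ →* GL (Fin 2) F) := by
  rw [Subgroup.mem_comap, mem_BB, s.mem_borel]
  constructor
  · intro h
    obtain ⟨b, hb⟩ := h 1
    rw [← map_inv, ← map_mul, ← map_mul] at hb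
    exact lower_zero_of_conj (s.π_ι_inj hb)
  · intro h a
    exact ⟨_, by rw [← map_inv, ← map_mul, ← map_mul, uT_conj t h a]⟩

theorem exists_eSL_borel (x : X) : ∃ t : SL₂, (s.eSL t)⁻¹ * x ∈ s.borel := by
  obtain ⟨g, σ, hg⟩ := exists_smi (s.act₂ x)
  set d : Fˣ := (detu g)⁻¹
  obtain ⟨t, ht⟩ := exists_toGL_of_detu (g := g * di d 1) (by
    rw [map_mul, detu_eq (g := di d 1) (w := d) (by simp [dt_di]), mul_inv_cancel])
  refine ⟨t, s.mem_borel.2 fun a => ⟨(d⁻¹ : Fˣ) * σ a, ?_⟩⟩
  have h1 : t⁻¹ * s.act₂ x (uT (Multiplicative.ofAdd a)) * t =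
      uT (Multiplicative.ofAdd (((d⁻¹ : Fˣ) : F) * σ a)) := by
    rw [← cjS_di_uT]
    refine Matrix.SpecialLinearGroup.toGL_injective ?_
    show tg _ = tg _
    rw [toGL_cjS, map_mul, map_mul, map_inv, ht, hg,
      show tg (smi g σ (uT (Multiplicative.ofAdd a))) = g * tg (uT (Multiplicative.ofAdd (σ a))) * g⁻¹ from
        Units.ext (by
          show ((smi g σ (uT (Multiplicative.ofAdd a)) : SL₂) : M₂) = _
          rw [smi_coe, uT_val, Units.val_mul, Units.val_mul]
          congr 2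
          ext i j
          fin_cases i <;> fin_cases j <;> simp [uT_val])]
    have hd : (di d⁻¹ 1 : GL (Fin 2) F) = (di d 1)⁻¹ := by
      refine eq_inv_of_mul_eq_one_left ?_
      rw [di_mul, inv_mul_cancel, one_mul]
      exact sc_one
    rw [hd]
    group
  show (s.eSL t)⁻¹ * x * _ * ((s.eSL t)⁻¹ * x)⁻¹ = _
  rw [show (s.eSL t)⁻¹ * x * s.eSL (uT (Multiplicative.ofAdd a)) * ((s.eSL t)⁻¹ * x)⁻¹ =
    (s.eSL t)⁻¹ * (x * s.eSL (uT (Multiplicative.ofAdd a)) * x⁻¹) * s.eSL t by group]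
  rw [show x * s.eSL (uT (Multiplicative.ofAdd a)) * x⁻¹ = s.eSL (s.act₂ x (uT (Multiplicative.ofAdd a))) from
    s.conj_ι x _, ← map_inv, ← map_mul, ← map_mul, h1]

/-- The Steinberg function of `X`. -/
noncomputable def refSt (x : X) : ℂ := indFun s.borel (fun _ => (1 : ℂ)) x - 1

theorem refSt_eSL (t : SL₂) : s.refSt (s.eSL t) = vSS t := by
  set B := (Cfsg.upperTriangularGL 2 F).comap (Matrix.SpecialLinearGroup.toGL : SL₂ →* GL (Fin 2) F)
  have hα : (fun b : B => (1 : MulChar F ℂ) (((b : SL₂) : M₂) 0 0)) = fun _ => (1 : ℂ) :=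
    funext fun b => MulChar.one_apply
      (isUnit_iff_ne_zero.2 (diag_ne_zero (F := F) (g := tg (b : SL₂)) b.2).1)
  have hvI : indFun B (fun _ => (1 : ℂ)) t = vSS t + 1 := by
    have h := congrFun (indFun_S (F := F) 1) t
    rw [hα] at h
    have h1 : (1 : MulChar F ℂ).toUnitHom = 1 := MonoidHom.ext fun a => Units.ext (by
      simp [MulChar.coe_toUnitHom])
    rw [h, h1, vSS, vIS, resS_apply, resS_apply, vS, Pi.sub_apply, vL_one]
    ring
  let Φ : SL₂ ⧸ B → X ⧸ s.borel := Quotient.lift (fun a => (QuotientGroup.mk (s.eSL a) : X ⧸ s.borel))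
    fun a b hab => QuotientGroup.eq.2 (by
      rw [← map_inv, ← map_mul]; exact s.eSL_mem_borel.2 (QuotientGroup.leftRel_apply.1 hab))
  have hΦ : ∀ a : SL₂, Φ (QuotientGroup.mk a) = QuotientGroup.mk (s.eSL a) := fun a => rfl
  have hbij : Function.Bijective Φ := by
    refine ⟨fun a b => ?_, fun y => ?_⟩
    · induction a using QuotientGroup.induction_on with
      | _ a => induction b using QuotientGroup.induction_on with
        | _ b =>
          intro h
          rw [hΦ, hΦ, QuotientGroup.eq, ← map_inv, ← map_mul, s.eSL_mem_borel] at h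
          exact QuotientGroup.eq.2 h
    · induction y using QuotientGroup.induction_on with
      | _ x =>
        obtain ⟨a, ha⟩ := s.exists_eSL_borel x
        exact ⟨QuotientGroup.mk a, (hΦ a).trans (QuotientGroup.eq.2 ha)⟩
  have hsmul : ∀ a : SL₂ ⧸ B, Φ (t • a) = s.eSL t • Φ a := by
    intro a
    induction a using QuotientGroup.induction_on with
    | _ a => rw [MulAction.Quotient.smul_mk, hΦ, hΦ, MulAction.Quotient.smul_mk, smul_eq_mul, smul_eq_mul, map_mul]
  have hc : Nat.card {a : SL₂ ⧸ B // t • a = a} = Nat.card {y : X ⧸ s.borel // s.eSL t • y = y} := by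
    refine Nat.card_congr ((Equiv.ofBijective Φ hbij).subtypeEquiv fun a => ?_)
    rw [Equiv.ofBijective_apply, ← hsmul]
    exact hbij.1.eq_iff.symm
  rw [refSt, Contrib.indFun_one_apply, ← hc, ← Contrib.indFun_one_apply, hvI]
  ring

variable (Kq : Type*) [Field Kq] [Algebra F Kq] [Fintype Kq] [DecidableEq Kq] (hKq : Module.finrank F Kq = 2)

include hKq in
theorem refSt_inB0 {M : Ideal AlgInt} (hM : IsPModular 2 M) (hodd : Odd (Fintype.card F)) : InB0 M s.refSt := by
  have hirr : IsIrrCharacter X s.refSt := by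
    refine Alperin.isIrr_of_res (isCharacter_ind_sub_one s.borel) s.eSL ?_
    convert isIrr_vSS (F := F) Kq hKq using 1
    exact funext fun t => s.refSt_eSL t
  refine InB0.irr (χ := ⟨s.refSt, hirr⟩) (perm_mem_principal hM (Ω := X ⧸ s.borel) ?_ _ fun g => ?_)
  · have h := s.refSt_eSL 1
    rw [map_one, refSt, Contrib.indFun_one_apply, vSS_one] at h
    have h1 : Nat.card {y : X ⧸ s.borel // (1 : X) • y = y} = Nat.card (X ⧸ s.borel) :=
      Nat.card_congr (Equiv.subtypeUnivEquiv fun y => one_smul X y)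
    rw [h1] at h
    have h2 : Nat.card (X ⧸ s.borel) = Fintype.card F + 1 := by
      exact_mod_cast (show (Nat.card (X ⧸ s.borel) : ℂ) = (Fintype.card F : ℂ) + 1 by linear_combination h)
    obtain ⟨k, hk⟩ := hodd
    rw [h2, hk]
    exact ⟨k + 1, by ring⟩
  · show s.refSt g = _
    rw [refSt, Contrib.indFun_one_apply]
    rfl

theorem range_ι_eq : s.M.ι.range = s.M.T.dt.ker := by
  haveI := s.M.T.finiteK
  haveI : Finite H := s.M.finite
  refine Subgroup.eq_of_le_of_card_ge (fun h ⟨t, ht⟩ => MonoidHom.mem_ker.2 (ht ▸ s.M.dt_ι t)) ?_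
  have hsurj : Function.Surjective s.M.T.dt := fun a => ⟨s.M.T.D (a, 1), by rw [s.M.T.dt_D, mul_one]⟩
  have h1 := s.M.T.dt.ker.card_mul_index
  rw [Subgroup.index_ker, MonoidHom.range_eq_top.2 hsurj, Subgroup.card_top, s.M.card] at h1
  rw [Nat.eq_of_mul_eq_mul_right Nat.card_pos h1, Nat.card_congr (MonoidHom.ofInjective s.M.ι_inj).toEquiv]

/-- An element of odd order in the image of `H` lies in `SL(2, q)`. -/
theorem exists_eSL_of_odd {x : X} (hx : x ∈ s.π.range) (ho : Odd (orderOf x)) : ∃ t : SL₂, s.eSL t = x := by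
  haveI := s.M.T.finiteK
  haveI : Finite H := s.M.finite
  obtain ⟨h₀, rfl⟩ := hx
  obtain ⟨e, he, heo⟩ := exists_odd_pow s.π h₀ ho
  set h := h₀ ^ e with hh
  set c := s.M.T.dt h
  obtain ⟨k, hk⟩ := (heo.of_dvd_nat (orderOf_map_dvd s.M.T.dt h) : Odd (orderOf c))
  set b := c ^ (k + 1) with hb
  have hb2 : b * b = c := by
    rw [hb, ← pow_add, show k + 1 + (k + 1) = orderOf c + 1 by omega, pow_succ, pow_orderOf_eq_one, one_mul]
  have hbo : Odd (orderOf (s.M.T.D (b, b))) := by
    rw [orderOf_injective s.M.T.D s.M.T.D_inj, Prod.orderOf_mk, Nat.lcm_self]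
    exact (heo.of_dvd_nat (orderOf_map_dvd s.M.T.dt h)).of_dvd_nat (orderOf_pow_dvd _)
  have hker : h * (s.M.T.D (b, b))⁻¹ ∈ s.M.ι.range := by
    rw [s.range_ι_eq, MonoidHom.mem_ker, map_mul, map_inv, s.M.T.dt_D, hb2, mul_inv_cancel]
  obtain ⟨t, ht⟩ := hker
  refine ⟨t, ?_⟩
  show s.π (s.M.ι t) = _
  rw [ht, map_mul, map_inv, s.ker_all _ (s.M.T.D_center b) hbo, inv_one, mul_one, he]

/-- Functions in the span of the principal block on the elements of odd order. -/
theorem col_shape {M : Ideal AlgInt} (hM : IsPModular 2 M) (hN : NHyp s.π.range) (hodd : Odd (Fintype.card F))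
    {f : X → ℂ} (hf : InB0 M f) :
    ∃ c₁ c₂ : ℂ, ∀ v : X, Odd (orderOf v) → f v = c₁ + c₂ * s.refSt v := by
  haveI := s.range_normal
  obtain ⟨Kq, _, _, _, _, hKq⟩ := exists_model F
  have hrn : (s.eSL.range).Normal := ⟨fun y hy x => by
    obtain ⟨t, rfl⟩ := hy
    exact ⟨s.act₂ x t, (s.conj_ι x t).symm⟩⟩
  let e : SL₂ ≃* s.eSL.range := MonoidHom.ofInjective (f := s.eSL) s.π_ι_inj
  have hres : InB0 M (fun n : s.eSL.range => f n) := hf.res hM s.eSL.range
  -- pull back to `SL(2, q)`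
  have hcls : IsClassFunction SL₂ (fun t => f (s.eSL t)) := fun g c => by
    show f (s.eSL (c * g * c⁻¹)) = f (s.eSL g)
    rw [map_mul, map_mul, map_inv]
    exact hf.1 _ _
  have hinv : InvS (fun t => f (s.eSL t)) := fun g t => by
    obtain ⟨h, hh⟩ := s.M.onto g
    show f (s.eSL (cjS g t)) = f (s.eSL t)
    have e1 : inn g t = cjS g t := Matrix.SpecialLinearGroup.toGL_injective (by
      show tg _ = tg _
      rw [toGL_cjS]
      exact Units.ext (inn_coe g t))
    rw [← e1, show s.eSL (inn g t) = s.π h * s.eSL t * (s.π h)⁻¹ by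
      show s.π _ = _ * s.π _ * _
      rw [← hh, map_mul, map_mul, map_inv]]
    exact hf.1 _ _
  have hδ : InB0 M (fun t => f (s.eSL t)) := ⟨hcls, fun ψ hψ => by
    let ψ' : IrrCharacter s.eSL.range := ⟨fun n => (ψ : SL₂ → ℂ) (e.symm n), IsIrr.comp_mulEquiv e.symm ψ.2⟩
    have hψ' : ψ' ∉ principalBlock M s.eSL.range := fun hmem => hψ (by
      refine fun g => ?_
      have h := hmem (e g)
      show MemLocalIdeal M _
      rw [show centralChar (fun _ : SL₂ => (1 : ℂ)) g =
          centralChar (fun _ : s.eSL.range => (1 : ℂ)) (e g) from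
        Alperin.centralChar_comp_mulEquiv e (fun _ => (1 : ℂ)) g,
        show centralChar (ψ : SL₂ → ℂ) g = centralChar (ψ' : s.eSL.range → ℂ) (e g) by
          rw [← Alperin.centralChar_comp_mulEquiv e (ψ' : s.eSL.range → ℂ) g]
          simp [ψ']]
      exact h)
    rw [← hres.2 ψ' hψ']
    simp only [classInner, Nat.card_congr e.toEquiv]
    congr 1
    exact Fintype.sum_equiv e.toEquiv _ _ fun t => by simp [ψ', e]; left; rfl⟩
  obtain ⟨c₁, c₂, hc⟩ := col_sl Kq hKq hM hodd hδ hinv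
  refine ⟨c₁, c₂, fun v hv => ?_⟩
  have hone : InB0 M (fun _ : X => (1 : ℂ)) := InB0.irr (χ := trivialIrr X) (trivial_mem_principalBlock hM)
  have hg := (hf.sub (hone.smul c₁)).sub ((s.refSt_inB0 Kq hKq hM hodd).smul c₂)
  have h0 := hN.zero_of_odd hM hg (fun n hn => by
    obtain ⟨t, ht⟩ := s.exists_eSL_of_odd n.2 hn
    rw [← ht, s.refSt_eSL, hc t (by
      rw [← orderOf_injective s.eSL s.π_ι_inj, ht]
      exact hn)]
    ring) hv
  linear_combination h0

end Shape0

end Cfsg.Agent.Invol.AbgOrder
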