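import Cfsg.Agent.Lib.Invol.AbgOrder.CoreCoord
import Cfsg.Agent.Lib.Invol.AbgOrder.ColShape
import Cfsg.Agent.Lib.Block.PermChar

/-!
# The Steinberg function counts fixed points on the projective line

`refSt x + 1` is the number of points fixed by the action of `x` in any coordinates; an element of order dividing
`q` has value `0`; a group fixing two points gives a character on the others.
-/

set_option autoImplicit false
set_option linter.unusedSectionVars false
set_option linter.style.haveILetI false

open scoped Classical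

namespace Cfsg.Agent.Invol.AbgOrder

open Cfsg Cfsg.Agent.Char Matrix Cfsg.Agent.Block.SL2Char
open Cfsg.Agent.Invol.BrauerL3 (Tbl scal)

universe u v w x

variable {X : Type u} [Group X] [Fintype X] {F : Type v} [Field F] [Fintype F] [DecidableEq F] {H : Type w}
  [Group H] {K : Type x} [CommGroup K] {Q : ℤ}

local notation "SL₂" => Matrix.SpecialLinearGroup (Fin 2) F

theorem uT_eq_up (t : F) : (uT (Multiplicative.ofAdd t) : SL₂) = Grp.SL2.up t := Subtype.ext rfl

instance : Finite (P1 F) := Subtype.finite

/-- An element of `SL(2, q)` of order dividing `q` has Steinberg value `0`. -/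
theorem vSS_of_pow_card (hodd : Odd (Fintype.card F)) {t : SL₂} (h : t ^ Fintype.card F = 1) (h1 : t ≠ 1) :
    vSS t = 0 := by
  obtain ⟨Kq, _, _, _, _, hKq⟩ := exists_model F
  have ho : Odd (orderOf t) := hodd.of_dvd_nat (orderOf_dvd_of_pow_eq_one h)
  rcases odd_cases Kq hKq hodd ho with rfl | ⟨c, rfl⟩ | ⟨c, x, hx, -, rfl⟩ | ⟨c, l, hl, -, rfl⟩
  · exact absurd rfl h1
  · rw [invS_vSS, vSS_uS]
  · have e : diS (x ^ Fintype.card F) = (1 : SL₂) := by
      rw [map_pow]
      refine (cjS c).injective ?_
      rw [map_pow, h, map_one]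
    have e2 : x ^ Fintype.card F = 1 := diS_injective (e.trans (map_one diS).symm)
    exfalso
    refine hx ?_
    have e3 : x ^ Fintype.card F = x := Units.ext (by rw [Units.val_pow_eq_pow_val, FiniteField.pow_card])
    rw [← e3, e2]
  · have e : ellS Kq hKq (l ^ Fintype.card F) = 1 := by
      rw [map_pow]
      refine (cjS c).injective ?_
      rw [map_pow, h, map_one]
    have e2 : l ^ Fintype.card F = 1 := ellS_injective Kq hKq (e.trans (map_one (ellS Kq hKq)).symm)
    have e3 : l ^ (Fintype.card F + 1) = 1 := Subtype.ext ((mem_U1 Kq).1 l.2)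
    exfalso
    refine hl ?_
    rw [pow_succ, e2, one_mul] at e3
    exact e3

namespace Shape0

variable (s : Shape0 X F H K Q)
include s

theorem borel_iff {x : X} : x ∈ s.borel ↔ s.ψ x • infP F = infP F := by
  rw [s.mem_borel]
  constructor
  · intro h
    refine Subtype.ext ?_
    rw [smul_val]
    refine Subgroup.eq_of_le_of_card_ge ?_ ?_
    · rintro _ ⟨_, ⟨a, rfl⟩, rfl⟩
      obtain ⟨b, hb⟩ := h a
      refine ⟨b, ?_⟩
      have e : s.eSL (s.ψ x (uT (Multiplicative.ofAdd a))) = s.eSL (uT (Multiplicative.ofAdd b)) :=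
        (s.conj_ι x _).symm.trans hb
      have e' := s.π_ι_inj e
      rw [uT_eq_up, uT_eq_up] at e'
      exact e'.symm
    · rw [Subgroup.card_map_of_injective (MulEquiv.injective _)]
  · intro h a
    have hmem : s.ψ x (Grp.SL2.up a) ∈ (upSub (F := F)) := by
      rw [← show (s.ψ x • infP F).1 = upSub from congrArg Subtype.val h]
      exact ⟨_, ⟨a, rfl⟩, rfl⟩
    obtain ⟨b, hb⟩ := hmem
    refine ⟨b, (s.conj_ι x _).trans ?_⟩
    show s.eSL (s.act₂ x _) = _
    rw [uT_eq_up, uT_eq_up, hb]
    rfl

theorem exists_ψ_smul (P : P1 F) : ∃ x : X, s.ψ x • infP F = P := by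
  obtain ⟨g, hg⟩ := P.2
  obtain ⟨h, hh⟩ := s.M.onto g
  refine ⟨s.π h, Subtype.ext ?_⟩
  rw [smul_val, show s.ψ (s.π h) = inn g from s.act₂_eq fun t => by
    rw [← map_inv, ← map_mul, ← map_mul, hh]]
  exact hg.symm

/-- The Steinberg function counts fixed points. -/
theorem refSt_fixed (x : X) : s.refSt x + 1 = (Nat.card {P : P1 F // s.ψ x • P = P} : ℂ) := by
  let Φ : X ⧸ s.borel → P1 F := Quotient.lift (fun a => s.ψ a • infP F) fun a b hab => by
    have h := s.borel_iff.1 (QuotientGroup.leftRel_apply.1 hab)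
    rw [map_mul, map_inv, mul_smul, inv_smul_eq_iff] at h
    exact h.symm
  have hΦ : ∀ a : X, Φ (QuotientGroup.mk a) = s.ψ a • infP F := fun a => rfl
  have hbij : Function.Bijective Φ := by
    refine ⟨fun a b => ?_, fun P => ?_⟩
    · induction a using QuotientGroup.induction_on with
      | _ a => induction b using QuotientGroup.induction_on with
        | _ b =>
          intro h
          rw [hΦ, hΦ] at h
          refine QuotientGroup.eq.2 (s.borel_iff.2 ?_)
          rw [map_mul, map_inv, mul_smul, ← h, inv_smul_smul]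
    · obtain ⟨a, ha⟩ := s.exists_ψ_smul P
      exact ⟨QuotientGroup.mk a, ha⟩
  have hsmul : ∀ a : X ⧸ s.borel, Φ (x • a) = s.ψ x • Φ a := by
    intro a
    induction a using QuotientGroup.induction_on with
    | _ a => rw [MulAction.Quotient.smul_mk, hΦ, hΦ, smul_eq_mul, map_mul, mul_smul]
  rw [refSt, Contrib.indFun_one_apply, sub_add_cancel, Nat.card_congr
    ((Equiv.ofBijective Φ hbij).subtypeEquiv (q := fun P => s.ψ x • P = P) fun a => by
      rw [Equiv.ofBijective_apply, ← hsmul]; exact hbij.1.eq_iff.symm)]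

end Shape0

namespace Coord

variable {s : Shape0 X F H K Q} {k : Frame s} (c : Coord k)
include c

/-- The same in coordinates. -/
theorem refSt_fixed (x : X) : s.refSt x + 1 = (Nat.card {P : P1 F // c.act x • P = P} : ℂ) := by
  rw [s.refSt_fixed]
  congr 1
  refine Nat.card_congr ((MulAction.toPerm (inn c.g₀⁻¹)).subtypeEquiv fun P => ?_)
  show s.ψ x • P = P ↔ (MulAut.conj (inn c.g₀⁻¹) (s.ψ x)) • inn c.g₀⁻¹ • P = inn c.g₀⁻¹ • P
  rw [MulAut.conj_apply, mul_smul, mul_smul, inv_smul_smul]
  exact (smul_left_cancel_iff _).symm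

/-- A group fixing `0` and `∞`: the points besides them give a character. -/
theorem exists_points_char {R : Type*} [Group R] [Fintype R] (ρ : R →* X)
    (hfix : ∀ y : R, c.act (ρ y) • infP F = infP F ∧ c.act (ρ y) • ptP (0 : F) = ptP 0) :
    ∃ π₀ : R → ℂ, IsCharacter R π₀ ∧ π₀ 1 = (Fintype.card F : ℂ) - 1 ∧ ∀ y, π₀ y = s.refSt (ρ y) - 1 := by
  haveI := Fintype.ofFinite (P1 F)
  let Ω := {P : P1 F // P ≠ infP F ∧ P ≠ ptP 0}
  let φ : R →* MulAut SL₂ := c.act.comp ρ
  have hst : ∀ (y : R) (P : P1 F), (P ≠ infP F ∧ P ≠ ptP 0) → φ y • P ≠ infP F ∧ φ y • P ≠ ptP 0 :=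
    fun y P hP => ⟨fun h => hP.1 (smul_left_cancel (φ y) (h.trans (hfix y).1.symm)),
      fun h => hP.2 (smul_left_cancel (φ y) (h.trans (hfix y).2.symm))⟩
  letI : MulAction R Ω :=
    { smul := fun y P => ⟨φ y • P.1, hst y P.1 P.2⟩
      one_smul := fun P => Subtype.ext (by show φ 1 • P.1 = P.1; rw [map_one, one_smul])
      mul_smul := fun a b P => Subtype.ext (by show φ (a * b) • P.1 = φ a • φ b • P.1; rw [map_mul, mul_smul]) }
  have hval : ∀ y : R, Cfsg.Agent.Block.PermChar.piFun R Ω y = s.refSt (ρ y) - 1 := by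
    intro y
    have h := c.refSt_fixed (ρ y)
    have hc : Nat.card {P : P1 F // c.act (ρ y) • P = P} = Nat.card (MulAction.fixedBy Ω y) + 2 := by
      rw [Nat.card_eq_fintype_card, Fintype.card_subtype, Nat.card_eq_fintype_card]
      have e : (Finset.univ.filter fun P : P1 F => c.act (ρ y) • P = P) =
          insert (infP F) (insert (ptP 0) ((Finset.univ.filter fun P : Ω => y • P = P).map
            (Function.Embedding.subtype _))) := by
        ext P
        simp only [Finset.mem_filter, Finset.mem_univ, true_and, Finset.mem_insert, Finset.mem_map,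
          Function.Embedding.subtype_apply]
        constructor
        · intro hP
          by_cases h1 : P = infP F
          · exact Or.inl h1
          by_cases h2 : P = ptP 0
          · exact Or.inr (Or.inl h2)
          exact Or.inr (Or.inr ⟨⟨P, h1, h2⟩, Subtype.ext hP, rfl⟩)
        · rintro (rfl | rfl | ⟨Pp, hP, rfl⟩)
          · exact (hfix y).1
          · exact (hfix y).2
          · exact congrArg Subtype.val hP
      rw [e, Finset.card_insert_of_notMem, Finset.card_insert_of_notMem, Finset.card_map,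
        ← Fintype.card_subtype]
      · rfl
      · simp only [Finset.mem_map, Function.Embedding.subtype_apply, not_exists, not_and]
        exact fun Pp _ => Pp.2.2
      · simp only [Finset.mem_insert, Finset.mem_map, Function.Embedding.subtype_apply, not_or, not_exists, not_and]
        exact ⟨(ptP_ne 0).symm, fun Pp _ => Pp.2.1⟩
    rw [Cfsg.Agent.Block.PermChar.piFun]
    rw [hc] at h
    push_cast at h
    linear_combination -h
  refine ⟨_, Cfsg.Agent.Block.PermChar.isCharacter_piFun (G := R) (Ω := Ω), ?_, hval⟩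
  rw [hval 1, map_one, ← map_one s.eSL, s.refSt_eSL, vSS_one]

end Coord

end Cfsg.Agent.Invol.AbgOrder
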