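import Cfsg.Agent.Lib.Invol.AbgOrder.Shape0Aut
import Cfsg.Agent.Lib.Grp.SL2Basic

/-!
# The projective line of an automorphism group of `SL(2, q)`

The points are the conjugates of the upper root subgroup; every automorphism permutes them, the semilinear
description gives the affine coordinates, and only the identity fixes every point.
-/

set_option autoImplicit false
set_option linter.style.haveILetI false

namespace Cfsg.Agent.Invol.AbgOrder

open Matrix Cfsg.Agent.Classical Cfsg.Agent.Classical.PSLAut Cfsg.Agent.Classical.Descent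

universe u

variable {F : Type u} [Field F]

local notation "SL₂" => Matrix.SpecialLinearGroup (Fin 2) F
local notation "GL₂" => GL (Fin 2) F
local notation "M₂" => Matrix (Fin 2) (Fin 2) F
local notation "tgl" => (Matrix.SpecialLinearGroup.toGL (n := Fin 2) (R := F))

/-- The translation. -/
noncomputable def gup (x : F) : GL₂ := tgl (Grp.SL2.up x)

/-- The exchange of `0` and `∞`. -/
noncomputable def gJ : GL₂ :=
  Matrix.GeneralLinearGroup.mkOfDetNeZero !![0, 1; 1, 0] (by simp [Matrix.det_fin_two])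

/-- The diagonal elements. -/
noncomputable def gdiag (a b : Fˣ) : GL₂ :=
  Matrix.GeneralLinearGroup.mkOfDetNeZero !![(a : F), 0; 0, (b : F)] (by simp [Matrix.det_fin_two])

theorem gup_coe (x : F) : ((gup x : GL₂) : M₂) = !![1, x; 0, 1] := rfl

theorem gJ_coe : ((gJ : GL₂) : M₂) = !![0, 1; 1, 0] := rfl

theorem gdiag_coe (a b : Fˣ) : ((gdiag a b : GL₂) : M₂) = !![(a : F), 0; 0, (b : F)] := rfl

theorem gup_mul (x y : F) : gup x * gup y = gup (x + y) := by
  rw [gup, gup, gup, ← map_mul, Grp.SL2.up_mul]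

theorem gJ_sq : gJ * gJ = (1 : GL₂) := Units.ext (by
  rw [Units.val_mul, gJ_coe, Units.val_one]
  simp [Matrix.one_fin_two])

/-- The upper root subgroup. -/
def upSub : Subgroup SL₂ where
  carrier := Set.range Grp.SL2.up
  one_mem' := ⟨0, Grp.SL2.up_zero⟩
  mul_mem' := by rintro _ _ ⟨s, rfl⟩ ⟨t, rfl⟩; exact ⟨s + t, (Grp.SL2.up_mul s t).symm⟩
  inv_mem' := by
    rintro _ ⟨s, rfl⟩
    exact ⟨-s, eq_inv_of_mul_eq_one_left (by rw [Grp.SL2.up_mul, neg_add_cancel, Grp.SL2.up_zero])⟩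

variable [Fintype F]

theorem upSub_map_le {g : GL₂} (h : (g : M₂) 1 0 = 0) : (upSub (F := F)).map (inn g).toMonoidHom ≤ upSub := by
  rintro _ ⟨_, ⟨t, rfl⟩, rfl⟩
  have hd : (g : M₂).det ≠ 0 := g.det_ne_zero
  rw [Matrix.det_fin_two, h, mul_zero, sub_zero] at hd
  obtain ⟨ha, hb⟩ := mul_ne_zero_iff.1 hd
  refine ⟨(g : M₂) 0 0 * t / (g : M₂) 1 1, Subtype.ext ?_⟩
  show _ = ((inn g (Grp.SL2.up t) : SL₂) : M₂)
  rw [inn_coe, Units.eq_mul_inv_iff_mul_eq]
  show !![1, (g : M₂) 0 0 * t / (g : M₂) 1 1; 0, 1] * (g : M₂) = (g : M₂) * !![1, t; 0, 1]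
  ext i j
  fin_cases i <;> fin_cases j <;> simp [Matrix.mul_apply, Fin.sum_univ_two, h]
  field_simp
  ring

theorem upSub_map_eq {g : GL₂} (h : (g : M₂) 1 0 = 0) : (upSub (F := F)).map (inn g).toMonoidHom = upSub := by
  refine le_antisymm (upSub_map_le h) fun x hx => ?_
  have hi : ((g⁻¹ : GL₂) : M₂) 1 0 = 0 := by
    rw [Matrix.coe_units_inv, Matrix.inv_def, Matrix.adjugate_fin_two]
    simp [h]
  exact ⟨inn g⁻¹ x, upSub_map_le hi ⟨x, hx, rfl⟩, by
    show inn g (inn g⁻¹ x) = x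
    rw [map_inv, MulAut.apply_inv_self]⟩

theorem upSub_stab {g : GL₂} (h : (upSub (F := F)).map (inn g).toMonoidHom = upSub) : (g : M₂) 1 0 = 0 := by
  obtain ⟨t, ht⟩ : inn g (Grp.SL2.up 1) ∈ upSub (F := F) := h ▸ ⟨_, ⟨1, rfl⟩, rfl⟩
  have h1 : ((Grp.SL2.up t : SL₂) : M₂) = _ := congrArg (fun A : SL₂ => (A : M₂)) ht
  rw [inn_coe, Units.eq_mul_inv_iff_mul_eq] at h1
  have h2 := congrFun (congrFun h1 1) 1
  simp [Grp.SL2.up, Matrix.mul_apply, Fin.sum_univ_two] at h2
  exact h2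

theorem smi_one_upSub (σ : RingAut F) : (upSub (F := F)).map (smi (1 : GL₂) σ).toMonoidHom = upSub := by
  have key : ∀ (τ : RingAut F) (t : F), smi (1 : GL₂) τ (Grp.SL2.up t) = Grp.SL2.up (τ t) := by
    intro τ t
    refine Subtype.ext ?_
    rw [smi_coe, inv_one, Units.val_one, Matrix.one_mul, Matrix.mul_one]
    ext i j
    fin_cases i <;> fin_cases j <;> simp [Grp.SL2.up]
  ext x
  constructor
  · rintro ⟨_, ⟨t, rfl⟩, rfl⟩
    exact ⟨σ t, (key σ t).symm⟩
  · rintro ⟨t, rfl⟩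
    exact ⟨Grp.SL2.up (σ.symm t), ⟨_, rfl⟩, (key σ _).trans (by rw [RingEquiv.apply_symm_apply])⟩

theorem smi_eq (g : GL₂) (σ : RingAut F) : smi g σ = inn g * smi 1 σ := by
  show smi g σ = smi g 1 * smi 1 σ
  rw [smi_mul, one_mul, map_one, mul_one]

theorem smi_upSub (g : GL₂) (σ : RingAut F) :
    (upSub (F := F)).map (smi g σ).toMonoidHom = upSub.map (inn g).toMonoidHom := by
  conv_rhs => rw [← smi_one_upSub σ, Subgroup.map_map]
  rw [smi_eq]
  rfl

variable (F) in
/-- The points. -/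
def P1 : Type u := {P : Subgroup SL₂ // ∃ g : GL₂, P = upSub.map (inn g).toMonoidHom}

theorem exists_inn_upSub (θ : MulAut SL₂) :
    ∃ g : GL₂, (upSub (F := F)).map θ.toMonoidHom = upSub.map (inn g).toMonoidHom := by
  obtain ⟨g, hg⟩ := exists_eq θ
  exact ⟨g, by rw [hg, smi_upSub]⟩

instance : MulAction (MulAut SL₂) (P1 F) where
  smul θ P := ⟨P.1.map θ.toMonoidHom, by
    obtain ⟨g, hg⟩ := P.2
    obtain ⟨k, hk⟩ := exists_inn_upSub (θ * inn g)
    exact ⟨k, by rw [hg, Subgroup.map_map]; exact hk⟩⟩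
  one_smul P := Subtype.ext (Subgroup.map_id _)
  mul_smul a b P := Subtype.ext (Subgroup.map_map P.1 a.toMonoidHom b.toMonoidHom).symm

theorem smul_val (θ : MulAut SL₂) (P : P1 F) : (θ • P).1 = P.1.map θ.toMonoidHom := rfl

variable (F) in
/-- The point at infinity. -/
def infP : P1 F := ⟨upSub, 1, by rw [map_one]; exact (Subgroup.map_id _).symm⟩

/-- The finite points. -/
noncomputable def ptP (x : F) : P1 F := inn (gup x * gJ) • infP F

theorem inn_smul_inf {g : GL₂} : inn g • infP F = infP F ↔ (g : M₂) 1 0 = 0 :=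
  ⟨fun h => upSub_stab (congrArg Subtype.val h), fun h => Subtype.ext (upSub_map_eq h)⟩

theorem smi_one_inf (σ : RingAut F) : smi (1 : GL₂) σ • infP F = infP F := Subtype.ext (smi_one_upSub σ)

theorem gup_inf (x : F) : inn (gup x) • infP F = infP F := inn_smul_inf.2 (by simp [gup_coe])

theorem gdiag_inf (a b : Fˣ) : inn (gdiag a b) • infP F = infP F := inn_smul_inf.2 (by simp [gdiag_coe])

theorem gup_pt (a x : F) : inn (gup a) • ptP x = ptP (a + x) := by
  rw [ptP, ptP, ← mul_smul, ← map_mul, ← mul_assoc, gup_mul]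

theorem gdiag_pt (a b : Fˣ) (x : F) : inn (gdiag a b) • ptP x = ptP ((a : F) / (b : F) * x) := by
  have h : gdiag a b * (gup x * gJ) = gup ((a : F) / (b : F) * x) * gJ * gdiag b a := by
    refine Units.ext ?_
    simp only [Units.val_mul, gdiag_coe, gup_coe, gJ_coe]
    ext i j
    fin_cases i <;> fin_cases j <;> simp [Matrix.mul_apply, Fin.sum_univ_two]
    all_goals field_simp
  rw [ptP, ptP, ← mul_smul, ← map_mul, h, map_mul, mul_smul, gdiag_inf]

theorem gJ_inf : inn (gJ : GL₂) • infP F = ptP (0 : F) := by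
  rw [ptP, gup, Grp.SL2.up_zero, map_one, one_mul]

theorem gJ_zero : inn (gJ : GL₂) • ptP (0 : F) = infP F := by
  rw [← gJ_inf, ← mul_smul, ← map_mul, gJ_sq, map_one, one_smul]

theorem ptP_ne (x : F) : ptP x ≠ infP F := fun h => by
  have h1 := inn_smul_inf.1 h
  simp [gup_coe, gJ_coe, Matrix.mul_apply, Fin.sum_univ_two] at h1

theorem ptP_inj : Function.Injective (ptP : F → P1 F) := fun x y h => by
  have h1 : inn (gJ * gup (x - y) * gJ) • infP F = infP F := by
    have h2 := congrArg (fun P => inn (gup (-y)) • P) h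
    simp only [gup_pt, neg_add_cancel] at h2
    rw [neg_add_eq_sub, ptP] at h2
    rw [mul_assoc, map_mul, mul_smul, h2, gJ_zero]
  have h3 := inn_smul_inf.1 h1
  simp [gup_coe, gJ_coe, Matrix.mul_apply, Fin.sum_univ_two] at h3
  exact sub_eq_zero.1 h3

theorem pt_or_inf (P : P1 F) : P = infP F ∨ ∃ x, ptP x = P := by
  obtain ⟨g, hg⟩ := P.2
  have hP : P = inn g • infP F := Subtype.ext hg
  by_cases h : (g : M₂) 1 0 = 0
  · exact Or.inl (hP.trans (inn_smul_inf.2 h))
  · set x := (g : M₂) 0 0 / (g : M₂) 1 0 with hx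
    refine Or.inr ⟨x, ?_⟩
    have h1 : inn (gJ * gup (-x) * g) • infP F = infP F := by
      refine inn_smul_inf.2 ?_
      simp [Units.val_mul, gup_coe, gJ_coe, Matrix.mul_apply, Fin.sum_univ_two, hx]
      field_simp
      ring
    have h2 : gup x * gJ * (gJ * gup (-x) * g) = g := by
      rw [show gup x * gJ * (gJ * gup (-x) * g) = gup x * (gJ * gJ) * gup (-x) * g by group, gJ_sq, mul_one,
        gup_mul, add_neg_cancel, gup, Grp.SL2.up_zero, map_one, one_mul]
    rw [hP, ← h2, map_mul, mul_smul, h1]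
    rfl

theorem exists_inn_pair {P Q : P1 F} (h : P ≠ Q) : ∃ g : GL₂, inn g • infP F = P ∧ inn g • ptP 0 = Q := by
  obtain ⟨g₁, hg₁⟩ := P.2
  have hP : P = inn g₁ • infP F := Subtype.ext hg₁
  obtain ⟨x, hx⟩ := (pt_or_inf (inn g₁⁻¹ • Q)).resolve_left fun e => h (by
    rw [hP, ← e, map_inv, smul_inv_smul])
  refine ⟨g₁ * gup x, by rw [map_mul, mul_smul, gup_inf, hP], ?_⟩
  rw [map_mul, mul_smul, gup_pt, add_zero, hx, map_inv, smul_inv_smul]

/-- The inner automorphisms are doubly transitive. -/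
theorem exists_conj_pair {P Q P' Q' : P1 F} (h : P ≠ Q) (h' : P' ≠ Q') :
    ∃ t : SL₂, MulAut.conj t • P = P' ∧ MulAut.conj t • Q = Q' := by
  obtain ⟨g, hgP, hgQ⟩ := exists_inn_pair h
  obtain ⟨k, hkP, hkQ⟩ := exists_inn_pair h'
  set a := k * g⁻¹
  set d : Fˣ := (Matrix.GeneralLinearGroup.det a)⁻¹
  set b := k * gdiag d 1 * g⁻¹ with hb
  have hdet : ((b : GL₂) : M₂).det = 1 := by
    have h1 : ((b : GL₂) : M₂).det = ((Matrix.GeneralLinearGroup.det b : Fˣ) : F) := rfl
    have h2 : Matrix.GeneralLinearGroup.det (gdiag d 1) = d := Units.ext (by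
      show ((gdiag d 1 : GL₂) : M₂).det = (d : F)
      simp [gdiag_coe, Matrix.det_fin_two])
    have h3 : Matrix.GeneralLinearGroup.det b = 1 := by
      rw [hb, map_mul, map_mul, h2, mul_right_comm, ← map_mul]
      exact mul_inv_cancel _
    rw [h1, h3, Units.val_one]
  obtain ⟨t, ht⟩ : ∃ t : SL₂, tgl t = b := ⟨⟨(b : M₂), hdet⟩, Units.ext rfl⟩
  refine ⟨t, ?_⟩
  rw [← inn_toGL, ht, hb, map_mul, map_mul, map_inv, mul_smul, mul_smul,
    mul_smul, mul_smul]
  constructor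
  · rw [← hgP, inv_smul_smul, gdiag_inf, hkP]
  · rw [← hgQ, inv_smul_smul, gdiag_pt, mul_zero, hkQ]

/-- An automorphism fixing `0` and `∞` is diagonal times field. -/
theorem exists_diag {θ : MulAut SL₂} (h1 : θ • infP F = infP F) (h2 : θ • ptP (0 : F) = ptP 0) :
    ∃ a b : Fˣ, θ = inn (gdiag a b) * smi 1 (fld θ) := by
  obtain ⟨g, hg⟩ := exists_eq θ
  set σ := fld θ
  rw [hg, smi_eq] at h1 h2
  rw [mul_smul, smi_one_inf] at h1
  have h10 := inn_smul_inf.1 h1
  have hs0 : smi (1 : GL₂) σ • ptP (0 : F) = ptP 0 := by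
    have hJ : gmap σ (gJ : GL₂) = gJ := Units.ext (by
      ext i j
      fin_cases i <;> fin_cases j <;> simp [gJ_coe])
    rw [← gJ_inf, ← mul_smul, show smi (1 : GL₂) σ * inn gJ = inn gJ * smi 1 σ by
      show smi 1 σ * smi gJ 1 = smi gJ 1 * smi 1 σ
      rw [smi_mul, smi_mul, hJ, map_one, one_mul, mul_one, one_mul, mul_one], mul_smul, smi_one_inf]
  rw [mul_smul, hs0] at h2
  have h01' : inn (gJ * g * gJ) • infP F = infP F := by
    rw [map_mul, map_mul, mul_smul, mul_smul, gJ_inf, h2, gJ_zero]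
  have h01 : (g : M₂) 0 1 = 0 := by
    have := inn_smul_inf.1 h01'
    simpa [gJ_coe, Matrix.mul_apply, Fin.sum_univ_two, Matrix.vecMul, dotProduct] using this
  have hd : (g : M₂).det ≠ 0 := g.det_ne_zero
  rw [Matrix.det_fin_two, h10, mul_zero, sub_zero] at hd
  obtain ⟨ha, hb⟩ := mul_ne_zero_iff.1 hd
  refine ⟨Units.mk0 _ ha, Units.mk0 _ hb, ?_⟩
  rw [hg, smi_eq]
  congr 2
  refine Units.ext ?_
  rw [gdiag_coe]
  ext i j
  fin_cases i <;> fin_cases j <;> simp [h10, h01]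

theorem inn_gdiag_self (a : Fˣ) : inn (gdiag a a) = (1 : MulAut SL₂) := by
  have h : gdiag a a ∈ (inn (F := F)).ker := by
    rw [ker_inn, Matrix.GeneralLinearGroup.center_eq_range_scalar]
    refine ⟨a, Units.ext ?_⟩
    rw [Matrix.GeneralLinearGroup.coe_scalar, gdiag_coe]
    ext i j
    fin_cases i <;> fin_cases j <;> simp
  exact MonoidHom.mem_ker.1 h

theorem smi_one_pt (σ : RingAut F) (x : F) : smi (1 : GL₂) σ • ptP x = ptP (σ x) := by
  have hJ : gmap σ (gJ : GL₂) = gJ := Units.ext (by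
    ext i j
    fin_cases i <;> fin_cases j <;> simp [gJ_coe])
  have hu : gmap σ (gup x : GL₂) = gup (σ x) := Units.ext (by
    ext i j
    fin_cases i <;> fin_cases j <;> simp [gup_coe])
  rw [ptP, ptP, ← mul_smul, show smi (1 : GL₂) σ * inn (gup x * gJ) = inn (gup (σ x) * gJ) * smi 1 σ by
    show smi 1 σ * smi (gup x * gJ) 1 = smi (gup (σ x) * gJ) 1 * smi 1 σ
    rw [smi_mul, smi_mul, map_mul, hJ, hu, map_one, one_mul, mul_one, one_mul, mul_one], mul_smul, smi_one_inf]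

theorem diag_pt (a b : Fˣ) (σ : RingAut F) (x : F) :
    (inn (gdiag a b) * smi 1 σ) • ptP x = ptP ((a : F) / (b : F) * σ x) := by
  rw [mul_smul, smi_one_pt, gdiag_pt]

/-- Only the identity fixes every point. -/
theorem eq_one_of_fix_all {θ : MulAut SL₂} (h : ∀ P : P1 F, θ • P = P) : θ = 1 := by
  obtain ⟨a, b, he⟩ := exists_diag (h _) (h _)
  have hx : ∀ x : F, (a : F) / (b : F) * fld θ x = x := fun x => ptP_inj (by rw [← diag_pt, ← he, h])
  have hab : a = b := Units.ext (by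
    have := hx 1
    rw [map_one, mul_one, div_eq_one_iff_eq (Units.ne_zero b)] at this
    exact this)
  have hσ : fld θ = 1 := RingEquiv.ext fun x => by
    have := hx x
    rwa [hab, div_self (Units.ne_zero b), one_mul] at this
  rw [he, hab, hσ, inn_gdiag_self, one_mul]
  exact smi_one

end Cfsg.Agent.Invol.AbgOrder
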