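import Cfsg.Agent.Lib.Invol.AbgOrder.Shape0Orders
import Cfsg.Agent.Lib.Invol.GW.Consumers.Basic
import Cfsg.Agent.Lib.Grp.PComponents
import Cfsg.Agent.Lib.Grp.Frattini

/-!
# The centraliser of a central involution: its quotient by the odd core and the centraliser of a four-group

`|C(U)| * Q * (Q + 1) = r * F * |π(H)|` with `r` the order of the centraliser in `O(C)` of the second involution.
-/

set_option autoImplicit false

namespace Cfsg.Agent.Invol.AbgOrder

universe u v w x

variable {G : Type u} [Group G] [Finite G]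

/-- Transport of the two shapes. -/
theorem sylShape_congr {A : Type u} {B : Type v} [Group A] [Group B] (e : A ≃* B) :
    (Cfsg.IsQuasiDihedral A → Cfsg.IsQuasiDihedral B) ∧ (Cfsg.IsWreathed A → Cfsg.IsWreathed B) := by
  constructor
  · rintro ⟨n, hn, hc, x, y, hx, hy, hxy⟩
    exact ⟨n, hn, (Nat.card_congr e.toEquiv).symm.trans hc, e x, e y, by rw [MulEquiv.orderOf_eq, hx],
      by rw [MulEquiv.orderOf_eq, hy], by rw [← map_inv, ← map_mul, ← map_mul, hxy, map_pow]⟩
  · rintro ⟨n, hn, hc, x, y, z, hx, hxy, hdis, hz, hzx⟩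
    refine ⟨n, hn, (Nat.card_congr e.toEquiv).symm.trans hc, e x, e y, e z, by rw [MulEquiv.orderOf_eq, hx],
      by rw [← map_mul, ← map_mul, hxy], ?_, by rw [MulEquiv.orderOf_eq, hz],
      by rw [← map_inv, ← map_mul, ← map_mul, hzx]⟩
    have e1 : ∀ t : A, Subgroup.zpowers (e t) = (Subgroup.zpowers t).map e.toMonoidHom := fun t => by
      rw [MonoidHom.map_zpowers]; rfl
    rw [e1, e1, ← Subgroup.map_inf _ _ _ e.injective, hdis, Subgroup.map_bot]

theorem oddCore_normal (C : Type u) [Group C] : (Cfsg.oddCore C).Normal := Grp.pPrimeCore_isNormal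

attribute [local instance] oddCore_normal

/-- The quotient of the centraliser by its odd core: trivial odd core, Sylow subgroups as in `G`. -/
theorem quotient_setup (S : Sylow 2 G) (z : G) (hzc : ∀ s ∈ (S : Subgroup G), s * z = z * s) :
    Cfsg.oddCore (↥(Subgroup.centralizer ({z} : Set G)) ⧸ Cfsg.oddCore ↥(Subgroup.centralizer ({z} : Set G))) = ⊥ ∧
    ∃ (S' : Sylow 2 (↥(Subgroup.centralizer ({z} : Set G)) ⧸ Cfsg.oddCore ↥(Subgroup.centralizer ({z} : Set G))))
      (e : ↥(S : Subgroup G) ≃* ↥(S' : Subgroup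
        (↥(Subgroup.centralizer ({z} : Set G)) ⧸ Cfsg.oddCore ↥(Subgroup.centralizer ({z} : Set G))))),
        ∀ (s : ↥(S : Subgroup G)) (hs : (s : G) ∈ Subgroup.centralizer ({z} : Set G)),
          Subtype.val (e s) = QuotientGroup.mk' _ ⟨(s : G), hs⟩ := by
  haveI : Fact (Nat.Prime 2) := ⟨Nat.prime_two⟩
  set C := Subgroup.centralizer ({z} : Set G)
  have hle : (S : Subgroup G) ≤ C := fun s hs => Subgroup.mem_centralizer_singleton_iff.2 (hzc s hs)
  refine ⟨Grp.pPrimeCore_quotient_eq_bot, ?_⟩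
  let R : Sylow 2 C := S.subtype hle
  set S' : Sylow 2 (C ⧸ Cfsg.oddCore C) := R.mapSurjective (QuotientGroup.mk'_surjective _)
  let f : (S : Subgroup G) →* C ⧸ Cfsg.oddCore C :=
    (QuotientGroup.mk' _).comp (Subgroup.inclusion hle)
  have hinj : Function.Injective f := by
    rw [← MonoidHom.ker_eq_bot_iff, eq_bot_iff]
    intro s hs
    have h1 : Subgroup.inclusion hle s ∈ Cfsg.oddCore C := (QuotientGroup.eq_one_iff _).1 hs
    obtain ⟨j, hj⟩ := IsPGroup.iff_orderOf.1 S.isPGroup' s
    rw [Subgroup.mem_bot, ← orderOf_eq_one_iff]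
    refine Nat.eq_one_of_dvd_coprimes ((Grp.pPrimeCore_coprime (p := 2) (G := C)).pow_right j) ?_ hj.dvd
    rw [← orderOf_injective _ (Subgroup.inclusion_injective hle) s]
    exact Subgroup.orderOf_dvd_natCard _ h1
  have hrange : f.range = (S' : Subgroup (C ⧸ Cfsg.oddCore C)) := by
    show ((QuotientGroup.mk' _).comp (Subgroup.inclusion hle)).range = _
    rw [MonoidHom.range_comp]
    refine congrArg (Subgroup.map _) (Subgroup.ext fun x => ⟨?_, fun hx => ⟨⟨(x : G), hx⟩, rfl⟩⟩)
    rintro ⟨y, rfl⟩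
    exact y.2
  exact ⟨S', (MonoidHom.ofInjective hinj).trans (MulEquiv.subgroupCongr hrange), fun s hs => rfl⟩

/-- A four-group of the Sylow subgroup contains the central involution. -/
theorem mem_of_isKleinFour (S : Sylow 2 G)
    (hS : Cfsg.IsQuasiDihedral (S : Subgroup G) ∨ Cfsg.IsWreathed (S : Subgroup G)) (z : G) (hz : orderOf z = 2)
    (hzS : z ∈ S) (hzc : ∀ s ∈ (S : Subgroup G), s * z = z * s) (U : Subgroup G) (hUS : U ≤ S) (hU : IsKleinFour U) :
    z ∈ U := by
  classical
  obtain ⟨k, ⟨d⟩⟩ : ∃ k, Nonempty (SylData (S : Subgroup G) k) := by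
    rcases exists_sylData hS with ⟨-, h⟩ | ⟨-, k, -, h⟩
    · exact ⟨2, h⟩
    · exact ⟨k, h⟩
  let T := (S : Subgroup G)
  let z' : T := ⟨z, hzS⟩
  have hz' : z' ∈ Subgroup.center T := Subgroup.mem_center_iff.2 fun s => Subtype.ext (hzc s s.2)
  have hz1 : z' ≠ 1 := fun h => by rw [show z = 1 from congrArg Subtype.val h, orderOf_one] at hz; omega
  have hz2 : z' * z' = 1 := Subtype.ext (by show z * z = 1; rw [← sq, ← hz, pow_orderOf_eq_one])
  have hcent : ∀ c ∈ Subgroup.center T, c * c = 1 → c = 1 ∨ c = z' := by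
    intro c hc hcc
    haveI : IsCyclic (Subgroup.center T) := d.cyc
    haveI : Fintype (Subgroup.center T) := Fintype.ofFinite _
    by_contra h
    push Not at h
    let a : Subgroup.center T := ⟨c, hc⟩
    let b : Subgroup.center T := ⟨z', hz'⟩
    have h3 : ({1, a, b} : Finset (Subgroup.center T)).card = 3 := by
      have ha : a ≠ 1 := fun e => h.1 (congrArg Subtype.val e)
      have hb : b ≠ 1 := fun e => hz1 (congrArg Subtype.val e)
      have hab : a ≠ b := fun e => h.2 (congrArg Subtype.val e)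
      rw [Finset.card_insert_of_notMem (by simp [ha.symm, hb.symm]), Finset.card_pair hab]
    have h4 := Finset.card_le_card (s := ({1, a, b} : Finset (Subgroup.center T)))
      (t := Finset.univ.filter fun y : Subgroup.center T => y ^ 2 = 1) fun y hy => by
      simp only [Finset.mem_insert, Finset.mem_singleton] at hy
      refine Finset.mem_filter.2 ⟨Finset.mem_univ _, ?_⟩
      rw [sq]
      rcases hy with rfl | rfl | rfl
      · exact one_mul 1
      · exact Subtype.ext hcc
      · exact Subtype.ext hz2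
    have hle := IsCyclic.card_pow_eq_one_le (α := Subgroup.center T) two_pos
    omega
  let V : Subgroup T := U.subgroupOf T
  haveI : IsKleinFour V :=
    { card_four := by rw [Nat.card_congr (Subgroup.subgroupOfEquivOfLe hUS).toEquiv]; exact hU.card_four
      exponent_two := (Monoid.exponent_eq_of_mulEquiv (Subgroup.subgroupOfEquivOfLe hUS)).trans hU.exponent_two }
  suffices z' ∈ V from this
  have hsq : ∀ a ∈ V, a * a = 1 := fun a ha =>
    congrArg Subtype.val (IsKleinFour.mul_self (⟨a, ha⟩ : V))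
  have hcomm : ∀ a ∈ V, ∀ b ∈ V, a * b = b * a := fun a ha b hb => by
    calc a * b = a * ((a * b) * (a * b)) * b := by rw [hsq _ (V.mul_mem ha hb), mul_one]
      _ = (a * a) * (b * a) * (b * b) := by group
      _ = b * a := by rw [hsq a ha, hsq b hb, one_mul, mul_one]
  by_contra hzV
  have hnc : ∀ a ∈ V, a ≠ 1 → a ∉ Subgroup.center T := fun a ha h1 hc => by
    rcases hcent a hc (hsq a ha) with h | h
    · exact h1 h
    · exact hzV (h ▸ ha)
  obtain ⟨a, ha, ha1, b, hb, hb1, hab⟩ : ∃ a ∈ V, a ≠ 1 ∧ ∃ b ∈ V, b ≠ 1 ∧ a ≠ b := by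
    haveI := Fintype.ofFinite V
    have hc4 : (Finset.univ.erase (1 : V)).card = 3 := by
      rw [Finset.card_erase_of_mem (Finset.mem_univ _), Finset.card_univ, ← Nat.card_eq_fintype_card,
        IsKleinFour.card_four]
    obtain ⟨a, ha, b, hb, hab⟩ := Finset.one_lt_card.1 (by rw [hc4]; norm_num)
    exact ⟨a, a.2, fun e => (Finset.mem_erase.1 ha).1 (Subtype.ext e), b, b.2,
      fun e => (Finset.mem_erase.1 hb).1 (Subtype.ext e), fun e => hab (Subtype.ext e)⟩
  have hab1 : a * b ≠ 1 := fun e => hab ((mul_eq_one_iff_eq_inv.1 e).trans (inv_eq_of_mul_eq_one_right (hsq b hb)))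
  have habV := V.mul_mem ha hb
  -- every non-trivial element of `V` lies in `B`
  have hB : ∀ c ∈ V, c ∈ d.B := by
    intro c hc
    by_contra hcB
    have hw : ∃ w ∈ V, w ≠ 1 ∧ w ∈ d.B := by
      by_cases hA : a ∈ d.B
      · exact ⟨a, ha, ha1, hA⟩
      · by_cases hB : b ∈ d.B
        · exact ⟨b, hb, hb1, hB⟩
        · exact ⟨a * b, habV, hab1, d.mul_mem_B hA hB⟩
    obtain ⟨w, hw, hw1, hwB⟩ := hw
    exact hnc w hw hw1 (d.central_of_commute hwB hcB (by rw [hcomm c hc w hw, mul_inv_cancel_right]))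
  obtain ⟨x, -, y, hy, -⟩ := d.norm_gen
  haveI := Subgroup.normal_of_index_eq_two d.idx
  have hBn : ∀ c ∈ d.B, y * c * y⁻¹ ∈ d.B := fun c hc => (inferInstance : d.B.Normal).conj_mem c hc y
  have hyy : ∀ c, y * (y * c * y⁻¹) * y⁻¹ = c := fun c => by
    have h := Subgroup.mem_center_iff.1 (d.sq y hy) c
    calc y * (y * c * y⁻¹) * y⁻¹ = (y * y) * c * (y * y)⁻¹ := by group
      _ = c := by rw [← h, mul_inv_cancel_right]
  -- `y` moves every non-trivial element by `z`
  have hmove : ∀ c ∈ V, c ≠ 1 → y * c * y⁻¹ = c * z' := by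
    intro c hc hc1
    have hcB := hB c hc
    have hp : c * (y * c * y⁻¹) ∈ Subgroup.center T := by
      refine d.central_of_commute (d.B.mul_mem hcB (hBn c hcB)) hy ?_
      calc y * (c * (y * c * y⁻¹)) * y⁻¹ = (y * c * y⁻¹) * (y * (y * c * y⁻¹) * y⁻¹) := by group
        _ = (y * c * y⁻¹) * c := by rw [hyy]
        _ = _ := d.comm _ (hBn c hcB) _ hcB
    have hci : c⁻¹ = c := inv_eq_of_mul_eq_one_right (hsq c hc)
    have hsq' : c * (y * c * y⁻¹) * (c * (y * c * y⁻¹)) = 1 := by
      have hcm := d.comm _ (hBn c hcB) _ hcB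
      calc c * (y * c * y⁻¹) * (c * (y * c * y⁻¹)) = c * ((y * c * y⁻¹) * c) * (y * c * y⁻¹) := by
            simp only [mul_assoc]
        _ = (c * c) * (y * (c * c) * y⁻¹) := by rw [hcm]; group
        _ = 1 := by rw [hsq c hc]; group
    rcases hcent _ hp hsq' with h | h
    · exfalso
      refine hnc c hc hc1 (d.central_of_commute hcB hy ?_)
      rw [← mul_right_inj c, h, hsq c hc]
    · rw [← h, ← mul_assoc, hsq c hc, one_mul]
  have h1 := hmove (a * b) habV hab1
  have h2 : y * (a * b) * y⁻¹ = a * b := by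
    calc y * (a * b) * y⁻¹ = (y * a * y⁻¹) * (y * b * y⁻¹) := by group
      _ = (a * z') * (b * z') := by rw [hmove a ha ha1, hmove b hb hb1]
      _ = a * (z' * b) * z' := by simp only [mul_assoc]
      _ = a * b * (z' * z') := by rw [← Subgroup.mem_center_iff.1 hz' b]; simp only [mul_assoc]
      _ = a * b := by rw [hz2, mul_one]
  rw [h2] at h1
  exact hz1 (left_eq_mul.1 h1)

variable {F : Type v} [Field F] [Fintype F] {H : Type w} [Group H] {K : Type x} [CommGroup K] {Q : ℤ}

/-- The central involution is unique. -/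
theorem Shape0.central_unique {X : Type u} [Group X] [Finite X] (s : Shape0 X F H K Q) {a b : X}
    (ha : orderOf a = 2) (hb : orderOf b = 2) (hac : a ∈ Subgroup.center X) (hbc : b ∈ Subgroup.center X) : a = b := by
  obtain ⟨e, -, -, -, -, -, -, hcard, hcases⟩ := s.exists_invols
  have key : ∀ y : X, orderOf y = 2 → y ∈ Subgroup.center X → y = s.π (s.M.T.D (e, e)) := by
    intro y hy hyc
    rcases hcases y hy with h | h
    · exact h
    exfalso
    have hu : ∀ x, IsConj (s.π (s.M.T.D (1, e))) x → x = y := fun x hx => by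
      obtain ⟨c, hc⟩ := isConj_iff.1 (h.symm.trans hx)
      rw [← hc, Subgroup.mem_center_iff.1 hyc c, mul_inv_cancel_right]
    have h1 : Nat.card {x : X // IsConj (s.π (s.M.T.D (1, e))) x} = 1 :=
      Nat.card_eq_one_iff_unique.2 ⟨⟨fun p r => Subtype.ext ((hu _ p.2).trans (hu _ r.2).symm)⟩, ⟨⟨y, h⟩⟩⟩
    rw [h1, Nat.cast_one] at hcard
    have hbig := s.M.T.big
    have h2 := Int.eq_one_or_neg_one_of_mul_eq_one hcard.symm
    omega
  rw [key a ha hac, key b hb hbc]

/-- The order of the centraliser of `z`. -/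
theorem card_centralizer_z {z : G}
    (s : Shape0 (↥(Subgroup.centralizer ({z} : Set G)) ⧸ Cfsg.oddCore ↥(Subgroup.centralizer ({z} : Set G))) F H K Q) :
    Nat.card ↥(Subgroup.centralizer ({z} : Set G)) =
      Nat.card (Cfsg.oddCore ↥(Subgroup.centralizer ({z} : Set G))) * (orderOf s.f * Nat.card s.π.range) := by
  rw [Subgroup.card_eq_card_quotient_mul_card_subgroup (Cfsg.oddCore ↥(Subgroup.centralizer ({z} : Set G))),
    s.card_eq, mul_comm]

/-- The centraliser of a four-group. -/
theorem card_centralizer_four (S : Sylow 2 G)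
    (hS : Cfsg.IsQuasiDihedral (S : Subgroup G) ∨ Cfsg.IsWreathed (S : Subgroup G)) (z : G) (hz : orderOf z = 2)
    (hzS : z ∈ S) (hzc : ∀ s ∈ (S : Subgroup G), s * z = z * s) (U : Subgroup G) (hUS : U ≤ S) (hU : IsKleinFour U)
    (s : Shape0 (↥(Subgroup.centralizer ({z} : Set G)) ⧸ Cfsg.oddCore ↥(Subgroup.centralizer ({z} : Set G))) F H K Q) :
    ∃ w : ↥(Subgroup.centralizer ({z} : Set G)), (w : G) ∈ U ∧ orderOf w = 2 ∧ (w : G) ≠ z ∧
      Subgroup.centralizer (U : Set G) =
        (Subgroup.centralizer ({w} : Set ↥(Subgroup.centralizer ({z} : Set G)))).map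
          (Subgroup.centralizer ({z} : Set G)).subtype ∧
      (Nat.card ↥(Subgroup.centralizer (U : Set G)) : ℤ) * (Q * (Q + 1)) =
        ((Nat.card ↥(Cfsg.oddCore ↥(Subgroup.centralizer ({z} : Set G)) ⊓
            Subgroup.centralizer ({w} : Set ↥(Subgroup.centralizer ({z} : Set G)))) *
          (orderOf s.f * Nat.card s.π.range) : ℕ) : ℤ) := by
  classical
  haveI : Fact (Nat.Prime 2) := ⟨Nat.prime_two⟩
  haveI := hU
  have hzU := mem_of_isKleinFour S hS z hz hzS hzc U hUS hU
  let C := Subgroup.centralizer ({z} : Set G)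
  obtain ⟨w, hw⟩ : ∃ w : U, (w : G) ≠ 1 ∧ (w : G) ≠ z := by
    haveI := Fintype.ofFinite U
    have h : ((Finset.univ.erase (1 : U)).erase ⟨z, hzU⟩).card ≠ 0 := by
      rw [Finset.card_erase_of_mem, Finset.card_erase_of_mem (Finset.mem_univ _), Finset.card_univ,
        ← Nat.card_eq_fintype_card, IsKleinFour.card_four]
      · norm_num
      · refine Finset.mem_erase.2 ⟨fun e => ?_, Finset.mem_univ _⟩
        rw [show z = 1 from congrArg Subtype.val e, orderOf_one] at hz
        omega
    obtain ⟨w, hw⟩ := Finset.card_ne_zero.1 h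
    simp only [Finset.mem_erase] at hw
    exact ⟨w, fun e => hw.2.1 (Subtype.ext e), fun e => hw.1 (Subtype.ext e)⟩
  have hwC : (w : G) ∈ C := Subgroup.mem_centralizer_singleton_iff.2 (hzc _ (hUS w.2))
  let w' : C := ⟨w, hwC⟩
  have hwo : orderOf w' = 2 := orderOf_eq_prime
    (Subtype.ext (by
      rw [sq]
      show (w : G) * (w : G) = 1
      exact congrArg Subtype.val (IsKleinFour.mul_self w)))
    fun e => hw.1 (congrArg Subtype.val e)
  have hcentU : Subgroup.centralizer (U : Set G) = (Subgroup.centralizer ({w'} : Set C)).map C.subtype := by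
    ext x
    constructor
    · intro hx
      have hxC : x ∈ C := Subgroup.mem_centralizer_singleton_iff.2 (Subgroup.mem_centralizer_iff.1 hx z hzU).symm
      exact ⟨⟨x, hxC⟩, Subgroup.mem_centralizer_singleton_iff.2
        (Subtype.ext (Subgroup.mem_centralizer_iff.1 hx w w.2).symm), rfl⟩
    · rintro ⟨y, hy, rfl⟩
      have h1 : (y : G) * (w : G) = (w : G) * (y : G) :=
        congrArg Subtype.val (Subgroup.mem_centralizer_singleton_iff.1 hy)
      have h2 : (y : G) * z = z * (y : G) := Subgroup.mem_centralizer_singleton_iff.1 y.2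
      have hz1 : (⟨z, hzU⟩ : U) ≠ 1 := fun e => by
        rw [show z = 1 from congrArg Subtype.val e, orderOf_one] at hz; omega
      have hw1 : w ≠ 1 := fun e => hw.1 (congrArg Subtype.val e)
      refine Subgroup.mem_centralizer_iff.2 fun u hu => ?_
      haveI := Fintype.ofFinite U
      have hu' : (⟨u, hu⟩ : U) ∈ ({⟨z, hzU⟩ * w, ⟨z, hzU⟩, w, 1} : Finset U) := by
        rw [IsKleinFour.eq_finset_univ hz1 hw1 fun e => hw.2 (congrArg Subtype.val e).symm]
        exact Finset.mem_univ _
      simp only [Finset.mem_insert, Finset.mem_singleton] at hu'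
      rcases hu' with e | e | e | e <;> rw [show u = _ from congrArg Subtype.val e]
      · show z * (w : G) * y = y * (z * w)
        rw [mul_assoc, ← h1, ← mul_assoc, ← h2, mul_assoc]
      · exact h2.symm
      · exact h1.symm
      · exact (one_mul _).trans (mul_one _).symm
  refine ⟨w', w.2, hwo, hw.2, hcentU, ?_⟩
  rw [hcentU, Subgroup.card_subtype]
  obtain ⟨-, S', e, he⟩ := quotient_setup S z hzc
  let q : C →* C ⧸ Cfsg.oddCore C := QuotientGroup.mk' _
  have hq : ∀ (t : G) (ht : t ∈ (S : Subgroup G)) (htC : t ∈ C),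
      orderOf (q ⟨t, htC⟩) = orderOf t := fun t ht htC => by
    rw [← he ⟨t, ht⟩ htC, Subgroup.orderOf_coe, MulEquiv.orderOf_eq, Subgroup.orderOf_mk]
  have hzC : z ∈ C := Subgroup.mem_centralizer_singleton_iff.2 rfl
  have hqw : orderOf (q w') = 2 := by
    rw [hq w (hUS w.2) hwC, ← Subgroup.orderOf_mk (w : G) hwC]
    exact hwo
  have hne : q w' ∉ Subgroup.center (C ⧸ Cfsg.oddCore C) := by
    intro hc
    have hzc' : q ⟨z, hzC⟩ ∈ Subgroup.center (C ⧸ Cfsg.oddCore C) := Subgroup.mem_center_iff.2 fun y => by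
      obtain ⟨y, rfl⟩ := QuotientGroup.mk'_surjective (Cfsg.oddCore C) y
      rw [← map_mul, ← map_mul]
      exact congrArg q (Subtype.ext (Subgroup.mem_centralizer_singleton_iff.1 y.2))
    have h := s.central_unique hqw ((hq z hzS hzC).trans hz) hc hzc'
    rw [← he ⟨w, hUS w.2⟩ hwC, ← he ⟨z, hzS⟩ hzC] at h
    exact hw.2 (congrArg Subtype.val (e.injective (Subtype.ext h)))
  have hP : IsPGroup 2 (Subgroup.zpowers w') := IsPGroup.of_card (n := 1) (by rw [Nat.card_zpowers, hwo, pow_one])
  have hmap := Grp.map_centralizer_pGroup (p := 2) hP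
  rw [MonoidHom.map_zpowers, Subgroup.zpowers_eq_closure, Subgroup.zpowers_eq_closure,
    Subgroup.centralizer_closure, Subgroup.centralizer_closure] at hmap
  have hsplit := ((q.domRestrict (Subgroup.centralizer ({w'} : Set C))).ker).index_mul_card
  rw [Subgroup.index_ker, MonoidHom.domRestrict_range, MonoidHom.ker_domRestrict, QuotientGroup.ker_mk',
    ← Subgroup.card_subtype _ ((Cfsg.oddCore C).subgroupOf _), Subgroup.subgroupOf_map_subtype] at hsplit
  have h5 : Nat.card ↥((Subgroup.centralizer ({w'} : Set C)).map q) =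
      Nat.card ↥(Subgroup.centralizer ({q w'} : Set (C ⧸ Cfsg.oddCore C))) :=
    congrArg (fun T : Subgroup (C ⧸ Cfsg.oddCore C) => Nat.card T) hmap
  rw [← hsplit, h5, mul_comm (Nat.card ↥(Subgroup.centralizer ({q w'} : Set (C ⧸ Cfsg.oddCore C)))), Nat.cast_mul,
    Nat.cast_mul, mul_assoc, s.card_centralizer hqw hne, s.card_eq, ← Nat.cast_mul]

end Cfsg.Agent.Invol.AbgOrder
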