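import Cfsg.Agent.Lib.Invol.AbgOrder.CoreShape
import Cfsg.Agent.Lib.Invol.AbgOrder.Shape0Local
import Cfsg.Agent.Lib.Invol.AbgOrder.CoreP1

/-!
# Coordinates in which the split torus is diagonal

For `Q = q` the split element of the torus is diagonalisable; in these coordinates the non-central involution is
`x ↦ -x`, its centraliser is the stabiliser of `0` and `∞` and the Weyl element exchanges them.
-/

set_option autoImplicit false
set_option linter.style.haveILetI false

namespace Cfsg.Agent.Invol.AbgOrder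

open Matrix Cfsg.Agent.Classical
open Cfsg.Agent.Invol.BrauerL3 (Tbl scal mem_scal)

universe u v w x

variable {X : Type u} [Group X] [Finite X] {F : Type v} [Field F] [Fintype F] {H : Type w} [Group H]
  {K : Type x} [CommGroup K] {Q : ℤ} {s : Shape0 X F H K Q}

local notation "SL₂" => Matrix.SpecialLinearGroup (Fin 2) F
local notation "M₂" => Matrix (Fin 2) (Fin 2) F

/-- An inner-diagonal automorphism fixing a non-scalar diagonal element is diagonal. -/
theorem inn_fix_diag {θ : MulAut SL₂} (hf : fld θ = 1) {l : Fˣ} (hl : (l : F) * l ≠ 1) (h : θ (dS l) = dS l) :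
    θ • infP F = infP F ∧ θ • ptP (0 : F) = ptP 0 := by
  obtain ⟨g, hg⟩ := mem_range_inn.2 hf
  subst hg
  have h1 : ((inn g (dS l) : SL₂) : M₂) = _ := congrArg (fun A : SL₂ => (A : M₂)) h
  rw [inn_coe, Units.mul_inv_eq_iff_eq_mul, dS_coe] at h1
  have h01 := congrFun (congrFun h1 0) 1
  have h10 := congrFun (congrFun h1 1) 0
  simp [Matrix.mul_apply, Fin.sum_univ_two] at h01 h10
  have hd : (l : F)⁻¹ - l ≠ 0 := by
    intro e
    refine hl ?_
    rw [sub_eq_zero] at e
    calc (l : F) * l = l * (l : F)⁻¹ := by rw [e]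
      _ = 1 := mul_inv_cancel₀ (Units.ne_zero l)
  have e01 : (g : M₂) 0 1 = 0 :=
    (mul_eq_zero.1 (show (g : M₂) 0 1 * ((l : F)⁻¹ - l) = 0 by linear_combination h01)).resolve_right hd
  have e10 : (g : M₂) 1 0 = 0 :=
    (mul_eq_zero.1 (show (g : M₂) 1 0 * ((l : F)⁻¹ - l) = 0 by linear_combination -h10)).resolve_right hd
  refine ⟨inn_smul_inf.2 e10, ?_⟩
  rw [← gJ_inf, ← mul_smul, ← map_mul, show g * gJ = gJ * (gJ * g * gJ) by
    rw [← mul_assoc gJ (gJ * g) gJ, ← mul_assoc gJ gJ g, gJ_sq, one_mul], map_mul, mul_smul,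
    inn_smul_inf.2 (show ((gJ * g * gJ : GL (Fin 2) F) : M₂) 1 0 = 0 by
      simp [Units.val_mul, gJ_coe, Matrix.mul_apply, Fin.sum_univ_two, e01, Matrix.vecMul, dotProduct])]

/-- An inner-diagonal automorphism inverting a non-scalar diagonal element exchanges `0` and `∞`. -/
theorem inn_inv_diag {θ : MulAut SL₂} (hf : fld θ = 1) {l : Fˣ} (hl : (l : F) * l ≠ 1) (h : θ (dS l) = dS l⁻¹) :
    θ • infP F = ptP 0 ∧ θ • ptP (0 : F) = infP F := by
  have hJ : inn (gJ : GL (Fin 2) F) (dS l⁻¹) = dS l := by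
    refine Subtype.ext ?_
    rw [inn_coe, Units.mul_inv_eq_iff_eq_mul, dS_coe, dS_coe, gJ_coe]
    ext i j
    fin_cases i <;> fin_cases j <;> simp
  have hf' : fld (inn gJ * θ) = 1 := by rw [map_mul, hf, mul_one]; exact fld_smi _ _
  obtain ⟨h1, h2⟩ := inn_fix_diag hf' hl (by rw [MulAut.mul_apply, h, hJ])
  rw [mul_smul] at h1 h2
  constructor
  · rw [← gJ_inf]
    calc θ • infP F = inn gJ • inn (gJ : GL (Fin 2) F) • θ • infP F := by
          rw [← mul_smul (inn gJ) (inn gJ), ← map_mul, gJ_sq, map_one, one_smul]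
      _ = _ := by rw [h1]
  · rw [← gJ_zero]
    calc θ • ptP (0 : F) = inn gJ • inn (gJ : GL (Fin 2) F) • θ • ptP (0 : F) := by
          rw [← mul_smul (inn gJ) (inn gJ), ← map_mul, gJ_sq, map_one, one_smul]
      _ = _ := by rw [h2]

/-- Coordinates. -/
structure Coord (k : Frame s) where
  g₀ : GL (Fin 2) F
  t : Matrix.SpecialLinearGroup (Fin 2) F
  ht : s.M.ι t = s.M.T.D (k.g, k.g⁻¹)
  hto : orderOf t = (Q - 1).natAbs
  l : Fˣ
  hl : (l : F) * l ≠ 1
  conj_t : inn g₀⁻¹ t = dS l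

namespace Coord

variable {k : Frame s}

omit [Finite X] in
theorem nonempty (k : Frame s) (hQ : Q = (Fintype.card F : ℤ)) (h4 : 4 ≤ Fintype.card F) :
    Nonempty (Coord k) := by
  classical
  obtain ⟨t, ht, hto⟩ := k.exists_t0
  obtain ⟨p, hp⟩ := CharP.exists F
  haveI : Fact p.Prime := ⟨CharP.char_is_prime F p⟩
  have hodd : Odd (Fintype.card F) := by rw [← k.hQ]; exact Int.natAbs_odd.2 s.M.T.odd
  have h2 := BrauerL3.two_ne_zero_of_odd (F := F) hodd
  have hm : (Q - 1).natAbs = Fintype.card F - 1 := by omega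
  -- an eigenvalue
  have htq : (t : M₂) ^ Fintype.card F = (t : M₂) := by
    rw [← cpow, show Fintype.card F = (Q - 1).natAbs + 1 by omega, pow_succ, ← hto, pow_orderOf_eq_one, one_mul]
  have hprod : ∏ a : F, (Polynomial.X - Polynomial.C a) =
      (Polynomial.X : Polynomial F) ^ Fintype.card F - Polynomial.X := by
    have hm' : ((Polynomial.X : Polynomial F) ^ Fintype.card F - Polynomial.X).Monic :=
      Polynomial.monic_X_pow_sub (by rw [Polynomial.degree_X]; exact_mod_cast Fintype.one_lt_card)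
    have h := Polynomial.prod_multiset_X_sub_C_of_monic_of_roots_card_eq hm' (by
      rw [FiniteField.roots_X_pow_card_sub_X, FiniteField.X_pow_card_sub_X_natDegree_eq F Fintype.one_lt_card]
      rfl)
    rw [FiniteField.roots_X_pow_card_sub_X] at h
    exact h
  obtain ⟨a, ha⟩ : ∃ a : F, ((t : M₂) - a • (1 : M₂)).det = 0 := by
    let φ : Polynomial F →* F := Matrix.detMonoidHom.comp (Polynomial.aeval (t : M₂)).toMonoidHom
    have h : φ (∏ a : F, (Polynomial.X - Polynomial.C a)) = 0 := by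
      rw [hprod]
      show ((Polynomial.aeval (t : M₂)) ((Polynomial.X : Polynomial F) ^ Fintype.card F - Polynomial.X)).det = 0
      rw [map_sub, map_pow, Polynomial.aeval_X, htq, sub_self, Matrix.det_zero]
    rw [map_prod, Finset.prod_eq_zero_iff] at h
    obtain ⟨a, -, ha⟩ := h
    refine ⟨a, ?_⟩
    rw [← ha]
    show _ = ((Polynomial.aeval (t : M₂)) (Polynomial.X - Polynomial.C a)).det
    rw [map_sub, Polynomial.aeval_X, Polynomial.aeval_C, Algebra.algebraMap_eq_smul_one]
  have hd := t.2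
  rw [Matrix.det_fin_two] at hd ha
  simp [Matrix.sub_apply, Matrix.smul_apply] at ha
  have hchar : a * a - str t * a + 1 = 0 := by
    rw [str]; linear_combination ha - hd
  have ha0 : a ≠ 0 := fun e => by rw [e] at hchar; simp at hchar
  set l : Fˣ := Units.mk0 a ha0
  have hl : a * a ≠ 1 := by
    intro e
    have htr : str t * str t = 4 := by
      have : str t * a = 2 := by linear_combination e - hchar
      calc str t * str t = (str t * a) * (str t * a) := by linear_combination -(str t * str t) * e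
        _ = 4 := by rw [this]; norm_num
    have h1 := pow_eq_one_of_trace (p := p) h2 htr
    have h3 : orderOf t ∣ 2 * p := orderOf_dvd_of_pow_eq_one h1
    rw [hto] at h3
    obtain ⟨n, -, hn⟩ := FiniteField.card F p
    have hcop : Nat.Coprime (Q - 1).natAbs p := by
      rw [hm, Nat.coprime_comm, (Fact.out : p.Prime).coprime_iff_not_dvd]
      intro hdvd
      have h5 : p ∣ Fintype.card F := hn ▸ dvd_pow_self p n.ne_zero
      have h6 := Nat.dvd_sub h5 hdvd
      rw [Nat.sub_sub_self (by omega)] at h6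
      exact (Fact.out : p.Prime).not_dvd_one h6
    have := Nat.le_of_dvd two_pos (hcop.dvd_of_dvd_mul_right h3)
    omega
  -- eigenvectors
  have hinv : (a⁻¹) * (a⁻¹) - str t * a⁻¹ + 1 = 0 := by
    field_simp
    linear_combination hchar
  have hex : ∀ b : F, b * b - str t * b + 1 = 0 → ∃ v : Fin 2 → F, v ≠ 0 ∧ (t : M₂) *ᵥ v = b • v := by
    intro b hb
    have hdet : ((t : M₂) - b • (1 : M₂)).det = 0 := by
      rw [Matrix.det_fin_two]
      simp [Matrix.sub_apply, Matrix.smul_apply]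
      rw [str] at hb
      linear_combination hd + hb
    obtain ⟨v, hv, hv'⟩ := Matrix.exists_mulVec_eq_zero_iff.2 hdet
    refine ⟨v, hv, ?_⟩
    rwa [Matrix.sub_mulVec, Matrix.smul_mulVec, Matrix.one_mulVec, sub_eq_zero] at hv'
  obtain ⟨v, hv, hv'⟩ := hex a hchar
  obtain ⟨w, hw, hw'⟩ := hex a⁻¹ hinv
  set P : M₂ := !![v 0, w 0; v 1, w 1] with hP
  have hdet : P.det ≠ 0 := by
    intro e
    obtain ⟨y, hy, hy'⟩ := Matrix.exists_mulVec_eq_zero_iff.2 e
    have e0 := congrFun hy' 0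
    have e1 := congrFun hy' 1
    simp [hP, Matrix.mulVec, dotProduct, Fin.sum_univ_two] at e0 e1
    have hsum : y 0 • v + y 1 • w = 0 := by
      ext i
      fin_cases i <;> simp <;> first | linear_combination e0 | linear_combination e1
    have h3 : y 0 • (a • v) + y 1 • (a⁻¹ • w) = 0 := by
      rw [← hv', ← hw', ← Matrix.mulVec_smul, ← Matrix.mulVec_smul, ← Matrix.mulVec_add, hsum, Matrix.mulVec_zero]
    have hy1 : y 1 = 0 := by
      by_contra hne
      refine hw (funext fun i => ?_)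
      have g1 := congrFun hsum i
      have g2 := congrFun h3 i
      simp at g1 g2 ⊢
      have h4 : (a - a⁻¹) * (y 1 * w i) = 0 := by linear_combination a * g1 - g2
      have h5 : a - a⁻¹ ≠ 0 := by
        intro e5
        rw [sub_eq_zero] at e5
        refine hl ?_
        conv_lhs => arg 2; rw [e5]
        exact mul_inv_cancel₀ ha0
      exact (mul_eq_zero.1 ((mul_eq_zero.1 h4).resolve_left h5)).resolve_left hne
    have hy0 : y 0 ≠ 0 := fun e0' => hy (funext fun i => by fin_cases i <;> simp [e0', hy1])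
    rw [hy1, zero_smul, add_zero, smul_eq_zero] at hsum
    exact hv (hsum.resolve_left hy0)
  set g₀ : GL (Fin 2) F := Matrix.GeneralLinearGroup.mkOfDetNeZero P hdet
  have hfix : inn g₀ (dS l) = t := by
    refine Subtype.ext ?_
    rw [inn_coe, Units.mul_inv_eq_iff_eq_mul]
    show P * ((dS l : SL₂) : M₂) = (t : M₂) * P
    rw [dS_coe, hP]
    have v0 := congrFun hv' 0
    have v1 := congrFun hv' 1
    have w0 := congrFun hw' 0
    have w1 := congrFun hw' 1
    simp [Matrix.mulVec, dotProduct, Fin.sum_univ_two] at v0 v1 w0 w1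
    ext i j
    fin_cases i <;> fin_cases j <;> simp [l, Matrix.mul_apply, Fin.sum_univ_two]
    · linear_combination -v0
    · linear_combination -w0
    · linear_combination -v1
    · linear_combination -w1
  exact ⟨⟨g₀, t, ht, hto, l, hl, by rw [← hfix, map_inv, MulAut.inv_apply_self]⟩⟩

variable (c : Coord k)
include c

/-- The action in these coordinates. -/
noncomputable def act : X →* MulAut SL₂ := (MulAut.conj (inn c.g₀⁻¹)).toMonoidHom.comp s.ψ

/-- The coordinates with `0` and `∞` exchanged. -/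
noncomputable def swap : Coord k where
  g₀ := c.g₀ * gJ
  t := c.t
  ht := c.ht
  hto := c.hto
  l := c.l⁻¹
  hl := by
    intro e
    refine c.hl ?_
    rw [Units.val_inv_eq_inv_val] at e
    have h := congrArg (·⁻¹) e
    simpa using h
  conj_t := by
    have hJi : (gJ : GL (Fin 2) F)⁻¹ = gJ := inv_eq_of_mul_eq_one_right gJ_sq
    rw [_root_.mul_inv_rev, hJi, map_mul, MulAut.mul_apply, c.conj_t]
    refine Subtype.ext ?_
    rw [inn_coe, Units.mul_inv_eq_iff_eq_mul, dS_coe, dS_coe, gJ_coe]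
    ext i j
    fin_cases i <;> fin_cases j <;> simp

omit [Finite X] in
theorem swap_act (x : X) : c.swap.act x = inn gJ * c.act x * inn gJ := by
  have hJi : (gJ : GL (Fin 2) F)⁻¹ = gJ := inv_eq_of_mul_eq_one_right gJ_sq
  show MulAut.conj (inn (c.g₀ * gJ)⁻¹) (s.ψ x) = inn gJ * MulAut.conj (inn c.g₀⁻¹) (s.ψ x) * inn gJ
  rw [_root_.mul_inv_rev, hJi, map_mul, MulAut.conj_apply, MulAut.conj_apply, _root_.mul_inv_rev, ← map_inv (inn (F := F)) gJ, hJi]
  simp only [mul_assoc]

omit [Finite X] in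
theorem fld_act (x : X) : fld (c.act x) = s.fldX x := by
  show fld (MulAut.conj (inn c.g₀⁻¹) (s.ψ x)) = fld (s.ψ x)
  rw [MulAut.conj_apply, map_mul, map_mul, map_inv (fld (F := F)), show fld (inn c.g₀⁻¹) = 1 from fld_smi _ 1, inv_one, one_mul,
    mul_one]

omit [Finite X] in
theorem act_conj_ι (x : X) (u : SL₂) :
    c.act x (inn c.g₀⁻¹ u) = inn c.g₀⁻¹ (s.ψ x u) := by
  show MulAut.conj (inn c.g₀⁻¹) (s.ψ x) (inn c.g₀⁻¹ u) = _
  rw [MulAut.conj_apply, MulAut.mul_apply, MulAut.mul_apply, MulAut.inv_apply_self]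

omit [Finite X] in
theorem act_eq_one {x : X} (h : c.act x = 1) : s.ψ x = 1 :=
  (MulAut.conj (inn c.g₀⁻¹)).injective (h.trans (map_one _).symm)

omit [Finite X] in
theorem act_πι (u : SL₂) : c.act (s.π (s.M.ι u)) = MulAut.conj (inn c.g₀⁻¹ u) := by
  have hψ : s.ψ (s.π (s.M.ι u)) = MulAut.conj u := s.act₂_eq fun v => by
    rw [MulAut.conj_apply, map_mul, map_mul, map_inv, map_mul, map_mul, map_inv]
  refine MulEquiv.ext fun v => ?_
  obtain ⟨v, rfl⟩ := (inn c.g₀⁻¹).surjective v
  rw [c.act_conj_ι, hψ, MulAut.conj_apply, MulAut.conj_apply]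
  simp only [map_mul, map_inv]

omit [Finite X] in
theorem act_t_pow (i : ℕ) : c.act (s.π (s.M.ι (c.t ^ i))) = inn (gdiag (c.l ^ i) (c.l ^ i)⁻¹) := by
  rw [c.act_πι, map_pow, c.conj_t, ← map_pow, ← inn_toGL]
  refine congrArg _ (Units.ext ?_)
  rw [gdiag_coe]
  exact dS_coe _

omit [Finite X] in
theorem torus_fix {x : X} (hx : Commute x k.u) (hf : s.fldX x = 1) :
    c.act x • infP F = infP F ∧ c.act x • ptP (0 : F) = ptP 0 := by
  refine inn_fix_diag (by rw [c.fld_act, hf]) c.hl ?_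
  rw [← c.conj_t, c.act_conj_ι]
  refine congrArg _ (s.π_ι_inj ?_)
  show s.π (s.M.ι (s.act₂ x c.t)) = s.π (s.M.ι c.t)
  rw [← s.conj_ι, k.torus_comm hx hf (c.ht ▸ k.commute_u _) (s.fldX_π _), mul_inv_cancel_right]

omit [Finite X] in
/-- The Weyl element exchanges `0` and `∞`. -/
theorem weyl_swap {u : SL₂} (hu : ∀ a b, s.M.ι u * s.M.T.D (a, b) * (s.M.ι u)⁻¹ = s.M.T.D (b, a)) :
    c.act (s.π (s.M.ι u)) • infP F = ptP 0 ∧ c.act (s.π (s.M.ι u)) • ptP (0 : F) = infP F := by
  refine inn_inv_diag (by rw [c.fld_act, s.fldX_π]) c.hl ?_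
  rw [map_inv, ← c.conj_t, c.act_conj_ι, ← map_inv (inn c.g₀⁻¹)]
  refine congrArg _ (s.π_ι_inj ?_)
  show s.π (s.M.ι (s.act₂ (s.π (s.M.ι u)) c.t)) = s.π (s.M.ι c.t⁻¹)
  rw [← s.conj_ι, ← map_inv, ← map_mul, ← map_mul, c.ht, hu, map_inv s.M.ι, c.ht, ← map_inv s.M.T.D,
    Prod.inv_mk, inv_inv]

omit [Finite X] in
/-- The non-central involution is `x ↦ -x`. -/
theorem act_u : c.act k.u = inn (gdiag 1 (-1)) := by
  have hodd : Odd (Fintype.card F) := by rw [← k.hQ]; exact Int.natAbs_odd.2 s.M.T.odd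
  have hcom : Commute k.u k.u := Commute.refl _
  have hf : s.fldX k.u = 1 := s.fldX_π _
  obtain ⟨h1, h2⟩ := c.torus_fix hcom hf
  obtain ⟨a, b, he⟩ := exists_diag h1 h2
  rw [c.fld_act, hf, smi_one, mul_one] at he
  have hsq : inn (gdiag a b) * inn (gdiag a b) = 1 := by
    rw [← he, ← map_mul, show k.u * k.u = 1 by
      show s.π _ * s.π _ = 1
      rw [← map_mul, ← map_mul, Prod.mk_mul_mk, one_mul, k.e_sq]
      exact (congrArg _ (map_one _)).trans (map_one _), map_one]
  have hne : inn (gdiag a b) ≠ 1 := by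
    intro e
    rw [← he] at e
    have hψ := c.act_eq_one e
    obtain ⟨g, hg⟩ := s.M.back (s.M.T.D (1, k.e))
    have hc : s.M.T.D (1, k.e) ∈ Subgroup.center H := by
      refine s.M.cent _ fun x => mul_inv_eq_iff_eq_mul.1 ?_
      rw [hg]
      refine congrArg s.M.ι (s.π_ι_inj ?_)
      show s.π (s.M.ι (inn g x)) = s.π (s.M.ι x)
      rw [← hg, map_mul, map_mul, map_inv]
      show k.u * s.π (s.M.ι x) * k.u⁻¹ = _
      rw [s.conj_ι, show s.act₂ k.u = 1 from hψ]
      rfl
    obtain ⟨d, hd⟩ := s.M.T.central _ hc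
    have h' := s.M.T.D_inj hd
    exact k.e_ne ((congrArg Prod.snd h').trans (congrArg Prod.fst h').symm)
  have hr : ((a : F) / b) * ((a : F) / b) = 1 := by
    have h := congrArg (fun θ : MulAut SL₂ => θ • ptP (1 : F)) hsq
    simp only [mul_smul, gdiag_pt, one_smul, mul_one] at h
    exact ptP_inj h
  rcases mul_self_eq_one_iff.1 hr with hr | hr
  · exfalso
    refine hne ?_
    rw [show a = b from Units.ext ((div_eq_one_iff_eq (Units.ne_zero b)).1 hr), inn_gdiag_self]
  · rw [he]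
    have hab : gdiag a b = gdiag a a * gdiag 1 (-1) := by
      refine Units.ext ?_
      rw [Units.val_mul, gdiag_coe, gdiag_coe, gdiag_coe]
      have hb : (b : F) = -a := by
        rw [div_eq_iff (Units.ne_zero b)] at hr
        linear_combination hr
      ext i j
      fin_cases i <;> fin_cases j <;> simp [hb]
    rw [hab, map_mul, inn_gdiag_self, one_mul]

omit [Finite X] in
theorem central_of_act {x : X} (h : c.act x = 1) : ∃ a, x = s.π (s.M.T.D (a, a)) := by
  have hψ := c.act_eq_one h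
  obtain ⟨h₀, rfl⟩ := s.mem_range_of_fld (x := x) (by show fld (s.ψ x) = 1; rw [hψ, map_one])
  have hc : h₀ ∈ Subgroup.center H := by
    refine s.M.cent _ fun x => mul_inv_eq_iff_eq_mul.1 ?_
    obtain ⟨g, hg⟩ := s.M.back h₀
    rw [hg]
    refine congrArg s.M.ι (s.π_ι_inj ?_)
    show s.π (s.M.ι (inn g x)) = s.π (s.M.ι x)
    rw [← hg, map_mul, map_mul, map_inv, s.conj_ι, show s.act₂ (s.π h₀) = 1 from hψ]
    rfl
  obtain ⟨a, rfl⟩ := s.M.T.central _ hc
  exact ⟨a, rfl⟩

omit [Finite X] in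
theorem eq_one_of_act {x : X} (h : c.act x = 1) (ho : Odd (orderOf x)) : x = 1 := by
  obtain ⟨a, rfl⟩ := c.central_of_act h
  obtain ⟨mm, b, hb, hm⟩ := exists_two_part (n := (Q - 1).natAbs) (by have := s.M.T.ne_one; omega)
  rw [← orderOf_eq_one_iff, ← Nat.dvd_one, ← (Nat.coprime_two_left.2 ho).pow_left mm]
  exact Nat.dvd_gcd (orderOf_dvd_of_pow_eq_one (k.central_pow hm hb a)) dvd_rfl

omit [Finite X] in
/-- A torus element of odd order fixing a third point is trivial. -/
theorem eq_one_of_fix {x : X} (hx : Commute x k.u) (hf : s.fldX x = 1) (ho : Odd (orderOf x)) {e : F} (he : e ≠ 0)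
    (hfix : c.act x • ptP e = ptP e) : x = 1 := by
  obtain ⟨h1, h2⟩ := c.torus_fix hx hf
  obtain ⟨a, b, hab⟩ := exists_diag h1 h2
  rw [c.fld_act, hf, smi_one, mul_one] at hab
  rw [hab, gdiag_pt] at hfix
  have h3 := ptP_inj hfix
  refine c.eq_one_of_act ?_ ho
  rw [hab, show a = b from Units.ext ((div_eq_one_iff_eq (Units.ne_zero b)).1 (mul_right_cancel₀ he
    (h3.trans (one_mul e).symm))), inn_gdiag_self]

/-- The stabiliser of `0` and `∞` centralises the involution. -/
theorem comm_u_of_fix {x : X} (h1 : c.act x • infP F = infP F) (h2 : c.act x • ptP (0 : F) = ptP 0) :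
    Commute x k.u := by
  have hu2 : k.u * k.u = 1 := by
    show s.π _ * s.π _ = 1
    rw [← map_mul, ← map_mul, Prod.mk_mul_mk, one_mul, k.e_sq]
    exact (congrArg _ (map_one _)).trans (map_one _)
  set ζ := x * k.u * x⁻¹ * k.u⁻¹ with hζ
  have hact : c.act ζ = 1 := by
    obtain ⟨a, b, hab⟩ := exists_diag h1 h2
    have hg : Descent.gmap (fld (c.act x)) (gdiag 1 (-1) : GL (Fin 2) F) = gdiag 1 (-1) := Units.ext (by
      ext i j
      fin_cases i <;> fin_cases j <;> simp [gdiag_coe])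
    have hcomm : c.act x * c.act k.u = c.act k.u * c.act x := by
      rw [c.act_u, hab]
      set σ := fld (c.act x)
      rw [mul_assoc, show smi (1 : GL (Fin 2) F) σ * inn (gdiag 1 (-1)) = inn (gdiag 1 (-1)) * smi 1 σ by
        show smi 1 σ * smi _ 1 = smi _ 1 * smi 1 σ
        rw [smi_mul, smi_mul, hg, map_one, one_mul, mul_one, one_mul, mul_one], ← mul_assoc, ← map_mul,
        show gdiag a b * gdiag 1 (-1) = gdiag 1 (-1) * gdiag a b from Units.ext (by
          rw [Units.val_mul, Units.val_mul, gdiag_coe, gdiag_coe]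
          ext i j
          fin_cases i <;> fin_cases j <;> simp), map_mul, mul_assoc]
    rw [hζ, map_mul, map_mul, map_mul, map_inv, map_inv, hcomm, mul_inv_cancel_right, mul_inv_cancel]
  obtain ⟨a, ha⟩ := c.central_of_act hact
  obtain ⟨mm, b, hb, hm⟩ := exists_two_part (n := (Q - 1).natAbs) (by have := s.M.T.ne_one; omega)
  have hcen : ∀ y, Commute y ζ := fun y => by
    rw [ha]; exact mul_inv_eq_iff_eq_mul.1 (k.central_fixed hm hb y a)
  have hconj : x * k.u * x⁻¹ = ζ * k.u := by rw [hζ, inv_mul_cancel_right]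
  have hζ2 : ζ * ζ = 1 := by
    have h : ζ * k.u * (ζ * k.u) = 1 := by rw [← hconj, conj_mul, hu2, mul_one, mul_inv_cancel]
    rwa [show ζ * k.u * (ζ * k.u) = ζ * (k.u * ζ) * k.u by group, (hcen k.u).eq,
      show ζ * (ζ * k.u) * k.u = ζ * ζ * (k.u * k.u) by group, hu2, mul_one] at h
  by_cases h0 : ζ = 1
  · exact mul_inv_eq_iff_eq_mul.1 (by rw [hconj, h0, one_mul])
  exfalso
  have hζz : ζ = k.zc := by
    have hord : ∀ {A : Type u} [Group A] {a : A}, a * a = 1 → a ≠ 1 → orderOf a = 2 := fun h h' =>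
      orderOf_eq_prime (by rw [sq, h]) h'
    refine s.central_unique (hord hζ2 h0) (hord ?_ ?_) (Subgroup.mem_center_iff.2 fun y => (hcen y).eq)
      (Subgroup.mem_center_iff.2 fun y => mul_inv_eq_iff_eq_mul.1 (k.central_fixed hm hb y k.e))
    · show s.π _ * s.π _ = 1
      rw [← map_mul, ← map_mul, Prod.mk_mul_mk, k.e_sq]
      exact (congrArg _ (map_one _)).trans (map_one _)
    · intro h
      exact k.e_ne (Frame.eq_one_of_split (s := s) (a := k.e) (by rw [inv_eq_of_mul_eq_one_right k.e_sq]; exact h))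
  set N := orderOf s.σ
  have hiter : ∀ i : ℕ, x ^ i * k.u * (x ^ i)⁻¹ = ζ ^ i * k.u := by
    intro i
    induction i with
    | zero => simp
    | succ i ih =>
      calc x ^ (i + 1) * k.u * (x ^ (i + 1))⁻¹ = x * (x ^ i * k.u * (x ^ i)⁻¹) * x⁻¹ := by rw [pow_succ']; group
        _ = (x * ζ ^ i * x⁻¹) * (x * k.u * x⁻¹) := by rw [ih]; group
        _ = ζ ^ (i + 1) * k.u := by
          rw [hconj, ((hcen x).pow_right i).eq, mul_inv_cancel_right, pow_succ]
          exact (mul_assoc _ _ _).symm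
  obtain ⟨r, hr⟩ : Odd N := s.σ_odd
  have hN : x ^ N * k.u * (x ^ N)⁻¹ = k.zc * k.u := by
    rw [hiter, hr, pow_succ, pow_mul, sq, hζ2, one_pow, one_mul, hζz]
  obtain ⟨h, hh⟩ := s.mem_range_of_fld (x := x ^ N) (by rw [map_pow, s.fldX_pow])
  obtain ⟨t, -, hsw⟩ := k.exists_weyl
  set w := s.π (s.M.ι t)
  have hwu : w * k.u * w⁻¹ = k.zc * k.u := by
    show s.π _ * s.π (s.M.T.D (1, k.e)) * (s.π _)⁻¹ = s.π _ * s.π _
    rw [← map_inv, ← map_mul, ← map_mul, hsw, ← map_mul, ← map_mul, Prod.mk_mul_mk, mul_one, k.e_sq]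
  have hc : Commute (w⁻¹ * x ^ N) k.u := by
    refine mul_inv_eq_iff_eq_mul.1 ?_
    calc w⁻¹ * x ^ N * k.u * (w⁻¹ * x ^ N)⁻¹ = w⁻¹ * (x ^ N * k.u * (x ^ N)⁻¹) * w := by group
      _ = w⁻¹ * (w * k.u * w⁻¹) * w := by rw [hN, hwu]
      _ = k.u := by group
  have hf : s.fldX (w⁻¹ * x ^ N) = 1 := by rw [map_mul, map_inv, s.fldX_π, map_pow, s.fldX_pow, inv_one, one_mul]
  have e1 := (c.torus_fix hc hf).1
  have hfix : ∀ i : ℕ, c.act (x ^ i) • infP F = infP F := by
    intro i
    induction i with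
    | zero => rw [pow_zero, map_one, one_smul]
    | succ i ih => rw [pow_succ, map_mul, mul_smul, h1, ih]
  rw [map_mul, map_inv, mul_smul, hfix, inv_smul_eq_iff, (c.weyl_swap hsw).1] at e1
  exact ptP_ne 0 e1.symm

/-- An element centralising the involution fixes `0` and `∞`. -/
theorem fix_of_comm {x : X} (hx : Commute x k.u) :
    c.act x • infP F = infP F ∧ c.act x • ptP (0 : F) = ptP 0 := by
  have hodd : Odd (Fintype.card F) := by rw [← k.hQ]; exact Int.natAbs_odd.2 s.M.T.odd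
  have h2 := BrauerL3.two_ne_zero_of_odd (F := F) hodd
  have hpt : ∀ y : F, c.act k.u • ptP y = ptP (-y) := fun y => by
    rw [c.act_u, gdiag_pt]; simp
  have hinf : c.act k.u • infP F = infP F := by rw [c.act_u, gdiag_inf]
  have hfixed : ∀ P : P1 F, c.act k.u • P = P → P = infP F ∨ P = ptP 0 := by
    intro P hP
    rcases pt_or_inf P with h | ⟨y, rfl⟩
    · exact Or.inl h
    · right
      rw [hpt] at hP
      have h3 := ptP_inj hP
      have : (2 : F) * y = 0 := by linear_combination -h3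
      rw [(mul_eq_zero.1 this).resolve_left h2]
  have hmap : ∀ P : P1 F, c.act k.u • P = P → c.act k.u • c.act x • P = c.act x • P := fun P hP => by
    rw [← mul_smul, ← map_mul, ← hx.eq, map_mul, mul_smul, hP]
  have hzero : c.act k.u • ptP (0 : F) = ptP 0 := by rw [hpt, neg_zero]
  by_contra hcon
  -- otherwise it exchanges them, and so does its power in the torus
  have hsw : c.act x • infP F = ptP 0 ∧ c.act x • ptP (0 : F) = infP F := by
    rcases hfixed _ (hmap _ hinf) with e1 | e1 <;> rcases hfixed _ (hmap _ hzero) with e2 | e2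
    · exact absurd ((smul_left_cancel _) (e1.trans e2.symm)) (ptP_ne 0).symm
    · exact absurd ⟨e1, e2⟩ hcon
    · exact ⟨e1, e2⟩
    · exact absurd ((smul_left_cancel _) (e1.trans e2.symm)) (ptP_ne 0).symm
  have hodd' : ∀ i : ℕ, c.act (x ^ (2 * i + 1)) • infP F = ptP 0 := by
    intro i
    induction i with
    | zero => rw [mul_zero, zero_add, pow_one, hsw.1]
    | succ i ih =>
      rw [show 2 * (i + 1) + 1 = 2 + (2 * i + 1) by ring, pow_add, map_mul, mul_smul, ih, sq, map_mul, mul_smul,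
        hsw.2, hsw.1]
  obtain ⟨r, hr⟩ : Odd (orderOf s.σ) := s.σ_odd
  have := (c.torus_fix (x := x ^ orderOf s.σ) (hx.pow_left _) (by rw [map_pow, s.fldX_pow])).1
  rw [hr, hodd'] at this
  exact ptP_ne 0 this

end Coord

end Cfsg.Agent.Invol.AbgOrder
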