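import Cfsg.Agent.Lib.Invol.AbgOrder.CoreLines

/-!
# The quotients of the odd core attached to the points of the projective line

`D0` contains the commutators with the involutions fixing the point `0`, `Nw` is the kernel of the action of
`R = C_O(w)` at `w`.  Once `R ∩ D0 ≤ Nw`, the quotients `O / K P` of `CoreLines` are those of `R / Nw`.
-/

set_option autoImplicit false
set_option linter.style.haveILetI false

namespace Cfsg.Agent.Invol.AbgOrder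

universe u v w

section Dichotomy

variable {C : Type u} [Group C]

/-- Two subgroups not inside `N` would give two torus elements outside `N`. -/
theorem dichotomy {X Y N T M : Subgroup C} (hN : ∀ m ∈ M, ∀ x ∈ N, m * x * m⁻¹ ∈ N)
    (hX : ∀ m ∈ M, ∀ x ∈ X, m * x * m⁻¹ ∈ X) (hY : ∀ m ∈ M, ∀ x ∈ Y, m * x * m⁻¹ ∈ Y)
    (hT : ∀ m ∈ M, ∀ x ∈ T, m * x * m⁻¹ ∈ T) (hXM : X ≤ M) (hYM : Y ≤ M) (hTM : T ≤ M)
    (hmove : ∀ x ∈ M, x ∈ X ∨ x ∈ Y → x ∉ T → ∃ m ∈ T, x * (x * m * x⁻¹ * m⁻¹) * x⁻¹ * (x * m * x⁻¹ * m⁻¹)⁻¹ ∉ N)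
    (hd : ∀ x ∈ X, ∀ y ∈ Y, x ∈ T → y ∈ T → x ∈ N ∨ y ∈ N) : X ≤ N ∨ Y ≤ N := by
  have key : ∀ Z : Subgroup C, (∀ m ∈ M, ∀ x ∈ Z, m * x * m⁻¹ ∈ Z) → Z ≤ M → (∀ x ∈ Z, x ∈ X ∨ x ∈ Y) →
      ¬ Z ≤ N → ∃ x ∈ Z, x ∈ T ∧ x ∉ N := by
    intro Z hZ hZM hXY hZN
    obtain ⟨x, hx, hxN⟩ := SetLike.not_le_iff_exists.1 hZN
    by_cases hxT : x ∈ T
    · exact ⟨x, hx, hxT, hxN⟩
    obtain ⟨m, hm, hmN⟩ := hmove x (hZM hx) (hXY x hx) hxT
    refine ⟨x * m * x⁻¹ * m⁻¹, ?_, mul_mem (hT x (hZM hx) m hm) (inv_mem hm), fun h => hmN ?_⟩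
    · rw [show x * m * x⁻¹ * m⁻¹ = x * (m * x⁻¹ * m⁻¹) by group]
      exact mul_mem hx (hZ m (hTM hm) _ (inv_mem hx))
    · exact mul_mem (hN x (hZM hx) _ h) (inv_mem h)
  by_contra hc
  push Not at hc
  obtain ⟨x, hx, hxT, hxN⟩ := key X hX hXM (fun _ h => Or.inl h) hc.1
  obtain ⟨y, hy, hyT, hyN⟩ := key Y hY hYM (fun _ h => Or.inr h) hc.2
  exact (hd x hx y hy hxT hyT).elim hxN hyN

/-- An element of odd order is a fixed element times an element of any subgroup containing the commutators with an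
involution. -/
theorem split_fixed [Finite C] {O N : Subgroup C} (hodd : Odd (Nat.card O)) {w : C} (hw : w * w = 1) {o : C}
    (ho : o ∈ O) (hNO : N ≤ O) (hcomm : o⁻¹ * (w * o * w) ∈ N) :
    ∃ r d, o = r * d ∧ d ∈ N ∧ r ∈ O ∧ w * r * w = r := by
  set d := o⁻¹ * (w * o * w) with hd
  have hinv : w * d * w = d⁻¹ := by
    rw [hd, mul_inv_rev, inv_inv]
    have hwi : w⁻¹ = w := inv_eq_of_mul_eq_one_right hw
    calc w * (o⁻¹ * (w * o * w)) * w = w * o⁻¹ * (w * (o * (w * w))) := by simp only [mul_assoc]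
      _ = (w * o * w)⁻¹ * o := by rw [hw, mul_inv_rev, mul_inv_rev, hwi]; simp only [mul_one, mul_assoc]
  obtain ⟨k, hk⟩ := hodd.of_dvd_nat (Subgroup.orderOf_dvd_natCard O (hNO hcomm))
  set e := d ^ (k + 1) with he
  have hee : e * e = d := by
    rw [he, ← pow_add, show k + 1 + (k + 1) = (2 * k + 1) + 1 by ring, ← hk, pow_succ, pow_orderOf_eq_one, one_mul]
  have hwe : w * e * w = e⁻¹ := by
    have hwi : w⁻¹ = w := inv_eq_of_mul_eq_one_right hw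
    have h1 := conj_pow (a := w) (b := d) (i := k + 1)
    rw [hwi, hinv, inv_pow] at h1
    rw [he, ← h1]
  refine ⟨o * e, e⁻¹, by group, inv_mem (pow_mem hcomm _), mul_mem ho (hNO (pow_mem hcomm _)), ?_⟩
  calc w * (o * e) * w = w * o * w * (w * e * w) := by
        rw [show w * o * w * (w * e * w) = w * o * (w * w) * e * w by group, hw, mul_one]; group
    _ = o * d * e⁻¹ := by rw [hwe, hd]; group
    _ = o * e := by rw [← hee]; group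

/-- A subgroup containing the commutators with `w` and the fixed part of `D` contains `D`. -/
theorem le_of_comm [Finite C] {O D N : Subgroup C} (hodd : Odd (Nat.card O)) {w : C} (hw : w * w = 1)
    (hDO : D ≤ O) (hD : ∀ o ∈ O, o⁻¹ * (w * o * w) ∈ D) (hN : ∀ o ∈ O, o⁻¹ * (w * o * w) ∈ N)
    (hfix : ∀ r ∈ D, w * r * w = r → r ∈ N) : D ≤ N := by
  intro d hd
  obtain ⟨r, e, rfl, he, -, hr⟩ := split_fixed hodd hw (hDO hd) (N := D ⊓ N) (inf_le_left.trans hDO)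
    ⟨hD d (hDO hd), hN d (hDO hd)⟩
  have hrD : r ∈ D := by simpa using mul_mem hd (inv_mem (Subgroup.mem_inf.1 he).1)
  exact mul_mem (hfix r hrD hr) (Subgroup.mem_inf.1 he).2

/-- Odd groups: if counting says so, at every point one of the two normal subgroups fixes it. -/
theorem fix_or_fix {N A B : ℕ} (hA : Odd A) (hB : Odd B) (hAN : A ∣ N) (hBN : B ∣ N)
    (h : N + 1 = N / A + N / B) : A = 1 ∨ B = 1 := by
  by_contra hc
  push Not at hc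
  obtain ⟨a, rfl⟩ := hA
  obtain ⟨b, rfl⟩ := hB
  have h1 : N / (2 * a + 1) * (2 * a + 1) = N := Nat.div_mul_cancel hAN
  have h2 : N / (2 * b + 1) * (2 * b + 1) = N := Nat.div_mul_cancel hBN
  have ha : 3 ≤ 2 * a + 1 := by omega
  have hb : 3 ≤ 2 * b + 1 := by omega
  have := Nat.mul_le_mul_left (N / (2 * a + 1)) ha
  have := Nat.mul_le_mul_left (N / (2 * b + 1)) hb
  omega

end Dichotomy

/-- The data after the dichotomy. -/
structure PointData (C : Type u) [Group C] (Ω : Type v) [MulAction C Ω] (A : Type w) [AddCommGroup A] where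
  O : Subgroup C
  normal : O.Normal
  odd : Odd (Nat.card O)
  inf : Ω
  pt : A → Ω
  pt_ne : ∀ a, pt a ≠ inf
  pt_inj : Function.Injective pt
  pt_all : ∀ P, P ≠ inf → ∃ a, pt a = P
  nontriv : ∃ a : A, a ≠ 0
  two_tf : ∀ a : A, a + a = 0 → a = 0
  two : ∀ P Q P' Q' : Ω, P ≠ Q → P' ≠ Q' → ∃ c : C, c • P = P' ∧ c • Q = Q'
  O_fix : ∀ o ∈ O, ∀ P : Ω, o • P = P
  w : C
  w2 : w * w = 1
  w_inf : w • inf = inf
  w_pt : ∀ x, w • pt x = pt (-x)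
  /-- swaps `0` and `∞` -/
  s : C
  s_zero : s • pt 0 = inf
  /-- the commutators with the involutions fixing `0` -/
  D : Subgroup C
  DO : D ≤ O
  D_norm : ∀ o ∈ O, ∀ x ∈ D, o * x * o⁻¹ ∈ D
  D_stab : ∀ c : C, c • pt 0 = pt 0 → ∀ x ∈ D, c * x * c⁻¹ ∈ D
  w_D : ∀ o ∈ O, o⁻¹ * (w * o * w) ∈ D
  w_D' : ∀ o ∈ O, s⁻¹ * (w * o * w⁻¹ * o⁻¹) * s ∈ D
  /-- the kernel at `w` on `C_O(w)` and the part with torus images -/
  Nw : Subgroup C
  Tw : Subgroup C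
  NT : Nw ≤ Tw
  Tw_le : ∀ x ∈ Tw, x ∈ O ∧ w * x * w = x
  fix_D : ∀ r ∈ D, w * r * w = r → r ∈ Nw
  Nw_norm : ∀ r ∈ O, w * r * w = r → ∀ x ∈ Nw, r * x * r⁻¹ ∈ Nw
  Nw_stab : ∀ c : C, c • pt 0 = pt 0 → ∀ x ∈ Nw, c * x * c⁻¹ ∈ D ⊔ Nw
  Tw_stab : ∀ c : C, c • pt 0 = pt 0 → ∀ x ∈ Tw, c * x * c⁻¹ ∈ D ⊔ Tw
  Tw_comm : ∀ a ∈ O, ∀ b ∈ O, w * a * w = a → w * b * w = b → a * b * a⁻¹ * b⁻¹ ∈ Tw
  Tw_cyc : ∃ g ∈ Tw, ∀ x ∈ Tw, ∃ n : ℤ, (g ^ n)⁻¹ * x ∈ Nw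
  Tw_cent : ∀ r ∈ O, w * r * w = r → (∀ r' ∈ O, w * r' * w = r' → r * r' * r⁻¹ * r'⁻¹ ∈ Nw) → r ∈ Tw
  faith : ∀ x ∈ O, (∀ c : C, c * x * c⁻¹ ∈ D ⊔ Nw) → x = 1
  tr : ∀ a : A, ∃ g : C, g • inf = inf ∧ (∀ x, g • pt x = pt (x + a)) ∧
    ∀ y ∈ O, s⁻¹ * (g * y * g⁻¹ * y⁻¹) * s ∈ D
  kact : ∀ k : C, (∀ P : Ω, k • P = P) → ∃ o ∈ O, ∃ d, k = o * d ∧
    ∀ c : C, ∀ y ∈ Tw, c⁻¹ * d * c * y * (c⁻¹ * d * c)⁻¹ * y⁻¹ ∈ D ⊔ Nw
  cl : ∀ l : ℕ, l.Prime → (∃ y, (∀ c : C, c * y * c⁻¹ ∈ D ⊔ Tw) ∧ y ^ l = 1 ∧ y ∉ D ⊔ Nw) →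
    ∃ (c : C) (μ : A ≃+ A), c • inf = inf ∧ (∀ x, c • pt x = pt (μ x)) ∧ (⇑μ)^[l] = id ∧
      (∀ x, x ≠ 0 → μ x ≠ x) ∧ c * w = w * c ∧
      (∀ x, (∀ d : C, d * x * d⁻¹ ∈ D ⊔ Tw) → x ^ l = 1 →
        s⁻¹ * (c * x * c⁻¹ * x⁻¹) * s ∈ D ⊔ Nw ∧ c * x * c⁻¹ * x⁻¹ ∈ D ⊔ Nw) ∧
      ∀ x, (∀ d : C, d * x * d⁻¹ ∈ D ⊔ Tw) → x ^ l = 1 → w * x = x * w → x ∈ D ⊔ Nw →
        s⁻¹ * x * s ∈ D ⊔ Nw → c * x = x * c

namespace PointData

variable {C : Type u} [Group C] [Finite C] {Ω : Type v} [MulAction C Ω] {A : Type w} [AddCommGroup A]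
  (P : PointData C Ω A)
include P

omit [Finite C] in
theorem exists_to (R : Ω) : ∃ c : C, c • P.pt 0 = R := by
  rcases eq_or_ne R (P.pt 0) with rfl | h
  · exact ⟨1, one_smul _ _⟩
  · obtain ⟨c, hc, -⟩ := P.two (P.pt 0) R R (P.pt 0) h.symm h
    exact ⟨c, hc⟩

/-- Carries `0` to a point. -/
noncomputable def rep (R : Ω) : C := (P.exists_to R).choose

omit [Finite C] in
theorem rep_spec (R : Ω) : P.rep R • P.pt 0 = R := (P.exists_to R).choose_spec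

/-- The kernel at a point. -/
noncomputable def K (R : Ω) : Subgroup C := (P.D ⊔ P.Nw).map (MulAut.conj (P.rep R)).toMonoidHom

/-- The torus part at a point. -/
noncomputable def T (R : Ω) : Subgroup C := (P.D ⊔ P.Tw).map (MulAut.conj (P.rep R)).toMonoidHom

omit [Finite C] in
theorem sup_stab {B : Subgroup C} (hB : ∀ c : C, c • P.pt 0 = P.pt 0 → ∀ x ∈ B, c * x * c⁻¹ ∈ P.D ⊔ B) {c : C}
    (hc : c • P.pt 0 = P.pt 0) {x : C} (hx : x ∈ P.D ⊔ B) : c * x * c⁻¹ ∈ P.D ⊔ B :=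
  (show P.D ⊔ B ≤ (P.D ⊔ B).comap (MulAut.conj c).toMonoidHom from
    sup_le (fun y hy => Subgroup.mem_sup_left (P.D_stab c hc y hy)) fun y hy => hB c hc y hy) hx

omit [Finite C] in
theorem mem_at {B : Subgroup C} (hB : ∀ c : C, c • P.pt 0 = P.pt 0 → ∀ x ∈ B, c * x * c⁻¹ ∈ P.D ⊔ B) {d : C} {R : Ω}
    (hd : d • P.pt 0 = R) {x : C} :
    x ∈ (P.D ⊔ B).map (MulAut.conj (P.rep R)).toMonoidHom ↔ d⁻¹ * x * d ∈ P.D ⊔ B := by
  rw [Subgroup.mem_map_equiv, MulAut.conj_symm_apply]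
  have h1 : ((P.rep R)⁻¹ * d) • P.pt 0 = P.pt 0 := by rw [mul_smul, hd, inv_smul_eq_iff, P.rep_spec]
  constructor
  · intro h
    have h2 := P.sup_stab hB (c := d⁻¹ * P.rep R) (by rw [mul_smul, P.rep_spec, inv_smul_eq_iff, hd]) h
    convert h2 using 1
    group
  · intro h
    have h2 := P.sup_stab hB h1 h
    convert h2 using 1
    group

omit [Finite C] in
theorem mem_K {d : C} {R : Ω} (hd : d • P.pt 0 = R) {x : C} : x ∈ P.K R ↔ d⁻¹ * x * d ∈ P.D ⊔ P.Nw :=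
  P.mem_at P.Nw_stab hd

omit [Finite C] in
theorem mem_T {d : C} {R : Ω} (hd : d • P.pt 0 = R) {x : C} : x ∈ P.T R ↔ d⁻¹ * x * d ∈ P.D ⊔ P.Tw :=
  P.mem_at P.Tw_stab hd

omit [Finite C] in
theorem mem_K_zero {x : C} : x ∈ P.K (P.pt 0) ↔ x ∈ P.D ⊔ P.Nw := by
  rw [P.mem_K (one_smul C (P.pt 0)), inv_one, one_mul, mul_one]

omit [Finite C] in
theorem mem_T_zero {x : C} : x ∈ P.T (P.pt 0) ↔ x ∈ P.D ⊔ P.Tw := by
  rw [P.mem_T (one_smul C (P.pt 0)), inv_one, one_mul, mul_one]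

omit [Finite C] in
theorem T0_le : P.D ⊔ P.Tw ≤ P.O := sup_le P.DO fun x hx => (P.Tw_le x hx).1

omit [Finite C] in
theorem K0_le : P.D ⊔ P.Nw ≤ P.D ⊔ P.Tw := sup_le_sup_left P.NT _

/-- Every element of `O` is a fixed one times an element of `D`. -/
theorem split {o : C} (ho : o ∈ P.O) : ∃ r d, o = r * d ∧ d ∈ P.D ∧ r ∈ P.O ∧ P.w * r * P.w = r :=
  split_fixed P.odd P.w2 ho P.DO (P.w_D o ho)

omit [Finite C] in
theorem K0_norm {o : C} (ho : o ∈ P.O) {x : C} (hx : x ∈ P.D ⊔ P.Nw) : o * x * o⁻¹ ∈ P.D ⊔ P.Nw :=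
  P.sup_stab P.Nw_stab (P.O_fix o ho _) hx

omit [Finite C] in
theorem sup_eq_mul {B : Subgroup C} (hB : B ≤ P.O) {x : C} (hx : x ∈ P.D ⊔ B) :
    ∃ d ∈ P.D, ∃ b ∈ B, x = d * b := by
  let S : Subgroup C :=
    { carrier := {x | ∃ d ∈ P.D, ∃ b ∈ B, x = d * b}
      one_mem' := ⟨1, one_mem _, 1, one_mem _, (one_mul 1).symm⟩
      mul_mem' := by
        rintro _ _ ⟨d, hd, b, hb, rfl⟩ ⟨d', hd', b', hb', rfl⟩
        exact ⟨d * (b * d' * b⁻¹), mul_mem hd (P.D_norm b (hB hb) d' hd'), b * b', mul_mem hb hb', by group⟩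
      inv_mem' := by
        rintro _ ⟨d, hd, b, hb, rfl⟩
        exact ⟨b⁻¹ * d⁻¹ * b, by simpa using P.D_norm b⁻¹ (inv_mem (hB hb)) _ (inv_mem hd), b⁻¹, inv_mem hb,
          by group⟩ }
  exact (show P.D ⊔ B ≤ S from sup_le (fun d hd => ⟨d, hd, 1, one_mem _, (mul_one d).symm⟩)
    fun b hb => ⟨1, one_mem _, b, hb, (one_mul b).symm⟩) hx

omit [Finite C] in
theorem fix_sup {B : Subgroup C} (hB : P.Nw ≤ B) (hBT : B ≤ P.Tw) {x : C} (hx : x ∈ P.D ⊔ B)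
    (hxw : P.w * x * P.w = x) : x ∈ B := by
  obtain ⟨d, hd, b, hb, rfl⟩ := P.sup_eq_mul (fun y hy => (P.Tw_le y (hBT hy)).1) hx
  refine mul_mem (hB (P.fix_D d hd ?_)) hb
  have hbw := (P.Tw_le b (hBT hb)).2
  have h1 : P.w * d * P.w * (P.w * b * P.w) = d * b := by
    calc _ = P.w * d * (P.w * P.w) * b * P.w := by simp only [mul_assoc]
      _ = P.w * (d * b) * P.w := by rw [P.w2, mul_one]; simp only [mul_assoc]
      _ = _ := hxw
  rw [hbw] at h1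
  exact mul_right_cancel h1

omit [Finite C] in
theorem fix_mem {x : C} (hx : x ∈ P.D ⊔ P.Nw) (hxw : P.w * x * P.w = x) : x ∈ P.Nw :=
  P.fix_sup le_rfl P.NT hx hxw

omit [Finite C] in
theorem fix_memT {x : C} (hx : x ∈ P.D ⊔ P.Tw) (hxw : P.w * x * P.w = x) : x ∈ P.Tw :=
  P.fix_sup P.NT le_rfl hx hxw

/-- The data of `CoreLines`. -/
noncomputable def toLine : LineData C Ω A where
  O := P.O
  normal := P.normal
  odd := P.odd
  inf := P.inf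
  pt := P.pt
  pt_ne := P.pt_ne
  pt_inj := P.pt_inj
  pt_all := P.pt_all
  nontriv := P.nontriv
  two_tf := P.two_tf
  two := P.two
  O_fix := P.O_fix
  K := P.K
  T := P.T
  KT R := Subgroup.map_mono P.K0_le
  TO R x hx := by
    have h := P.normal.conj_mem _ (P.T0_le ((P.mem_T (P.rep_spec R)).1 hx)) (P.rep R)
    rwa [show P.rep R * ((P.rep R)⁻¹ * x * P.rep R) * (P.rep R)⁻¹ = x by group] at h
  K_norm R o ho x hx := by
    rw [P.mem_K (P.rep_spec R)] at hx ⊢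
    have ho' : (P.rep R)⁻¹ * o * P.rep R ∈ P.O := by simpa using P.normal.conj_mem o ho (P.rep R)⁻¹
    convert P.K0_norm ho' hx using 1
    group
  comm_mem R x hx y hy := by
    rw [P.mem_T (P.rep_spec R)]
    have hconj : ∀ o ∈ P.O, (P.rep R)⁻¹ * o * P.rep R ∈ P.O := fun o ho => by
      simpa using P.normal.conj_mem o ho (P.rep R)⁻¹
    obtain ⟨a, d, e1, hd, ha, haw⟩ := P.split (hconj x hx)
    obtain ⟨b, d', e2, hd', hb, hbw⟩ := P.split (hconj y hy)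
    have hkey : (P.rep R)⁻¹ * (x * y * x⁻¹ * y⁻¹) * P.rep R = (a * b * a⁻¹ * b⁻¹) *
        ((b * a * (b⁻¹ * d * b) * (b * a)⁻¹) * (b * a * d' * (b * a)⁻¹) * (b * a * d⁻¹ * (b * a)⁻¹) *
          (b * d'⁻¹ * b⁻¹)) := by
      calc _ = (a * d) * (b * d') * (a * d)⁻¹ * (b * d')⁻¹ := by rw [← e1, ← e2]; group
        _ = _ := by group
    rw [hkey]
    refine mul_mem (Subgroup.mem_sup_right (P.Tw_comm a ha b hb haw hbw)) (Subgroup.mem_sup_left ?_)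
    exact mul_mem (mul_mem (mul_mem (P.D_norm _ (mul_mem hb ha) _ (by simpa using P.D_norm _ (inv_mem hb) d hd))
      (P.D_norm _ (mul_mem hb ha) _ hd')) (P.D_norm _ (mul_mem hb ha) _ (inv_mem hd)))
      (P.D_norm _ hb _ (inv_mem hd'))
  cyc R := by
    obtain ⟨g, hg, hgen⟩ := P.Tw_cyc
    refine ⟨P.rep R * g * (P.rep R)⁻¹, ⟨g, Subgroup.mem_sup_right hg, rfl⟩, fun x hx => ?_⟩
    have hx' := (P.mem_T (P.rep_spec R)).1 hx
    obtain ⟨r, d, e1, hd, hr, hrw⟩ := P.split (P.T0_le hx')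
    have hrT : r ∈ P.D ⊔ P.Tw := by
      have h := mul_mem hx' (inv_mem (Subgroup.mem_sup_left (T := P.Tw) hd))
      rwa [e1, mul_inv_cancel_right] at h
    have hrTw : r ∈ P.Tw := P.fix_memT hrT hrw
    obtain ⟨n, hn⟩ := hgen r hrTw
    refine ⟨n, (P.mem_K (P.rep_spec R)).2 ?_⟩
    rw [conj_zpow, show (P.rep R)⁻¹ * ((P.rep R * g ^ n * (P.rep R)⁻¹)⁻¹ * x) * P.rep R =
      (g ^ n)⁻¹ * ((P.rep R)⁻¹ * x * P.rep R) by group, e1, ← mul_assoc]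
    exact mul_mem (Subgroup.mem_sup_right hn) (Subgroup.mem_sup_left hd)
  K_conj c R x hx := by
    rw [P.mem_K (P.rep_spec R)] at hx
    rw [P.mem_K (show (c * P.rep R) • P.pt 0 = c • R by rw [mul_smul, P.rep_spec])]
    convert hx using 1
    group
  T_conj c R x hx := by
    rw [P.mem_T (P.rep_spec R)] at hx
    rw [P.mem_T (show (c * P.rep R) • P.pt 0 = c • R by rw [mul_smul, P.rep_spec])]
    convert hx using 1
    group
  faith x hx := by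
    have h0 := P.mem_K_zero.1 (hx (P.pt 0))
    refine P.faith x (P.T0_le (P.K0_le h0)) fun c => ?_
    have h1 := (P.mem_K (d := c⁻¹) rfl).1 (hx (c⁻¹ • P.pt 0))
    rwa [inv_inv] at h1
  cent R x hx hc := by
    rw [P.mem_T (P.rep_spec R)]
    have hx' : (P.rep R)⁻¹ * x * P.rep R ∈ P.O := by simpa using P.normal.conj_mem x hx (P.rep R)⁻¹
    obtain ⟨r, d, e1, hd, hr, hrw⟩ := P.split hx'
    rw [e1]
    refine mul_mem (Subgroup.mem_sup_right ?_) (Subgroup.mem_sup_left hd)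
    refine P.Tw_cent r hr hrw fun r' hr' hr'w => ?_
    have h1 := (P.mem_K (P.rep_spec R)).1 (hc _ (P.normal.conj_mem r' hr' (P.rep R)))
    rw [show (P.rep R)⁻¹ * (x * (P.rep R * r' * (P.rep R)⁻¹) * x⁻¹ * (P.rep R * r' * (P.rep R)⁻¹)⁻¹) * P.rep R =
      (P.rep R)⁻¹ * x * P.rep R * r' * ((P.rep R)⁻¹ * x * P.rep R)⁻¹ * r'⁻¹ by group, e1,
      show r * d * r' * (r * d)⁻¹ * r'⁻¹ = (r * (d * r' * d⁻¹ * r'⁻¹) * r⁻¹) * (r * r' * r⁻¹ * r'⁻¹) by group] at h1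
    have h2 : r * (d * r' * d⁻¹ * r'⁻¹) * r⁻¹ ∈ P.D ⊔ P.Nw := Subgroup.mem_sup_left (P.D_norm r hr _ (by
      rw [show d * r' * d⁻¹ * r'⁻¹ = d * (r' * d⁻¹ * r'⁻¹) by group]
      exact mul_mem hd (P.D_norm r' hr' _ (inv_mem hd))))
    have h3 := (Subgroup.mul_mem_cancel_left _ h2).1 h1
    exact P.fix_mem h3 (by
      rw [show P.w * (r * r' * r⁻¹ * r'⁻¹) * P.w = (P.w * r * P.w) * (P.w * r' * P.w) * (P.w * r * P.w)⁻¹ *
        (P.w * r' * P.w)⁻¹ by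
          have hwi : P.w⁻¹ = P.w := inv_eq_of_mul_eq_one_right P.w2
          simp only [mul_inv_rev, hwi, mul_assoc]
          simp only [← mul_assoc P.w P.w, P.w2, one_mul], hrw, hr'w])
  tr a := by
    obtain ⟨g, h1, h2, h3⟩ := P.tr a
    exact ⟨g, h1, h2, fun y hy => (P.mem_K P.s_zero).2 (Subgroup.mem_sup_left (h3 y hy))⟩
  w := P.w
  w2 := P.w2
  w_inf := P.w_inf
  w_pt := P.w_pt
  w_triv_inf y hy := (P.mem_K P.s_zero).2 (Subgroup.mem_sup_left (P.w_D' y hy))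
  w_triv_zero y hy := P.mem_K_zero.2 (Subgroup.mem_sup_left (by
    have h1 := P.w_D y⁻¹ (inv_mem hy)
    rw [inv_inv] at h1
    have hwi : P.w⁻¹ = P.w := inv_eq_of_mul_eq_one_right P.w2
    convert inv_mem h1 using 1
    simp only [mul_inv_rev, inv_inv, hwi, mul_assoc]))
  kact k hk := by
    obtain ⟨o, ho, d, rfl, hd⟩ := P.kact k hk
    refine ⟨o, ho, fun R y hy => ?_⟩
    have hy' := (P.mem_T (P.rep_spec R)).1 hy
    rw [P.mem_K (P.rep_spec R)]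
    set r := P.rep R with hr
    set z := r⁻¹ * y * r with hz
    have hdK : ∀ x ∈ P.D ⊔ P.Tw, r⁻¹ * d * r * x * (r⁻¹ * d * r)⁻¹ * x⁻¹ ∈ P.D ⊔ P.Nw := by
      intro x hx
      obtain ⟨a, b, e1, hb, ha, haw⟩ := P.split (P.T0_le hx)
      have haT : a ∈ P.Tw := by
        have h := mul_mem hx (inv_mem (Subgroup.mem_sup_left (T := P.Tw) hb))
        rw [e1, mul_inv_cancel_right] at h
        exact P.fix_memT h haw
      set e := r⁻¹ * d * r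
      have hefix : e • P.pt 0 = P.pt 0 := by
        have h := hk R
        rw [← P.rep_spec R, ← hr, mul_smul, P.O_fix o ho] at h
        rw [show e = r⁻¹ * d * r from rfl, mul_smul, mul_smul, h, inv_smul_smul]
      rw [e1, show e * (a * b) * e⁻¹ * (a * b)⁻¹ =
        (e * a * e⁻¹ * a⁻¹) * (a * (e * b * e⁻¹ * b⁻¹) * a⁻¹) by group]
      exact mul_mem (hd r a haT)
        (P.K0_norm ha (Subgroup.mem_sup_left (mul_mem (P.D_stab e hefix b hb) (inv_mem hb))))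
    have ho' : r⁻¹ * o * r ∈ P.O := by simpa using P.normal.conj_mem o ho r⁻¹
    convert P.K0_norm ho' (hdK z hy') using 1
    rw [hz]
    group
  cl l hl := by
    rintro ⟨y, hy, hyl, hy0⟩
    have hT : ∀ x : C, (∀ d : C, d * x * d⁻¹ ∈ P.D ⊔ P.Tw) ↔ ∀ R, x ∈ P.T R := fun x =>
      ⟨fun h R => (P.mem_T (P.rep_spec R)).2 (by simpa using h (P.rep R)⁻¹), fun h d => by
        simpa using (P.mem_T (d := d⁻¹) rfl).1 (h (d⁻¹ • P.pt 0))⟩
    obtain ⟨c, μ, h1, h2, h3, h4, h5, h6, h7⟩ :=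
      P.cl l hl ⟨y, (hT y).2 hy, hyl, fun h => hy0 (P.mem_K_zero.2 h)⟩
    refine ⟨c, μ, h1, h2, h3, h4, h5, fun x hx hxl => ?_, fun x hx hxl hwx hx0 hxi => ?_⟩
    · obtain ⟨a, b⟩ := h6 x ((hT x).2 hx) hxl
      exact ⟨(P.mem_K P.s_zero).2 a, P.mem_K_zero.2 b⟩
    · exact h7 x ((hT x).2 hx) hxl hwx (P.mem_K_zero.1 hx0) ((P.mem_K P.s_zero).1 hxi)

/-- The involution centralises `O`. -/
theorem w_comm [Fintype A] {o : C} (ho : o ∈ P.O) : P.w * o = o * P.w := P.toLine.w_comm ho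

/-- `Nw` is trivial. -/
theorem Nw_eq_bot [Fintype A] {x : C} (hx : x ∈ P.Nw) : x = 1 :=
  P.toLine.eq_one (P := P.pt 0) (P.mem_K_zero.2 (Subgroup.mem_sup_right hx))

end PointData

end Cfsg.Agent.Invol.AbgOrder
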