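import Cfsg.Agent.Lib.Invol.AbgOrder.CoreAdapt
import Cfsg.Agent.Lib.Invol.AbgOrder.CoreCoord
import Cfsg.Agent.Lib.Invol.AbgOrder.CoreDich

/-!
# The subgroups of the odd core attached to the points

`D P` is generated by the commutators of `O(z)` with the involutions fixing `P`, `Nw` is the kernel of `C_O(w)` at
`w`.  The hypothesis `LinBudget` is what the degree budget gives in the linear case; it puts the fixed part of one of
`D 0`, `D ∞` into `Nw`, and then there is a homomorphism `red` from `O(z)` to the image of `C_O(w)` at `w`.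
-/

set_option autoImplicit false
set_option linter.style.haveILetI false

namespace Cfsg.Agent.Invol.AbgOrder

open Matrix Cfsg.Agent.Classical
open Cfsg.Agent.Invol.BrauerL3 (Tbl scal mem_scal)

universe u v w x

variable {G : Type u} [Group G] [Finite G] {F : Type v} [Field F] [Fintype F] {H : Type w} [Group H] {K : Type x}
  [CommGroup K] {Q : ℤ}

omit [Finite G] in
/-- Field components commute. -/
theorem Shape0.fldX_conj {X : Type u} [Group X] [Finite X] (s : Shape0 X F H K Q) (a b : X) :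
    s.fldX (a * b * a⁻¹) = s.fldX b := by
  obtain ⟨h, i, e1⟩ := s.gen a
  obtain ⟨h', j, e2⟩ := s.gen b
  rw [map_mul, map_mul, map_inv, e1, e2, s.fldX_form, s.fldX_form, ← pow_add, add_comm, pow_add,
    mul_inv_cancel_right]

omit [Finite G] in
/-- A field part moves the commutator it makes with the split torus element. -/
theorem Frame.field_moves {X : Type u} [Group X] [Finite X] {s : Shape0 X F H K Q} (k : Frame s)
    {t : Matrix.SpecialLinearGroup (Fin 2) F} (ht : s.M.ι t = s.M.T.D (k.g, k.g⁻¹))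
    (hto : orderOf t = (Q - 1).natAbs) {v : X} (hv : Commute v k.u) (hne : s.fldX v ≠ 1) :
    v * (v * s.π (s.M.ι t) * v⁻¹ * (s.π (s.M.ι t))⁻¹) * v⁻¹ ≠ v * s.π (s.M.ι t) * v⁻¹ * (s.π (s.M.ι t))⁻¹ := by
  set T := s.π (s.M.ι t) with hT
  set ct := v * T * v⁻¹ * T⁻¹ with hct
  intro h
  have hTu : Commute T k.u := by rw [hT, ht]; exact k.commute_u _
  have hTf : s.fldX T = 1 := s.fldX_π _
  have hconjT : v * T * v⁻¹ = ct * T := by rw [hct, inv_mul_cancel_right]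
  have hiter : ∀ i : ℕ, v ^ i * T * (v ^ i)⁻¹ = ct ^ i * T := by
    intro i
    induction i with
    | zero => simp
    | succ i ih =>
      calc v ^ (i + 1) * T * (v ^ (i + 1))⁻¹ = v * (v ^ i * T * (v ^ i)⁻¹) * v⁻¹ := by rw [pow_succ']; group
        _ = (v * ct * v⁻¹) ^ i * (v * T * v⁻¹) := by rw [ih, conj_pow]; group
        _ = ct ^ (i + 1) * T := by
          rw [h, hconjT, pow_succ]
          exact (mul_assoc _ _ _).symm
  set N := orderOf s.σ with hN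
  have h1 : ct ^ N = 1 := by
    have h2 := hiter N
    rw [k.torus_comm (hv.pow_left N) (by rw [map_pow, s.fldX_pow]) hTu hTf, mul_inv_cancel_right] at h2
    exact mul_eq_right.1 h2.symm
  have hctT : Commute ct T := by
    have hvT : Commute (v * T * v⁻¹) k.u := by
      have := hTu.map (MulAut.conj v).toMonoidHom
      simpa [MulAut.conj_apply, hv.eq] using this
    have hvTf : s.fldX (v * T * v⁻¹) = 1 := by rw [s.fldX_conj, hTf]
    exact (show Commute (v * T * v⁻¹) T from k.torus_comm hvT hvTf hTu hTf).mul_left (Commute.refl T).inv_left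
  have hfix : v * T ^ N * v⁻¹ = T ^ N := by rw [← conj_pow, hconjT, hctT.mul_pow, h1, one_mul]
  obtain ⟨p, hp⟩ := CharP.exists F
  obtain ⟨n, hpp, hn⟩ := FiniteField.card F p
  haveI := Fact.mk hpp
  have hp2 : p ≠ 2 := fun e => by
    have h2 : Odd (Fintype.card F) := by rw [← k.hQ]; exact Int.natAbs_odd.2 s.M.T.odd
    rw [hn, e, Nat.odd_pow_iff n.ne_zero] at h2
    exact absurd h2 (by decide)
  have hFn : N ≤ n := by
    rw [hN, ← s.orderOf_f]
    exact Nat.le_of_dvd n.pos (s.orderOf_f_dvd hn).1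
  obtain ⟨M, hM, hbig⟩ := k.exists_big hn hp2 hFn s.σ_odd.pos hne
  have h3 := hbig (T ^ N) (hTu.pow_left N) (by rw [map_pow, hTf, one_pow]) hfix
  rw [← pow_mul] at h3
  refine hM (dvd_mul_of_dvd_right ?_ 2)
  rw [← hto, ← orderOf_injective (s.π.comp s.M.ι) s.π_ι_inj t]
  exact orderOf_dvd_of_pow_eq_one h3

namespace PreSetup

variable (c : PreSetup G F H K Q)


/-- `w` in `C(z)`. -/
def wC : ↥(Subgroup.centralizer ({c.z} : Set G)) := ⟨c.w, mem_cent.2 c.wz⟩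

/-- The image at `w`. -/
noncomputable def kap (x : ↥(Subgroup.centralizer ({c.z} : Set G))) : ↥(Subgroup.centralizer ({c.z} : Set G)) ⧸ (Cfsg.oddCore ↥(Subgroup.centralizer ({c.z} : Set G))) := c.q (c.g⁻¹ * (x : G) * c.g)

/-- `C(z, w)`. -/
def MW : Subgroup ↥(Subgroup.centralizer ({c.z} : Set G)) := Subgroup.centralizer ({c.wC} : Set ↥(Subgroup.centralizer ({c.z} : Set G)))

/-- The kernel at `w` inside the core. -/
def Nw : Subgroup ↥(Subgroup.centralizer ({c.z} : Set G)) := (Cfsg.oddCore ↥(Subgroup.centralizer ({c.z} : Set G))) ⊓ (coreAt c.w).comap (Subgroup.centralizer ({c.z} : Set G)).subtype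

/-- The kernel at `z w` inside the core. -/
def Nu : Subgroup ↥(Subgroup.centralizer ({c.z} : Set G)) := (Cfsg.oddCore ↥(Subgroup.centralizer ({c.z} : Set G))) ⊓ (coreAt (c.z * c.w)).comap (Subgroup.centralizer ({c.z} : Set G)).subtype

/-- The commutators of the core with `w`. -/
def Cw : Subgroup ↥(Subgroup.centralizer ({c.z} : Set G)) := Subgroup.closure {y | ∃ o ∈ (Cfsg.oddCore ↥(Subgroup.centralizer ({c.z} : Set G))), o⁻¹ * (c.wC * o * c.wC) = y}

include c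

theorem mem_MW {x : ↥(Subgroup.centralizer ({c.z} : Set G))} : x ∈ c.MW ↔ (x : G) * c.w = c.w * x := by
  rw [MW, Subgroup.mem_centralizer_singleton_iff]
  exact Subtype.ext_iff

theorem wC_sq : c.wC * c.wC = 1 := Subtype.ext c.w2

theorem fix_iff {x : ↥(Subgroup.centralizer ({c.z} : Set G))} : c.wC * x * c.wC = x ↔ x ∈ c.MW := by
  have hwi : c.wC⁻¹ = c.wC := inv_eq_of_mul_eq_one_right c.wC_sq
  rw [MW, Subgroup.mem_centralizer_singleton_iff]
  constructor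
  · intro h
    conv_lhs => rw [← h]
    rw [mul_assoc, c.wC_sq, mul_one]
  · intro h
    rw [mul_assoc, h, ← mul_assoc, c.wC_sq, one_mul]

theorem O_normal : (Cfsg.oddCore ↥(Subgroup.centralizer ({c.z} : Set G))).Normal := oddCore_normal _

theorem O_conj' (d : ↥(Subgroup.centralizer ({c.z} : Set G))) {x : ↥(Subgroup.centralizer ({c.z} : Set G))} (hx : x ∈ (Cfsg.oddCore ↥(Subgroup.centralizer ({c.z} : Set G)))) : d * x * d⁻¹ ∈ (Cfsg.oddCore ↥(Subgroup.centralizer ({c.z} : Set G))) := c.O_normal.conj_mem x hx d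

theorem O_odd : Odd (Nat.card (Cfsg.oddCore ↥(Subgroup.centralizer ({c.z} : Set G)))) := Nat.coprime_two_right.1 Grp.pPrimeCore_coprime

theorem coe_core {x : ↥(Subgroup.centralizer ({c.z} : Set G))} : (x : G) ∈ coreAt c.z ↔ x ∈ (Cfsg.oddCore ↥(Subgroup.centralizer ({c.z} : Set G))) :=
  ⟨fun ⟨y, hy, e⟩ => (Subtype.ext e : y = x) ▸ hy, fun h => ⟨x, h, rfl⟩⟩

theorem gz' : c.g⁻¹ * c.w * c.g = c.z := by rw [← c.gz]; group

theorem gw' : c.g⁻¹ * c.z * c.g = c.z * c.w := by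
  have h : c.g * (c.z * c.w) * c.g⁻¹ = c.z := by
    rw [show c.g * (c.z * c.w) * c.g⁻¹ = c.g * c.z * c.g⁻¹ * (c.g * c.w * c.g⁻¹) by group, c.gz, c.gw,
      ← mul_assoc, c.wz, mul_assoc, c.w2, mul_one]
  conv_lhs => rw [← h]
  group

theorem M_inv {a : G} (h1 : a * c.z = c.z * a) (h2 : a * c.w = c.w * a) :
    c.g⁻¹ * a * c.g * c.z = c.z * (c.g⁻¹ * a * c.g) ∧ c.g⁻¹ * a * c.g * c.w = c.w * (c.g⁻¹ * a * c.g) := by
  have hz : c.g⁻¹ * a * c.g * c.z = c.z * (c.g⁻¹ * a * c.g) := by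
    have := ((show Commute a c.w from h2).map (MulAut.conj c.g⁻¹).toMonoidHom).eq
    simpa only [MulEquiv.coe_toMonoidHom, MulAut.conj_apply, inv_inv, c.gz'] using this
  refine ⟨hz, ?_⟩
  have h3 := ((show Commute a c.z from h1).map (MulAut.conj c.g⁻¹).toMonoidHom).eq
  simp only [MulEquiv.coe_toMonoidHom, MulAut.conj_apply, inv_inv, c.gw'] at h3
  have h4 : Commute (c.g⁻¹ * a * c.g) (c.z⁻¹ * (c.z * c.w)) :=
    (show Commute _ c.z from hz).inv_right.mul_right h3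
  rwa [inv_mul_cancel_left] at h4

theorem gM {x : ↥(Subgroup.centralizer ({c.z} : Set G))} (hx : x ∈ c.MW) :
    c.g⁻¹ * (x : G) * c.g * c.z = c.z * (c.g⁻¹ * (x : G) * c.g) ∧
      c.g⁻¹ * (x : G) * c.g * c.w = c.w * (c.g⁻¹ * (x : G) * c.g) :=
  c.M_inv (mem_cent.1 x.2) (c.mem_MW.1 hx)

theorem kap_mul {x y : ↥(Subgroup.centralizer ({c.z} : Set G))} (hx : x ∈ c.MW) (hy : y ∈ c.MW) : c.kap (x * y) = c.kap x * c.kap y := by
  rw [kap, kap, kap, ← c.q_mul (c.gM hx).1 (c.gM hy).1, Subgroup.coe_mul]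
  congr 1
  group

theorem kap_inv {x : ↥(Subgroup.centralizer ({c.z} : Set G))} (hx : x ∈ c.MW) : c.kap x⁻¹ = (c.kap x)⁻¹ := by
  rw [kap, kap, ← c.q_inv (c.gM hx).1, Subgroup.coe_inv]
  congr 1
  group

theorem kap_conj {x y : ↥(Subgroup.centralizer ({c.z} : Set G))} (hx : x ∈ c.MW) (hy : y ∈ c.MW) :
    c.kap (x * y * x⁻¹) = c.kap x * c.kap y * (c.kap x)⁻¹ := by
  rw [c.kap_mul (mul_mem hx hy) (inv_mem hx), c.kap_mul hx hy, c.kap_inv hx]

theorem kap_comm_u {x : ↥(Subgroup.centralizer ({c.z} : Set G))} (hx : x ∈ c.MW) : Commute (c.kap x) c.k.u :=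
  c.comm_u (c.gM hx).1 (c.gM hx).2

theorem kap_eq_one {x : ↥(Subgroup.centralizer ({c.z} : Set G))} (hx : x ∈ c.MW) : c.kap x = 1 ↔ (x : G) ∈ coreAt c.w := by
  constructor
  · intro h
    have h1 := coreAt_conj c.g c.z (c.mem_O.2 ⟨(c.gM hx).1, h⟩)
    rwa [c.gz, show c.g * (c.g⁻¹ * (x : G) * c.g) * c.g⁻¹ = (x : G) by group] at h1
  · intro h
    have h1 := coreAt_conj c.g⁻¹ c.w h
    rw [inv_inv, c.gz'] at h1
    exact (c.mem_O.1 h1).2

theorem kap_odd {x : ↥(Subgroup.centralizer ({c.z} : Set G))} (hx : x ∈ c.MW) (hxO : x ∈ (Cfsg.oddCore ↥(Subgroup.centralizer ({c.z} : Set G)))) : Odd (orderOf (c.kap x)) := by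
  refine (coreAt_odd (c.coe_core.2 hxO)).of_dvd_nat ?_
  rw [kap, c.q_mk (c.gM hx).1]
  refine (orderOf_map_dvd (QuotientGroup.mk' _) _).trans (dvd_of_eq ?_)
  rw [Subgroup.orderOf_mk]
  simpa using MulEquiv.orderOf_eq (MulAut.conj c.g⁻¹) (x : G)

theorem Nw_le {x : ↥(Subgroup.centralizer ({c.z} : Set G))} (hx : x ∈ c.Nw) : x ∈ (Cfsg.oddCore ↥(Subgroup.centralizer ({c.z} : Set G))) ∧ x ∈ c.MW :=
  ⟨hx.1, c.mem_MW.2 (coreAt_comm hx.2)⟩

theorem mem_Nw {x : ↥(Subgroup.centralizer ({c.z} : Set G))} : x ∈ c.Nw ↔ x ∈ (Cfsg.oddCore ↥(Subgroup.centralizer ({c.z} : Set G))) ∧ x ∈ c.MW ∧ c.kap x = 1 :=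
  ⟨fun h => ⟨h.1, (c.Nw_le h).2, (c.kap_eq_one (c.Nw_le h).2).2 h.2⟩,
    fun h => ⟨h.1, (c.kap_eq_one h.2.1).1 h.2.2⟩⟩

theorem Nw_conj {m : ↥(Subgroup.centralizer ({c.z} : Set G))} (hm : m ∈ c.MW) {x : ↥(Subgroup.centralizer ({c.z} : Set G))} (hx : x ∈ c.Nw) : m * x * m⁻¹ ∈ c.Nw := by
  obtain ⟨h1, h2, h3⟩ := c.mem_Nw.1 hx
  exact c.mem_Nw.2 ⟨c.O_conj' m h1, mul_mem (mul_mem hm h2) (inv_mem hm), by
    rw [c.kap_conj hm h2, h3, mul_one, mul_inv_cancel]⟩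

theorem kap_one : c.kap 1 = 1 := (c.kap_eq_one (one_mem _)).2 (one_mem _)

/-- The elements of `C(z, w)` without field part at `w`. -/
def TT : Subgroup ↥(Subgroup.centralizer ({c.z} : Set G)) where
  carrier := {x | x ∈ c.MW ∧ c.s.fldX (c.kap x) = 1}
  one_mem' := ⟨one_mem _, by rw [c.kap_one, map_one]⟩
  mul_mem' := fun {a b} ha hb => ⟨mul_mem ha.1 hb.1, by rw [c.kap_mul ha.1 hb.1, map_mul, ha.2, hb.2, one_mul]⟩
  inv_mem' := fun {a} ha => ⟨inv_mem ha.1, by rw [c.kap_inv ha.1, map_inv, ha.2, inv_one]⟩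

/-- The part of the core without field part at `w`. -/
def Tw : Subgroup ↥(Subgroup.centralizer ({c.z} : Set G)) := (Cfsg.oddCore ↥(Subgroup.centralizer ({c.z} : Set G))) ⊓ c.TT

theorem mem_Tw {x : ↥(Subgroup.centralizer ({c.z} : Set G))} : x ∈ c.Tw ↔ x ∈ (Cfsg.oddCore ↥(Subgroup.centralizer ({c.z} : Set G))) ∧ x ∈ c.MW ∧ c.s.fldX (c.kap x) = 1 := Iff.rfl

theorem Nw_le_Tw : c.Nw ≤ c.Tw := fun x hx => by
  obtain ⟨h1, h2, h3⟩ := c.mem_Nw.1 hx
  exact c.mem_Tw.2 ⟨h1, h2, by rw [h3, map_one]⟩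

theorem q_fix {x : ↥(Subgroup.centralizer ({c.z} : Set G))} (hx : x ∈ (Cfsg.oddCore ↥(Subgroup.centralizer ({c.z} : Set G)))) : (QuotientGroup.mk x : ↥(Subgroup.centralizer ({c.z} : Set G)) ⧸ (Cfsg.oddCore ↥(Subgroup.centralizer ({c.z} : Set G)))) = 1 := (QuotientGroup.eq_one_iff x).2 hx

variable (co : Coord c.k)

/-- The action on the points. -/
noncomputable def actC : ↥(Subgroup.centralizer ({c.z} : Set G)) →* MulAut (Matrix.SpecialLinearGroup (Fin 2) F) :=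
  co.act.comp (QuotientGroup.mk' (Cfsg.oddCore ↥(Subgroup.centralizer ({c.z} : Set G))))

/-- The commutators with the involutions fixing a point. -/
noncomputable def DP (P : P1 F) : Subgroup ↥(Subgroup.centralizer ({c.z} : Set G)) :=
  Subgroup.closure {y | ∃ o ∈ (Cfsg.oddCore ↥(Subgroup.centralizer ({c.z} : Set G))), ∃ i : ↥(Subgroup.centralizer ({c.z} : Set G)), i * i = 1 ∧ c.actC co i • P = P ∧ o⁻¹ * (i * o * i) = y}

theorem actC_O {x : ↥(Subgroup.centralizer ({c.z} : Set G))} (hx : x ∈ (Cfsg.oddCore ↥(Subgroup.centralizer ({c.z} : Set G)))) : c.actC co x = 1 := by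
  show co.act (QuotientGroup.mk x) = 1
  rw [c.q_fix hx, map_one]

theorem actC_w : c.actC co c.wC = inn (gdiag 1 (-1)) := by
  show co.act (QuotientGroup.mk c.wC) = _
  rw [show QuotientGroup.mk c.wC = c.k.u from c.hw, co.act_u]

theorem w_fix : c.actC co c.wC • infP F = infP F ∧ c.actC co c.wC • ptP (0 : F) = ptP 0 := by
  rw [c.actC_w co]
  exact ⟨gdiag_inf _ _, by rw [gdiag_pt, mul_zero]⟩

theorem w_pt (x : F) : c.actC co c.wC • ptP x = ptP (-x) := by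
  rw [c.actC_w co, gdiag_pt]
  simp

theorem actC_coe (x : ↥(Subgroup.centralizer ({c.z} : Set G))) : c.actC co x = co.act (c.q (x : G)) := by
  rw [c.q_coe]
  rfl

theorem MW_fix {x : ↥(Subgroup.centralizer ({c.z} : Set G))} (hx : x ∈ c.MW) :
    c.actC co x • infP F = infP F ∧ c.actC co x • ptP (0 : F) = ptP 0 := by
  rw [c.actC_coe co]
  exact co.fix_of_comm (c.comm_u (mem_cent.1 x.2) (c.mem_MW.1 hx))

theorem DP_le (P : P1 F) : c.DP co P ≤ (Cfsg.oddCore ↥(Subgroup.centralizer ({c.z} : Set G))) := by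
  refine (Subgroup.closure_le _).2 ?_
  rintro _ ⟨o, ho, i, hi, -, rfl⟩
  refine mul_mem (inv_mem ho) ?_
  have h := c.O_conj' i ho
  rwa [inv_eq_of_mul_eq_one_right hi] at h

theorem DP_gen {P : P1 F} {o i : ↥(Subgroup.centralizer ({c.z} : Set G))} (ho : o ∈ (Cfsg.oddCore ↥(Subgroup.centralizer ({c.z} : Set G)))) (hi : i * i = 1) (hP : c.actC co i • P = P) :
    o⁻¹ * (i * o * i) ∈ c.DP co P := Subgroup.subset_closure ⟨o, ho, i, hi, hP, rfl⟩

theorem DP_conj (d : ↥(Subgroup.centralizer ({c.z} : Set G))) {P : P1 F} {x : ↥(Subgroup.centralizer ({c.z} : Set G))} (hx : x ∈ c.DP co P) :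
    d * x * d⁻¹ ∈ c.DP co (c.actC co d • P) := by
  refine (show c.DP co P ≤ (c.DP co (c.actC co d • P)).comap (MulAut.conj d).toMonoidHom from ?_) hx
  refine (Subgroup.closure_le _).2 ?_
  rintro _ ⟨o, ho, i, hi, hP, rfl⟩
  show d * (o⁻¹ * (i * o * i)) * d⁻¹ ∈ c.DP co (c.actC co d • P)
  rw [show d * (o⁻¹ * (i * o * i)) * d⁻¹ = (d * o * d⁻¹)⁻¹ * ((d * i * d⁻¹) * (d * o * d⁻¹) * (d * i * d⁻¹)) by group]
  refine c.DP_gen co (c.O_conj' d ho) (by rw [conj_mul, hi, mul_one, mul_inv_cancel]) ?_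
  rw [map_mul, map_mul, map_inv, mul_smul, mul_smul, inv_smul_smul, hP]

theorem DP_stab {d : ↥(Subgroup.centralizer ({c.z} : Set G))} {P : P1 F} (hd : c.actC co d • P = P) {x : ↥(Subgroup.centralizer ({c.z} : Set G))} (hx : x ∈ c.DP co P) :
    d * x * d⁻¹ ∈ c.DP co P := hd ▸ c.DP_conj co d hx

theorem DP_norm {o : ↥(Subgroup.centralizer ({c.z} : Set G))} (ho : o ∈ (Cfsg.oddCore ↥(Subgroup.centralizer ({c.z} : Set G)))) {P : P1 F} {x : ↥(Subgroup.centralizer ({c.z} : Set G))} (hx : x ∈ c.DP co P) : o * x * o⁻¹ ∈ c.DP co P :=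
  c.DP_stab co (by rw [c.actC_O co ho, one_smul]) hx

omit co in
theorem Cw_le : c.Cw ≤ (Cfsg.oddCore ↥(Subgroup.centralizer ({c.z} : Set G))) := by
  refine (Subgroup.closure_le _).2 ?_
  rintro _ ⟨o, ho, rfl⟩
  refine mul_mem (inv_mem ho) ?_
  have h := c.O_conj' c.wC ho
  rwa [inv_eq_of_mul_eq_one_right c.wC_sq] at h

/-- What the budget gives, linear case. -/
structure LinBudget (c : PreSetup G F H K Q) (co : Coord c.k) : Prop where
  hd : ∀ x ∈ c.DP co (ptP 0), ∀ y ∈ c.DP co (infP F), x ∈ c.MW → y ∈ c.MW → ∀ e : F, e ≠ 0 →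
    co.act (c.kap x) • ptP e = ptP e ∨ co.act (c.kap y) • ptP e = ptP e
  faith : ∀ x ∈ (Cfsg.oddCore ↥(Subgroup.centralizer ({c.z} : Set G))), (∀ d : ↥(Subgroup.centralizer ({c.z} : Set G)), d * x * d⁻¹ ∈ c.Cw ⊔ c.Nw) → (∀ d : ↥(Subgroup.centralizer ({c.z} : Set G)), d * x * d⁻¹ ∈ c.Cw ⊔ c.Nu) → x = 1

/-- The fixed part of `D 0` or of `D ∞` acts trivially at `w`. -/
theorem exists_coord (hb : LinBudget c co) :
    ∃ co' : Coord c.k, ∀ r ∈ c.DP co' (ptP 0), r ∈ c.MW → r ∈ c.Nw := by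
  have hMTw : ∀ m ∈ c.MW, ∀ x ∈ c.TT, m * x * m⁻¹ ∈ c.TT := fun m hm x hx =>
    ⟨mul_mem (mul_mem hm hx.1) (inv_mem hm), by rw [c.kap_conj hm hx.1, c.s.fldX_conj, hx.2]⟩
  obtain ⟨b, hbz, hbw, hbq⟩ := c.exists_lift_w (y := c.s.π (c.s.M.ι co.t)) (co.ht ▸ c.k.commute_u _)
  have hgb : c.g * b * c.g⁻¹ * c.z = c.z * (c.g * b * c.g⁻¹) ∧ c.g * b * c.g⁻¹ * c.w = c.w * (c.g * b * c.g⁻¹) := by
    have h1 : Commute b (c.z * c.w) := (show Commute b c.z from hbz).mul_right hbw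
    have h2 := (h1.map (MulAut.conj c.g).toMonoidHom).eq
    have h3 := ((show Commute b c.z from hbz).map (MulAut.conj c.g).toMonoidHom).eq
    simp only [MulEquiv.coe_toMonoidHom, MulAut.conj_apply, c.gz] at h3
    simp only [MulEquiv.coe_toMonoidHom, MulAut.conj_apply] at h2
    rw [show c.g * (c.z * c.w) * c.g⁻¹ = c.z by rw [← c.gw']; group] at h2
    exact ⟨h2, h3⟩
  let m : ↥(Subgroup.centralizer ({c.z} : Set G)) := ⟨c.g * b * c.g⁻¹, mem_cent.2 hgb.1⟩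
  have hm : m ∈ c.MW := c.mem_MW.2 hgb.2
  have hkm : c.kap m = c.s.π (c.s.M.ι co.t) := by
    rw [← hbq, kap]
    show c.q (c.g⁻¹ * (c.g * b * c.g⁻¹) * c.g) = c.q b
    congr 1
    group
  rcases dichotomy (X := c.DP co (ptP 0) ⊓ c.MW) (Y := c.DP co (infP F) ⊓ c.MW) (N := c.Nw) (T := c.TT) (M := c.MW)
      (fun m hm x hx => c.Nw_conj hm hx)
      (fun m hm x hx => Subgroup.mem_inf.2 ⟨c.DP_stab co (c.MW_fix co hm).2 hx.1,
        mul_mem (mul_mem hm (show x ∈ c.MW from hx.2)) (inv_mem hm)⟩)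
      (fun m hm x hx => Subgroup.mem_inf.2 ⟨c.DP_stab co (c.MW_fix co hm).1 hx.1,
        mul_mem (mul_mem hm (show x ∈ c.MW from hx.2)) (inv_mem hm)⟩)
      hMTw inf_le_right inf_le_right (fun x hx => hx.1)
      (fun x hx _ hxT => by
        refine ⟨m, ⟨hm, by rw [hkm, c.s.fldX_π]⟩, fun hN => ?_⟩
        have h1 := (c.mem_Nw.1 hN).2.2
        have hc : x * m * x⁻¹ * m⁻¹ ∈ c.MW := mul_mem (mul_mem (mul_mem hx hm) (inv_mem hx)) (inv_mem hm)
        rw [c.kap_mul (mul_mem (mul_mem hx hc) (inv_mem hx)) (inv_mem hc), c.kap_inv hc, c.kap_conj hx hc,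
          mul_inv_eq_one, c.kap_mul (mul_mem (mul_mem hx hm) (inv_mem hx)) (inv_mem hm), c.kap_inv hm,
          c.kap_conj hx hm, hkm] at h1
        exact c.k.field_moves co.ht co.hto (c.kap_comm_u hx) (fun e => hxT ⟨hx, e⟩) h1)
      (fun x hx y hy hxT hyT => by
        rcases hb.hd x hx.1 y hy.1 hx.2 hy.2 1 one_ne_zero with h | h
        · exact Or.inl (c.mem_Nw.2 ⟨c.DP_le co _ hx.1, hx.2, co.eq_one_of_fix (c.kap_comm_u hx.2) hxT.2
            (c.kap_odd hx.2 (c.DP_le co _ hx.1)) one_ne_zero h⟩)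
        · exact Or.inr (c.mem_Nw.2 ⟨c.DP_le co _ hy.1, hy.2, co.eq_one_of_fix (c.kap_comm_u hy.2) hyT.2
            (c.kap_odd hy.2 (c.DP_le co _ hy.1)) one_ne_zero h⟩)) with hc | hc
  · exact ⟨co, fun r hr hrw => hc ⟨hr, hrw⟩⟩
  · refine ⟨co.swap, fun r hr hrw => hc ⟨?_, hrw⟩⟩
    refine (show c.DP co.swap (ptP 0) ≤ c.DP co (infP F) from ?_) hr
    refine (Subgroup.closure_le _).2 ?_
    rintro _ ⟨o, ho, i, hi, hP, rfl⟩
    refine c.DP_gen co ho hi ?_
    change co.swap.act _ • _ = _ at hP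
    rw [co.swap_act, mul_smul, mul_smul, gJ_zero] at hP
    have h := congrArg (fun P => inn (gJ : GL (Fin 2) F) • P) hP
    simp only [gJ_zero, ← mul_smul, ← map_mul, ← mul_assoc, gJ_sq, map_one, one_mul] at h
    exact h

end PreSetup

end Cfsg.Agent.Invol.AbgOrder
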