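import Cfsg.Agent.Lib.Invol.AbgOrder.BudgetData
import Cfsg.Agent.Lib.Invol.AbgOrder.BudgetPoints
import Cfsg.Agent.Lib.Invol.AbgOrder.CorePoints

/-!
# The budget data at the centraliser of an involution, linear case

`σ` is the quotient by the odd core, `gl` is the model composed with a conjugation moving `diag(1, -1)` to the
table's involution.  Only the degree of the character and its values at `z` times odd elements are needed: the
values at `w` and `z w` times the fixed part of the core come back to these by conjugation.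
-/

set_option autoImplicit false
set_option linter.unusedSectionVars false
set_option linter.style.haveILetI false

open scoped Classical

namespace Cfsg.Agent.Invol.AbgOrder

open Cfsg Cfsg.Agent.Char Matrix Cfsg.Agent.Classical
open Cfsg.Agent.Block.SL2Char (vSS vSS_one)
open Cfsg.Agent.Invol.BrauerL3 (Tbl scal)

universe u v x

variable {G : Type u} [Group G] [Fintype G] {F : Type v} [Field F] [Fintype F] [DecidableEq F] {K : Type x}
  [CommGroup K] {Q : ℤ}

local notation "SL₂" => Matrix.SpecialLinearGroup (Fin 2) F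

/-- Any model inside `GL(2, q)` has the usual `SL(2, q)`. -/
theorem Mdl.range_ι (M : Mdl F (GL (Fin 2) F) K Q) (h4 : 4 ≤ Fintype.card F) :
    M.ι.range = (Matrix.SpecialLinearGroup.toGL : SL₂ →* GL (Fin 2) F).range := by
  have hperf : commutator SL₂ = ⊤ := SL_commutator_eq_top fun _ => exists_sq_ne_one_field h4
  refine Subgroup.eq_of_le_of_card_ge ?_ ?_
  · have h1 : M.ι.range ≤ commutator (GL (Fin 2) F) := by
      rw [MonoidHom.range_eq_map, ← hperf, commutator_def, Subgroup.map_commutator]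
      exact Subgroup.commutator_mono le_top le_top
    intro g hg
    have hd : Matrix.GeneralLinearGroup.det g = 1 :=
      MonoidHom.mem_ker.1
        (Abelianization.commutator_subset_ker (Matrix.GeneralLinearGroup.det (n := Fin 2) (R := F)) (h1 hg))
    exact ⟨⟨(g : Matrix (Fin 2) (Fin 2) F), congrArg Units.val hd⟩, Units.ext rfl⟩
  · rw [← Nat.card_congr (MonoidHom.ofInjective M.ι_inj).toEquiv,
      ← Nat.card_congr (MonoidHom.ofInjective Matrix.SpecialLinearGroup.toGL_injective).toEquiv]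

namespace PreSetup

variable (c : PreSetup G F (GL (Fin 2) F) K Q)
include c

/-- `C(z)`. -/
abbrev Cz' : Subgroup G := Subgroup.centralizer ({c.z} : Set G)

/-- The image at `z w`. -/
noncomputable def kapu (x : ↥c.Cz') : ↥c.Cz' ⧸ Cfsg.oddCore ↥c.Cz' := c.q (c.g * (x : G) * c.g⁻¹)

theorem q_at_one : c.q 1 = 1 := (c.q_mk (by simp)).trans rfl

theorem two_ne : (2 : F) ≠ 0 := BrauerL3.two_ne_zero_of_odd c.odd_card

theorem neg_one_eq : (-1 : GL (Fin 2) F) = c.s.M.T.D (c.k.e, c.k.e) := by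
  have h2 := c.two_ne
  have ho : orderOf (-1 : GL (Fin 2) F) = 2 := orderOf_eq_prime (by rw [sq, neg_mul_neg, one_mul]) fun h => by
    have h' := congrArg (fun g : GL (Fin 2) F => (g : Matrix (Fin 2) (Fin 2) F) 0 0) h
    simp at h'
    exact h2 (by linear_combination -h')
  refine (c.s.M.T.invol_cases c.k.e_uniq ho).resolve_right fun h => ?_
  obtain ⟨y, hy⟩ := isConj_iff.1 h.symm
  have hc : c.s.M.T.D (1, c.k.e) = (-1 : GL (Fin 2) F) := by
    rw [← hy, mul_neg, mul_one, neg_mul, mul_inv_cancel]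
  have hmem : c.s.M.T.D (1, c.k.e) ∈ Subgroup.center (GL (Fin 2) F) := by
    rw [hc, Subgroup.mem_center_iff]
    intro g
    rw [mul_neg, neg_mul, mul_one, one_mul]
  obtain ⟨d, hd⟩ := c.s.M.T.central _ hmem
  have h' := c.s.M.T.D_inj hd
  exact c.k.e_ne ((congrArg Prod.snd h').trans (congrArg Prod.fst h').symm)

theorem exists_conj_w0 : ∃ a : GL (Fin 2) F, a * w0 F * a⁻¹ = c.s.M.T.D (1, c.k.e) := by
  have h2 := c.two_ne
  have ho : orderOf (w0 F) = 2 := orderOf_eq_prime (by rw [sq, BData.w0_sq]) (BData.w0_ne h2).1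
  rcases c.s.M.T.invol_cases c.k.e_uniq ho with h | h
  · exact absurd (h.trans c.neg_one_eq.symm) (BData.w0_ne h2).2
  · exact isConj_iff.1 h.symm

/-- `GL(2, q)` over the image, with `diag(1, -1)` over `w`. -/
noncomputable def glc : GL (Fin 2) F →* ↥c.Cz' ⧸ Cfsg.oddCore ↥c.Cz' :=
  c.s.π.comp (MulAut.conj c.exists_conj_w0.choose).toMonoidHom

theorem glc_apply (g : GL (Fin 2) F) :
    c.glc g = c.s.π (c.exists_conj_w0.choose * g * c.exists_conj_w0.choose⁻¹) := rfl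

theorem glc_range : c.glc.range = c.s.π.range := by
  rw [glc, MonoidHom.range_comp, MonoidHom.range_eq_top.2 (MulEquiv.surjective _), ← MonoidHom.range_eq_map]

theorem glc_central : c.glc.ker ≤ Subgroup.center (GL (Fin 2) F) := by
  intro g hg
  have h : c.exists_conj_w0.choose * g * c.exists_conj_w0.choose⁻¹ ∈ Subgroup.center (GL (Fin 2) F) :=
    c.s.ker_central hg
  have e : g = c.exists_conj_w0.choose⁻¹ * (c.exists_conj_w0.choose * g * c.exists_conj_w0.choose⁻¹) *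
      c.exists_conj_w0.choose := by group
  rw [e, Subgroup.mem_center_iff.1 h c.exists_conj_w0.choose⁻¹, inv_mul_cancel_right]
  exact h

theorem glc_odd : Odd (Nat.card c.glc.ker) := by
  rw [show Nat.card c.glc.ker = Nat.card c.s.π.ker from Nat.card_congr
    ((MulAut.conj c.exists_conj_w0.choose).toEquiv.subtypeEquiv fun g => Iff.rfl)]
  exact c.s.ker_odd

theorem glc_toGL_range :
    (Matrix.SpecialLinearGroup.toGL : SL₂ →* GL (Fin 2) F).range.map c.glc = (c.s.π.comp c.s.M.ι).range := by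
  have hn : (Matrix.SpecialLinearGroup.toGL : SL₂ →* GL (Fin 2) F).range.Normal := ⟨by
    rintro _ ⟨t, rfl⟩ g
    exact ⟨inn g t, inn_toGL_eq g t⟩⟩
  rw [MonoidHom.range_comp, c.s.M.range_ι c.four_le]
  refine le_antisymm ?_ ?_
  · rintro _ ⟨g, hg, rfl⟩
    exact ⟨_, hn.conj_mem g hg c.exists_conj_w0.choose, rfl⟩
  · rintro _ ⟨g, hg, rfl⟩
    refine ⟨_, hn.conj_mem g hg c.exists_conj_w0.choose⁻¹, ?_⟩
    rw [c.glc_apply]
    exact congrArg c.s.π (by group)

theorem glc_sl_normal :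
    ((Matrix.SpecialLinearGroup.toGL : SL₂ →* GL (Fin 2) F).range.map c.glc).Normal := by
  rw [c.glc_toGL_range]
  exact ⟨by
    rintro _ ⟨t, rfl⟩ y
    exact ⟨c.s.act₂ y t, (c.s.conj_ι y t).symm⟩⟩

theorem glc_neg_one : c.glc (-1) = c.q c.z := by
  rw [← c.zc_eq, c.glc_apply, mul_neg, mul_one, neg_mul, mul_inv_cancel, c.neg_one_eq]
  rfl

theorem glc_w0 : c.glc (w0 F) = c.k.u := by
  rw [c.glc_apply, c.exists_conj_w0.choose_spec]
  rfl

theorem refSt_one : c.s.refSt 1 = (Fintype.card F : ℂ) := by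
  rw [← map_one c.s.eSL, c.s.refSt_eSL, vSS_one]

theorem refSt_up {a : F} (ha : a ≠ 0) :
    c.s.refSt (c.glc (Matrix.SpecialLinearGroup.toGL (Grp.SL2.up a))) = 0 := by
  have hmem : c.glc (Matrix.SpecialLinearGroup.toGL (Grp.SL2.up a)) ∈ (c.s.π.comp c.s.M.ι).range := by
    rw [← c.glc_toGL_range]
    exact Subgroup.mem_map_of_mem _ ⟨_, rfl⟩
  obtain ⟨t, ht⟩ := hmem
  rw [← ht, show (c.s.π.comp c.s.M.ι) t = c.s.eSL t from rfl, c.s.refSt_eSL]
  have hq : Grp.SL2.up a ^ Fintype.card F = 1 := by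
    rw [Grp.SL2.up_pow, Nat.cast_card_eq_zero, zero_mul, Grp.SL2.up_zero]
  refine vSS_of_pow_card c.odd_card (c.s.π_ι_inj ?_) fun h => ?_
  · rw [map_pow, ht, map_one, ← map_pow, ← map_pow, hq, map_one, map_one]
  · rw [h, map_one] at ht
    have hk := c.glc_central (MonoidHom.mem_ker.2 ht.symm)
    rw [Subgroup.mem_center_iff] at hk
    have h1 := congrArg (fun g : GL (Fin 2) F => (g : Matrix (Fin 2) (Fin 2) F) 0 1) (hk (w0 F))
    simp [w0, Grp.SL2.up, Matrix.SpecialLinearGroup.toGL, Matrix.mul_apply, Fin.sum_univ_two] at h1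
    exact mul_ne_zero c.two_ne ha (by linear_combination h1)

theorem gwz : c.g * (c.z * c.w) * c.g⁻¹ = c.z := by
  rw [show c.g * (c.z * c.w) * c.g⁻¹ = c.g * c.z * c.g⁻¹ * (c.g * c.w * c.g⁻¹) by group, c.gz, c.gw, ← mul_assoc,
    c.wz, mul_assoc, c.w2, mul_one]

theorem gMu {y : ↥c.Cz'} (hy : y ∈ c.MW) :
    c.g * (y : G) * c.g⁻¹ * c.z = c.z * (c.g * (y : G) * c.g⁻¹) ∧
      c.g * (y : G) * c.g⁻¹ * c.w = c.w * (c.g * (y : G) * c.g⁻¹) := by
  have h1 : Commute (y : G) c.z := mem_cent.1 y.2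
  have h2 : Commute (y : G) c.w := c.mem_MW.1 hy
  have h3 := ((h1.mul_right h2).map (MulAut.conj c.g).toMonoidHom).eq
  have h4 := (h1.map (MulAut.conj c.g).toMonoidHom).eq
  simp only [MulEquiv.coe_toMonoidHom, MulAut.conj_apply, c.gwz] at h3
  simp only [MulEquiv.coe_toMonoidHom, MulAut.conj_apply, c.gz] at h4
  exact ⟨h3, h4⟩

/-- The quotient map. -/
noncomputable def σC : ↥c.Cz' →* ↥c.Cz' ⧸ Cfsg.oddCore ↥c.Cz' := QuotientGroup.mk' (Cfsg.oddCore ↥c.Cz')

theorem mem_R {y : ↥c.Cz'} (hy : y ∈ c.σC.ker ⊓ Subgroup.centralizer ({c.wC} : Set ↥c.Cz')) :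
    y ∈ Cfsg.oddCore ↥c.Cz' ∧ y ∈ c.MW :=
  ⟨by simpa [σC] using hy.1, hy.2⟩

theorem σC_z : c.σC ⟨c.z, mem_cent.2 rfl⟩ = c.q c.z := (c.q_mk rfl).symm

/-- The budget data. -/
noncomputable def bdata (hQ : Q = (Fintype.card F : ℤ)) (χ : G → ℂ) (hχ : IsCharacter G χ) {d₁ : ℕ} (hd : 0 < d₁)
    (hdeg : χ 1 = (Fintype.card F : ℂ) ^ 2 + (Fintype.card F : ℂ) - 2 + d₁)
    (hcol : ∀ v : ↥c.Cz', Odd (orderOf v) →
      χ (c.z * (v : G)) = ((d₁ : ℂ) - 1) + c.s.refSt (QuotientGroup.mk v)) :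
    BData ↥c.Cz' (↥c.Cz' ⧸ Cfsg.oddCore ↥c.Cz') F where
  z := ⟨c.z, mem_cent.2 rfl⟩
  w := c.wC
  σ := c.σC
  surj := QuotientGroup.mk'_surjective _
  ker_odd := by
    rw [σC, QuotientGroup.ker_mk']
    exact c.O_odd
  z_central y := Subtype.ext (mem_cent.1 y.2)
  z2 := Subtype.ext c.z2
  w2 := c.wC_sq
  gl := c.glc
  gl_central := c.glc_central
  gl_odd := c.glc_odd
  gz := c.glc_neg_one.trans c.σC_z.symm
  gw := c.glc_w0.trans c.hw.symm
  range_normal := by
    rw [c.glc_range]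
    exact c.s.range_normal
  sl_normal := c.glc_sl_normal
  char2 := c.two_ne
  χ y := χ y
  isChar := IsChar.res hχ c.Cz'
  d1 := d₁
  d1_pos := hd
  degree := hdeg
  κ y := ((d₁ : ℂ) - 1) + c.s.refSt y
  χ_odd v hv := hcol v hv
  κ_one := by
    rw [c.refSt_one]
    ring
  κ_up a ha := by rw [c.refSt_up ha, add_zero]
  πw := fun y : ↥(c.σC.ker ⊓ Subgroup.centralizer ({c.wC} : Set ↥c.Cz')) => c.s.refSt (c.kap (y : ↥c.Cz')) - 1
  πu := fun y : ↥(c.σC.ker ⊓ Subgroup.centralizer ({c.wC} : Set ↥c.Cz')) => c.s.refSt (c.kapu (y : ↥c.Cz')) - 1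
  πw_char := by
    obtain ⟨co⟩ := Coord.nonempty c.k hQ c.four_le
    let ρ : ↥(c.σC.ker ⊓ Subgroup.centralizer ({c.wC} : Set ↥c.Cz')) →* ↥c.Cz' ⧸ Cfsg.oddCore ↥c.Cz' :=
      { toFun := fun y => c.kap y
        map_one' := c.kap_one
        map_mul' := fun a b => c.kap_mul (c.mem_R a.2).2 (c.mem_R b.2).2 }
    obtain ⟨π₀, h, -, h'⟩ := co.exists_points_char ρ fun y => co.fix_of_comm (c.kap_comm_u (c.mem_R y.2).2)
    rwa [show π₀ = fun y : ↥(c.σC.ker ⊓ Subgroup.centralizer ({c.wC} : Set ↥c.Cz')) =>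
      c.s.refSt (c.kap (y : ↥c.Cz')) - 1 from funext h'] at h
  πu_char := by
    obtain ⟨co⟩ := Coord.nonempty c.k hQ c.four_le
    let ρ : ↥(c.σC.ker ⊓ Subgroup.centralizer ({c.wC} : Set ↥c.Cz')) →* ↥c.Cz' ⧸ Cfsg.oddCore ↥c.Cz' :=
      { toFun := fun y => c.kapu y
        map_one' := by simp [kapu, c.q_at_one]
        map_mul' := fun a b => by
          rw [kapu, kapu, kapu, ← c.q_mul (c.gMu (c.mem_R a.2).2).1 (c.gMu (c.mem_R b.2).2).1]
          simp [mul_assoc] }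
    obtain ⟨π₀, h, -, h'⟩ := co.exists_points_char ρ fun y =>
      co.fix_of_comm (c.comm_u (c.gMu (c.mem_R y.2).2).1 (c.gMu (c.mem_R y.2).2).2)
    rwa [show π₀ = fun y : ↥(c.σC.ker ⊓ Subgroup.centralizer ({c.wC} : Set ↥c.Cz')) =>
      c.s.refSt (c.kapu (y : ↥c.Cz')) - 1 from funext h'] at h
  πw_one := by rw [OneMemClass.coe_one, c.kap_one, c.refSt_one]
  πu_one := by
    rw [OneMemClass.coe_one, kapu, OneMemClass.coe_one, mul_one, mul_inv_cancel, c.q_at_one, c.refSt_one]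
  χ_w y := by
    obtain ⟨hO, hM⟩ := c.mem_R y.2
    have ho : Odd (orderOf ((y : ↥c.Cz') : G)) := coreAt_odd (c.coe_core.2 hO)
    have hz := (c.gM hM).1
    have hv : Odd (orderOf (⟨c.g⁻¹ * ((y : ↥c.Cz') : G) * c.g, mem_cent.2 hz⟩ : ↥c.Cz')) := by
      rw [Subgroup.orderOf_mk]
      convert ho using 1
      simpa using MulEquiv.orderOf_eq (MulAut.conj c.g⁻¹) ((y : ↥c.Cz') : G)
    have h := hcol _ hv
    have e : c.g⁻¹ * (c.w * ((y : ↥c.Cz') : G)) * c.g = c.z * (c.g⁻¹ * ((y : ↥c.Cz') : G) * c.g) := by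
      rw [← c.gz']
      group
    have hc := (Char.IsChar.classFun hχ) (c.w * ((y : ↥c.Cz') : G)) c.g⁻¹
    rw [inv_inv, e] at hc
    show χ (c.w * ((y : ↥c.Cz') : G)) = _
    rw [← hc, h, kap, c.q_mk hz]
    ring
  χ_zw y := by
    obtain ⟨hO, hM⟩ := c.mem_R y.2
    have ho : Odd (orderOf ((y : ↥c.Cz') : G)) := coreAt_odd (c.coe_core.2 hO)
    have hz := (c.gMu hM).1
    have hv : Odd (orderOf (⟨c.g * ((y : ↥c.Cz') : G) * c.g⁻¹, mem_cent.2 hz⟩ : ↥c.Cz')) := by
      rw [Subgroup.orderOf_mk]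
      convert ho using 1
      simpa using MulEquiv.orderOf_eq (MulAut.conj c.g) ((y : ↥c.Cz') : G)
    have h := hcol _ hv
    have e : c.g * (c.z * c.w * ((y : ↥c.Cz') : G)) * c.g⁻¹ = c.z * (c.g * ((y : ↥c.Cz') : G) * c.g⁻¹) := by
      conv_rhs => arg 1; rw [← c.gwz]
      group
    have hc := (Char.IsChar.classFun hχ) (c.z * c.w * ((y : ↥c.Cz') : G)) c.g
    rw [e] at hc
    show χ (c.z * c.w * ((y : ↥c.Cz') : G)) = _
    rw [← hc, h, kapu, c.q_mk hz]
    ring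

end PreSetup

end Cfsg.Agent.Invol.AbgOrder
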