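import Cfsg.Agent.Lib.Char.Basic

/-!
# The elements commuting with every endomorphism commuting with a subgroup

A subgroup above `O` consists of such elements exactly when the character has the same norm on it as on `O`.
-/

set_option autoImplicit false
set_option linter.unusedSectionVars false

namespace Cfsg.Agent.Invol.AbgOrder

open Cfsg Cfsg.Agent.Char Module

universe u v

variable {K : Type u} [Group K] {V : Type v} [AddCommGroup V] [Module ℂ V] [FiniteDimensional ℂ V]
  (ρ : Representation ℂ K V)

/-- The elements commuting with all endomorphisms commuting with `O`. -/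
def bicomm (O : Subgroup K) : Subgroup K where
  carrier := {g | ∀ T : V →ₗ[ℂ] V, (∀ o ∈ O, T * ρ o = ρ o * T) → T * ρ g = ρ g * T}
  one_mem' := fun T _ => by rw [map_one, mul_one, one_mul]
  mul_mem' := fun {a b} ha hb T hT => by rw [map_mul, ← mul_assoc, ha T hT, mul_assoc, hb T hT, mul_assoc]
  inv_mem' := fun {a} ha T hT => by
    have h := congrArg (fun X => ρ a⁻¹ * X * ρ a⁻¹) (ha T hT)
    simp only [mul_assoc, ← map_mul, mul_inv_cancel, map_one, mul_one] at h
    rw [← mul_assoc (ρ a⁻¹), ← map_mul, inv_mul_cancel, map_one, one_mul] at h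
    exact h.symm

theorem mem_bicomm {O : Subgroup K} {g : K} :
    g ∈ bicomm ρ O ↔ ∀ T : V →ₗ[ℂ] V, (∀ o ∈ O, T * ρ o = ρ o * T) → T * ρ g = ρ g * T := Iff.rfl

theorem le_bicomm (O : Subgroup K) : O ≤ bicomm ρ O := fun _ ho _ hT => hT _ ho

variable [Fintype K] {O H : Subgroup K} [Fintype O] [Fintype H]

/-- The comparison of norms. -/
theorem le_bicomm_iff (hOH : O ≤ H) :
    H ≤ bicomm ρ O ↔ classInner (fun x : H => ρ.character x) (fun x : H => ρ.character x) =
      classInner (fun x : O => ρ.character x) (fun x : O => ρ.character x) := by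
  set ρH : Representation ℂ H V := MonoidHom.comp ρ H.subtype
  set ρO : Representation ℂ O V := MonoidHom.comp ρ O.subtype
  have eH : classInner (fun x : H => ρ.character x) (fun x : H => ρ.character x) =
      (finrank ℂ (Representation.IntertwiningMap ρH ρH) : ℂ) := classInner_character ρH ρH
  have eO : classInner (fun x : O => ρ.character x) (fun x : O => ρ.character x) =
      (finrank ℂ (Representation.IntertwiningMap ρO ρO) : ℂ) := classInner_character ρO ρO
  let r : Representation.IntertwiningMap ρH ρH →ₗ[ℂ] Representation.IntertwiningMap ρO ρO :=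
    { toFun := fun f => ⟨f.toLinearMap, fun o => f.isIntertwining' ⟨o, hOH o.2⟩⟩
      map_add' := fun f g => rfl
      map_smul' := fun c f => rfl }
  have hr : Function.Injective r := fun f g h => by
    ext x
    exact congrArg (fun q : Representation.IntertwiningMap ρO ρO => q.toLinearMap x) h
  rw [eH, eO, Nat.cast_inj]
  constructor
  · intro hle
    exact LinearEquiv.finrank_eq (LinearEquiv.ofBijective r ⟨hr, fun g => by
      refine ⟨⟨g.toLinearMap, fun x => hle x.2 g.toLinearMap fun o ho => g.isIntertwining' ⟨o, ho⟩⟩, rfl⟩⟩)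
  · intro heq x hx T hT
    haveI : FiniteDimensional ℂ (Representation.IntertwiningMap ρH ρH) := inferInstance
    obtain ⟨f, hf⟩ := (LinearMap.injective_iff_surjective_of_finrank_eq_finrank heq).1 hr
      ⟨T, fun o => hT o o.2⟩
    have hfT : f.toLinearMap = T := congrArg Representation.IntertwiningMap.toLinearMap hf
    rw [← hfT]
    exact f.isIntertwining' ⟨x, hx⟩

end Cfsg.Agent.Invol.AbgOrder
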