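import Cfsg.Agent.Lib.Invol.AbgOrder.BudgetW
import Cfsg.Agent.Lib.Invol.AbgOrder.BudgetNorm

/-!
# A moved character with `2 q` involutions has all of them through one point

Otherwise the involutions act on the block inside the image of the kernel, so do the unipotent elements, on both
halves alike, and so does `-1`, which separates the halves.
-/

set_option autoImplicit false
set_option linter.unusedSectionVars false
set_option linter.style.haveILetI false

namespace Cfsg.Agent.Invol.AbgOrder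

open Cfsg Cfsg.Agent.Char Matrix Cfsg.Agent.Grp
open scoped ComplexConjugate

universe u v t

/-- Inner products are those of the pull back along an injective homomorphism, on its range. -/
theorem classInner_range {G K : Type*} [Group G] [Group K] [Fintype G] (f : G →* K) [Fintype f.range]
    (hf : Function.Injective f) (a b : K → ℂ) :
    classInner (fun x : f.range => a x) (fun x : f.range => b x) = classInner (fun g => a (f g)) (fun g => b (f g)) := by
  rw [classInner, classInner, ← Nat.card_congr (MonoidHom.ofInjective hf).toEquiv]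
  congr 1
  exact (Fintype.sum_equiv (MonoidHom.ofInjective hf).toEquiv _ _ fun _ => rfl).symm

namespace BData

variable {C : Type u} [Group C] [Fintype C] {X : Type v} [Group X] {F : Type t} [Field F] [Fintype F]
  (B : BData C X F) [Fintype B.O] [Fintype B.Gw]

local notation "SL₂" => Matrix.SpecialLinearGroup (Fin 2) F
local notation "tgl" => (Matrix.SpecialLinearGroup.toGL (n := Fin 2) (R := F))

theorem isoPart_z (θ : B.O → ℂ) (g : C) :
    isoPart B.χ θ (B.z * g) = isoPart B.χp θ g - isoPart B.χm θ g := by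
  have h : ∀ o : B.O, B.χ ((o : C) * (B.z * g)) = B.χp ((o : C) * g) - B.χm ((o : C) * g) := fun o => by
    rw [B.χp_sub_χm, ← mul_assoc, B.z_central (o : C), mul_assoc]
  simp only [isoPart, h, mul_sub, Finset.sum_sub_distrib]

theorem isoPart_χ (θ : B.O → ℂ) (g : C) : isoPart B.χ θ g = isoPart B.χp θ g + isoPart B.χm θ g := by
  conv_lhs => rw [← B.χp_add_χm]
  exact isoPart_sum _ _ _ _

/-- The excluded case of equality. -/
theorem no_products {θ : IrrCharacter B.O} (hne : (θ : B.O → ℂ) ≠ fun _ => 1) {n : ℕ} (hn : B.m θ = n) (hn0 : n ≠ 0)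
    (hnorm : ∀ i ∈ Jset (B.Kgl (θ : B.O → ℂ)), ∃ c : C, B.σ (c * B.w * c⁻¹) = B.gl i ∧
      classInner (fun g : B.Gw => isoPart B.χp (Char.conjN B.O c (θ : B.O → ℂ)) g)
        (fun g : B.Gw => isoPart B.χp (Char.conjN B.O c (θ : B.O → ℂ)) g) = (n : ℂ) ^ 2)
    (hprod : ∀ u ∈ unip ((B.Kgl (θ : B.O → ℂ)).comap tgl), u ≠ 1 →
      ∃ i ∈ Jset (B.Kgl (θ : B.O → ℂ)), ∃ j ∈ Jset (B.Kgl (θ : B.O → ℂ)), tgl u = i * j)
    (hneg : (-1 : SL₂) ∈ Subgroup.closure (unip ((B.Kgl (θ : B.O → ℂ)).comap tgl))) : False := by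
  classical
  set K := inertia B.O (θ : B.O → ℂ) with hK
  haveI : Fintype K := Fintype.ofFinite _
  have hOK : B.O ≤ K := le_inertia B.O (IsIrr.classFun θ.2)
  set OK := B.O.subgroupOf K with hOKdef
  haveI : Fintype OK := Fintype.ofFinite _
  set eO := Subgroup.subgroupOfEquivOfLe hOK with heO
  obtain ⟨np, ρp, hρp⟩ := isChar_isoPart B.isChar_χp θ.2 hOK le_rfl
  obtain ⟨nn, ρ, hρ⟩ := isChar_isoPart B.isChar θ.2 hOK le_rfl
  have hvp : ∀ x : K, ρp.character x = isoPart B.χp (θ : B.O → ℂ) x := fun x => congrFun hρp x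
  have hv : ∀ x : K, ρ.character x = isoPart B.χ (θ : B.O → ℂ) x := fun x => congrFun hρ x
  have hpO : ∀ o : B.O, isoPart B.χp (θ : B.O → ℂ) o = (n : ℂ) * (θ : B.O → ℂ) o := fun o => by
    rw [isoPart_res B.isChar_χp θ.2, B.χp_inner_ne hne, hn]
  have hmO : ∀ o : B.O, isoPart B.χm (θ : B.O → ℂ) o = (n : ℂ) * (θ : B.O → ℂ) o := fun o => by
    rw [isoPart_res B.isChar_χm θ.2, B.m_spec, hn]
  have hnOp : classInner (fun x : OK => ρp.character x) (fun x : OK => ρp.character x) = (n : ℂ) ^ 2 := by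
    have h1 : classInner (fun o : B.O => (n : ℂ) * (θ : B.O → ℂ) o) (fun o : B.O => (n : ℂ) * (θ : B.O → ℂ) o) =
        (n : ℂ) ^ 2 := by
      rw [show (fun o : B.O => (n : ℂ) * (θ : B.O → ℂ) o) = (n : ℂ) • (θ : B.O → ℂ) from rfl, classInner_smul_left,
        classInner_smul_right, classInner_self_irr θ.2, Complex.conj_natCast, mul_one, sq]
    rw [← h1, classInner, classInner, Nat.card_congr eO.toEquiv]
    congr 1
    refine Fintype.sum_equiv eO.toEquiv _ _ fun x => ?_
    have h2 : ρp.character x = (n : ℂ) * (θ : B.O → ℂ) (eO x) := (hvp x).trans (hpO (eO x))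
    show _ = (n : ℂ) * (θ : B.O → ℂ) (eO x) * conj ((n : ℂ) * (θ : B.O → ℂ) (eO x))
    rw [h2]
  have hnO : classInner (fun x : OK => ρ.character x) (fun x : OK => ρ.character x) = 4 * (n : ℂ) ^ 2 := by
    have h1 : ∀ x : OK, ρ.character x = 2 * ρp.character x := fun x => by
      rw [hv, hvp, B.isoPart_χ]
      show isoPart B.χp (θ : B.O → ℂ) (eO x) + isoPart B.χm (θ : B.O → ℂ) (eO x) =
        2 * isoPart B.χp (θ : B.O → ℂ) (eO x)
      rw [hpO, hmO]
      ring
    rw [show (fun x : OK => ρ.character x) = (2 : ℂ) • (fun x : OK => ρp.character x) from funext h1,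
      classInner_smul_left, classInner_smul_right, hnOp, map_ofNat]
    ring
  -- lifts of involutions
  have hlift : ∀ i ∈ Jset (B.Kgl (θ : B.O → ℂ)), ∀ x : K, B.σ (x : C) = B.gl i → x ∈ bicomm ρp OK := by
    intro i hi x hx
    obtain ⟨c, hc, hcn⟩ := hnorm i hi
    have hcK : ∀ g : B.Gw, c * (g : C) * c⁻¹ ∈ K := by
      intro g
      have hj : c * B.w * c⁻¹ ∈ K := (mem_inertia B.O).2 ((B.mem_Kgl (IsIrr.classFun θ.2) hc).1 hi.1)
      rcases B.image_cases g.2 with e | e
      · exact hOK ((inferInstance : B.O.Normal).conj_mem _ (MonoidHom.mem_ker.2 e) c)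
      · have h1 : (g : C) * B.w⁻¹ ∈ B.O := by rw [MonoidHom.mem_ker, map_mul, map_inv, e, mul_inv_cancel]
        rw [show c * (g : C) * c⁻¹ = c * ((g : C) * B.w⁻¹) * c⁻¹ * (c * B.w * c⁻¹) by group]
        exact K.mul_mem (hOK ((inferInstance : B.O.Normal).conj_mem _ h1 c)) hj
    let f : B.Gw →* K := ((MulAut.conj c).toMonoidHom.comp B.Gw.subtype).codRestrict K hcK
    have hf : Function.Injective f := fun a b h =>
      Subtype.ext ((MulAut.conj c).injective (congrArg Subtype.val h))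
    haveI : Fintype f.range := Fintype.ofFinite _
    have hOf : OK ≤ f.range := by
      intro y hy
      refine ⟨⟨c⁻¹ * (y : C) * c, B.O_le_Gw ?_⟩, Subtype.ext ?_⟩
      · simpa using (inferInstance : B.O.Normal).conj_mem _ hy c⁻¹
      · show c * (c⁻¹ * (y : C) * c) * c⁻¹ = y
        group
    have hle : f.range ≤ bicomm ρp OK := by
      rw [le_bicomm_iff ρp hOf, hnOp, classInner_range f hf, ← hcn]
      have e : ∀ g : B.Gw, ρp.character (f g) = isoPart B.χp (Char.conjN B.O c (θ : B.O → ℂ)) g := fun g => by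
        rw [hvp, isoPart_conj (IsChar.classFun B.isChar_χp)]
        rfl
      simp only [e]
    have hw : f ⟨B.w, B.w_mem_Gw⟩ ∈ bicomm ρp OK := hle ⟨_, rfl⟩
    have hxo : x * (f ⟨B.w, B.w_mem_Gw⟩)⁻¹ ∈ OK := by
      show B.σ ((x : C) * ((c * B.w * c⁻¹)⁻¹)) = 1
      rw [map_mul, map_inv, hx, hc, mul_inv_cancel]
    rw [show x = x * (f ⟨B.w, B.w_mem_Gw⟩)⁻¹ * f ⟨B.w, B.w_mem_Gw⟩ by group]
    exact (bicomm ρp OK).mul_mem (le_bicomm ρp OK hxo) hw
  have hsurjK : ∀ g : GL (Fin 2) F, g ∈ B.Kgl (θ : B.O → ℂ) → ∃ x : K, B.σ (x : C) = B.gl g := by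
    intro g hg
    obtain ⟨y, hy, hye⟩ := hg
    exact ⟨⟨y, hy⟩, hye⟩
  -- unipotent elements
  have hodd : Odd (Fintype.card F) := by
    obtain ⟨p, hp⟩ := CharP.exists F
    obtain ⟨k, hpp, hk⟩ := FiniteField.card F p
    rw [hk]
    refine (hpp.odd_of_ne_two fun h2 => B.char2 ?_).pow
    subst h2
    exact_mod_cast CharP.cast_eq_zero F 2
  let σK : K →* X := B.σ.comp K.subtype
  set S : Subgroup SL₂ := ((bicomm ρ OK).map σK).comap (B.gl.comp tgl) with hS
  have hu : ∀ u ∈ unip ((B.Kgl (θ : B.O → ℂ)).comap tgl), u ∈ S := by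
    intro u hu
    by_cases hu1 : u = 1
    · rw [hu1]; exact one_mem _
    obtain ⟨x, hx⟩ := hsurjK (tgl u) hu.1
    refine ⟨x, ?_, hx⟩
    obtain ⟨i, hi, j, hj, hij⟩ := hprod u hu hu1
    obtain ⟨xi, hxi⟩ := hsurjK i hi.1
    obtain ⟨xj, hxj⟩ := hsurjK j hj.1
    have hxp : x ∈ bicomm ρp OK := by
      have h1 : x * (xi * xj)⁻¹ ∈ OK := by
        show B.σ ((x : C) * ((xi : C) * (xj : C))⁻¹) = 1
        rw [map_mul, map_inv, map_mul, hx, hxi, hxj, hij, map_mul, mul_inv_cancel]
      rw [show x = x * (xi * xj)⁻¹ * (xi * xj) by group]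
      exact (bicomm ρp OK).mul_mem (le_bicomm ρp OK h1)
        ((bicomm ρp OK).mul_mem (hlift i hi xi hxi) (hlift j hj xj hxj))
    set H : Subgroup K := (Subgroup.zpowers (σK x)).comap σK with hH
    haveI : Fintype H := Fintype.ofFinite _
    have hOH : OK ≤ H := fun y hy => by
      show σK y ∈ Subgroup.zpowers (σK x)
      rw [show σK y = 1 from hy]
      exact one_mem _
    have hHp : H ≤ bicomm ρp OK := by
      intro y hy
      obtain ⟨k, hk⟩ := Subgroup.mem_zpowers_iff.1 (show σK y ∈ Subgroup.zpowers (σK x) from hy)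
      have h1 : y * (x ^ k)⁻¹ ∈ OK := by
        show σK (y * (x ^ k)⁻¹) = 1
        rw [map_mul, map_inv, map_zpow, hk, mul_inv_cancel]
      rw [show y = y * (x ^ k)⁻¹ * x ^ k by group]
      exact (bicomm ρp OK).mul_mem (le_bicomm ρp OK h1) ((bicomm ρp OK).zpow_mem hxp k)
    have hord : Odd (orderOf (σK x)) := by
      refine hodd.of_dvd_nat (orderOf_dvd_of_pow_eq_one ?_)
      show B.σ (x : C) ^ _ = 1
      obtain ⟨P, hP, e⟩ := SL2.exists_up hu.2 hu1
      rw [hx, ← map_pow, ← map_pow, ← e, ← map_pow, SL2.up_pow, Nat.cast_card_eq_zero, zero_mul, SL2.up_zero,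
        map_one, map_one, map_one]
    have h2 : ∀ y : H, ρ.character (y : K) = 2 * ρp.character (y : K) := by
      intro y
      have ho : Odd (orderOf (B.σ ((y : K) : C))) :=
        hord.of_dvd_nat (orderOf_dvd_of_mem_zpowers (show σK (y : K) ∈ Subgroup.zpowers (σK x) from y.2))
      rw [hv, hvp, B.isoPart_χ, ← B.isoPart_χp_eq hne ho]
      ring
    have hHn : classInner (fun y : H => ρp.character y) (fun y : H => ρp.character y) = (n : ℂ) ^ 2 :=
      ((le_bicomm_iff ρp hOH).1 hHp).trans hnOp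
    refine ((le_bicomm_iff ρ hOH).2 ?_) (show x ∈ H from Subgroup.mem_zpowers _)
    rw [hnO, show (fun y : H => ρ.character y) = (2 : ℂ) • (fun y : H => ρp.character y) from funext h2,
      classInner_smul_left, classInner_smul_right, hHn, map_ofNat]
    ring
  -- `z`
  obtain ⟨x, hx, hxe⟩ := (Subgroup.closure_le S).2 hu hneg
  have hzK : B.z ∈ K := (mem_inertia B.O).2 ((B.mem_Kgl (IsIrr.classFun θ.2) B.gz.symm).1
    (B.neg_one_mem_Kgl (IsIrr.classFun θ.2)))
  set zK : K := ⟨B.z, hzK⟩ with hzKdef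
  have hσz : σK x = B.σ B.z := by
    rw [hxe]
    show B.gl (tgl (-1)) = B.σ B.z
    rw [show (tgl (-1) : GL (Fin 2) F) = -1 from Units.ext (by simp), B.gz]
  have hz : zK ∈ bicomm ρ OK := by
    have h1 : zK * x⁻¹ ∈ OK := by
      show B.σ (B.z * (x : C)⁻¹) = 1
      rw [map_mul, map_inv, ← hσz]
      exact mul_inv_cancel _
    rw [show zK = zK * x⁻¹ * x by group]
    exact (bicomm ρ OK).mul_mem (le_bicomm ρ OK h1) hx
  set Hz : Subgroup K := (Subgroup.zpowers (σK zK)).comap σK with hHz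
  haveI : Fintype Hz := Fintype.ofFinite _
  have hOz : OK ≤ Hz := fun y hy => by
    show σK y ∈ Subgroup.zpowers (σK zK)
    rw [show σK y = 1 from hy]
    exact one_mem _
  have hcases : ∀ y ∈ Hz, σK y = 1 ∨ σK y = σK zK := by
    intro y hy
    obtain ⟨k, hk⟩ := Subgroup.mem_zpowers_iff.1 (show σK y ∈ Subgroup.zpowers (σK zK) from hy)
    have h2 : σK zK * σK zK = 1 := by
      show B.σ B.z * B.σ B.z = 1
      rw [← map_mul, B.z2, map_one]
    have ho : orderOf (σK zK) = 2 := orderOf_eq_prime (by rw [pow_two]; exact h2) B.σz_ne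
    rw [← hk, ← zpow_mod_orderOf, ho]
    rcases Int.emod_two_eq_zero_or_one k with h | h <;> push_cast <;> rw [h]
    · exact Or.inl (zpow_zero _)
    · exact Or.inr (zpow_one _)
  have hzle : Hz ≤ bicomm ρ OK := by
    intro y hy
    rcases hcases y hy with e | e
    · exact le_bicomm ρ OK e
    · rw [show y = y * zK⁻¹ * zK by group]
      refine (bicomm ρ OK).mul_mem (le_bicomm ρ OK ?_) hz
      show σK (y * zK⁻¹) = 1
      rw [map_mul, map_inv, e, mul_inv_cancel]
  have hnz := ((le_bicomm_iff ρ hOz).1 hzle).trans hnO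
  -- but the part over `θ` vanishes on the coset of `z`
  let g : OK ⊕ OK → Hz := Sum.elim (fun y => ⟨y, hOz y.2⟩) (fun y => ⟨zK * (y : K), Hz.mul_mem
    (Subgroup.mem_zpowers (σK zK)) (hOz y.2)⟩)
  have hg : Function.Bijective g := by
    refine ⟨?_, fun y => ?_⟩
    · rintro (a | a) (b | b) h <;> simp only [g, Sum.elim_inl, Sum.elim_inr, Subtype.mk.injEq] at h
      · rw [Subtype.ext h]
      · exfalso
        have h' := congrArg σK h
        rw [map_mul, show σK (a : K) = 1 from a.2, show σK (b : K) = 1 from b.2, mul_one] at h'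
        exact B.σz_ne h'.symm
      · exfalso
        have h' := congrArg σK h
        rw [map_mul, show σK (a : K) = 1 from a.2, show σK (b : K) = 1 from b.2, mul_one] at h'
        exact B.σz_ne h'
      · rw [Subtype.ext (mul_left_cancel h)]
    · rcases hcases y y.2 with e | e
      · exact ⟨.inl ⟨y, e⟩, Subtype.ext rfl⟩
      · refine ⟨.inr ⟨zK⁻¹ * (y : K), ?_⟩, Subtype.ext (mul_inv_cancel_left zK (y : K))⟩
        show σK (zK⁻¹ * (y : K)) = 1
        rw [map_mul, map_inv, e, inv_mul_cancel]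
  have hzero : ∀ y : OK, ρ.character (zK * (y : K)) = 0 := by
    intro y
    rw [hv]
    show isoPart B.χ (θ : B.O → ℂ) (B.z * (eO y : C)) = 0
    rw [B.isoPart_z, hpO, hmO, sub_self]
  have hhalf : classInner (fun y : Hz => ρ.character y) (fun y : Hz => ρ.character y) = 2 * (n : ℂ) ^ 2 := by
    rw [show (2 : ℂ) * (n : ℂ) ^ 2 = (4 * (n : ℂ) ^ 2) / 2 by ring, ← hnO, classInner, classInner,
      ← Nat.card_eq_of_bijective g hg, Nat.card_sum, ← hg.sum_comp, Fintype.sum_sum_type]
    simp only [g, Sum.elim_inl, Sum.elim_inr, hzero, map_zero, mul_zero, Finset.sum_const_zero, add_zero]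
    have h0 : (Nat.card OK : ℂ) ≠ 0 := Nat.cast_ne_zero.2 Nat.card_pos.ne'
    push_cast
    field_simp
    ring
  rw [hhalf] at hnz
  have : (n : ℂ) ^ 2 = 0 := by linear_combination (-1/2 : ℂ) * hnz
  exact hn0 (Nat.cast_eq_zero.1 (pow_eq_zero_iff two_ne_zero |>.1 this))

end BData

end Cfsg.Agent.Invol.AbgOrder
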