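import Cfsg.Agent.Lib.Invol.AbgOrder.BudgetFixed
import Cfsg.Agent.Lib.Invol.AbgOrder.BudgetExcl

/-!
# The budget is exact: what this gives for the constituents on the kernel

Every slack vanishes.  So a constituent fixed by `w` restricts irreducibly to the fixed points, every orbit has one,
its involutions are those through a point of `w`, and all constituents of the two permutation characters occur.
-/

set_option autoImplicit false
set_option linter.unusedSectionVars false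
set_option linter.style.haveILetI false

namespace Cfsg.Agent.Invol.AbgOrder

open Cfsg Cfsg.Agent.Char Matrix Cfsg.Agent.Grp
open scoped ComplexConjugate

universe u v t

namespace BData

variable {C : Type u} [Group C] [Fintype C] {X : Type v} [Group X] {F : Type t} [Field F] [Fintype F]
  (B : BData C X F) [Fintype B.O] [Fintype B.R] [Fintype B.Gw]

local notation "SL₂" => Matrix.SpecialLinearGroup (Fin 2) F
local notation "tgl" => (Matrix.SpecialLinearGroup.toGL (n := Fin 2) (R := F))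

/-- A constituent of the character on the kernel. -/
def Cons (θ : IrrCharacter B.O) : Prop := classInner (fun o : B.O => B.χ o) (θ : B.O → ℂ) ≠ 0

/-- The restriction to the fixed points of `w`. -/
def resR (θ : IrrCharacter B.O) : B.R → ℂ := fun y => (θ : B.O → ℂ) ⟨y, y.2.1⟩

/-- The conclusions. -/
structure Out : Prop where
  restr : ∀ θ : IrrCharacter B.O, B.Cons θ → Char.conjN B.O B.w (θ : B.O → ℂ) = (θ : B.O → ℂ) →
    IsIrrCharacter B.R (B.resR θ)
  orbit : ∀ θ : IrrCharacter B.O, B.Cons θ → ∃ c : C, B.Cons (B.conjI c θ) ∧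
    Char.conjN B.O B.w (B.conjI c θ : B.O → ℂ) = (B.conjI c θ : B.O → ℂ) ∧
    ((B.resR (B.conjI c θ) = fun _ => 1) ∨ classInner B.πw (B.resR (B.conjI c θ)) ≠ 0 ∨
      classInner B.πu (B.resR (B.conjI c θ)) ≠ 0)
  borel : ∀ θ : IrrCharacter B.O, B.Cons θ → Char.conjN B.O B.w (θ : B.O → ℂ) = (θ : B.O → ℂ) →
    ∃ k : Fin 2, ∀ (c : C), ∀ i ∈ Jset (⊤ : Subgroup (GL (Fin 2) F)),
      (∃ r : F, (i : Matrix (Fin 2) (Fin 2) F) *ᵥ Pi.single k 1 = r • Pi.single k 1) → B.σ c = B.gl i →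
        Char.conjN B.O c (θ : B.O → ℂ) = (θ : B.O → ℂ)
  attain : ∀ β : B.R → ℂ, IsIrrCharacter B.R β → classInner B.πw β ≠ 0 ∨ classInner B.πu β ≠ 0 →
    ∃ θ : IrrCharacter B.O, B.Cons θ ∧ Char.conjN B.O B.w (θ : B.O → ℂ) = (θ : B.O → ℂ) ∧ B.resR θ = β
  unique : ∀ θ θ' : IrrCharacter B.O, B.Cons θ → B.Cons θ' →
    Char.conjN B.O B.w (θ : B.O → ℂ) = (θ : B.O → ℂ) → Char.conjN B.O B.w (θ' : B.O → ℂ) = (θ' : B.O → ℂ) →
    B.resR θ = B.resR θ' → θ = θ'

/-- The trivial character. -/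
noncomputable def triv : IrrCharacter B.O := ⟨fun _ => 1, isIrr_one⟩

theorem triv_fix (c : C) : Char.conjN B.O c (B.triv : B.O → ℂ) = (B.triv : B.O → ℂ) := rfl

theorem triv_lfix : B.Lfix (B.triv : B.O → ℂ) :=
  (B.lfix_iff (IsIrr.classFun B.triv.2)).2 fun c _ => B.triv_fix c

theorem ne_triv {θ : IrrCharacter B.O} (h : θ ≠ B.triv) : (θ : B.O → ℂ) ≠ fun _ => 1 :=
  fun e => h (Subtype.ext e)

theorem χ_inner (θ : IrrCharacter B.O) : classInner (fun o : B.O => B.χ o) (θ : B.O → ℂ) =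
    classInner (fun o : B.O => B.χp o) (θ : B.O → ℂ) + B.m θ := by
  rw [← B.m_spec, ← classInner_add_left]
  congr 1
  funext o
  exact (congrFun B.χp_add_χm (o : C)).symm

theorem cons_iff {θ : IrrCharacter B.O} (h : θ ≠ B.triv) : B.Cons θ ↔ B.m θ ≠ 0 := by
  rw [Cons, B.χ_inner, B.χp_inner_ne (B.ne_triv h), ← Nat.cast_add, Nat.cast_ne_zero]
  omega

theorem cons_triv : B.Cons B.triv := by
  rw [Cons, B.χ_inner, B.χp_inner, show classInner (fun _ : B.O => (1 : ℂ)) (B.triv : B.O → ℂ) = 1 from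
    classInner_self_irr isIrr_one, mul_one]
  have hq := Fintype.card_pos (α := F)
  intro h
  have h' : ((B.m B.triv + (Fintype.card F - 1) + B.d1 + B.m B.triv : ℕ) : ℂ) = 0 := by
    push_cast [Nat.cast_sub hq]
    linear_combination h
  rw [Nat.cast_eq_zero] at h'
  have := B.d1_pos
  omega

theorem cons_conj {θ : IrrCharacter B.O} (c : C) (h : B.Cons θ) : B.Cons (B.conjI c θ) := by
  rw [Cons] at h ⊢
  rw [conjI_coe, ← conjN_res B.O (IsChar.classFun B.isChar) c, classInner_conjN]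
  exact h

/-- The weights add up to half of `q² - 1`. -/
theorem sum_weight : (∑ θ, (B.m θ : ℂ) * (θ : B.O → ℂ) 1) = ((Fintype.card F : ℂ) ^ 2 - 1) / 2 := by
  classical
  obtain ⟨a, ha, hd⟩ := IsChar.exists_decomp_inner (IsChar.res B.isChar_χm B.O)
  have h := congrFun hd 1
  rw [Finset.sum_apply] at h
  rw [← B.χm_one]
  refine (Eq.trans ?_ h.symm).trans rfl
  exact Finset.sum_congr rfl fun θ _ => by rw [← B.m_spec, ha]; rfl

variable (W : B.WExp)

/-- What equality gives at a single character. -/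
def Key (θ : IrrCharacter B.O) : Prop :=
  (Char.conjN B.O B.w (θ : B.O → ℂ) = (θ : B.O → ℂ) → W.β θ 1 = (θ : B.O → ℂ) 1 ∧ 0 < W.a θ) ∧
  (B.Lfix (θ : B.O → ℂ) → Char.conjN B.O B.w (θ : B.O → ℂ) = (θ : B.O → ℂ)) ∧
  (¬ B.Lfix (θ : B.O → ℂ) → Fintype.card F ≠ 9 ∧ Nat.card (Jset (B.Kgl (θ : B.O → ℂ))) = 2 * Fintype.card F ∧
    (Char.conjN B.O B.w (θ : B.O → ℂ) = (θ : B.O → ℂ) → W.a θ = B.m θ))

theorem β_triv : W.β B.triv = fun _ => 1 := by
  by_contra hne
  exact W.below B.triv (B.triv_fix _) (classInner_irr_ne isIrr_one (W.irr B.triv (B.triv_fix _)) (Ne.symm hne))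

/-- The degree of the correspondent is at most the degree. -/
theorem exists_degrees : ∃ d b : IrrCharacter B.O → ℕ, ∀ θ,
    0 < d θ ∧ (θ : B.O → ℂ) 1 = d θ ∧
      (Char.conjN B.O B.w (θ : B.O → ℂ) = (θ : B.O → ℂ) → 0 < b θ ∧ W.β θ 1 = b θ ∧ b θ ≤ d θ) := by
  have h : ∀ θ : IrrCharacter B.O, ∃ d b : ℕ, 0 < d ∧ (θ : B.O → ℂ) 1 = d ∧
      (Char.conjN B.O B.w (θ : B.O → ℂ) = (θ : B.O → ℂ) → 0 < b ∧ W.β θ 1 = b ∧ b ≤ d) := by
    intro θ
    obtain ⟨d, hd, hd1⟩ := IsIrr.one_eq_pos θ.2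
    by_cases hf : Char.conjN B.O B.w (θ : B.O → ℂ) = (θ : B.O → ℂ)
    · obtain ⟨b, hb, hb1⟩ := IsIrr.one_eq_pos (W.irr θ hf)
      refine ⟨d, b, hd, hd1, fun _ => ⟨hb, hb1, ?_⟩⟩
      exact degree_le_of_constituent (IsChar.comp (Subgroup.inclusion (show B.R ≤ B.O from inf_le_left))
        (IsIrr.isCharacter θ.2)) (W.irr θ hf) (W.below θ hf) hd1 hb1
    · exact ⟨d, 0, hd, hd1, fun h => absurd h hf⟩
  choose d b hdb using h
  exact ⟨d, b, hdb⟩

/-- Large `q`: all slacks vanish. -/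
theorem key_large (h5 : 5 ≤ Fintype.card F) (h9 : Fintype.card F ≠ 9) (θ : IrrCharacter B.O) (hc : B.Cons θ) :
    B.Key W θ := by
  classical
  obtain ⟨d, b, hdb⟩ := B.exists_degrees W
  set q := Fintype.card F with hq
  obtain ⟨p, hp⟩ := CharP.exists F
  obtain ⟨np, hpp, hnp⟩ := FiniteField.card F p
  haveI : Fact p.Prime := ⟨hpp⟩
  let L : IrrCharacter B.O → Prop := fun θ => B.Lfix (θ : B.O → ℂ)
  let Fx : IrrCharacter B.O → Prop := fun θ => Char.conjN B.O B.w (θ : B.O → ℂ) = (θ : B.O → ℂ)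
  let J : IrrCharacter B.O → ℕ := fun θ => Nat.card (Jset (B.Kgl (θ : B.O → ℂ)))
  let f : IrrCharacter B.O → ℝ := fun θ => (B.m θ : ℝ) * d θ
  let T : IrrCharacter B.O → ℝ := fun θ => (q : ℝ) * (q + 1) * ((W.a θ : ℝ) * b θ)
  let U : IrrCharacter B.O → ℝ := fun θ => if L θ then 0 else
    (J θ : ℝ) * f θ - (if Fx θ then (q : ℝ) * (q + 1) * f θ else 0)
  let sl : IrrCharacter B.O → ℝ := fun θ =>
    2 * q * f θ + (if θ = B.triv then (q : ℝ) * (q + 1) * B.d1 else 0) - T θ - U θ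
  have hfn : ∀ θ, 0 ≤ f θ := fun θ => by positivity
  have hd1 : ∀ θ, θ = B.triv → d θ = 1 := fun θ e => by
    have h1 := (hdb θ).2.1
    subst e
    exact_mod_cast (show (1 : ℂ) = (d B.triv : ℂ) from h1).symm
  have hb1 : ∀ θ, θ = B.triv → b θ = 1 := fun θ e => by
    subst e
    have h1 := ((hdb B.triv).2.2 (B.triv_fix _)).2.1
    rw [B.β_triv W] at h1
    exact_mod_cast (show (1 : ℂ) = (b B.triv : ℂ) from h1).symm
  have hmov : ∀ θ, ¬ L θ → θ ≠ B.triv := fun θ h e => h (e ▸ B.triv_lfix)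
  have hbound : ∀ θ, ¬ L θ → |W.a θ| ≤ B.m θ := fun θ h =>
    W.bound θ (B.m θ) (B.χp_inner_ne (B.ne_triv (hmov θ h)))
  have hJ : ∀ θ, ¬ L θ → J θ ≤ 2 * q := by
    intro θ h
    rcases jset_count p B.char2 h9 (B.Kgl (θ : B.O → ℂ)) with e | e | ⟨e, -⟩
    · exact absurd e h
    · exact e.le
    · exact e.le
  have hab : ∀ θ, (W.a θ : ℝ) * b θ ≤ |(W.a θ : ℝ)| * b θ := fun θ =>
    mul_le_mul_of_nonneg_right (le_abs_self _) (Nat.cast_nonneg _)
  have hslL : ∀ θ, L θ → Fx θ → θ ≠ B.triv →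
      ((q : ℝ) + 1) * (|(W.a θ : ℝ)| * b θ) ≤ 2 * B.m θ * b θ := by
    intro θ hL hF hne
    have h := B.lfix_bound W (B.ne_triv hne) hF hL h5 h9
    have h' : ((q : ℝ) + 1) * |(W.a θ : ℝ)| ≤ 2 * B.m θ := by exact_mod_cast h
    rw [← mul_assoc]
    exact mul_le_mul_of_nonneg_right h' (Nat.cast_nonneg _)
  have hpos : ∀ θ, 0 ≤ sl θ := by
    intro θ
    have hq0 : (0 : ℝ) ≤ q := Nat.cast_nonneg _
    by_cases hL : L θ
    · simp only [sl, U, if_pos hL, sub_zero, T]
      by_cases hF : Fx θ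
      · by_cases he : θ = B.triv
        · rw [if_pos he, hb1 θ he]
          have h := B.trivial_bound W (θ := θ) (congrArg Subtype.val he)
          have h' : ((q : ℝ) + 1) * |(W.a θ : ℝ)| ≤ 2 * B.m θ + ((q : ℝ) + 1) * B.d1 := by exact_mod_cast h
          have h'' := mul_le_mul_of_nonneg_left (le_abs_self (W.a θ : ℝ)) (show (0 : ℝ) ≤ (q + 1) by positivity)
          simp only [f, hd1 θ he, Nat.cast_one, mul_one]
          nlinarith
        · rw [if_neg he, add_zero]
          have h1 := hslL θ hL hF he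
          have h2 : (b θ : ℝ) ≤ d θ := by exact_mod_cast ((hdb θ).2.2 hF).2.2
          have h3 : 2 * (B.m θ : ℝ) * b θ ≤ 2 * f θ := by
            simp only [f]
            rw [← mul_assoc]
            exact mul_le_mul_of_nonneg_left h2 (by positivity)
          have h4 := mul_le_mul_of_nonneg_left (hab θ) (show (0 : ℝ) ≤ (q + 1) by positivity)
          nlinarith
      · rw [W.zero θ hF]
        simp only [Int.cast_zero, zero_mul, mul_zero, sub_zero]
        have := hfn θ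
        positivity
    · simp only [sl, U, if_neg hL, if_neg (hmov θ hL), add_zero, T]
      have hJ' : (J θ : ℝ) ≤ 2 * q := by exact_mod_cast hJ θ hL
      have hJf := mul_le_mul_of_nonneg_right hJ' (hfn θ)
      by_cases hF : Fx θ
      · rw [if_pos hF]
        have h1 : |(W.a θ : ℝ)| ≤ B.m θ := by exact_mod_cast hbound θ hL
        have h2 : (b θ : ℝ) ≤ d θ := by exact_mod_cast ((hdb θ).2.2 hF).2.2
        have h3 : |(W.a θ : ℝ)| * b θ ≤ f θ := mul_le_mul h1 h2 (Nat.cast_nonneg _) (Nat.cast_nonneg _)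
        have h4 := (hab θ).trans h3
        have h5' := mul_le_mul_of_nonneg_left h4 (show (0 : ℝ) ≤ q * (q + 1) by positivity)
        linarith
      · rw [if_neg hF, W.zero θ hF]
        simp only [Int.cast_zero, zero_mul, mul_zero, sub_zero]
        linarith
  -- they add up to zero
  have hsum : ∑ θ, sl θ = 0 := by
    have hU : ∑ θ, U θ = 0 := by
      have h := B.sum_jset (fun θ => ¬ L θ) (fun c θ => not_congr (B.lfix_conj_iff (IsIrr.classFun θ.2) c)) f
        (fun c θ => by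
          simp only [f]
          rw [B.m_conj]
          congr 1
          exact_mod_cast (show (d (B.conjI c θ) : ℂ) = (d θ : ℂ) by
            rw [← (hdb _).2.1, ← (hdb θ).2.1, B.one_conj]))
      have e1 : ∀ θ, U θ = (if ¬ L θ then (J θ : ℝ) * f θ else 0) -
          (if ¬ L θ ∧ Fx θ then (q : ℝ) * (q + 1) * f θ else 0) := fun θ => by
        simp only [U]
        by_cases hL : L θ <;> by_cases hF : Fx θ <;> simp [hL, hF]
      rw [Finset.sum_congr rfl fun θ _ => e1 θ, Finset.sum_sub_distrib, ← Finset.sum_filter, ← Finset.sum_filter,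
        ← Finset.mul_sum, sub_eq_zero]
      convert h using 2
      · ext; simp
      · push_cast; rfl
      · congr 1; ext; simp [Fx]
    have hT : ∑ θ, T θ = (q : ℝ) * (q + 1) * ((q : ℝ) - 1 + B.d1) := by
      have h := congrFun W.expansion 1
      rw [Finset.sum_apply, B.cw_one] at h
      simp only [T, ← Finset.mul_sum]
      congr 1
      have h' : ((∑ θ, W.a θ * (b θ : ℤ) : ℤ) : ℂ) = ((((q : ℤ) - 1 + B.d1 : ℤ)) : ℂ) := by
        push_cast
        refine Eq.trans (Finset.sum_congr rfl fun θ _ => ?_) h.symm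
        by_cases hF : Fx θ
        · rw [Pi.smul_apply, smul_eq_mul, ((hdb θ).2.2 hF).2.1]
        · rw [W.zero θ hF]; simp
      rw [Int.cast_inj] at h'
      exact_mod_cast h'
    have hf : ∑ θ, f θ = ((q : ℝ) ^ 2 - 1) / 2 := by
      have h := B.sum_weight
      simp only [fun θ => (hdb θ).2.1] at h
      have h' : ((2 * ∑ θ, B.m θ * d θ + 1 : ℕ) : ℂ) = ((q ^ 2 : ℕ) : ℂ) := by
        push_cast
        linear_combination (2 : ℂ) * h
      have h'' : ((2 * ∑ θ, B.m θ * d θ + 1 : ℕ) : ℝ) = ((q ^ 2 : ℕ) : ℝ) := by exact_mod_cast Nat.cast_injective h'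
      push_cast at h''
      simp only [f]
      linarith
    simp only [sl, Finset.sum_sub_distrib, Finset.sum_add_distrib, ← Finset.mul_sum, hT, hU, hf,
      Finset.sum_ite_eq', Finset.mem_univ, if_true]
    ring
  have hzero : sl θ = 0 := (Finset.sum_eq_zero_iff_of_nonneg fun θ _ => hpos θ).1 hsum θ (Finset.mem_univ _)
  -- conclusions
  have hfpos : θ ≠ B.triv → 0 < f θ := fun hne => by
    have := (B.cons_iff hne).1 hc
    have := (hdb θ).1
    simp only [f]
    positivity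
  have hq5 : (5 : ℝ) ≤ q := by exact_mod_cast h5
  simp only [sl, U, T] at hzero
  refine ⟨fun hF => ?_, fun hL => ?_, fun hL => ⟨h9, ?_⟩⟩
  · by_cases he : θ = B.triv
    · refine ⟨by rw [((hdb θ).2.2 hF).2.1, (hdb θ).2.1, hb1 θ he, hd1 θ he], ?_⟩
      rw [if_pos he, if_pos (show L θ from he ▸ B.triv_lfix), hb1 θ he] at hzero
      simp only [f, hd1 θ he, Nat.cast_one, mul_one, sub_zero] at hzero
      have h0 : (0 : ℝ) < W.a θ := by
        by_contra hle
        push Not at hle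
        have : (0 : ℝ) ≤ B.m θ := Nat.cast_nonneg _
        have hd : (1 : ℝ) ≤ B.d1 := by exact_mod_cast B.d1_pos
        have hqq : (0 : ℝ) < q * (q + 1) := by positivity
        have := mul_le_mul_of_nonneg_left hle hqq.le
        have := mul_le_mul_of_nonneg_left hd hqq.le
        have := mul_nonneg (show (0 : ℝ) ≤ 2 * q by positivity) (Nat.cast_nonneg (α := ℝ) (B.m θ))
        linarith
      exact_mod_cast h0
    rw [if_neg he] at hzero
    have hfp := hfpos he
    obtain ⟨hb0, hbeq, hbd⟩ := (hdb θ).2.2 hF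
    have hb' : (0 : ℝ) < b θ := by exact_mod_cast hb0
    have hm : (0 : ℝ) < B.m θ := by exact_mod_cast Nat.pos_of_ne_zero ((B.cons_iff he).1 hc)
    have key : (0 : ℝ) < W.a θ ∧ (d θ : ℝ) ≤ b θ := by
      by_cases hL : L θ
      · rw [if_pos hL, add_zero, sub_zero] at hzero
        have h1 := hslL θ hL hF he
        have hA : ((q : ℝ) + 1) * ((W.a θ : ℝ) * b θ) = 2 * f θ := by
          have := mul_left_cancel₀ (show (q : ℝ) ≠ 0 by positivity)
            (show (q : ℝ) * (((q : ℝ) + 1) * ((W.a θ : ℝ) * b θ)) = (q : ℝ) * (2 * f θ) by linarith)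
          exact this
        refine ⟨pos_of_mul_pos_left (pos_of_mul_pos_right (a := (q : ℝ) + 1) (by rw [hA]; linarith) (by positivity))
          hb'.le, ?_⟩
        have h2 := mul_le_mul_of_nonneg_left (hab θ) (show (0 : ℝ) ≤ (q + 1) by positivity)
        simp only [f] at hA
        nlinarith
      · rw [if_neg hL, if_pos hF, add_zero] at hzero
        have hJ' : (J θ : ℝ) ≤ 2 * q := by exact_mod_cast hJ θ hL
        have h1 : |(W.a θ : ℝ)| ≤ B.m θ := by exact_mod_cast hbound θ hL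
        have h2 : (b θ : ℝ) ≤ d θ := by exact_mod_cast hbd
        have h3 : (W.a θ : ℝ) * b θ ≤ f θ := (hab θ).trans (mul_le_mul h1 h2 hb'.le hm.le)
        have hJf := mul_le_mul_of_nonneg_right hJ' (hfn θ)
        have hA : (W.a θ : ℝ) * b θ = f θ := by
          by_contra hne
          have := mul_lt_mul_of_pos_left (lt_of_le_of_ne h3 hne) (show (0 : ℝ) < q * (q + 1) by positivity)
          linarith
        refine ⟨pos_of_mul_pos_left (by rw [hA]; exact hfp) hb'.le, ?_⟩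
        have h4 := mul_le_mul_of_nonneg_right ((le_abs_self _).trans h1) hb'.le
        simp only [f] at hA
        nlinarith
    refine ⟨?_, by exact_mod_cast key.1⟩
    rw [hbeq, (hdb θ).2.1, le_antisymm hbd (by exact_mod_cast key.2)]
  · by_contra hF
    have he : θ ≠ B.triv := fun e => hF (e ▸ B.triv_fix _)
    rw [if_neg he, if_pos hL, W.zero θ hF] at hzero
    have := hfpos he
    simp only [Int.cast_zero, zero_mul, mul_zero, sub_zero, add_zero] at hzero
    nlinarith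
  have he := hmov θ hL
  rw [if_neg he, if_neg hL] at hzero
  have hJ' : (J θ : ℝ) ≤ 2 * q := by exact_mod_cast hJ θ hL
  have hfp := hfpos he
  have hJf := mul_le_mul_of_nonneg_right hJ' hfp.le
  by_cases hF : Fx θ
  · rw [if_pos hF] at hzero
    have h1 : |(W.a θ : ℝ)| ≤ B.m θ := by exact_mod_cast hbound θ hL
    have hb' : (0 : ℝ) < b θ := by exact_mod_cast ((hdb θ).2.2 hF).1
    have h2 : (b θ : ℝ) ≤ d θ := by exact_mod_cast ((hdb θ).2.2 hF).2.2
    have h3 : (W.a θ : ℝ) * b θ ≤ f θ := (hab θ).trans (mul_le_mul h1 h2 hb'.le (Nat.cast_nonneg _))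
    have h4 := mul_le_mul_of_nonneg_left h3 (show (0 : ℝ) ≤ q * (q + 1) by positivity)
    have hqq : (0 : ℝ) < q * (q + 1) := by positivity
    have eJ : (J θ : ℝ) = 2 * q := mul_right_cancel₀ hfp.ne' (by linarith)
    have eA : (W.a θ : ℝ) * b θ = f θ := mul_left_cancel₀ hqq.ne' (by linarith)
    refine ⟨by exact_mod_cast eJ, fun _ => ?_⟩
    have h5' : (B.m θ : ℝ) ≤ W.a θ := by
      by_contra hlt
      push Not at hlt
      have := mul_lt_mul_of_pos_right hlt hb'
      have := mul_le_mul_of_nonneg_left h2 (show (0 : ℝ) ≤ B.m θ by positivity)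
      simp only [f] at eA
      linarith
    exact le_antisymm ((le_abs_self _).trans (hbound θ hL)) (by exact_mod_cast h5')
  · rw [if_neg hF, W.zero θ hF] at hzero
    simp only [Int.cast_zero, zero_mul, mul_zero, sub_zero, add_zero] at hzero
    exact ⟨by exact_mod_cast (mul_right_cancel₀ hfp.ne' (show (J θ : ℝ) * f θ = (2 * q : ℝ) * f θ by linarith)),
      fun h => absurd h hF⟩

/-- Constant permutation characters: only the trivial constituent. -/
theorem key_small (hw : ∀ y, B.πw y = (Fintype.card F : ℂ) - 1) (hu : ∀ y, B.πu y = (Fintype.card F : ℂ) - 1)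
    (θ : IrrCharacter B.O) (hc : B.Cons θ) : B.Key W θ := by
  classical
  set q := Fintype.card F with hq
  have hcw : B.cw = ((q : ℂ) - 1 + B.d1) • (fun _ : B.R => (1 : ℂ)) := funext fun y => by
    rw [B.cw_eq, hw, hu, Pi.smul_apply, smul_eq_mul]
    ring
  have ha1 : (W.a B.triv : ℂ) = (q : ℂ) - 1 + B.d1 := by
    rw [← W.coef B.triv (B.triv_fix _), B.β_triv W, hcw, classInner_smul_left,
      classInner_self_irr (isIrr_one (G := B.R)), mul_one]
  have ha : W.a B.triv = (q : ℤ) - 1 + B.d1 := by exact_mod_cast ha1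
  have hq1 : 1 < q := Fintype.one_lt_card
  have hpos : 0 < W.a B.triv := by rw [ha]; omega
  have hb := B.trivial_bound W (θ := B.triv) rfl
  rw [abs_of_pos hpos, ha] at hb
  have hm : ((q : ℤ) + 1) * ((q : ℤ) - 1) ≤ 2 * B.m B.triv := by linarith
  have hθ : θ = B.triv := by
    by_contra hne
    have hmθ := (B.cons_iff hne).1 hc
    obtain ⟨d, b, hdb⟩ := B.exists_degrees W
    have h := B.sum_weight
    simp only [fun θ => (hdb θ).2.1] at h
    have h' : ((2 * ∑ θ, B.m θ * d θ + 1 : ℕ) : ℂ) = ((q ^ 2 : ℕ) : ℂ) := by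
      push_cast
      linear_combination (2 : ℂ) * h
    have h'' : 2 * ∑ θ, B.m θ * d θ + 1 = q ^ 2 := Nat.cast_injective h'
    have hle : B.m B.triv * d B.triv + B.m θ * d θ ≤ ∑ θ, B.m θ * d θ := by
      rw [← Finset.sum_pair (f := fun x => B.m x * d x) (Ne.symm hne)]
      exact Finset.sum_le_sum_of_subset (Finset.subset_univ _)
    have := (hdb B.triv).1
    have h1 : B.m B.triv ≤ B.m B.triv * d B.triv := Nat.le_mul_of_pos_right _ this
    have h2 : 0 < B.m θ * d θ := Nat.mul_pos (Nat.pos_of_ne_zero hmθ) (hdb θ).1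
    have h3 : (q : ℤ) ^ 2 = 2 * (∑ θ, B.m θ * d θ : ℕ) + 1 := by exact_mod_cast h''.symm
    have h4 : (B.m B.triv : ℤ) + 1 ≤ (∑ θ, B.m θ * d θ : ℕ) := by exact_mod_cast (by omega)
    nlinarith
  subst hθ
  exact ⟨fun _ => ⟨by rw [B.β_triv W]; rfl, hpos⟩, fun _ => B.triv_fix _, fun h => absurd B.triv_lfix h⟩

variable (hq : (5 ≤ Fintype.card F ∧ Fintype.card F ≠ 9) ∨
  ((∀ y, B.πw y = (Fintype.card F : ℂ) - 1) ∧ ∀ y, B.πu y = (Fintype.card F : ℂ) - 1))
include hq

theorem key {θ : IrrCharacter B.O} (hc : B.Cons θ) : B.Key W θ :=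
  hq.elim (fun h => B.key_large W h.1 h.2 θ hc) fun h => B.key_small W h.1 h.2 θ hc

theorem resR_eq {θ : IrrCharacter B.O} (hc : B.Cons θ)
    (hf : Char.conjN B.O B.w (θ : B.O → ℂ) = (θ : B.O → ℂ)) : B.resR θ = W.β θ :=
  eq_of_constituent_degree (IsChar.comp (Subgroup.inclusion (show B.R ≤ B.O from inf_le_left))
    (IsIrr.isCharacter θ.2)) (W.irr θ hf) (W.below θ hf) ((B.key W hq hc).1 hf).1.symm

theorem exists_fixed_conj (W : B.WExp) {θ : IrrCharacter B.O} (hc : B.Cons θ) : ∃ c : C,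
    Char.conjN B.O B.w (B.conjI c θ : B.O → ℂ) = (B.conjI c θ : B.O → ℂ) := by
  by_cases hL : B.Lfix (θ : B.O → ℂ)
  · exact ⟨1, by rw [B.conjI_coe, conjN_one]; exact (B.key W hq hc).2.1 hL⟩
  obtain ⟨-, hJ, -⟩ := (B.key W hq hc).2.2 hL
  have hne : Nonempty (Jset (B.Kgl (θ : B.O → ℂ))) := by
    have h : Nat.card (Jset (B.Kgl (θ : B.O → ℂ))) ≠ 0 := by
      rw [hJ]
      have := Fintype.card_pos (α := F)
      omega
    exact (Nat.card_ne_zero.1 h).1
  obtain ⟨i, hi⟩ := hne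
  obtain ⟨s, hs⟩ := exists_conj_w0 B.char2 (i := i) ⟨Subgroup.mem_top _, hi.2⟩
  obtain ⟨c, hcs⟩ := B.surj (B.gl (tgl s))
  have hσ : B.σ (c * B.w * c⁻¹) = B.gl i := by
    rw [map_mul, map_mul, map_inv, hcs, ← B.gw, hs, map_mul, map_mul, map_inv]
  refine ⟨c, ?_⟩
  have h := (B.mem_Kgl (IsIrr.classFun θ.2) hσ).1 hi.1
  rw [conjI_coe]
  conv_rhs => rw [← h]
  rw [← conjN_mul, ← conjN_mul]
  congr 1
  group

theorem fix_cases (W : B.WExp) {θ : IrrCharacter B.O} (hc : B.Cons θ)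
    (hf : Char.conjN B.O B.w (θ : B.O → ℂ) = (θ : B.O → ℂ)) :
    (B.resR θ = fun _ => 1) ∨ classInner B.πw (B.resR θ) ≠ 0 ∨ classInner B.πu (B.resR θ) ≠ 0 := by
  rw [B.resR_eq W hq hc hf]
  by_contra h
  push Not at h
  obtain ⟨h1, hw, hu⟩ := h
  have ha := ((B.key W hq hc).1 hf).2
  have hcoef := W.coef θ hf
  rw [show B.cw = (B.d1 : ℂ) • (fun _ : B.R => (1 : ℂ)) + (2⁻¹ : ℂ) • (B.πw + B.πu) from funext fun y => by
    rw [B.cw_eq]; simp; ring] at hcoef
  rw [classInner_add_left, classInner_smul_left, classInner_smul_left, classInner_add_left,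
    classInner_irr_ne (isIrr_one (G := B.R)) (W.irr θ hf) (Ne.symm h1), hw, hu] at hcoef
  simp at hcoef
  rw [eq_comm, Int.cast_eq_zero] at hcoef
  omega

/-- The consequences of the exact budget. -/
theorem budget_out : B.Out := by
  classical
  obtain ⟨W⟩ := B.exists_wexp
  refine ⟨fun θ hc hf => by rw [B.resR_eq W hq hc hf]; exact W.irr θ hf, fun θ hc => ?_, fun θ hc hf => ?_,
    fun β hβ hπ => ?_, fun θ θ' hc hc' hf hf' he => W.inj θ θ' hf hf' ?_⟩
  · obtain ⟨c, hcf⟩ := B.exists_fixed_conj hq W hc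
    exact ⟨c, B.cons_conj c hc, hcf, B.fix_cases hq W (B.cons_conj c hc) hcf⟩
  · by_cases hL : B.Lfix (θ : B.O → ℂ)
    · refine ⟨0, fun c i hi _ hci => (B.mem_Kgl (IsIrr.classFun θ.2) hci).1 ?_⟩
      obtain ⟨s, hs⟩ := exists_conj_w0 B.char2 hi
      have hsK : tgl s ∈ B.Kgl (θ : B.O → ℂ) := (Subgroup.eq_top_iff' _).1 hL s
      rw [hs]
      exact (B.Kgl _).mul_mem ((B.Kgl _).mul_mem hsK ((B.mem_Kgl (IsIrr.classFun θ.2) B.gw.symm).2 hf))
        ((B.Kgl _).inv_mem hsK)
    obtain ⟨h9, hJ, ha⟩ := (B.key W hq hc).2.2 hL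
    obtain ⟨p, hp⟩ := CharP.exists F
    obtain ⟨np, hpp, hnp⟩ := FiniteField.card F p
    haveI : Fact p.Prime := ⟨hpp⟩
    rcases jset_count p B.char2 h9 (B.Kgl (θ : B.O → ℂ)) with e | e | ⟨-, ⟨v, hv, hev, hall⟩ | ⟨hprod, hneg⟩⟩
    · exact absurd e hL
    · omega
    · have hw0 : w0 F ∈ Jset (B.Kgl (θ : B.O → ℂ)) :=
        ⟨(B.mem_Kgl (IsIrr.classFun θ.2) B.gw.symm).2 hf, (w0_mem B.char2).2⟩
      obtain ⟨r, hr⟩ := hev _ hw0
      have h0 := congrFun hr 0
      have h1 := congrFun hr 1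
      simp [w0, Matrix.mulVec, dotProduct, Fin.sum_univ_two] at h0 h1
      obtain ⟨k, c', hc', hk⟩ : ∃ (k : Fin 2) (c' : F), c' ≠ 0 ∧ v = c' • Pi.single k 1 := by
        by_cases hv0 : v 0 = 0
        · refine ⟨1, v 1, fun hv1 => hv (funext fun x => by fin_cases x <;> [exact hv0; exact hv1]), ?_⟩
          funext x; fin_cases x <;> simp [hv0]
        · have hr1 : r = 1 := mul_right_cancel₀ hv0 (by rw [one_mul]; exact h0.symm)
          rw [hr1, one_mul] at h1
          have hv1 : v 1 = 0 := (mul_eq_zero.1 (show (2 : F) * v 1 = 0 by linear_combination -h1)).resolve_left B.char2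
          refine ⟨0, v 0, hv0, ?_⟩
          funext x; fin_cases x <;> simp [hv1]
      refine ⟨k, fun c i hi hei hci => (B.mem_Kgl (IsIrr.classFun θ.2) hci).1
        (hall (B.neg_one_mem_Kgl (IsIrr.classFun θ.2)) i hi.2.1 hi.2.2.1 hi.2.2.2 ?_)⟩
      obtain ⟨r', hr'⟩ := hei
      exact ⟨r', by rw [hk, Matrix.mulVec_smul, hr', smul_comm]⟩
    · exfalso
      have hne : θ ≠ B.triv := fun e => hL (e ▸ B.triv_lfix)
      refine B.no_products (B.ne_triv hne) rfl ((B.cons_iff hne).1 hc) (fun i hi => ?_) hprod hneg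
      obtain ⟨s, hs⟩ := exists_conj_w0 B.char2 (i := i) ⟨Subgroup.mem_top _, hi.2⟩
      obtain ⟨c, hcs⟩ := B.surj (B.gl (tgl s))
      have hσ : B.σ (c * B.w * c⁻¹) = B.gl i := by
        rw [map_mul, map_mul, map_inv, hcs, ← B.gw, hs, map_mul, map_mul, map_inv]
      refine ⟨c, hσ, ?_⟩
      have h := (B.mem_Kgl (IsIrr.classFun θ.2) hσ).1 hi.1
      have hcf : Char.conjN B.O B.w (B.conjI c θ : B.O → ℂ) = (B.conjI c θ : B.O → ℂ) := by
        rw [conjI_coe]
        conv_rhs => rw [← h]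
        rw [← conjN_mul, ← conjN_mul]
        congr 1
        group
      have hL' : ¬ B.Lfix (B.conjI c θ : B.O → ℂ) := fun e => hL ((B.lfix_conj_iff (IsIrr.classFun θ.2) c).1 e)
      have hne' : B.conjI c θ ≠ B.triv := fun e => hL' (e ▸ B.triv_lfix)
      obtain ⟨-, -, ha'⟩ := (B.key W hq (B.cons_conj c hc)).2.2 hL'
      rw [← B.conjI_coe]
      refine W.equality (B.conjI c θ) (B.m θ) ?_ hcf ?_
      · rw [B.χp_inner_ne (B.ne_triv hne'), B.m_conj]
      · rw [ha' hcf, B.m_conj, Nat.abs_cast]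
  · obtain ⟨t, ht⟩ := IsChar.classInner_nat (IsIrr.isCharacter (isIrr_one (G := B.R))) (IsIrr.isCharacter hβ)
    obtain ⟨x, hx⟩ := IsChar.classInner_nat B.πw_char (IsIrr.isCharacter hβ)
    obtain ⟨y, hy⟩ := IsChar.classInner_nat B.πu_char (IsIrr.isCharacter hβ)
    have hne : classInner B.cw β ≠ 0 := by
      rw [show B.cw = (B.d1 : ℂ) • (fun _ : B.R => (1 : ℂ)) + (2⁻¹ : ℂ) • (B.πw + B.πu) from funext fun y => by
        rw [B.cw_eq]; simp; ring, classInner_add_left, classInner_smul_left, classInner_smul_left,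
        classInner_add_left, ht, hx, hy]
      intro h0
      have h' : ((2 * (B.d1 * t) + x + y : ℕ) : ℂ) = ((0 : ℕ) : ℂ) := by
        push_cast
        linear_combination (2 : ℂ) * h0
      have h'' := Nat.cast_injective h'
      rcases hπ with h | h
      · exact h (by rw [hx, show x = 0 by omega, Nat.cast_zero])
      · exact h (by rw [hy, show y = 0 by omega, Nat.cast_zero])
    rw [W.expansion, classInner_sum_left] at hne
    obtain ⟨θ, -, hθ⟩ := Finset.exists_ne_zero_of_sum_ne_zero hne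
    rw [classInner_smul_left] at hθ
    have ha : W.a θ ≠ 0 := fun e => hθ (by rw [e, Int.cast_zero, zero_mul])
    have hf : Char.conjN B.O B.w (θ : B.O → ℂ) = (θ : B.O → ℂ) := by
      by_contra e
      exact ha (W.zero θ e)
    have hβθ : W.β θ = β := by
      by_contra e
      exact hθ (by rw [classInner_irr_ne (W.irr θ hf) hβ e, mul_zero])
    have hc : B.Cons θ := by
      by_cases e : θ = B.triv
      · exact e ▸ B.cons_triv
      · rw [B.cons_iff e]
        have h := W.bound θ (B.m θ) (B.χp_inner_ne (B.ne_triv e))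
        have := abs_pos.2 ha
        omega
    exact ⟨θ, hc, hf, by rw [B.resR_eq W hq hc hf, hβθ]⟩
  · rw [← B.resR_eq W hq hc hf, ← B.resR_eq W hq hc' hf', he]

end BData

end Cfsg.Agent.Invol.AbgOrder
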