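import Cfsg.Agent.Lib.Invol.AbgOrder.CoreLinear
import Cfsg.Agent.Lib.Invol.AbgOrder.BudgetEq
import Cfsg.Agent.Lib.Invol.AbgOrder.BudgetAdapt

/-!
# The exact budget gives the hypotheses of the linear case

A constituent fixed by an involution, with irreducible restriction to its fixed points, is trivial on the commutators
with it.  Hence the constituents fixed along the involutions through a point are trivial on the subgroup attached to
that point, and a constituent of the permutation character is trivial on one of the two fixed parts.  The data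
`PreSetup.bdata` satisfy the compatibility that is needed.
-/

set_option autoImplicit false
set_option linter.unusedSectionVars false
set_option linter.style.haveILetI false

namespace Cfsg.Agent.Invol.AbgOrder

open Cfsg Cfsg.Agent.Char Matrix Cfsg.Agent.Classical

universe u v t w x y

section General

/-- An irreducible character taking the value `± χ 1` at an involution is trivial on its commutators. -/
theorem comm_mem_ker {Γ : Type u} [Group Γ] [Finite Γ] {ψ : Γ → ℂ} (hψ : IsIrrCharacter Γ ψ) {s : Γ}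
    (hs : s * s = 1) {ε : ℤ} (hε : ε = 1 ∨ ε = -1) (he : ψ s = (ε : ℂ) * ψ 1) (o : Γ) :
    ψ (o⁻¹ * (s * o * s)) = ψ 1 := by
  obtain ⟨n, ρ, -, rfl⟩ := hψ
  rw [Representation.char_one] at he ⊢
  obtain ⟨a, ha⟩ := (norm_character_eq_iff ρ s).1 (by
    rw [he, norm_mul, Complex.norm_natCast]
    rcases hε with rfl | rfl <;> simp)
  rw [character_eq_finrank_iff]
  have h2 : (a * a) • (LinearMap.id : (Fin n → ℂ) →ₗ[ℂ] (Fin n → ℂ)) = LinearMap.id := by
    have h := map_mul ρ s s
    rw [hs, map_one, ha] at h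
    rw [← Module.End.one_eq_id] at h ⊢
    rw [mul_smul]
    simpa using h.symm
  calc ρ (o⁻¹ * (s * o * s)) = ρ o⁻¹ * (ρ s * ρ o * ρ s) := by simp [map_mul]
    _ = (a * a) • (ρ o⁻¹ * ρ o) := by
      rw [ha, ← Module.End.one_eq_id]
      simp [smul_smul]
    _ = LinearMap.id := by rw [← map_mul, inv_mul_cancel, map_one, Module.End.one_eq_id, h2]

/-- If every constituent is trivial on `x` or on `y`, then `χ (x y) + χ 1 = χ x + χ y`. -/
theorem sum_of_ker_or {R : Type u} [Group R] [Fintype R] {χ : R → ℂ} (hχ : IsCharacter R χ) {x y : R}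
    (h : ∀ β : IrrCharacter R, classInner χ (β : R → ℂ) ≠ 0 →
      (β : R → ℂ) x = (β : R → ℂ) 1 ∨ (β : R → ℂ) y = (β : R → ℂ) 1) :
    χ (x * y) + χ 1 = χ x + χ y := by
  obtain ⟨a, ha, hd⟩ := IsChar.exists_decomp_inner hχ
  rw [congrFun hd (x * y), congrFun hd 1, congrFun hd x, congrFun hd y, sum_irr_apply, sum_irr_apply, sum_irr_apply,
    sum_irr_apply, ← Finset.sum_add_distrib, ← Finset.sum_add_distrib]
  refine Finset.sum_congr rfl fun β _ => ?_
  by_cases h0 : classInner χ (β : R → ℂ) = 0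
  · rw [show (a β : ℂ) = 0 by rw [← ha, h0]]
    ring
  · rcases h β h0 with hx | hy
    · rw [char_mul_ker (IsIrr.isCharacter β.2) hx, hx]
      ring
    · rw [show x * y = x * y * x⁻¹ * x by group, char_mul_ker (IsIrr.isCharacter β.2)
        (show (β : R → ℂ) (x * y * x⁻¹) = (β : R → ℂ) 1 by rw [IsIrr.classFun β.2, hy]), hy]

/-- The fixed points of `diag(1, -1)`. -/
theorem point_cases {F : Type v} [Field F] [Fintype F] (h2 : (2 : F) ≠ 0) {P : P1 F}
    (h : inn (gdiag (1 : Fˣ) (-1)) • P = P) : P = infP F ∨ P = ptP 0 := by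
  rcases pt_or_inf P with hP | ⟨x, rfl⟩
  · exact Or.inl hP
  · rw [gdiag_pt] at h
    have h1 := ptP_inj h
    simp only [Units.val_one, Units.val_neg, one_div, inv_neg, inv_one, neg_mul, one_mul] at h1
    exact Or.inr (congrArg ptP ((mul_eq_zero.1 (show (2 : F) * x = 0 by linear_combination -h1)).resolve_left h2))

/-- A permutation character satisfying that identity has no point moved by both. -/
theorem fixed_or_fixed {S : Type u} [Finite S] (fx fy fxy : S → Prop) (h1 : ∀ s, fx s → fy s → fxy s)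
    (hc : Nat.card {s // fxy s} + Nat.card S = Nat.card {s // fx s} + Nat.card {s // fy s}) (s : S) :
    fx s ∨ fy s := by
  classical
  haveI := Fintype.ofFinite S
  by_contra hn
  rw [not_or] at hn
  simp only [Nat.card_eq_fintype_card, Fintype.card_subtype, Finset.card_filter] at hc
  rw [Fintype.card_eq_sum_ones, ← Finset.sum_add_distrib, ← Finset.sum_add_distrib] at hc
  refine (Finset.sum_lt_sum (s := (Finset.univ : Finset S)) (fun t _ => ?_)
    ⟨s, Finset.mem_univ _, ?_⟩).ne' hc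
  · by_cases a : fx t <;> by_cases b : fy t
    · simp [a, b, h1 t a b]
    · simp [a, b]
    · simp [a, b]
    · simp [a, b]
  · simp [hn.1, hn.2]

end General

namespace BData

variable {C : Type u} [Group C] [Fintype C] {X : Type v} [Group X] {F : Type t} [Field F] [Fintype F]
  (B : BData C X F) [Fintype B.O] [Fintype B.R] [Fintype B.Gw]

/-- The kernel of a constituent, inside the group. -/
noncomputable def kerO (θ : IrrCharacter B.O) : Subgroup C := (charKer (IsIrr.isCharacter θ.2)).map B.O.subtype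

theorem mem_kerO {θ : IrrCharacter B.O} {o : C} (ho : o ∈ B.O) :
    o ∈ B.kerO θ ↔ (θ : B.O → ℂ) ⟨o, ho⟩ = (θ : B.O → ℂ) 1 := by
  rw [← mem_charKer (IsIrr.isCharacter θ.2)]
  exact ⟨fun ⟨_, hy, e⟩ => (Subtype.ext e : _ = (⟨o, ho⟩ : B.O)) ▸ hy, fun h => ⟨_, h, rfl⟩⟩

theorem le_O_kerO (θ : IrrCharacter B.O) : B.kerO θ ≤ B.O := Subgroup.map_subtype_le _

variable {B} (h : B.Out)
include h

/-- A constituent fixed by `w` is trivial on the commutators with `w`. -/
theorem Out.comm_w {θ : IrrCharacter B.O} (hc : B.Cons θ)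
    (hf : Char.conjN B.O B.w (θ : B.O → ℂ) = (θ : B.O → ℂ)) {o : C} (ho : o ∈ B.O) :
    o⁻¹ * (B.w * o * B.w) ∈ B.kerO θ := by
  classical
  haveI : (B.O.subgroupOf B.Gw).Normal := Subgroup.Normal.subgroupOf inferInstance _
  haveI : Fintype (B.O.subgroupOf B.Gw) := Fintype.ofFinite _
  haveI : Fintype (B.R.subgroupOf B.Gw) := Fintype.ofFinite _
  have hR : B.R ≤ B.Gw := fun y hy => B.O_le_Gw hy.1
  set eO := Subgroup.subgroupOfEquivOfLe B.O_le_Gw
  set eR := Subgroup.subgroupOfEquivOfLe hR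
  set θ' : IrrCharacter (B.O.subgroupOf B.Gw) := ⟨fun x => (θ : B.O → ℂ) (eO x), IsIrr.comp_mulEquiv eO θ.2⟩
  obtain ⟨ψ, β, ε, hres, hε, hv, hne⟩ :=
    exists_glaub_ext B.setup_w θ' (fun g => congrFun hf (eO g))
  have hi : IsIrrCharacter (B.R.subgroupOf B.Gw) (fun y => B.resR θ (eR y)) :=
    IsIrr.comp_mulEquiv eR (h.restr θ hc hf)
  have hβ := eq_of_constituent_irr hi β.2 hne
  have h1 : (ψ : B.Gw → ℂ) 1 = (θ : B.O → ℂ) 1 := by
    have e := hres 1
    rw [Subgroup.coe_one] at e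
    rw [e]
    show (θ : B.O → ℂ) (eO 1) = _
    rw [map_one]
  have hs : (ψ : B.Gw → ℂ) ⟨B.w, B.w_mem_Gw⟩ = (ε : ℂ) * (ψ : B.Gw → ℂ) 1 := by
    have e := hv 1
    rw [Subgroup.coe_one, one_mul] at e
    rw [e, h1, ← congrFun hβ 1]
    congr 1
  have hmem : o⁻¹ * (B.w * o * B.w) ∈ B.O := by
    refine mul_mem (inv_mem ho) ?_
    have h' := (inferInstance : B.O.Normal).conj_mem o ho B.w
    rwa [inv_eq_of_mul_eq_one_right B.w2] at h'
  have hk := comm_mem_ker ψ.2 (Subtype.ext B.w2) hε hs ⟨o, B.O_le_Gw ho⟩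
  rw [B.mem_kerO hmem]
  rw [h1] at hk
  rw [← hk]
  exact (hres ⟨(⟨o, B.O_le_Gw ho⟩ : B.Gw)⁻¹ * (⟨B.w, B.w_mem_Gw⟩ * ⟨o, B.O_le_Gw ho⟩ * ⟨B.w, B.w_mem_Gw⟩),
    hmem⟩).symm

/-- The same for every involution over the class of `w`. -/
theorem Out.comm_invol {θ : IrrCharacter B.O} (hc : B.Cons θ) {j : C} (hj : j * j = 1) {i : GL (Fin 2) F}
    (hi : i ∈ Jset (⊤ : Subgroup (GL (Fin 2) F))) (hji : B.σ j = B.gl i)
    (hf : Char.conjN B.O j (θ : B.O → ℂ) = (θ : B.O → ℂ)) {o : C} (ho : o ∈ B.O) :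
    o⁻¹ * (j * o * j) ∈ B.kerO θ := by
  obtain ⟨s, hs⟩ := exists_conj_w0 B.char2 hi
  obtain ⟨a, ha⟩ := B.surj (B.gl (Matrix.SpecialLinearGroup.toGL s))
  have hn : B.O.Normal := inferInstance
  have hj' : a⁻¹ * j * a * B.w⁻¹ ∈ B.O := by
    rw [MonoidHom.mem_ker]
    simp only [map_mul, map_inv, hji, ha, hs, ← B.gw]
    group
  obtain ⟨b, hb, e, heO, hew, hbe⟩ := exists_conj_centralizer_coset B.O B.w
    (by rw [Subgroup.normalizer_eq_top_iff.2 hn]; trivial)
    (by
      rw [orderOf_eq_prime (by rw [pow_two, B.w2]) fun h0 => B.σw_ne (by rw [h0, map_one])]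
      exact Nat.coprime_two_left.2 B.ker_odd) _ hj'
  rw [inv_mul_cancel_right] at hbe
  have he1 : e = 1 := by
    have h2 : (e * B.w) * (e * B.w) = 1 := by
      rw [← hbe, show b * (a⁻¹ * j * a) * b⁻¹ * (b * (a⁻¹ * j * a) * b⁻¹) = b * a⁻¹ * (j * j) * a * b⁻¹ by group, hj]
      group
    rw [mul_assoc e, ← mul_assoc B.w e, ← hew, mul_assoc e B.w, B.w2, mul_one] at h2
    refine orderOf_eq_one_iff.1 (Nat.dvd_one.1 ?_)
    rw [← Nat.coprime_two_left.2 (B.odd_of_ker heO)]
    exact Nat.dvd_gcd (orderOf_dvd_of_pow_eq_one (by rw [pow_two, h2])) dvd_rfl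
  rw [he1, one_mul] at hbe
  set d := a * b⁻¹ with hd
  have hjd : j * d = d * B.w := by rw [hd, ← hbe]; group
  have hf' : Char.conjN B.O B.w (B.conjI d θ : B.O → ℂ) = (B.conjI d θ : B.O → ℂ) := by
    rw [conjI_coe, ← conjN_mul, ← hjd, conjN_mul, hf]
  have ho' : d⁻¹ * o * d ∈ B.O := by simpa using hn.conj_mem o ho d⁻¹
  have hk := h.comm_w (B.cons_conj d hc) hf' ho'
  have hm : o⁻¹ * (j * o * j) ∈ B.O := by
    refine mul_mem (inv_mem ho) ?_
    have h' := hn.conj_mem o ho j
    rwa [inv_eq_of_mul_eq_one_right hj] at h'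
  rw [B.mem_kerO (B.le_O_kerO _ hk), conjI_coe, conjN_apply] at hk
  rw [B.mem_kerO hm]
  have hone : Char.conjN B.O d (θ : B.O → ℂ) 1 = (θ : B.O → ℂ) 1 := by
    rw [conjN_apply]; exact congrArg (θ : B.O → ℂ) (Subtype.ext (by simp))
  rw [hone] at hk
  rw [← hk]
  refine congrArg (θ : B.O → ℂ) (Subtype.ext ?_)
  show o⁻¹ * (j * o * j) = d * ((d⁻¹ * o * d)⁻¹ * (B.w * (d⁻¹ * o * d) * B.w)) * d⁻¹
  have hdw : B.w = d⁻¹ * j * d := by rw [mul_assoc, hjd]; group
  rw [hdw]
  group

end BData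

namespace PreSetup

variable {G : Type u} [Group G] [Finite G] {F : Type v} [Field F] [Fintype F] {H : Type w} [Group H] {K : Type x}
  [CommGroup K] {Q : ℤ} {X : Type y} [Group X]

/-- How the data of the budget sit in the coordinates. -/
structure BudgetLink (c : PreSetup G F H K Q) (co : Coord c.k)
    (B : BData ↥(Subgroup.centralizer ({c.z} : Set G)) X F) : Prop where
  ker : B.σ.ker = Cfsg.oddCore ↥(Subgroup.centralizer ({c.z} : Set G))
  w_eq : B.w = c.wC
  invol : ∀ j, j * j = 1 → B.σ j ∈ B.gl.range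
  act : ∃ β : MulAut (Matrix.SpecialLinearGroup (Fin 2) F), ∀ d i, B.σ d = B.gl i → c.actC co d = β * inn i * β⁻¹
  faithful : ∀ o ∈ Cfsg.oddCore ↥(Subgroup.centralizer ({c.z} : Set G)), B.χ o = B.χ 1 → o = 1
  πw_eq : ∀ r, B.πw r = (Nat.card {e : {e : F // e ≠ 0} //
    co.act (c.kap (r : ↥(Subgroup.centralizer ({c.z} : Set G)))) • ptP (e : F) = ptP (e : F)} : ℂ)
  πu_ker : ∀ r : B.R, (r : ↥(Subgroup.centralizer ({c.z} : Set G))) ∈ c.Nu → B.πu r = B.πu 1

variable {c : PreSetup G F H K Q} {co : Coord c.k}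
  [Fintype ↥(Subgroup.centralizer ({c.z} : Set G))]
  {B : BData ↥(Subgroup.centralizer ({c.z} : Set G)) X F} [Fintype B.O] [Fintype B.R] [Fintype B.Gw]

/-- The exact budget gives the hypotheses of the linear case. -/
theorem BudgetLink.linBudget (L : BudgetLink c co B) (h : B.Out) : LinBudget c co := by
  classical
  have hO : ∀ {o : ↥(Subgroup.centralizer ({c.z} : Set G))},
      o ∈ Cfsg.oddCore ↥(Subgroup.centralizer ({c.z} : Set G)) → o ∈ B.O := fun ho => by
    show _ ∈ B.σ.ker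
    rw [L.ker]
    exact ho
  have hR : ∀ {r : ↥(Subgroup.centralizer ({c.z} : Set G))},
      r ∈ Cfsg.oddCore ↥(Subgroup.centralizer ({c.z} : Set G)) → r ∈ c.MW → r ∈ B.R := fun ho hm =>
    ⟨hO ho, by rw [L.w_eq]; exact hm⟩
  refine ⟨fun x hx y hy hxM hyM e he => ?_, fun x hx hxw hxu => ?_⟩
  · -- the permutation character
    set x' : B.R := ⟨x, hR (c.DP_le co _ hx) hxM⟩ with hx'
    set y' : B.R := ⟨y, hR (c.DP_le co _ hy) hyM⟩ with hy'
    have hk : ∀ β : IrrCharacter B.R, classInner B.πw (β : B.R → ℂ) ≠ 0 →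
        (β : B.R → ℂ) x' = (β : B.R → ℂ) 1 ∨ (β : B.R → ℂ) y' = (β : B.R → ℂ) 1 := by
      intro β hβ
      obtain ⟨θ, hc, hf, hθ⟩ := h.attain (β : B.R → ℂ) β.2 (Or.inl hβ)
      obtain ⟨k, hk⟩ := h.borel θ hc hf
      obtain ⟨γ, hγ⟩ := L.act
      have hw0 : w0 F = gdiag 1 (-1) := Units.ext (by
        rw [gdiag_coe]
        ext a b
        fin_cases a <;> fin_cases b <;> simp [w0])
      have hcomm : γ * inn (gdiag 1 (-1)) * γ⁻¹ = inn (gdiag (1 : Fˣ) (-1)) := by
        rw [← hw0, ← hγ B.w (w0 F) B.gw.symm, L.w_eq, c.actC_w co, hw0]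
      have hpts : ∀ P : P1 F, inn (gdiag (1 : Fˣ) (-1)) • P = P → γ⁻¹ • P = infP F ∨ γ⁻¹ • P = ptP 0 := fun P hP => by
        refine point_cases B.char2 ?_
        conv_rhs => rw [← hP, ← hcomm]
        rw [mul_smul, mul_smul, inv_smul_smul]
      have hker : ∀ P : P1 F, (∀ g : GL (Fin 2) F, inn g • γ⁻¹ • P = γ⁻¹ • P →
          ∃ r : F, (g : Matrix (Fin 2) (Fin 2) F) *ᵥ Pi.single k 1 = r • Pi.single k 1) →
          c.DP co P ≤ B.kerO θ := by
        intro P hP
        refine (Subgroup.closure_le _).2 ?_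
        rintro _ ⟨o, ho, j, hj, hjP, rfl⟩
        have htriv : Commute j o → o⁻¹ * (j * o * j) ∈ B.kerO θ := fun hjo => by
          rw [hjo.eq, mul_assoc o, hj, mul_one, inv_mul_cancel]
          exact one_mem _
        obtain ⟨g, hg⟩ := L.invol j hj
        have hgg : g * g ∈ B.gl.ker := by rw [MonoidHom.mem_ker, map_mul, hg, ← map_mul, hj, map_one]
        obtain ⟨m, hm⟩ := B.gl_odd.of_dvd_nat (B.gl.ker.orderOf_dvd_natCard hgg)
        set i := g * (g * g) ^ m with hi
        have hi2 : i * i = 1 := by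
          have hcm : Commute g ((g * g) ^ m) := ((Commute.refl g).mul_right (Commute.refl g)).pow_right m
          rw [hi, hcm.symm.mul_mul_mul_comm, ← pow_add, ← pow_succ', show m + m + 1 = orderOf (g * g) by omega,
            pow_orderOf_eq_one]
        have hji : B.σ j = B.gl i := by
          rw [hi, map_mul, map_pow, MonoidHom.mem_ker.1 hgg, one_pow, mul_one, hg]
        by_cases h1 : i = 1
        · have hjO : j ∈ B.O := by rw [MonoidHom.mem_ker, hji, h1, map_one]
          refine htriv ?_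
          have hj1 : j = 1 := orderOf_eq_one_iff.1 (Nat.dvd_one.1 (Nat.coprime_two_left.2 (B.odd_of_ker hjO) ▸
            Nat.dvd_gcd (orderOf_dvd_of_pow_eq_one (by rw [pow_two, hj])) dvd_rfl))
          rw [hj1]
          exact Commute.one_left o
        by_cases hn : i = -1
        · have hjO : j * B.z ∈ B.O := by
            rw [MonoidHom.mem_ker, map_mul, hji, hn, B.gz, ← map_mul, B.z2, map_one]
          refine htriv ?_
          have h2 : j * B.z * (j * B.z) = 1 := by
            rw [mul_assoc j, ← mul_assoc B.z, ← B.z_central j, mul_assoc j B.z, B.z2, mul_one, hj]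
          have h3 := orderOf_eq_one_iff.1 (Nat.dvd_one.1 (Nat.coprime_two_left.2 (B.odd_of_ker hjO) ▸
            Nat.dvd_gcd (orderOf_dvd_of_pow_eq_one (by rw [pow_two, h2])) dvd_rfl))
          rw [show j = B.z by
            have h4 := congrArg (· * B.z) h3
            simpa only [mul_assoc, B.z2, mul_one, one_mul] using h4]
          exact (B.z_central o).symm
        have hiJ : i ∈ Jset (⊤ : Subgroup (GL (Fin 2) F)) := ⟨Subgroup.mem_top _, hi2, h1, hn⟩
        have hact : inn i • γ⁻¹ • P = γ⁻¹ • P := by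
          have hjP' := hjP
          rw [hγ j i hji, mul_smul, mul_smul] at hjP'
          exact eq_inv_smul_iff.2 hjP'
        exact h.comm_invol hc hj hiJ hji (hk j i hiJ (hP i hact) hji) (hO ho)
      have hres : ∀ {r : B.R}, (r : ↥(Subgroup.centralizer ({c.z} : Set G))) ∈ B.kerO θ →
          (β : B.R → ℂ) r = (β : B.R → ℂ) 1 := fun {r} hr => by
        rw [← hθ]
        exact (B.mem_kerO r.2.1).1 hr
      have hcol : ∀ (g : GL (Fin 2) F) (P : P1 F), P = infP F ∧ k = 0 ∨ P = ptP 0 ∧ k = 1 → inn g • P = P →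
          ∃ r : F, (g : Matrix (Fin 2) (Fin 2) F) *ᵥ Pi.single k 1 = r • Pi.single k 1 := by
        rintro g P (⟨rfl, rfl⟩ | ⟨rfl, rfl⟩) hg
        · refine ⟨(g : Matrix (Fin 2) (Fin 2) F) 0 0, ?_⟩
          have h10 := inn_smul_inf.1 hg
          funext a
          fin_cases a <;> simp [Matrix.mulVec, dotProduct, Fin.sum_univ_two, h10]
        · refine ⟨(g : Matrix (Fin 2) (Fin 2) F) 1 1, ?_⟩
          have h01' : inn (gJ * g * gJ) • infP F = infP F := by
            rw [map_mul, map_mul, mul_smul, mul_smul, gJ_inf, hg, gJ_zero]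
          have h01 : (g : Matrix (Fin 2) (Fin 2) F) 0 1 = 0 := by
            have := inn_smul_inf.1 h01'
            simpa [gJ_coe, Matrix.mul_apply, Fin.sum_univ_two, Matrix.vecMul, dotProduct] using this
          funext a
          fin_cases a <;> simp [Matrix.mulVec, dotProduct, Fin.sum_univ_two, h01]
      rcases hpts (infP F) (gdiag_inf _ _) with hi | hi
      · rcases hpts (ptP 0) (by rw [gdiag_pt, mul_zero]) with h0 | h0
        · exact absurd (smul_left_cancel γ⁻¹ (h0.trans hi.symm)) (ptP_ne 0)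
        · fin_cases k
          · exact Or.inr (hres (hker _ (fun g hg => hcol g _ (Or.inl ⟨hi, rfl⟩) hg) hy))
          · exact Or.inl (hres (hker _ (fun g hg => hcol g _ (Or.inr ⟨h0, rfl⟩) hg) hx))
      · rcases hpts (ptP 0) (by rw [gdiag_pt, mul_zero]) with h0 | h0
        · fin_cases k
          · exact Or.inl (hres (hker _ (fun g hg => hcol g _ (Or.inl ⟨h0, rfl⟩) hg) hx))
          · exact Or.inr (hres (hker _ (fun g hg => hcol g _ (Or.inr ⟨hi, rfl⟩) hg) hy))
        · exact absurd (smul_left_cancel γ⁻¹ (h0.trans hi.symm)) (ptP_ne 0)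
    have hsum := sum_of_ker_or B.πw_char hk
    rw [L.πw_eq, L.πw_eq, L.πw_eq, L.πw_eq] at hsum
    have hxy : co.act (c.kap (x * y)) = co.act (c.kap x) * co.act (c.kap y) := by rw [c.kap_mul hxM hyM, map_mul]
    have hfix := fixed_or_fixed (S := {e : F // e ≠ 0})
      (fun e => co.act (c.kap x) • ptP (e : F) = ptP (e : F))
      (fun e => co.act (c.kap y) • ptP (e : F) = ptP (e : F))
      (fun e => co.act (c.kap (x * y)) • ptP (e : F) = ptP (e : F))
      (fun e hA hB => by rw [hxy, mul_smul, hB, hA])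
      (by
        have h1 : Nat.card {e : {e : F // e ≠ 0} //
            co.act (c.kap (1 : ↥(Subgroup.centralizer ({c.z} : Set G)))) • ptP (e : F) = ptP (e : F)} =
            Nat.card {e : F // e ≠ 0} :=
          Nat.card_congr (Equiv.subtypeUnivEquiv fun e => by rw [c.kap_one, map_one, one_smul])
        rw [← h1]
        exact_mod_cast hsum)
      ⟨e, he⟩
    exact hfix
  · -- faithfulness
    have hCw : ∀ θ : IrrCharacter B.O, B.Cons θ → Char.conjN B.O B.w (θ : B.O → ℂ) = (θ : B.O → ℂ) →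
        c.Cw ≤ B.kerO θ := by
      intro θ hc hf
      refine (Subgroup.closure_le _).2 ?_
      rintro _ ⟨o, ho, rfl⟩
      have := h.comm_w hc hf (hO ho)
      rwa [L.w_eq] at this
    refine L.faithful x hx ?_
    by_contra hne
    obtain ⟨θ, hc, hθx⟩ := exists_nonprincipal_constituent (IsChar.res B.isChar B.O) (g := (⟨x, hO hx⟩ : B.O)) hne
    refine hθx ?_
    obtain ⟨d, hcd, hfd, hcase⟩ := h.orbit θ hc
    have hxd : d⁻¹ * x * d ∈ B.kerO (B.conjI d θ) := by
      have hNR : ∀ {r : ↥(Subgroup.centralizer ({c.z} : Set G))},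
          r ∈ Cfsg.oddCore ↥(Subgroup.centralizer ({c.z} : Set G)) → r ∈ c.MW →
          (∀ hr : r ∈ B.R, B.resR (B.conjI d θ) ⟨r, hr⟩ = B.resR (B.conjI d θ) 1) → r ∈ B.kerO (B.conjI d θ) :=
        fun hr hm hh => (B.mem_kerO (hO hr)).2 (hh (hR hr hm))
      have hw' : c.Nw ≤ B.kerO (B.conjI d θ) → d⁻¹ * x * d ∈ B.kerO (B.conjI d θ) := fun hN => by
        refine sup_le (hCw _ hcd hfd) hN ?_
        simpa using hxw d⁻¹
      have hMu : ∀ {r : ↥(Subgroup.centralizer ({c.z} : Set G))}, r ∈ c.Nu → r ∈ c.MW := fun {r} hr => by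
        have h1 : Commute (r : G) (c.z * c.w) := coreAt_comm hr.2
        have h2 : Commute (r : G) c.z := mem_cent.1 r.2
        have h3 := h2.inv_right.mul_right h1
        rw [inv_mul_cancel_left] at h3
        exact c.mem_MW.2 h3
      rcases hcase with e1 | ew | eu
      · exact hw' fun r (hr : r ∈ c.Nw) => hNR hr.1 (c.Nw_le hr).2 fun _ => by rw [e1]
      · refine hw' fun r (hr : r ∈ c.Nw) => hNR hr.1 (c.Nw_le hr).2 fun hrR =>
          constituent_ker B.πw_char (h.restr _ hcd hfd) ew ?_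
        rw [L.πw_eq, L.πw_eq]
        simp only [Subgroup.coe_one, c.kap_one, (c.mem_Nw.1 hr).2.2]
      · refine sup_le (hCw _ hcd hfd) (fun r (hr : r ∈ c.Nu) => hNR hr.1 (hMu hr) fun hrR =>
          constituent_ker B.πu_char (h.restr _ hcd hfd) eu (L.πu_ker ⟨r, hrR⟩ hr)) ?_
        simpa using hxu d⁻¹
    rw [B.mem_kerO (B.le_O_kerO _ hxd), BData.conjI_coe, conjN_apply, conjN_apply] at hxd
    refine (Eq.trans ?_ hxd).trans ?_
    · exact congrArg (θ : B.O → ℂ) (Subtype.ext (by simp [mul_assoc]))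
    · exact congrArg (θ : B.O → ℂ) (Subtype.ext (by simp))

/-- The exact budget gives the hypotheses of `CoreSetup`. -/
theorem BudgetLink.core_setup (L : BudgetLink c co B) (h : B.Out) :
    ∃ cs : CoreSetup G F H K Q, cs.toPreSetup = c ∧ ∀ a, a ∈ coreAt c.z → a ∈ coreAt c.w → a = 1 :=
  c.core_setup co (L.linBudget h)

section Adapt

open scoped _root_.Classical

variable {G : Type u} [Group G] [Fintype G] {F : Type v} [Field F] [Fintype F] [DecidableEq F] {K : Type x}
  [CommGroup K] {Q : ℤ} (c : PreSetup G F (GL (Fin 2) F) K Q) (hQ : Q = (Fintype.card F : ℤ)) (co : Coord c.k)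
  {χ : G → ℂ} (hχ : IsCharacter G χ) {d₁ : ℕ} (hd : 0 < d₁)
  (hdeg : χ 1 = (Fintype.card F : ℂ) ^ 2 + (Fintype.card F : ℂ) - 2 + d₁)
  (hcol : ∀ v : ↥(Subgroup.centralizer ({c.z} : Set G)), Odd (orderOf v) →
    χ (c.z * (v : G)) = ((d₁ : ℂ) - 1) + c.s.refSt (QuotientGroup.mk v))
  (hfaith : ∀ a ∈ coreAt c.z, χ a = χ 1 → a = 1)

include hfaith in
/-- The data at the centraliser satisfy the compatibility. -/
theorem bdata_link : BudgetLink c co (c.bdata hQ χ hχ hd hdeg hcol) where
  ker := QuotientGroup.ker_mk' _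
  w_eq := rfl
  invol j hj := by
    show QuotientGroup.mk' _ j ∈ c.glc.range
    rw [c.glc_range]
    set a := QuotientGroup.mk' (Cfsg.oddCore ↥(Subgroup.centralizer ({c.z} : Set G))) j
    have ha : a * a = 1 := by rw [← map_mul, hj, map_one]
    have hf : c.s.fldX a = 1 := by
      refine orderOf_eq_one_iff.1 (Nat.dvd_one.1 ?_)
      rw [← Nat.coprime_two_left.2 (c.s.fldX_odd a)]
      exact Nat.dvd_gcd (orderOf_dvd_of_pow_eq_one (by rw [pow_two, ← map_mul, ha, map_one])) dvd_rfl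
    obtain ⟨g, i, e⟩ := c.s.gen a
    rw [e, c.s.fldX_form] at hf
    refine ⟨g, ?_⟩
    rw [e, orderOf_dvd_iff_pow_eq_one.1 (c.s.orderOf_f.symm ▸ orderOf_dvd_of_pow_eq_one hf), mul_one]
  act := by
    have h4 := c.four_le
    have hinj := c.s.M.ι_inj
    let α : MulAut (Matrix.SpecialLinearGroup (Fin 2) F) :=
      (MonoidHom.ofInjective hinj).trans ((MulEquiv.subgroupCongr (c.s.M.range_ι h4)).trans
        (MonoidHom.ofInjective Matrix.SpecialLinearGroup.toGL_injective).symm)
    have hα : ∀ t, Matrix.SpecialLinearGroup.toGL (α t) = c.s.M.ι t := fun t => by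
      show Matrix.SpecialLinearGroup.toGL ((MonoidHom.ofInjective Matrix.SpecialLinearGroup.toGL_injective).symm
        (MulEquiv.subgroupCongr (c.s.M.range_ι h4) (MonoidHom.ofInjective hinj t))) = _
      rw [MonoidHom.apply_ofInjective_symm]
      rfl
    have hψ : ∀ g : GL (Fin 2) F, c.s.ψ (c.s.π g) = α⁻¹ * inn g * α := fun g => c.s.act₂_eq fun t => by
      rw [← map_inv, ← map_mul, ← map_mul]
      congr 1
      rw [← hα t, ← inn_toGL_eq, ← hα]
      simp [MulAut.mul_apply]
    refine ⟨inn co.g₀⁻¹ * α⁻¹ * inn c.exists_conj_w0.choose, fun d i hdi => ?_⟩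
    show co.act (QuotientGroup.mk d) = _
    rw [show (QuotientGroup.mk d : _ ⧸ Cfsg.oddCore ↥(Subgroup.centralizer ({c.z} : Set G))) =
      c.glc i from hdi, c.glc_apply]
    show MulAut.conj (inn co.g₀⁻¹) (c.s.ψ _) = _
    rw [hψ, MulAut.conj_apply, map_mul inn, map_mul inn]
    simp only [map_inv, _root_.mul_inv_rev, inv_inv]
    group
  faithful o ho h := Subtype.ext (hfaith _ (c.coe_core.2 ho) h)
  πw_eq r := by
    set a := co.act (c.kap (r : ↥(Subgroup.centralizer ({c.z} : Set G))))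
    obtain ⟨h1, h2⟩ := co.fix_of_comm (c.kap_comm_u (c.mem_R r.2).2)
    haveI : Finite (P1 F) := Subtype.finite
    haveI := Fintype.ofFinite (P1 F)
    let f : {e : F // e ≠ 0} ↪ P1 F := ⟨fun e => ptP e.1, ptP_inj.comp Subtype.val_injective⟩
    have e : (Finset.univ.filter fun P : P1 F => a • P = P) = insert (infP F) (insert (ptP (0 : F))
        ((Finset.univ.filter fun e : {e : F // e ≠ 0} => a • f e = f e).map f)) := by
      ext P
      simp only [Finset.mem_filter, Finset.mem_univ, true_and, Finset.mem_insert, Finset.mem_map]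
      constructor
      · intro hP
        rcases pt_or_inf P with rfl | ⟨x, rfl⟩
        · exact Or.inl rfl
        · by_cases hx : x = 0
          · exact Or.inr (Or.inl (by rw [hx]))
          · exact Or.inr (Or.inr ⟨⟨x, hx⟩, hP, rfl⟩)
      · rintro (rfl | rfl | ⟨x, hx, rfl⟩)
        · exact h1
        · exact h2
        · exact hx
    have h := co.refSt_fixed (c.kap (r : ↥(Subgroup.centralizer ({c.z} : Set G))))
    rw [Nat.card_eq_fintype_card, Fintype.card_subtype, e, Finset.card_insert_of_notMem,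
      Finset.card_insert_of_notMem, Finset.card_map, ← Fintype.card_subtype, ← Nat.card_eq_fintype_card] at h
    · push_cast at h
      show c.s.refSt _ - 1 = _
      linear_combination h
    · simp only [Finset.mem_map, not_exists, not_and]
      exact fun x _ hx => x.2 (ptP_inj hx)
    · simp only [Finset.mem_insert, Finset.mem_map, not_or, not_exists, not_and]
      exact ⟨(ptP_ne 0).symm, fun x _ => ptP_ne _⟩
  πu_ker r hr := by
    have h1 := coreAt_conj c.g (c.z * c.w) (show ((r : ↥(Subgroup.centralizer ({c.z} : Set G))) : G) ∈ _ from hr.2)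
    rw [c.gwz] at h1
    show c.s.refSt (c.kapu _) - 1 = c.s.refSt (c.kapu _) - 1
    rw [kapu, kapu, (c.mem_O.1 h1).2, OneMemClass.coe_one, OneMemClass.coe_one, mul_one, mul_inv_cancel, c.q_at_one]

include hQ hχ hd hdeg hcol hfaith in
/-- Linear case, `q ≠ 9`: the degree of the character makes the odd cores at `z`, `w` meet trivially and `w`
centralise `O(z)`. -/
theorem exists_core_setup (h9 : Fintype.card F ≠ 9) (h5 : 5 ≤ Fintype.card F) :
    ∃ cs : CoreSetup G F (GL (Fin 2) F) K Q,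
      cs.toPreSetup = c ∧ ∀ a, a ∈ coreAt c.z → a ∈ coreAt c.w → a = 1 := by
  obtain ⟨co⟩ := Coord.nonempty c.k hQ c.four_le
  haveI := Fintype.ofFinite ↥(c.bdata hQ χ hχ hd hdeg hcol).O
  haveI := Fintype.ofFinite ↥(c.bdata hQ χ hχ hd hdeg hcol).R
  haveI := Fintype.ofFinite ↥(c.bdata hQ χ hχ hd hdeg hcol).Gw
  exact (bdata_link c hQ co hχ hd hdeg hcol hfaith).core_setup
    ((c.bdata hQ χ hχ hd hdeg hcol).budget_out (Or.inl ⟨h5, h9⟩))

end Adapt

end PreSetup

end Cfsg.Agent.Invol.AbgOrder
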