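import Cfsg.Agent.Lib.Invol.AbgOrder.FinalLinear
import Cfsg.Agent.Lib.Invol.AbgOrder.CoreBudget

/-!
# The linear case up to the field component

The character makes the involution `w` centralise the core; nine elements are included.
-/

set_option autoImplicit false
set_option linter.style.haveILetI false
set_option linter.unusedSectionVars false

open scoped Classical

namespace Cfsg.Agent.Invol.AbgOrder

open Cfsg Cfsg.Agent.Char Cfsg.Agent.Block
open Cfsg.Agent.Invol.BrauerL3 (scal)

universe u v x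

attribute [local instance] oddCore_normal

variable {G : Type u} [Group G] [Fintype G] [IsSimpleGroup G] {F : Type v} [Field F] [Fintype F] {K : Type x}
  [CommGroup K] {Q : ℤ}

/-- A character of a simple group with some value not its degree is faithful. -/
theorem faithful_of_ne {χ : G → ℂ} (hχ : IsCharacter G χ) {g : G} (hg : χ g ≠ χ 1) {a : G} (ha : χ a = χ 1) :
    a = 1 := by
  rcases (charKer_normal hχ).eq_bot_or_eq_top with h | h
  · exact (Subgroup.eq_bot_iff_forall _).1 h a ((mem_charKer hχ).2 ha)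
  · exact absurd ((mem_charKer hχ).1 ((Subgroup.eq_top_iff' _).1 h g)) hg

variable (c : PreSetup G F (GL (Fin 2) F) K Q) {M : Ideal AlgInt}

/-- The core data. -/
theorem linear_core (hQ : Q = (Fintype.card F : ℤ)) (hN : NHyp c.s.π.range) (hM : IsPModular 2 M)
    {χ : IrrCharacter G} (hχ : χ ∈ principalBlock M G) {d₁ : ℕ} (hd : d₁ = 1 ∨ d₁ = 2)
    (hdeg : (χ : G → ℂ) 1 = (Fintype.card F : ℂ) ^ 2 + (Fintype.card F : ℂ) - 2 + d₁)
    (hval : (χ : G → ℂ) c.z = (Fintype.card F : ℂ) + d₁ - 1) :
    ∃ cs : CoreSetup G F (GL (Fin 2) F) K Q, cs.toPreSetup = c := by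
  obtain ⟨co⟩ := Coord.nonempty c.k hQ c.four_le
  have hne : (χ : G → ℂ) c.z ≠ (χ : G → ℂ) 1 := by
    rw [hdeg, hval]
    intro h
    have h4 := c.four_le
    have h' : ((Fintype.card F ^ 2 - 1 : ℕ) : ℂ) = 0 := by
      rw [Nat.cast_sub (Nat.one_le_pow _ _ Fintype.card_pos)]
      push_cast
      linear_combination -h
    rw [Nat.cast_eq_zero] at h'
    have := Nat.pow_le_pow_left h4 2
    omega
  obtain ⟨cs, h1, -⟩ := (c.bdata_link hQ co (irr_isChar χ) (by omega) hdeg (linear_col c hQ hN hM hχ hd hval)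
    fun a _ ha => faithful_of_ne (irr_isChar χ) hne ha).core_setup (linear_out c hQ hN hM hχ hd hdeg hval)
  exact ⟨cs, h1⟩

end Cfsg.Agent.Invol.AbgOrder
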