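import Cfsg.Agent.Lib.Invol.AbgOrder.FinalThreeU

/-!
# The two steps from the characters, the cores and the absence of field components

The remaining inputs are explicit hypotheses: the witness character, in the unitary case the core data, and the
triviality of the field component.
-/

set_option autoImplicit false
set_option linter.style.haveILetI false
set_option linter.unusedSectionVars false

open scoped Classical

namespace Cfsg.Agent.Invol.AbgOrder

open Cfsg Cfsg.Agent.Char Cfsg.Agent.Block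
open Cfsg.Agent.Invol.BrauerL3 (scal)

universe u

attribute [local instance] oddCore_normal

/-- The witness character in the linear case. -/
def LinChar (G : Type u) [Group G] [Fintype G] : Prop :=
  ∀ (S : Sylow 2 G) (z : G) (F L : Type) [Field F] [Fintype F] [Field L] [Fintype L] [Algebra F L],
    (Cfsg.IsQuasiDihedral (S : Subgroup G) ∧ Fintype.card F % 4 = 3) ∨
      (Cfsg.IsWreathed (S : Subgroup G) ∧ Fintype.card F % 4 = 1) →
    orderOf z = 2 → z ∈ S → (∀ s ∈ (S : Subgroup G), s * z = z * s) → Module.finrank F L = 2 →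
    5 ≤ Fintype.card F → Shape0 (CQ z) F (GL (Fin 2) F) Lˣ (Fintype.card F : ℤ) →
    ∃ (M : Ideal AlgInt) (χ : IrrCharacter G) (d₁ : ℕ), IsPModular 2 M ∧ χ ∈ principalBlock M G ∧
      (d₁ = 1 ∨ d₁ = 2) ∧ (χ : G → ℂ) 1 = (Fintype.card F : ℂ) ^ 2 + (Fintype.card F : ℂ) - 2 + d₁ ∧
      (χ : G → ℂ) z = (Fintype.card F : ℂ) + d₁ - 1

/-- The witness character for `GU(2, 3)`. -/
def UnitCharThree (G : Type u) [Group G] [Fintype G] : Prop :=
  ∀ (S : Sylow 2 G) (z : G) (F L : Type) [Field F] [Fintype F] [Field L] [Fintype L] [Algebra F L],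
    Cfsg.IsWreathed (S : Subgroup G) → orderOf z = 2 → z ∈ S → (∀ s ∈ (S : Subgroup G), s * z = z * s) →
    Module.finrank F L = 2 → Fintype.card L = Fintype.card F ^ 2 → Fintype.card F = 3 →
    Shape0 (CQ z) F (Cfsg.GU 2 L (Fintype.card F)) Lˣ (-(Fintype.card F : ℤ)) →
    ∃ (M : Ideal AlgInt) (χ : IrrCharacter G), IsPModular 2 M ∧ χ ∈ principalBlock M G ∧
      (χ : G → ℂ) 1 = 6 ∧ (χ : G → ℂ) z = -2

/-- The core data in the unitary case. -/
def UnitCore (G : Type u) [Group G] [Fintype G] : Prop :=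
  ∀ (S : Sylow 2 G) (F L : Type) [Field F] [Fintype F] [Field L] [Fintype L] [Algebra F L],
    (Cfsg.IsQuasiDihedral (S : Subgroup G) ∧ Fintype.card F % 4 = 1) ∨
      (Cfsg.IsWreathed (S : Subgroup G) ∧ Fintype.card F % 4 = 3) →
    Module.finrank F L = 2 → Fintype.card L = Fintype.card F ^ 2 →
    ∀ c : PreSetup G F (Cfsg.GU 2 L (Fintype.card F)) Lˣ (-(Fintype.card F : ℤ)), c.z ∈ S →
      (∀ s ∈ (S : Subgroup G), s * c.z = c.z * s) →
      ∃ cs : CoreSetup G F (Cfsg.GU 2 L (Fintype.card F)) Lˣ (-(Fintype.card F : ℤ)), cs.toPreSetup = c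

/-- No field component, linear case. -/
def LinFieldFree (G : Type u) [Group G] [Fintype G] : Prop :=
  ∀ (S : Sylow 2 G) (F L : Type) [Field F] [Fintype F] [Field L] [Fintype L] [Algebra F L],
    (Cfsg.IsQuasiDihedral (S : Subgroup G) ∧ Fintype.card F % 4 = 3) ∨
      (Cfsg.IsWreathed (S : Subgroup G) ∧ Fintype.card F % 4 = 1) →
    Module.finrank F L = 2 →
    ∀ cs : CoreSetup G F (GL (Fin 2) F) Lˣ (Fintype.card F : ℤ), cs.z ∈ S →
      (∀ s ∈ (S : Subgroup G), s * cs.z = cs.z * s) → ∀ a : G, a * cs.z = cs.z * a → cs.fld a = 1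

/-- No field component, unitary case. -/
def UnitFieldFree (G : Type u) [Group G] [Fintype G] : Prop :=
  ∀ (S : Sylow 2 G) (F L : Type) [Field F] [Fintype F] [Field L] [Fintype L] [Algebra F L],
    (Cfsg.IsQuasiDihedral (S : Subgroup G) ∧ Fintype.card F % 4 = 1) ∨
      (Cfsg.IsWreathed (S : Subgroup G) ∧ Fintype.card F % 4 = 3) →
    Module.finrank F L = 2 → Fintype.card L = Fintype.card F ^ 2 →
    ∀ cs : CoreSetup G F (Cfsg.GU 2 L (Fintype.card F)) Lˣ (-(Fintype.card F : ℤ)), cs.z ∈ S →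
      (∀ s ∈ (S : Subgroup G), s * cs.z = cs.z * s) → ∀ a : G, a * cs.z = cs.z * a → cs.fld a = 1

variable {G : Type u} [Group G] [Fintype G] [IsSimpleGroup G]

theorem sylow_type {P : Type u} [Group P] {q a b : ℕ}
    (h : (Cfsg.IsQuasiDihedral P ∧ q % 4 = a) ∨ (Cfsg.IsWreathed P ∧ q % 4 = b)) :
    Cfsg.IsQuasiDihedral P ∨ Cfsg.IsWreathed P := h.imp And.left And.left

/-- The linear step. -/
theorem linear_step_of (hch : LinChar G) (hf : LinFieldFree G) : LinearStep G := by
  intro S z F L _ _ _ _ _ hc hz hzS hzc hL s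
  have hS := sylow_type hc
  by_cases h3 : Fintype.card F = 3
  · exact linear_three (simple_facts S hS).1 hz h3 s
  have h5 : 5 ≤ Fintype.card F := by
    have := Fintype.one_lt_card (α := F)
    rcases hc with ⟨-, h⟩ | ⟨-, h⟩ <;> omega
  obtain ⟨M, χ, d₁, hM, hχ, hd, hdeg, hval⟩ := hch S z F L hc hz hzS hzc hL h5 s
  obtain ⟨c, rfl⟩ := exists_preSetup hz (one_class S hS) s (by simp) (by omega)
  obtain ⟨cs, rfl⟩ := linear_core c rfl (nhyp_of_shape S c.z hzc hS c.s) hM hχ hd hdeg hval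
  exact glCent_of_fld cs (hf S F L hc hL cs hzS hzc)

/-- The unitary step. -/
theorem unitary_step_of (hch : UnitCharThree G) (hcore : UnitCore G) (hf : UnitFieldFree G) : UnitaryStep G := by
  intro S z F L _ _ _ _ _ hc hz hzS hzc hL hcL s
  have hS := sylow_type hc
  by_cases h3 : Fintype.card F = 3
  · have hw : Cfsg.IsWreathed (S : Subgroup G) := by
      rcases hc with ⟨-, h⟩ | ⟨h, -⟩
      · omega
      · exact h
    obtain ⟨M, χ, hM, hχ, hdeg, hval⟩ := hch S z F L hw hz hzS hzc hL hcL h3 s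
    exact unitary_three (one_class S hS) hz h3 s hM hχ hdeg hval
  have h5 : 5 ≤ Fintype.card F := by
    have := Fintype.one_lt_card (α := F)
    rcases hc with ⟨-, h⟩ | ⟨-, h⟩ <;> omega
  obtain ⟨c, rfl⟩ := exists_preSetup hz (one_class S hS) s (by simp) (by omega)
  obtain ⟨cs, rfl⟩ := hcore S F L hc hL hcL c hzS hzc
  exact guCent_of_fld cs (hf S F L hc hL hcL cs hzS hzc)

end Cfsg.Agent.Invol.AbgOrder
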