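import Cfsg.Agent.Lib.Invol.AbgOrder.AlgSdBound

/-!
# The second semidihedral branch for small `|a|`

With `A = a + 1`, `B = Q - 1`, `T = gcd (A, B)` and `d = A - B` the divisor `D` divides `W (Q + 1)² T² d²`, while
`T² (d² + (A + B)²) ≤ 4 A² B²`.  So the branch has no solution with `a > 0` or `|a| < Q² + Q - 1`.
-/

set_option autoImplicit false
set_option linter.style.haveILetI false

namespace Cfsg.Agent.Invol.AbgOrder

variable {Q a b : ℤ} {p n c : ℕ}

/-- The divisibility, sharpened at the common divisor of `a + 1` and `Q - 1`. -/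
theorem sd_D_dvd_sharp (hp : p.Prime) (hQ : Q.natAbs = p ^ n) (hn : 0 < n) (hq : 3 ≤ |Q|) (P : Par Q a c) (ha : a ≠ 0)
    (ha1 : a ≠ -1) (hu : a + Q ≠ 0) (hb : b ≠ 0) (hab : a + b ≠ -1)
    (h : b * (((a + Q) ^ 2) ^ 2 + a * (-2 * (Q ^ 2 - 1) * (1 + a)) ^ 2) +
        ((a + Q) ^ 2 - a * (-2 * (Q ^ 2 - 1) * (1 + a))) ^ 2 = 0)
    {W : ℤ} (hW : W ≠ 0) (hW4 : (p : ℤ) ^ min (padicValInt p a) (4 * n) ∣ W) (hd0 : a + 1 - (Q - 1) ≠ 0) :
    ((a + Q) ^ 2) ^ 2 + a * (-2 * (Q ^ 2 - 1) * (1 + a)) ^ 2 ∣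
      W * (Q + 1) ^ 2 * ((Int.gcd (a + 1) (Q - 1) : ℤ) ^ 2 * (a + 1 - (Q - 1)) ^ 2) := by
  set u := a + Q with hu'
  set K := (Q ^ 2 - 1) * (a + 1) with hK
  set D := (u ^ 2) ^ 2 + a * (-2 * (Q ^ 2 - 1) * (1 + a)) ^ 2 with hD
  set d := a + 1 - (Q - 1) with hd
  have hDe : D = u ^ 4 + 4 * a * K ^ 2 := by rw [hD, hK]; ring
  set g := u ^ 2 + 2 * a * K with hg
  set hh := u ^ 2 - 2 * K with hhh
  have hbD : b * D = -g ^ 2 := by rw [hD, hg, hK]; linear_combination h
  have hQ1 : Q + 1 ≠ 0 := by rcases abs_cases Q with e | e <;> omega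
  have hQm : Q - 1 ≠ 0 := by rcases abs_cases Q with e | e <;> omega
  have ha1' : a + 1 ≠ 0 := by omega
  have hK0 : K ≠ 0 := mul_ne_zero (by
    rw [show Q ^ 2 - 1 = (Q - 1) * (Q + 1) by ring]; exact mul_ne_zero hQm hQ1) ha1'
  have hD0 : D ≠ 0 := fun e => by
    rw [e, mul_zero, eq_comm, neg_eq_zero, pow_eq_zero_iff two_ne_zero, hg] at hbD
    rw [hDe, show u ^ 4 = (u ^ 2) ^ 2 by ring, show u ^ 2 = -(2 * a * K) by linarith] at e
    have h4 : 4 * a * (a + 1) * K ^ 2 = 0 := by linear_combination e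
    simp [ha, ha1', hK0] at h4
  have hg0 : g ≠ 0 := fun e => by
    rw [e, zero_pow two_ne_zero, neg_zero] at hbD
    exact mul_ne_zero hb hD0 hbD
  have hsum : a * hh ^ 2 + g ^ 2 = (a + 1) * D := by rw [hhh, hg, hDe]; ring
  have hh0 : hh ≠ 0 := fun e => by
    rw [e, zero_pow two_ne_zero, mul_zero, zero_add] at hsum
    have : (a + 1 + b) * D = 0 := by linear_combination hbD - hsum
    rcases mul_eq_zero.1 this with h' | h'
    · omega
    · exact hD0 h'
  have dg : D ∣ g ^ 2 := ⟨-b, by linear_combination hbD⟩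
  have dh : D ∣ a * hh ^ 2 := ⟨a + 1 + b, by linear_combination hsum - hbD⟩
  have hgh : g - hh = 2 * ((a + 1) * K) := by rw [hg, hhh]; ring
  set T : ℤ := (Int.gcd (a + 1) (Q - 1) : ℤ) with hT
  have hT0 : T ≠ 0 := by
    rw [hT]; exact_mod_cast (Int.gcd_pos_iff.2 (Or.inl ha1')).ne'
  refine dvd_of_val_le hD0
    (mul_ne_zero (mul_ne_zero hW (pow_ne_zero _ hQ1)) (mul_ne_zero (pow_ne_zero _ hT0) (pow_ne_zero _ hd0))) fun l hl => ?_
  haveI := Fact.mk hl
  rw [padicValInt.mul (mul_ne_zero hW (pow_ne_zero _ hQ1)) (mul_ne_zero (pow_ne_zero _ hT0) (pow_ne_zero _ hd0)),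
    padicValInt.mul hW (pow_ne_zero _ hQ1), padicValInt.mul (pow_ne_zero _ hT0) (pow_ne_zero _ hd0), val_pow, val_pow,
    val_pow]
  have V1 : padicValInt l D ≤ 2 * padicValInt l g := by
    rw [← val_pow]; exact val_le_of_dvd (pow_ne_zero _ hg0) dg
  have V2 : padicValInt l D ≤ padicValInt l a + 2 * padicValInt l hh := by
    rw [← val_pow, ← padicValInt.mul ha (pow_ne_zero _ hh0)]
    exact val_le_of_dvd (mul_ne_zero ha (pow_ne_zero _ hh0)) dh
  have hvK : padicValInt l K = padicValInt l (Q - 1) + padicValInt l (Q + 1) + padicValInt l (a + 1) := by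
    rw [hK, show Q ^ 2 - 1 = (Q - 1) * (Q + 1) by ring, padicValInt.mul (mul_ne_zero hQm hQ1) ha1',
      padicValInt.mul hQm hQ1]
  have h2aK : padicValInt l (2 * a * K) = padicValInt l 2 + padicValInt l a + padicValInt l K := by
    rw [padicValInt.mul (mul_ne_zero two_ne_zero ha) hK0, padicValInt.mul two_ne_zero ha]
  have G1 : padicValInt l D ≤ padicValInt l a +
      2 * (padicValInt l 2 + (padicValInt l (a + 1) + padicValInt l K)) := by
    have h0 : g - hh ≠ 0 := hgh ▸ mul_ne_zero two_ne_zero (mul_ne_zero ha1' hK0)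
    have e : padicValInt l (g - hh) = padicValInt l 2 + (padicValInt l (a + 1) + padicValInt l K) := by
      rw [hgh, padicValInt.mul two_ne_zero (mul_ne_zero ha1' hK0), padicValInt.mul ha1' hK0]
    rcases val_min_le (l := l) h0 with h' | h' <;> omega
  have G2 : 2 * padicValInt l u < padicValInt l (2 * a * K) → padicValInt l D ≤ 4 * padicValInt l u := by
    intro hlt
    have := (val_add' (l := l) (x := u ^ 2) (y := 2 * a * K) (pow_ne_zero _ hu) (by rw [val_pow]; exact hlt)).2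
    rw [← hg, val_pow] at this
    omega
  have G3 : padicValInt l (2 * a * K) < 2 * padicValInt l u → padicValInt l D ≤ 2 * padicValInt l (2 * a * K) := by
    intro hlt
    have := (val_add' (l := l) (x := 2 * a * K) (y := u ^ 2) (mul_ne_zero (mul_ne_zero two_ne_zero ha) hK0)
      (by rw [val_pow]; exact hlt)).2
    rw [add_comm, ← hg] at this
    omega
  have hTv : ∀ k : ℕ, k ≤ padicValInt l (a + 1) → k ≤ padicValInt l (Q - 1) → k ≤ padicValInt l T := fun k h1 h2 =>
    le_val hT0 (Int.dvd_coe_gcd ((pow_dvd_pow _ h1).trans (padicValInt_dvd _))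
      ((pow_dvd_pow _ h2).trans (padicValInt_dvd _)))
  have hdv : ∀ k : ℕ, k ≤ padicValInt l (a + 1) → k ≤ padicValInt l (Q - 1) → k ≤ padicValInt l d := fun k h1 h2 =>
    le_val hd0 (hd ▸ dvd_sub ((pow_dvd_pow _ h1).trans (padicValInt_dvd _))
      ((pow_dvd_pow _ h2).trans (padicValInt_dvd _)))
  by_cases hl2 : l = 2
  · subst hl2
    have h22 : padicValInt 2 (2 : ℤ) = 1 := padicValInt_self
    have := P.c2
    rw [h2aK, hvK, h22, P.va, P.va1, P.vp, P.vm, P.vu] at G3
    have := hTv 1 (by rw [P.va1]) (by rw [P.vm])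
    have hd2 : 2 ≤ padicValInt 2 d := by
      refine le_val hd0 ?_
      have e1 : ¬ (2 : ℤ) ^ 2 ∣ a + 1 := fun h' => by
        have := le_val (l := 2) ha1' (k := 2) (by exact_mod_cast h'); rw [P.va1] at this; omega
      have e2 : ¬ (2 : ℤ) ^ 2 ∣ Q - 1 := fun h' => by
        have := le_val (l := 2) hQm (k := 2) (by exact_mod_cast h'); rw [P.vm] at this; omega
      have e3 : (2 : ℤ) ∣ a + 1 := by simpa [P.va1] using padicValInt_dvd (p := 2) (a + 1)
      have e4 : (2 : ℤ) ∣ Q - 1 := by simpa [P.vm] using padicValInt_dvd (p := 2) (Q - 1)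
      push_cast
      norm_num at e1 e2 ⊢
      omega
    have := G3 (by omega)
    rw [P.vp]
    omega
  have h20 := val_two (l := l) hl2
  by_cases hlp : l = p
  · subst hlp
    have hvQ : padicValInt l Q = n := by
      rw [padicValInt, hQ]; exact padicValNat.prime_pow n
    have hQ0 : Q ≠ 0 := by intro e; simp [e] at hq
    have hlQ : (l : ℤ) ∣ Q := (val_pos hQ0).1 (by omega)
    have hp1 : ¬ l ∣ 1 := hl.not_dvd_one
    have hvp : padicValInt l (Q + 1) = 0 := val_zero fun h' =>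
      not_both (k := 1) h' (by push_cast; ring) hp1 hlQ
    have hvm : padicValInt l (Q - 1) = 0 := val_zero (not_both (k := 1) hlQ (by push_cast; ring) hp1)
    have hkW := le_val hW hW4
    by_cases hpa : (l : ℤ) ∣ a
    · have hva1 : padicValInt l (a + 1) = 0 := val_zero fun h' =>
        not_both (k := 1) h' (by push_cast; ring) hp1 hpa
      rcases le_or_gt (padicValInt l a) (4 * n) with hle | hgt
      · omega
      · have hvu : padicValInt l u = n := by
          rw [hu', add_comm, (val_add' hQ0 (by omega)).2, hvQ]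
        have := G2 (by rw [hvu, h2aK]; omega)
        omega
    · have hva := val_zero hpa
      by_cases hpa1 : (l : ℤ) ∣ a + 1
      · have hvu : padicValInt l u = 0 := val_zero fun h' => hpa ((dvd_add_left hlQ).1 h')
        have := (val_pos ha1').2 hpa1
        have := G2 (by rw [hvu, h2aK, hvK]; omega)
        omega
      · have := val_zero hpa1
        omega
  have hlQ : ¬ (l : ℤ) ∣ Q := fun h' => hlp ((Nat.prime_dvd_prime_iff_eq hl hp).1
    (hl.dvd_of_dvd_pow (hQ ▸ Int.natCast_dvd.1 h')))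
  by_cases hla : (l : ℤ) ∣ a
  · have hvu : padicValInt l u = 0 := val_zero fun h' => hlQ ((dvd_add_right hla).1 h')
    have := (val_pos ha).2 hla
    have := G2 (by rw [hvu, h2aK]; omega)
    omega
  have hva := val_zero hla
  have hl1 : ¬ l ∣ 2 := fun h' => hl2 ((Nat.prime_dvd_prime_iff_eq hl Nat.prime_two).1 h')
  by_cases hj : (l : ℤ) ∣ Q - 1
  · have hvp : padicValInt l (Q + 1) = 0 := val_zero fun h' => not_both (k := 2) h' (by push_cast; ring) hl1 hj
    have hjp := (val_pos hQm).2 hj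
    rcases lt_trichotomy (padicValInt l (a + 1)) (padicValInt l (Q - 1)) with hlt | heq | hlt
    · have hvu : padicValInt l u = padicValInt l (a + 1) := by
        rw [hu', show a + Q = (a + 1) + (Q - 1) by ring, (val_add' ha1' hlt).2]
      have := G2 (by rw [hvu, h2aK, hvK]; omega)
      have := hTv _ le_rfl hlt.le
      have := hdv _ le_rfl hlt.le
      omega
    · have hTe := hTv _ le_rfl heq.le
      have hde := hdv _ le_rfl heq.le
      set e := padicValInt l (a + 1) with he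
      have hdvd : ∀ {x : ℤ} {k : ℕ}, k ≤ padicValInt l x → (l : ℤ) ^ k ∣ x := fun hk =>
        (pow_dvd_pow _ hk).trans (padicValInt_dvd _)
      have hA : (l : ℤ) ^ e ∣ a + 1 := hdvd le_rfl
      have hB : (l : ℤ) ^ e ∣ Q - 1 := hdvd heq.le
      have hdd : (l : ℤ) ^ padicValInt l d ∣ d := hdvd le_rfl
      have hAB : (l : ℤ) ^ (2 * e) ∣ (a + 1) * (Q - 1) := by rw [two_mul, pow_add]; exact mul_dvd_mul hA hB
      -- the middle term of `g`
      set y := 2 * ((a + 1) * (Q - 1)) * ((a + 1) * (Q - 1) + (2 * (a + 1) - (Q - 1))) with hy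
      have hgd : g = d ^ 2 + y := by rw [hg, hy, hd, hK, hu']; ring
      rcases hde.eq_or_lt with hde' | hde'
      · have hy3 : (l : ℤ) ^ (2 * e + 1) ∣ y := by
          refine (pow_dvd_pow _ (show 2 * e + 1 ≤ 2 * e + e by omega)).trans ?_
          rw [pow_add]
          exact mul_dvd_mul (dvd_mul_of_dvd_right hAB _)
            (dvd_add (dvd_mul_of_dvd_left hA _) (dvd_sub (dvd_mul_of_dvd_right hA _) hB))
        have hv2 : padicValInt l (d ^ 2) = 2 * e := by rw [val_pow, ← hde']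
        have h1 := (val_add (l := l) (pow_ne_zero 2 hd0) (hv2.symm ▸ hy3)).2
        rw [← hgd] at h1
        omega
      · by_cases h2e : 2 * e ≤ padicValInt l d
        · have hz : padicValInt l ((a + 1) * (Q - 1) + (2 * (a + 1) - (Q - 1))) = e ∧
              (a + 1) * (Q - 1) + (2 * (a + 1) - (Q - 1)) ≠ 0 := by
            have h2 := val_add (l := l) ha1' (y := d + (a + 1) * (Q - 1)) (by
              rw [← he]
              exact dvd_add ((pow_dvd_pow _ (by omega)).trans hdd) ((pow_dvd_pow _ (by omega)).trans hAB))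
            rw [show a + 1 + (d + (a + 1) * (Q - 1)) = (a + 1) * (Q - 1) + (2 * (a + 1) - (Q - 1)) by
              rw [hd]; ring] at h2
            exact ⟨h2.2, h2.1⟩
          have hy0 : y ≠ 0 := mul_ne_zero (mul_ne_zero two_ne_zero (mul_ne_zero ha1' hQm)) hz.2
          have hvy : padicValInt l y = 3 * e := by
            rw [hy, padicValInt.mul (mul_ne_zero two_ne_zero (mul_ne_zero ha1' hQm)) hz.2,
              padicValInt.mul two_ne_zero (mul_ne_zero ha1' hQm), padicValInt.mul ha1' hQm, hz.1, h20]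
            omega
          have h1 := (val_add' (l := l) hy0 (y := d ^ 2) (by rw [hvy, val_pow]; omega)).2
          rw [add_comm, ← hgd] at h1
          omega
        · have h8 : padicValInt l (8 * ((a + 1) * (Q - 1))) = 2 * e := by
            rw [show (8 : ℤ) = 2 * 2 * 2 by norm_num,
              padicValInt.mul (by norm_num) (mul_ne_zero ha1' hQm), padicValInt.mul (by norm_num) two_ne_zero,
              padicValInt.mul two_ne_zero two_ne_zero, padicValInt.mul ha1' hQm, h20]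
            omega
          have h9 := val_add' (l := l) (x := 8 * ((a + 1) * (Q - 1)))
            (mul_ne_zero (by norm_num) (mul_ne_zero ha1' hQm)) (y := d ^ 2) (by rw [h8, val_pow]; omega)
          have hfirst : padicValInt l (d ^ 2 * (8 * ((a + 1) * (Q - 1)) + d ^ 2)) = 2 * padicValInt l d + 2 * e := by
            rw [padicValInt.mul (pow_ne_zero 2 hd0) h9.1, h9.2, h8, val_pow]
          have hB2 : (l : ℤ) ^ (2 * e) ∣ (Q - 1) * (4 * (a + 1) - (Q - 1)) := by
            rw [two_mul, pow_add]; exact mul_dvd_mul hB (dvd_sub (dvd_mul_of_dvd_right hA _) hB)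
          have hy2 : (l : ℤ) ^ (2 * padicValInt l d + 2 * e + 1) ∣ 4 * ((a + 1) * (Q - 1)) ^ 2 *
              (4 * d + (Q - 1) * (4 * (a + 1) - (Q - 1)) + (a + 1) * ((Q - 1) * (Q - 1))) := by
            refine (pow_dvd_pow _ (show 2 * padicValInt l d + 2 * e + 1 ≤ 2 * e * 2 + padicValInt l d by omega)).trans ?_
            rw [pow_add, pow_mul]
            refine mul_dvd_mul (dvd_mul_of_dvd_right (pow_dvd_pow_of_dvd hAB 2) _)
              (dvd_add (dvd_add (dvd_mul_of_dvd_right hdd _) ?_) ?_)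
            · exact (pow_dvd_pow _ (by omega)).trans hB2
            · exact dvd_mul_of_dvd_right ((pow_dvd_pow _ (show padicValInt l d ≤ e + e by omega)).trans
                (by rw [pow_add]; exact mul_dvd_mul hB hB)) _
          have h1 := (val_add (l := l) (mul_ne_zero (pow_ne_zero 2 hd0) h9.1) (hfirst.symm ▸ hy2)).2
          rw [show d ^ 2 * (8 * ((a + 1) * (Q - 1)) + d ^ 2) + 4 * ((a + 1) * (Q - 1)) ^ 2 *
              (4 * d + (Q - 1) * (4 * (a + 1) - (Q - 1)) + (a + 1) * ((Q - 1) * (Q - 1))) = D by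
            rw [hDe, hd, hK, hu']; ring] at h1
          omega
    · have hvu : padicValInt l u = padicValInt l (Q - 1) := by
        rw [hu', show a + Q = (Q - 1) + (a + 1) by ring, (val_add' hQm hlt).2]
      have := G2 (by rw [hvu, h2aK, hvK]; omega)
      have := hTv _ hlt.le le_rfl
      have := hdv _ hlt.le le_rfl
      omega
  · have hjm := val_zero hj
    by_cases hh1 : (l : ℤ) ∣ a + 1
    · have hvu : padicValInt l u = 0 := val_zero fun h' => hj ((dvd_add_right hh1).1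
        (by rwa [show a + 1 + (Q - 1) = u by rw [hu']; ring]))
      have := (val_pos ha1').2 hh1
      have := G2 (by rw [hvu, h2aK, hvK]; omega)
      omega
    · have := val_zero hh1
      omega

/-- The quadratic at the small values. -/
theorem small_quad {Q x : ℤ} (hQ : 3 ≤ Q ∨ Q ≤ -5) (h3 : 3 ≤ x) (hM : x < Q ^ 2 + Q - 1) :
    (-x + Q) ^ 2 < 4 * (x * (Q + 1) ^ 2) := by
  have hc : 0 ≤ 3 * Q ^ 2 + 9 * Q + 2 ∧ 0 < 2 * Q ^ 2 + 3 * Q - 3 := by
    rcases hQ with e | e <;> constructor <;> nlinarith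
  nlinarith [mul_nonneg (show (0 : ℤ) ≤ x - 3 by omega) (show (0 : ℤ) ≤ Q ^ 2 + Q - 1 - x by omega),
    mul_nonneg (show (0 : ℤ) ≤ x by omega) hc.1]

/-- No solution with `a` positive or `|a| < Q² + Q - 1`. -/
theorem sd_second_small (hp : p.Prime) (hQ : Q.natAbs = p ^ n) (hn : 0 < n) (h4 : Q % 4 = 3) (hq : 3 ≤ |Q|)
    (P : Par Q a c) (ha : a ≠ 0) (ha1 : a ≠ -1) (hu : a + Q ≠ 0) (hb : b ≠ 0) (hab : a + b ≠ -1)
    (hsmall : 0 < a ∨ -a < Q ^ 2 + Q - 1)
    (h : b * (((a + Q) ^ 2) ^ 2 + a * (-2 * (Q ^ 2 - 1) * (1 + a)) ^ 2) +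
        ((a + Q) ^ 2 - a * (-2 * (Q ^ 2 - 1) * (1 + a))) ^ 2 = 0) : False := by
  have hQ1 : Q + 1 ≠ 0 := by rcases abs_cases Q with e | e <;> omega
  have hQm : Q - 1 ≠ 0 := by rcases abs_cases Q with e | e <;> omega
  by_cases hd0 : a + 1 - (Q - 1) = 0
  · -- `a = Q - 2`: then `Q + 2` divides `4`
    obtain rfl : a = Q - 2 := by omega
    have hne : 4 * (Q - 1) ^ 6 ≠ 0 := mul_ne_zero (by norm_num) (pow_ne_zero _ hQm)
    have h1 : b * (Q + 2) + Q ^ 2 = 0 := mul_left_cancel₀ hne (by linear_combination h)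
    have h2 : Q + 2 ∣ 4 := ⟨-b - Q + 2, by linear_combination h1⟩
    have u1 := Int.le_of_dvd (by norm_num) h2
    have u2 := Int.le_of_dvd (by norm_num) (neg_dvd.2 h2)
    obtain rfl : Q = -5 := by rcases abs_cases Q with e | e <;> omega
    norm_num at h2
  obtain ⟨α, hα⟩ : (Int.gcd (a + 1) (Q - 1) : ℤ) ∣ a + 1 := Int.gcd_dvd_left _ _
  obtain ⟨β, hβ⟩ : (Int.gcd (a + 1) (Q - 1) : ℤ) ∣ Q - 1 := Int.gcd_dvd_right _ _
  have hdvd := sd_D_dvd_sharp hp hQ hn hq P ha ha1 hu hb hab h ha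
    ((pow_dvd_pow _ (min_le_left _ _)).trans (padicValInt_dvd a)) hd0
  set T : ℤ := (Int.gcd (a + 1) (Q - 1) : ℤ) with hT
  have hT2 : 2 ≤ T := by
    have h2 : (2 : ℤ) ∣ T := Int.dvd_coe_gcd
      (by simpa [P.va1] using padicValInt_dvd (p := 2) (a + 1)) (by simpa [P.vm] using padicValInt_dvd (p := 2) (Q - 1))
    have h0 : T ≠ 0 := fun e => by rw [e, zero_mul] at hβ; exact hQm hβ
    have : 0 ≤ T := Int.natCast_nonneg _
    omega
  have hα0 : α ≠ 0 := fun e => by rw [e, mul_zero] at hα; omega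
  have hβ0 : β ≠ 0 := fun e => by rw [e, mul_zero] at hβ; exact hQm hβ
  have hα1 : 1 ≤ α ^ 2 := by nlinarith [Int.one_le_abs hα0, sq_abs α]
  have hβ1 : 1 ≤ β ^ 2 := by nlinarith [Int.one_le_abs hβ0, sq_abs β]
  have key : T ^ 2 * (a + 1 - (Q - 1)) ^ 2 + T ^ 2 * (a + Q) ^ 2 ≤ 4 * (a + 1) ^ 2 * (Q - 1) ^ 2 := by
    rw [show a + Q = (a + 1) + (Q - 1) by ring, hα, hβ,
      show T ^ 2 * (T * α - T * β) ^ 2 + T ^ 2 * (T * α + T * β) ^ 2 = T ^ 4 * (2 * α ^ 2 + 2 * β ^ 2) by ring,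
      show 4 * (T * α) ^ 2 * (T * β) ^ 2 = T ^ 4 * (4 * α ^ 2 * β ^ 2) by ring]
    refine mul_le_mul_of_nonneg_left ?_ (by positivity)
    nlinarith [mul_le_mul_of_nonneg_left hα1 (show (0 : ℤ) ≤ β ^ 2 by positivity),
      mul_le_mul_of_nonneg_left hβ1 (show (0 : ℤ) ≤ α ^ 2 by positivity)]
  have hW0 : a * (Q + 1) ^ 2 * (T ^ 2 * (a + 1 - (Q - 1)) ^ 2) ≠ 0 :=
    mul_ne_zero (mul_ne_zero ha (pow_ne_zero _ hQ1))
      (mul_ne_zero (pow_ne_zero _ (by omega)) (pow_ne_zero _ hd0))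
  have hle := Int.le_of_dvd (abs_pos.2 hW0) ((abs_dvd_abs _ _).2 hdvd)
  rw [abs_mul (a * _), abs_mul a, abs_of_nonneg (sq_nonneg (Q + 1)),
    abs_of_nonneg (show 0 ≤ T ^ 2 * (a + 1 - (Q - 1)) ^ 2 by positivity)] at hle
  set R := (Q + 1) ^ 2 with hR
  have hR1 : 0 < R := by positivity
  have hu4 : 0 < ((a + Q) ^ 2) ^ 2 := by positivity
  have hD : ((a + Q) ^ 2) ^ 2 + a * (-2 * (Q ^ 2 - 1) * (1 + a)) ^ 2 =
      ((a + Q) ^ 2) ^ 2 + a * R * (4 * (a + 1) ^ 2 * (Q - 1) ^ 2) := by rw [hR]; ring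
  rw [hD] at hle
  rcases lt_or_gt_of_ne ha with han | hap
  · have hx : -a < Q ^ 2 + Q - 1 := hsmall.resolve_left (by omega)
    obtain ⟨x, rfl⟩ : ∃ x, a = -x := ⟨-a, by ring⟩
    rw [neg_neg] at hx
    rw [abs_neg, abs_of_pos (show 0 < x by omega)] at hle
    have h5 : x * R * (4 * (-x + 1) ^ 2 * (Q - 1) ^ 2) - ((-x + Q) ^ 2) ^ 2 ≤
        x * R * (T ^ 2 * (-x + 1 - (Q - 1)) ^ 2) :=
      le_trans (le_trans (by linarith) (neg_le_abs _)) hle
    have hxR : 0 < x * R := mul_pos (by omega) hR1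
    have h6 : x * R * (T ^ 2 * (-x + Q) ^ 2) ≤ ((-x + Q) ^ 2) ^ 2 := by
      have := mul_le_mul_of_nonneg_left key hxR.le
      linarith
    have h7 : 4 * (x * R) ≤ (-x + Q) ^ 2 := by
      refine le_of_mul_le_mul_right ?_ (show 0 < (-x + Q) ^ 2 by positivity)
      have : x * R * 4 * (-x + Q) ^ 2 ≤ x * R * T ^ 2 * (-x + Q) ^ 2 :=
        mul_le_mul_of_nonneg_right (mul_le_mul_of_nonneg_left
          (by rw [show (4 : ℤ) = 2 ^ 2 by norm_num]; exact pow_le_pow_left₀ (by norm_num) hT2 2) hxR.le) (sq_nonneg _)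
      linarith
    have hx3 : 3 ≤ x := by
      have : ¬ (2 : ℤ) ∣ x := fun h' => by
        have := (val_pos (l := 2) ha).2 (by exact_mod_cast (dvd_neg.2 h'))
        rw [P.va] at this; omega
      omega
    have hQc : 3 ≤ Q ∨ Q ≤ -5 := by rcases abs_cases Q with e | e <;> omega
    have := small_quad hQc hx3 hx
    rw [hR] at h7
    linarith
  · rw [abs_of_pos hap] at hle
    have h5 : ((a + Q) ^ 2) ^ 2 + a * R * (4 * (a + 1) ^ 2 * (Q - 1) ^ 2) ≤
        a * R * (T ^ 2 * (a + 1 - (Q - 1)) ^ 2) := le_trans (le_abs_self _) hle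
    have := mul_le_mul_of_nonneg_left key (mul_pos hap hR1).le
    have : 0 ≤ a * R * (T ^ 2 * (a + Q) ^ 2) := mul_nonneg (mul_pos hap hR1).le (by positivity)
    linarith

end Cfsg.Agent.Invol.AbgOrder
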