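import Cfsg.Agent.Lib.Invol.AbgOrder.AlgSd
import Cfsg.Agent.Lib.Invol.AbgOrder.AlgSdSharp

/-!
# The semidihedral equations without a regular normaliser

With `w (a + Q) = Q (Q² - 1) d` in lowest terms one has `g₀ d² = a₀² ((Q² - 1) d - w) ((Q² + Q) d - w)`.  If no odd
prime of `Q + 1` divides `g₀` more often than `a₀²`, the first branch leaves `w = -d`, `w = -Q d`, `(Q, w / d) = (-5, 3)`
or `(-9, 5)`.  The second branch has no solution: `sd_second_large` for `|a| ≥ Q² + Q - 1`, `sd_second_small` below.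
-/

set_option autoImplicit false

namespace Cfsg.Agent.Invol.AbgOrder

variable {Q a b : ℤ} {R : ℚ} {p n c : ℕ}

/-- The second branch has no solution with `|a| ≥ Q² + Q - 1`. -/
theorem sd_second_large (hp : p.Prime) (hQ : Q.natAbs = p ^ n) (hn : 0 < n) (h4 : Q % 4 = 3) (hq : 3 ≤ |Q|)
    (P : Par Q a c) (ha : a ≠ 0) (ha1 : a ≠ -1) (hao : Odd a) (hu : a + Q ≠ 0) (hb : b ≠ 0) (hab : a + b ≠ -1)
    (hsize : Q ^ 2 + Q - 1 ≤ |a|)
    (h : b * (((a + Q) ^ 2) ^ 2 + a * (-2 * (Q ^ 2 - 1) * (1 + a)) ^ 2) +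
        ((a + Q) ^ 2 - a * (-2 * (Q ^ 2 - 1) * (1 + a))) ^ 2 = 0) : False := by
  haveI := Fact.mk hp
  have hbd := sd_D_le hp hQ hn hq P ha ha1 hu hb hab h ha
    ((pow_dvd_pow _ (min_le_left _ _)).trans (padicValInt_dvd a))
  set T : ℤ := (Int.gcd (a + 1) (Q - 1) : ℤ) with hT
  set S := (Q ^ 2 - 1) ^ 2 with hS
  have hQm : Q - 1 ≠ 0 := by omega
  have hT0 : 0 ≤ T := Int.natCast_nonneg _
  have hTQ : T ≤ |Q - 1| :=
    Int.le_of_dvd (abs_pos.2 hQm) ((dvd_abs _ _).2 (Int.gcd_dvd_right _ _))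
  have hS0 : 0 < S := by
    rw [hS, show (Q ^ 2 - 1) ^ 2 = (Q - 1) ^ 2 * (Q + 1) ^ 2 by ring]
    have : Q + 1 ≠ 0 := by rcases abs_cases Q with e | e <;> omega
    positivity
  have hW : |a| * ((Q + 1) ^ 2 * T ^ 6) ≤ |a| * (|Q - 1| ^ 4 * S) := by
    refine mul_le_mul_of_nonneg_left ?_ (abs_nonneg a)
    calc (Q + 1) ^ 2 * T ^ 6 ≤ (Q + 1) ^ 2 * |Q - 1| ^ 6 :=
          mul_le_mul_of_nonneg_left (pow_le_pow_left₀ hT0 hTQ 6) (sq_nonneg _)
      _ = |Q - 1| ^ 4 * ((Q + 1) ^ 2 * |Q - 1| ^ 2) := by ring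
      _ = _ := by rw [sq_abs, hS]; ring
  rcases sd_size hp hQ hn hq P ha ha1 hao hu hb hab h with ⟨hap, hlow⟩ | ⟨x, rfl, hx3, h2⟩
  · rw [abs_of_pos hap] at hbd hW hsize
    have h1 : 4 * (a + 1) ^ 2 ≤ |Q - 1| ^ 4 := by
      have h' : a * S * (4 * (a + 1) ^ 2) ≤ a * S * |Q - 1| ^ 4 := by linarith
      exact le_of_mul_le_mul_left h' (mul_pos hap hS0)
    have h2 : |Q - 1| ^ 2 < 2 * (a + 1) := by
      rw [sq_abs]
      rcases abs_cases Q with ⟨e, -⟩ | ⟨e, -⟩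
      · nlinarith
      · nlinarith [show (5 : ℤ) ≤ -Q by omega]
    have := pow_lt_pow_left₀ h2 (sq_nonneg _) two_ne_zero
    linarith
  · rw [abs_neg, abs_of_pos (show 0 < x by omega)] at hbd hW hsize
    have h1 : x * (15 * x - 46) ≤ 8 * |Q - 1| ^ 4 := by
      have h' : x * S * (x * (15 * x - 46)) ≤ x * S * (8 * |Q - 1| ^ 4) := by linarith
      exact le_of_mul_le_mul_left h' (mul_pos (show 0 < x by omega) hS0)
    rcases abs_cases Q with ⟨e, h0⟩ | ⟨e, h0⟩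
    · -- `Q > 0`
      have hx : (Q - 1) ^ 2 ≤ x := by nlinarith
      have hx11 : 11 ≤ x := by nlinarith
      have h3 : (Q - 1) ^ 4 ≤ x ^ 2 := by
        rw [show (Q - 1) ^ 4 = ((Q - 1) ^ 2) ^ 2 by ring]; exact pow_le_pow_left₀ (sq_nonneg _) hx 2
      rw [abs_of_pos (show 0 < Q - 1 by omega)] at h1
      linarith [mul_le_mul_of_nonneg_right hx11 (show (0 : ℤ) ≤ x by omega), show x ^ 2 = x * x from sq x,
        show x * (15 * x - 46) = 15 * (x * x) - 46 * x by ring]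
    · -- `Q < 0`
      rw [abs_of_neg (show Q - 1 < 0 by omega)] at h1
      obtain ⟨m, hm⟩ : ∃ m, Q = -(4 * m + 1) := ⟨-((Q + 1) / 4), by omega⟩
      rcases (show m = 1 ∨ m = 2 ∨ 3 ≤ m by omega) with hm1 | hm2 | hm3
      · subst hm hm1
        norm_num at h1 h hsize
        have hx28 : x ≤ 28 := by nlinarith
        interval_cases x <;> norm_num at h <;> omega
      · subst hm hm2
        norm_num at h1 h hsize
        have hx76 : x ≤ 76 := by nlinarith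
        interval_cases x <;> norm_num at h <;> omega
      · obtain ⟨k, hk, hqk⟩ : ∃ k, 0 ≤ k ∧ -Q = k + 13 := ⟨-Q - 13, by omega, by ring⟩
        have hQk : Q = -(k + 13) := by linarith
        subst hQk
        have hx : (k + 13) ^ 2 - (k + 13) - 1 ≤ x := by linarith
        have hx' : 155 ≤ x := by nlinarith
        have h3 : 14 * ((k + 13) ^ 2 - (k + 13) - 1) ^ 2 ≤ 14 * x ^ 2 :=
          mul_le_mul_of_nonneg_left (pow_le_pow_left₀ (by nlinarith) hx 2) (by norm_num)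
        have h4' : 8 * (k + 14) ^ 4 < 14 * ((k + 13) ^ 2 - (k + 13) - 1) ^ 2 := by
          have := pow_nonneg hk 2
          have := pow_nonneg hk 3
          have := pow_nonneg hk 4
          ring_nf
          linarith
        nlinarith

/-- The second branch is empty. -/
theorem sd_second_empty (hp : p.Prime) (hQ : Q.natAbs = p ^ n) (hn : 0 < n) (h4 : Q % 4 = 3) (hq : 3 ≤ |Q|)
    (P : Par Q a c) (ha : a ≠ 0) (ha1 : a ≠ -1) (hao : Odd a) (hu : a + Q ≠ 0) (hb : b ≠ 0) (hab : a + b ≠ -1)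
    (h : b * (((a + Q) ^ 2) ^ 2 + a * (-2 * (Q ^ 2 - 1) * (1 + a)) ^ 2) +
        ((a + Q) ^ 2 - a * (-2 * (Q ^ 2 - 1) * (1 + a))) ^ 2 = 0) : False := by
  by_cases hs : 0 < a ∨ -a < Q ^ 2 + Q - 1
  · exact sd_second_small hp hQ hn h4 hq P ha ha1 hu hb hab hs h
  · exact sd_second_large hp hQ hn h4 hq P ha ha1 hao hu hb hab (by rw [abs_of_nonpos (by omega)]; omega) h

/-- The first branch. -/
theorem sd_first_free (hp : p.Prime) (hQ : Q = (p : ℤ) ^ n ∨ Q = -(p : ℤ) ^ n) (h4 : Q % 4 = 3) (hq : 3 ≤ |Q|) {w d : ℤ}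
    (hd : 0 < d) (hdo : Odd d) (hw : Odd w) (hwd : IsCoprime w d) (hco : IsCoprime w (Q + 1))
    (hM : w ∣ Q * (Q ^ 2 - 1)) (hdvd : (Q + 1) * d + w ∣ Q * ((Q ^ 2 + Q) * d - w)) :
    d = 1 ∧ (w = -1 ∨ w = -Q ∨ (Q = -5 ∧ w = 3) ∨ (Q = -9 ∧ w = 5)) := by
  obtain ⟨k, hk⟩ : ∃ k, Q = 4 * k + 3 := ⟨Q / 4, by omega⟩
  set D := (Q + 1) * d + w with hD
  have hDw : IsCoprime D w := by
    have := ((hco.mul_right hwd).symm).add_mul_right_left 1
    rwa [one_mul] at this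
  have hDQ1 : IsCoprime D (Q + 1) := by
    have := hco.add_mul_left_left d
    rwa [add_comm] at this
  have hDQ : D ∣ Q := by
    have h1 : D ∣ Q * ((Q + 1) * w) := by
      have := dvd_sub (dvd_mul_of_dvd_right (dvd_refl D) (Q * Q)) hdvd
      rwa [show Q * Q * D - Q * ((Q ^ 2 + Q) * d - w) = Q * ((Q + 1) * w) by rw [hD]; ring] at this
    exact (hDQ1.mul_right hDw).dvd_of_dvd_mul_right h1
  obtain ⟨e, he⟩ : w ∣ Q * (Q - 1) :=
    hco.dvd_of_dvd_mul_right (by rwa [show Q * (Q - 1) * (Q + 1) = Q * (Q ^ 2 - 1) by ring])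
  obtain ⟨e', rfl⟩ : Even e := by
    have h5 : Even (Q * (Q - 1)) := Even.mul_left (Int.even_iff.2 (by omega)) Q
    rw [he] at h5
    exact (Int.even_mul.1 h5).resolve_left fun h6 => Int.not_even_iff_odd.2 hw h6
  by_cases hs : D = 1 ∨ D = -1
  · -- `D` is a unit
    have hDD : D * D = 1 := by rcases hs with h | h <;> rw [h] <;> norm_num
    set m := 2 * k + 2 with hm
    set δ := D * d with hδ
    have hQm : Q = 2 * m - 1 := by omega
    have hw' : w = D * (1 - 2 * m * δ) := by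
      rw [hδ]; linear_combination -hD - (d : ℤ) * hQm + 2 * m * d * hDD
    have hH : (1 - 2 * m * δ) * (D * e') = (2 * m - 1) * (m - 1) := by
      rw [hw', hQm] at he
      linarith
    obtain ⟨j, hj⟩ : m ∣ D * e' - 1 :=
      ⟨2 * m - 3 + 2 * δ * (D * e'), by linear_combination hH⟩
    have hm0 : m ≠ 0 := by rcases abs_cases Q with u | u <;> omega
    have key : j * (1 - 2 * m * δ) = 2 * m - 3 + 2 * δ := by
      refine mul_left_cancel₀ hm0 ?_
      linear_combination hH - (1 - 2 * m * δ) * hj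
    have hδo : Odd δ := by rcases hs with h | h <;> rw [hδ, h] <;> simpa using hdo
    obtain ⟨i, hi⟩ := hδo
    have hj0 : j ≠ 0 := fun e => by rw [e, zero_mul] at key; omega
    have hb : |1 - 2 * m * δ| ≤ |2 * m - 3 + 2 * δ| := by
      rw [← key, abs_mul]
      exact le_mul_of_one_le_left (abs_nonneg _) (abs_pos.2 hj0)
    have hb1 : 2 * (|m| * |δ|) - 1 ≤ |1 - 2 * m * δ| := by
      have := abs_sub_abs_le_abs_sub (2 * m * δ) 1
      rw [abs_mul, abs_mul, abs_two, abs_one, abs_sub_comm] at this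
      linarith
    have hb2 : |2 * m - 3 + 2 * δ| ≤ 2 * |m| + 3 + 2 * |δ| := by
      rcases abs_cases (2 * m - 3 + 2 * δ) with u | u <;> rcases abs_cases m with v | v <;>
        rcases abs_cases δ with w' | w' <;> omega
    have hprod : (|m| - 1) * (|δ| - 1) ≤ 3 := by linarith
    have hm2 : 2 ≤ |m| := by rcases abs_cases m with u | u <;> omega
    have hδ3 : |δ| ≤ 4 := by nlinarith [abs_nonneg δ]
    rcases (show δ = 1 ∨ δ = -1 ∨ δ = 3 ∨ δ = -3 by rcases abs_cases δ with u | u <;> omega) with h | h | h | h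
    · have hD1 : D = 1 := by
        rcases hs with e | e
        · exact e
        · rw [hδ, e] at h; omega
      have hd1 : d = 1 := by rw [hδ, hD1, one_mul] at h; exact h
      exact ⟨hd1, Or.inr (Or.inl (by rw [hD, hd1] at hD1; linarith))⟩
    · have hD1 : D = -1 := by
        rcases hs with e | e
        · rw [hδ, e] at h; omega
        · exact e
      have hd1 : d = 1 := by rw [hδ, hD1] at h; omega
      rw [h] at key
      have h6 : 1 + 2 * m ∣ 6 := ⟨1 - j, by linear_combination key⟩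
      have u1 := Int.le_of_dvd (by norm_num) h6
      have u2 := Int.le_of_dvd (by norm_num) (neg_dvd.2 h6)
      have hm' : m = -2 := by
        rcases (show m = 2 ∨ m = -2 by omega) with u | u
        · rw [u] at h6; norm_num at h6
        · exact u
      refine ⟨hd1, Or.inr (Or.inr (Or.inl ⟨by omega, ?_⟩))⟩
      rw [hD, hd1] at hD1
      omega
    all_goals
      exfalso
      rw [h] at key hprod
      norm_num at hprod
      rcases (show m = 2 ∨ m = -2 by rcases abs_cases m with u | u <;> omega) with u | u <;> rw [u] at key <;> omega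
  -- `p` divides `D`
  push Not at hs
  obtain ⟨f, hf⟩ := hDQ
  have hD0 : D ≠ 0 := fun e => by rw [e, zero_mul] at hf; omega
  have hodd : Odd (D * f) := hf ▸ Int.odd_iff.2 (by omega)
  obtain ⟨r, hr⟩ := (Int.odd_mul.1 hodd).1
  obtain ⟨r', hr'⟩ := (Int.odd_mul.1 hodd).2
  have hpw : ¬ (p : ℤ) ∣ w := by
    obtain ⟨l, hl, hld⟩ := Nat.exists_prime_and_dvd (n := D.natAbs) (by omega)
    have h5 : l ∣ p ^ n := by rw [← BrauerL3.abs_pow_of hQ, hf, Int.natAbs_mul]; exact hld.mul_right _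
    rw [(Nat.prime_dvd_prime_iff_eq hl hp).1 (hl.dvd_of_dvd_pow h5)] at hld
    exact fun h => (Nat.prime_iff_prime_int.1 hp).not_isUnit
      (hDw.isUnit_of_dvd' (Int.natCast_dvd.2 hld) h)
  have hwQ : IsCoprime w Q := by
    have h5 := ((Nat.prime_iff_prime_int.1 hp).coprime_iff_not_dvd.2 hpw).symm.pow_right (n := n)
    rcases hQ with e | e <;> rw [e]
    · exact h5
    · exact h5.neg_right
  obtain ⟨g, hg⟩ := hwQ.dvd_of_dvd_mul_left (Dvd.intro _ he.symm)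
  obtain ⟨g', rfl⟩ : Even g := by
    have h5 : Even (Q - 1) := Int.even_iff.2 (by omega)
    rw [hg] at h5
    exact (Int.even_mul.1 h5).resolve_left fun h6 => Int.not_even_iff_odd.2 hw h6
  have hw2 : 2 * |w| ≤ |Q| + 1 := by
    have h5 : |Q - 1| = |w| * (2 * |g'|) := by rw [hg, abs_mul, ← two_mul, abs_mul, abs_two]
    have h6 : |Q - 1| ≤ |Q| + 1 := (abs_sub Q 1).trans (by rw [abs_one])
    have h7 : 1 ≤ |g'| := abs_pos.2 fun (e : g' = 0) => by rw [e, add_zero, mul_zero] at hg; omega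
    have h8 := mul_le_mul_of_nonneg_left h7 (abs_nonneg w)
    linarith
  have hge : |Q + 1| * d ≤ |w| + |D| := by
    have := abs_sub D w
    rw [show D - w = (Q + 1) * d by rw [hD]; ring, abs_mul, abs_of_pos hd] at this
    linarith
  have hQ1 : |Q| - 1 ≤ |Q + 1| := by
    rcases abs_cases Q with u | u <;> rcases abs_cases (Q + 1) with v | v <;> omega
  have hge' : (|Q| - 1) * d ≤ |w| + |D| := (mul_le_mul_of_nonneg_right hQ1 hd.le).trans hge
  rcases (show f = 1 ∨ f = -1 ∨ 3 ≤ |f| by rcases abs_cases f with u | u <;> omega) with hf1 | hf1 | hf3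
  · subst hf1
    rw [mul_one] at hf
    have hd1 : d = 1 := by
      obtain ⟨i, hi⟩ := hdo
      by_contra hne
      have h9 := mul_le_mul_of_nonneg_left (show (3 : ℤ) ≤ d by omega) (show 0 ≤ |Q| - 1 by omega)
      rw [← hf] at hge'
      linarith
    exact ⟨hd1, Or.inl (by rw [hd1] at hD; omega)⟩
  · subst hf1
    exfalso
    have hd1 : d = 1 := by
      obtain ⟨i, hi⟩ := hdo
      by_contra hne
      have h9 := mul_le_mul_of_nonneg_left (show (3 : ℤ) ≤ d by omega) (show 0 ≤ |Q| - 1 by omega)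
      rw [show |D| = |Q| by rw [hf, mul_neg_one, abs_neg]] at hge'
      linarith
    rw [hd1] at hD
    rcases abs_cases w with u | u <;> rcases abs_cases Q with v | v <;> omega
  · have hDQ3 : 3 * |D| ≤ |Q| := by
      rw [hf, abs_mul, mul_comm]; exact mul_le_mul_of_nonneg_left hf3 (abs_nonneg D)
    have hd1 : d = 1 := by
      obtain ⟨i, hi⟩ := hdo
      by_contra hne
      have h9 := mul_le_mul_of_nonneg_left (show (3 : ℤ) ≤ d by omega) (show 0 ≤ |Q| - 1 by omega)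
      linarith
    rw [hd1, mul_one] at hge' hD
    refine ⟨hd1, Or.inr (Or.inr (Or.inr ?_))⟩
    rcases abs_cases Q with ⟨u, -⟩ | ⟨u, -⟩ <;> rcases abs_cases w with v | v <;>
      rcases abs_cases D with x | x <;> omega

/-- The value `B = Q` in the first branch. -/
theorem sd_first_B {B : ℤ} (h4 : Q % 4 = 3) (hq : 3 ≤ |Q|) (ha : a ≠ 0) (ha1 : a ≠ -1) (hb : b ≠ 0)
    (hi : a * ((1 + a) * B + (Q - 1) * b) ^ 2 + (a + Q) ^ 2 * b * (1 + a + b) = 0)
    (hii : (Q - 1) * a * (a + 1) * (b + b ^ 2 + B ^ 2 * (1 + b) - (2 * Q + 1 - B) ^ 2 * b) -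
      (Q + 1) * (a + Q) ^ 2 * b * (1 + b) = 0)
    (h : b * (a + Q ^ 2) + Q ^ 2 * (a + 1) = 0) : B = Q := by
  set L := 2 * a * (1 + a) * (Q - 1) * ((Q - 1) - (1 + a) * (2 * Q + 1)) with hL
  set u := a + Q with hu
  set P0 := (Q - 1) * u ^ 2 * (1 + a) - (Q - 1) * a * (1 + a) ^ 2 * (1 - (2 * Q + 1) ^ 2) +
    (1 + a) * (Q + 1) * u ^ 2 with hP0
  set P1 := a * (Q - 1) ^ 3 + (Q - 1) * u ^ 2 - (Q - 1) * a * (1 + a) ^ 2 + (1 + a) * (Q + 1) * u ^ 2 with hP1
  have hB : L * B + P0 + P1 * b = 0 := by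
    refine mul_left_cancel₀ hb ?_
    rw [hL, hP0, hP1]
    linear_combination (Q - 1) * hi - (1 + a) * hii
  have hv : a + Q ^ 2 ≠ 0 := fun e => by
    rw [e, mul_zero, zero_add] at h
    exact mul_ne_zero (pow_ne_zero 2 (show Q ≠ 0 by omega)) (show a + 1 ≠ 0 by omega) h
  have hid : (a + Q ^ 2) * (L * Q + P0) = P1 * (Q ^ 2 * (a + 1)) := by rw [hL, hP0, hP1, hu]; ring
  have hL0 : L ≠ 0 := by
    refine mul_ne_zero (mul_ne_zero (mul_ne_zero (mul_ne_zero two_ne_zero ha) (by omega)) (by omega)) fun e => ?_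
    have h3 : 2 * Q + 1 ∣ 3 := ⟨1 - 2 * (1 + a), by linear_combination -2 * e⟩
    have u1 := Int.le_of_dvd (by norm_num) h3
    have u2 := Int.le_of_dvd (by norm_num) (neg_dvd.2 h3)
    rcases abs_cases Q with x | x <;> omega
  have : (a + Q ^ 2) * (L * (B - Q)) = 0 := by linear_combination (a + Q ^ 2) * hB - hid - P1 * h
  rcases mul_eq_zero.1 this with x | x
  · exact absurd x hv
  rcases mul_eq_zero.1 x with x | x
  · exact absurd x hL0
  · linarith

/-- **The semidihedral solutions without a regular normaliser.** -/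
theorem sd_solve_free (E : BrauerL3.SdEqs Q R) (hR : R ≠ 0) (hp : p.Prime) (hn : 0 < n)
    (hQ : Q = (p : ℤ) ^ n ∨ Q = -(p : ℤ) ^ n) (h4 : Q % 4 = 3) {g₀ a₀ : ℤ}
    (hg : R * g₀ = ((a₀ : ℚ) * (Q * (Q + 1))) ^ 2) (hgo : Odd g₀) (hao : Odd a₀)
    (hE : ∀ l : ℕ, l.Prime → l ≠ 2 → (l : ℤ) ∣ Q + 1 → padicValInt l g₀ ≤ 2 * padicValInt l a₀) :
    E.A = -Q ∧ E.B = Q ∧
      ((E.a = -Q ^ 3 ∧ E.b = -(Q ^ 2 + Q + 1) ∧ g₀ = a₀ ^ 2 * Q ^ 2 * (Q ^ 2 + Q + 1)) ∨
        (E.a = -(Q ^ 2 + Q - 1) ∧ E.b = -(Q ^ 3 + 2 * Q ^ 2) ∧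
          g₀ = a₀ ^ 2 * ((Q ^ 2 + Q - 1) * (Q ^ 2 + 2 * Q))) ∨
        (Q = -5 ∧ E.a = -35 ∧ E.b = -85 ∧ g₀ = a₀ ^ 2 * 357) ∨
        (Q = -9 ∧ E.a = -135 ∧ E.b = -201 ∧ g₀ = a₀ ^ 2 * 5025)) := by
  have hp2 : p ≠ 2 := by
    rintro rfl
    have h2 : (2 : ℤ) ∣ (2 : ℤ) ^ n := dvd_pow_self _ hn.ne'
    rcases hQ with h | h <;> push_cast at h <;> omega
  have hQ' : Q.natAbs = p ^ n := BrauerL3.abs_pow_of hQ
  have hq : (3 : ℤ) ≤ |Q| := by
    have h3 : 3 ≤ p ^ n := le_trans (show 3 ≤ p by have := hp.two_le; omega) (Nat.le_self_pow hn.ne' p)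
    rw [Int.abs_eq_natAbs, hQ']
    exact_mod_cast h3
  have h1 : Q ≠ 1 := by omega
  have h0 : Q ≠ 0 := by omega
  have hQp : Q + 1 ≠ 0 := by rcases abs_cases Q with e | e <;> omega
  have hQm : Q - 1 ≠ 0 := by omega
  obtain ⟨hu, hgu, hi, hii⟩ := sd_cleared E hR h1 h0 hg
  obtain ⟨hodd, P⟩ := sd_par h4 hq E.a0 E.a1 hu hgo hao hgu
  refine ⟨E.A_eq h1, ?_⟩
  rcases BrauerL3.sd_branches rfl E.a0 E.a1 E.b0 hi hii with hbr | hbr
  swap
  · exact (sd_second_empty hp hQ' hn h4 hq P E.a0 E.a1 hodd hu E.b0 E.ab hbr).elim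
  refine ⟨sd_first_B h4 hq E.a0 E.a1 E.b0 hi hii hbr, ?_⟩
  set a := E.a with hadef
  set b := E.b
  have hM0 : Q * (Q ^ 2 - 1) ≠ 0 := by
    rw [show Q * (Q ^ 2 - 1) = Q * ((Q - 1) * (Q + 1)) by ring]
    exact mul_ne_zero h0 (mul_ne_zero hQm hQp)
  -- lowest terms
  obtain ⟨w, d, hd, hwd, hwu⟩ : ∃ w d : ℤ, 0 < d ∧ IsCoprime w d ∧ w * (a + Q) = Q * (Q ^ 2 - 1) * d := by
    obtain ⟨G, u', M', hG, hco, hu', hM'⟩ := Int.exists_gcd_one' (m := a + Q) (n := Q * (Q ^ 2 - 1))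
      (Int.gcd_pos_iff.2 (Or.inl hu))
    have hco' : IsCoprime u' M' := Int.isCoprime_iff_gcd_eq_one.2 hco
    rcases lt_or_gt_of_ne (show u' ≠ 0 by rintro rfl; exact hu (by rw [hu', zero_mul])) with hl | hl
    · exact ⟨-M', -u', by omega, hco'.symm.neg_neg, by linear_combination -M' * hu' + u' * hM'⟩
    · exact ⟨M', u', hl, hco'.symm, by linear_combination M' * hu' - u' * hM'⟩
  have hw0 : w ≠ 0 := by
    rintro rfl
    rw [zero_mul] at hwu
    exact mul_ne_zero hM0 hd.ne' hwu.symm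
  have hwM : w ∣ Q * (Q ^ 2 - 1) := hwd.dvd_of_dvd_mul_right ⟨a + Q, hwu.symm⟩
  have ea : w * a = Q * ((Q ^ 2 - 1) * d - w) := by linear_combination hwu
  have ea1 : w * (a + 1) = (Q - 1) * ((Q ^ 2 + Q) * d - w) := by linear_combination hwu
  have hgd : g₀ * d ^ 2 = a₀ ^ 2 * (((Q ^ 2 - 1) * d - w) * ((Q ^ 2 + Q) * d - w)) := by
    refine mul_left_cancel₀ (pow_ne_zero 2 hM0) ?_
    linear_combination w ^ 2 * hgu - g₀ * (w * (a + Q) + Q * (Q ^ 2 - 1) * d) * hwu +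
      a₀ ^ 2 * Q * (Q + 1) ^ 2 * (Q - 1) * (w * (a + 1)) * ea +
      a₀ ^ 2 * Q ^ 2 * (Q + 1) ^ 2 * (Q - 1) * ((Q ^ 2 - 1) * d - w) * ea1
  -- parities
  have h2w : ¬ (2 : ℤ) ∣ w ∧ ¬ (2 : ℤ) ∣ d := by
    haveI : Fact (Nat.Prime 2) := ⟨Nat.prime_two⟩
    have hv := congrArg (padicValInt 2) hwu
    rw [padicValInt.mul hw0 hu, padicValInt.mul hM0 hd.ne',
      show Q * (Q ^ 2 - 1) = Q * ((Q - 1) * (Q + 1)) by ring, padicValInt.mul h0 (mul_ne_zero hQm hQp),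
      padicValInt.mul hQm hQp, val_zero (l := 2) (x := Q) (by push_cast; omega), P.vu, P.vm] at hv
    have hnb : ¬ ((2 : ℤ) ∣ w ∧ (2 : ℤ) ∣ d) := fun h => Int.prime_two.not_isUnit (hwd.isUnit_of_dvd' h.1 h.2)
    refine ⟨fun h => hnb ⟨h, ?_⟩, fun h => hnb ⟨?_, h⟩⟩
    · have := (val_pos (l := 2) hw0).2 (by exact_mod_cast h)
      exact_mod_cast (val_pos (l := 2) hd.ne').1 (by omega)
    · have := (val_pos (l := 2) hd.ne').2 (by exact_mod_cast h)
      exact_mod_cast (val_pos (l := 2) hw0).1 (by omega)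
  have hwo : Odd w := Int.odd_iff.2 (by omega)
  have hdo : Odd d := Int.odd_iff.2 (by omega)
  -- `w` is prime to `Q + 1`
  have hco : IsCoprime w (Q + 1) := by
    rw [Int.isCoprime_iff_gcd_eq_one]
    by_contra hne
    obtain ⟨l, hl, hlg⟩ := Nat.exists_prime_and_dvd hne
    have hlw : (l : ℤ) ∣ w := (Int.natCast_dvd_natCast.2 hlg).trans (Int.gcd_dvd_left _ _)
    have hlQ : (l : ℤ) ∣ Q + 1 := (Int.natCast_dvd_natCast.2 hlg).trans (Int.gcd_dvd_right _ _)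
    haveI := Fact.mk hl
    have hl2 : l ≠ 2 := fun e => h2w.1 (by rw [e] at hlw; exact_mod_cast hlw)
    have hld : ¬ (l : ℤ) ∣ d := fun h => (Nat.prime_iff_prime_int.1 hl).not_isUnit (hwd.isUnit_of_dvd' hlw h)
    have hg0 : g₀ ≠ 0 := by rintro rfl; simp at hgo
    have ha0 : a₀ ≠ 0 := by rintro rfl; simp at hao
    have hN : ((Q ^ 2 - 1) * d - w) * ((Q ^ 2 + Q) * d - w) ≠ 0 := fun e => by
      rw [e, mul_zero] at hgd
      exact mul_ne_zero hg0 (pow_ne_zero 2 hd.ne') hgd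
    have hlN : (l : ℤ) ∣ ((Q ^ 2 - 1) * d - w) * ((Q ^ 2 + Q) * d - w) := by
      refine dvd_mul_of_dvd_left (dvd_sub ?_ hlw) _
      rw [show (Q ^ 2 - 1) * d = (Q + 1) * ((Q - 1) * d) by ring]
      exact dvd_mul_of_dvd_left hlQ _
    have hv := congrArg (padicValInt l) hgd
    rw [padicValInt.mul hg0 (pow_ne_zero 2 hd.ne'), padicValInt.mul (pow_ne_zero 2 ha0) hN, val_pow, val_pow,
      val_zero hld] at hv
    have := (val_pos hN).2 hlN
    have := hE l hl hl2 hlQ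
    omega
  have hbD : b * ((Q + 1) * d + w) + Q * ((Q ^ 2 + Q) * d - w) = 0 := by
    refine mul_left_cancel₀ (mul_ne_zero h0 hQm) ?_
    linear_combination w * hbr - b * ea - Q ^ 2 * ea1
  obtain ⟨hd1, hw⟩ := sd_first_free hp hQ h4 hq hd hdo hwo hwd hco hwM ⟨-b, by linear_combination hbD⟩
  subst hd1
  rw [one_pow, mul_one, mul_one, mul_one] at hgd
  rw [mul_one] at ea
  rcases hw with rfl | rfl | ⟨rfl, rfl⟩ | ⟨rfl, rfl⟩
  · refine Or.inl ⟨by linarith, mul_left_cancel₀ h0 (by linear_combination hbD), by rw [hgd]; ring⟩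
  · refine Or.inr (Or.inl ⟨mul_left_cancel₀ h0 (by linear_combination -ea), by linarith, by rw [hgd]; ring⟩)
  · refine Or.inr (Or.inr (Or.inl ⟨rfl, by linarith, by linarith, by rw [hgd]; norm_num⟩))
  · refine Or.inr (Or.inr (Or.inr ⟨rfl, by linarith, by linarith, by rw [hgd]; norm_num⟩))

end Cfsg.Agent.Invol.AbgOrder
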