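import Cfsg.Agent.Lib.Invol.AbgOrder.OrdMain
import Cfsg.Agent.Lib.Invol.AbgOrder.AlgSdFree
import Cfsg.Agent.Lib.Invol.AbgOrder.FinalSteps

/-!
# The witness characters

Wreathed case: a character of the principal block with degree `Q² + Q` and value `Q + 1` at `z`.  Semidihedral case,
with the bound `E(l)` on the odd primes of `Q + 1`: the same, or degree `Q² + Q - 1` and value `Q`, or `Q = -5`, `-9`
with degree `34`, `134` and value `-6`, `-10`.
-/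

set_option autoImplicit false
set_option linter.unusedSectionVars false
set_option linter.style.haveILetI false

open scoped Classical

namespace Cfsg.Agent.Invol.AbgOrder

open Cfsg Cfsg.Agent.Char Cfsg.Agent.Block
open Cfsg.Agent.Invol.BrauerL3 (scal MatModel Vecs IsSigned sv sv_self sv_of_ne SdEqs gramSd valSd pairSd valSd_apply
  pairSd_apply)

universe u v w x y

attribute [local instance] oddCore_normal

/-- A character of the principal block with given degree and value at `z`. -/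
def Witness {G : Type u} [Group G] [Fintype G] (M : Ideal AlgInt) (z : G) (d t : ℤ) : Prop :=
  ∃ χ : IrrCharacter G, χ ∈ principalBlock M G ∧ (χ : G → ℂ) 1 = (d : ℂ) ∧ (χ : G → ℂ) z = (t : ℂ)

/-- The bound on the odd primes of `Q + 1`. -/
def EllBound {G : Type u} [Group G] (z : G) (Q : ℤ) : Prop :=
  ∀ w : ↥(Subgroup.centralizer ({z} : Set G)), orderOf w = 2 → (w : G) ≠ z →
    ∀ l : ℕ, l.Prime → l ≠ 2 → (l : ℤ) ∣ Q + 1 →
      padicValNat l (Subgroup.centralizer ({z} : Set G)).index ≤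
        2 * padicValNat l ((Subgroup.centralizer ({w} : Set ↥(Subgroup.centralizer ({z} : Set G)))).subgroupOf
          (Cfsg.oddCore ↥(Subgroup.centralizer ({z} : Set G)))).index

/-- A witness with vanishing sum against the outer coset of the noncentral involution, when `Q = -q`. -/
def UWitness {G : Type u} [Group G] [Fintype G] {F : Type v} [Field F] [Fintype F] {H : Type w} [Group H]
    {K : Type x} [CommGroup K] {Q : ℤ} (M : Ideal AlgInt) (z : G) (S0 : Shape0 (CQ z) F H K Q) (d t : ℤ) : Prop :=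
  ∃ χ : IrrCharacter G, χ ∈ principalBlock M G ∧ (χ : G → ℂ) 1 = (d : ℂ) ∧ (χ : G → ℂ) z = (t : ℂ) ∧
    (Q = -(Fintype.card F : ℤ) → 4 ≤ Fintype.card F → OuterVanish z S0 (χ : G → ℂ))

/-- The witness for `Q = -9`, with a constituent of degree ten on the centraliser. -/
def TenWitness {G : Type u} [Group G] [Fintype G] {F : Type v} [Field F] [Fintype F] {H : Type w} [Group H]
    {K : Type x} [CommGroup K] {Q : ℤ} (M : Ideal AlgInt) (z : G) (S0 : Shape0 (CQ z) F H K Q) : Prop :=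
  ∃ χ : IrrCharacter G, χ ∈ principalBlock M G ∧ (χ : G → ℂ) 1 = 134 ∧ (χ : G → ℂ) z = -10 ∧
    (Q = -(Fintype.card F : ℤ) → 4 ≤ Fintype.card F → OuterVanish z S0 (χ : G → ℂ)) ∧ TenBelow z (χ : G → ℂ)

/-- A signed element of a vector is a character of the principal block. -/
theorem chars_of_signed {G : Type u} [Group G] [Fintype G] {M : Ideal AlgInt} {z : G} {Q : ℤ} {a0 k : ℕ}
    {gram : Fin k → Fin k → ℤ} {tr tv : Fin k → ℤ} {pr : Fin k → ℚ} {V : Vecs (IrrCharacter G) gram tr tv pr}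
    (hV : VecsOf M z Q a0 V) {x : IrrCharacter G × ℤ} (hx : IsSigned x) {j : Fin k} (hj : V.w j x.1 ≠ 0)
    {d t : ℤ} (hd : V.dg x = d) (ht : V.vl x = t) (hpos : 0 < d) :
    x.1 ∈ principalBlock M G ∧ (x.1 : G → ℂ) 1 = (d : ℂ) ∧ (x.1 : G → ℂ) z = (t : ℂ) := by
  have ho := V.ne_o hj
  have hv : V.v j x.1 ≠ 0 := by simpa [Vecs.w, ho] using hj
  have hs : x.2 = 1 := by
    rcases hx with h | h
    · exact h
    · have := V.deg_pos x.1
      simp only [Vecs.dg, h] at hd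
      omega
  simp only [Vecs.dg, Vecs.vl, hs, one_mul] at hd ht
  exact ⟨hV.block j _ hv, by rw [← (hV.chars _).1, hd], by rw [← (hV.chars _).2, ht]⟩

/-- A signed element of a vector gives a witness. -/
theorem witness_of_signed {G : Type u} [Group G] [Fintype G] {M : Ideal AlgInt} {z : G} {Q : ℤ} {a0 k : ℕ}
    {gram : Fin k → Fin k → ℤ} {tr tv : Fin k → ℤ} {pr : Fin k → ℚ} {V : Vecs (IrrCharacter G) gram tr tv pr}
    (hV : VecsOf M z Q a0 V) {x : IrrCharacter G × ℤ} (hx : IsSigned x) {j : Fin k} (hj : V.w j x.1 ≠ 0)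
    {d t : ℤ} (hd : V.dg x = d) (ht : V.vl x = t) (hpos : 0 < d) : Witness M z d t :=
  ⟨x.1, chars_of_signed hV hx hj hd ht hpos⟩

theorem UWitness.witness {G : Type u} [Group G] [Fintype G] {F : Type v} [Field F] [Fintype F] {H : Type w}
    [Group H] {K : Type x} [CommGroup K] {Q : ℤ} {M : Ideal AlgInt} {z : G} {S0 : Shape0 (CQ z) F H K Q} {d t : ℤ}
    (h : UWitness M z S0 d t) : Witness M z d t :=
  let ⟨χ, hχ, h1, h2, _⟩ := h
  ⟨χ, hχ, h1, h2⟩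

/-- The semidihedral shape with its equations. -/
theorem sd_shape {ι : Type u} [Fintype ι] (Q : ℤ) (V : Vecs ι gramSd (fun _ => 1) (valSd Q) (pairSd Q)) :
    ∃ (S : V.Shape 0 1 ![2, 3, 4]) (E : SdEqs Q V.R), V.dg S.a = E.a ∧ V.vl S.a = E.A ∧
      V.dg S.i = -1 - E.b ∧ V.vl S.i = 2 * (1 + Q) - 1 - E.B ∧
      V.dg (S.e 0) = -1 - E.a ∧ V.vl (S.e 0) = -1 - E.A := by
  obtain ⟨S⟩ := Vecs.five_sd Q V
  obtain ⟨dA, vA, qA⟩ := V.sum_three S.ha S.hb S.hc S.wA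
  obtain ⟨d0, v0, q0⟩ := V.sum_two S.hb S.hi S.w0
  obtain ⟨dT, vT, qT⟩ := V.sum_two S.ha (S.he 0) (S.wT 0)
  obtain ⟨dF, vF, qF⟩ := V.sum_two S.ha (S.he 1) (S.wT 1)
  obtain ⟨t0, t1, t2, t3⟩ := valSd_apply Q
  obtain ⟨p0, p1, p2, p3⟩ := pairSd_apply Q
  simp only [Matrix.cons_val_zero, Matrix.cons_val_one, t0, t1, t2, t3, p0, p1, p2, p3, Int.cast_one, mul_zero]
    at dA vA qA d0 v0 q0 dT vT qT dF vF qF
  have h2 := fun {x : ι × ℤ} (h : IsSigned x) (ho : x.1 ≠ V.o) => V.dg_ne h ho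
  have hc' : V.dg S.c = -1 - V.dg S.a - V.dg S.b := by omega
  have hi' : V.dg S.i = -1 - V.dg S.b := by omega
  have he' : V.dg (S.e 0) = -1 - V.dg S.a := by omega
  have hf' : V.dg (S.e 1) = -1 - V.dg S.a := by omega
  have hC : V.vl S.c = -1 - V.vl S.a - V.vl S.b := by omega
  have hI : V.vl S.i = 2 * (1 + Q) - 1 - V.vl S.b := by omega
  have hE : V.vl (S.e 0) = -1 - V.vl S.a := by omega
  have hF : V.vl (S.e 1) = 2 * (1 - Q) - 1 - V.vl S.a := by omega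
  rw [hc', hC] at qA
  rw [hi', hI] at q0
  rw [he', hE] at qT
  rw [hf', hF] at qF
  push_cast at qA q0 qT qF
  exact ⟨S, ⟨V.dg S.a, V.dg S.b, V.vl S.a, V.vl S.b, (h2 S.ha S.ao).1, (h2 S.ha S.ao).2.2, (h2 S.hb S.bo).1,
    (h2 S.hb S.bo).2.2, fun e => (h2 S.hc S.co).1 (by omega), qA, q0, qT, qF⟩, rfl, rfl, hi', hI, he', hE⟩

section Chars

variable {G : Type u} [Group G] [Fintype G] [IsSimpleGroup G] {F : Type v} [Field F] [Fintype F]
  {H : Type w} [Group H] {K : Type x} [CommGroup K] {Q : ℤ}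

/-- The character in the wreathed case. -/
theorem wreathed_witness (hna : ¬ IsMulCommutative G) (S : Sylow 2 G) (z : G) (hz : orderOf z = 2)
    (hzc : ∀ s ∈ (S : Subgroup G), s * z = z * s) (hS : Cfsg.IsWreathed (S : Subgroup G))
    (S0 : Shape0 (CQ z) F H K Q) {L : Type y} [Field L] {pp : ℕ} (MM : MatModel H L pp Q)
    (hFQ : Q = (Fintype.card F : ℤ) ∨ Q = -(Fintype.card F : ℤ)) (h4 : Q % 4 = 1)
    {M : Ideal AlgInt} (hM : IsPModular 2 M) : UWitness M z S0 (Q ^ 2 + Q) (Q + 1) := by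
  obtain ⟨a0, -, -, -, hcases⟩ := vecs_of_shape hna S z hz hzc (Or.inr hS) S0 MM hFQ (Or.inr ⟨hS, h4⟩) hM
  rcases hcases with ⟨-, h3, -⟩ | ⟨-, -, V, π, hV, hπ, hπd, hπv, hout⟩
  · omega
  obtain ⟨E, hxb, hX, i, hi, hwi, hdi, hvi, hAi, hcon⟩ := wrF_shape Q V π hπ hπd hπv
  have hb := S0.M.T.big
  have hs := E.solve V.R_ne (by omega) (by omega) (by omega) hxb hX
  have ho := V.ne_o hwi
  obtain ⟨hB, h1, h2⟩ := chars_of_signed hV hi hwi (hdi.trans hs.i_eq) (hvi.trans hs.I_eq) (by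
    rcases (show 3 ≤ Q ∨ Q ≤ -3 by omega) with h | h <;> nlinarith)
  exact ⟨i.1, hB, h1, h2, hout _ hB ho (by simpa [Vecs.w, ho] using hAi) hcon⟩

/-- The characters in the semidihedral case. -/
theorem semidihedral_witness (hna : ¬ IsMulCommutative G) (S : Sylow 2 G) (z : G) (hz : orderOf z = 2)
    (hzc : ∀ s ∈ (S : Subgroup G), s * z = z * s) (hS : Cfsg.IsQuasiDihedral (S : Subgroup G))
    (S0 : Shape0 (CQ z) F H K Q) {L : Type y} [Field L] {pp : ℕ} (MM : MatModel H L pp Q)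
    {p n : ℕ} (hp : p.Prime) (hn : 0 < n) (hQ : Q = (p : ℤ) ^ n ∨ Q = -(p : ℤ) ^ n)
    (hFQ : Q = (Fintype.card F : ℤ) ∨ Q = -(Fintype.card F : ℤ)) (h4 : Q % 4 = 3) (hE : EllBound z Q)
    {M : Ideal AlgInt} (hM : IsPModular 2 M) :
    ∃ a0 : ℕ, a0 ≠ 0 ∧ IsLiftNum z a0 ∧
      ((UWitness M z S0 (Q ^ 2 + Q) (Q + 1) ∧
          ((Subgroup.centralizer ({z} : Set G)).index : ℤ) = (a0 : ℤ) ^ 2 * Q ^ 2 * (Q ^ 2 + Q + 1)) ∨
        (Witness M z (Q ^ 2 + Q - 1) Q ∧ UWitness M z S0 (Q ^ 2 + Q - 2) (Q - 1) ∧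
          ((Subgroup.centralizer ({z} : Set G)).index : ℤ) =
            (a0 : ℤ) ^ 2 * ((Q ^ 2 + Q - 1) * (Q ^ 2 + 2 * Q))) ∨
        (Q = -5 ∧ UWitness M z S0 34 (-6) ∧ ((Subgroup.centralizer ({z} : Set G)).index : ℤ) = (a0 : ℤ) ^ 2 * 357) ∨
        (Q = -9 ∧ TenWitness M z S0 ∧ ((Subgroup.centralizer ({z} : Set G)).index : ℤ) = (a0 : ℤ) ^ 2 * 5025)) := by
  haveI : Fact (Nat.Prime 2) := ⟨Nat.prime_two⟩
  obtain ⟨a0, ha0, hao, hlift, hcases⟩ := vecs_of_shape hna S z hz hzc (Or.inl hS) S0 MM hFQ (Or.inl ⟨hS, h4⟩) hM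
  refine ⟨a0, ha0, hlift, ?_⟩
  rcases hcases with ⟨-, -, V, hV, hout, hten⟩ | ⟨-, h1, -⟩
  swap
  · omega
  set C := Subgroup.centralizer ({z} : Set G) with hC
  obtain ⟨Sh, E, hda, hva, hdi, hvi, hde, hve⟩ := sd_shape Q V
  have hgC : Nat.card C * C.index = Nat.card G := by rw [mul_comm]; exact C.index_mul_card
  have hgo : Odd C.index := Nat.odd_iff.2 (Nat.two_dvd_ne_zero.1 fun h => S.not_dvd_index
    (h.trans (Subgroup.index_dvd_of_le fun s hs => Subgroup.mem_centralizer_singleton_iff.2 (hzc s hs))))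
  have hg : V.R * ((C.index : ℤ) : ℚ) = (((a0 : ℤ) : ℚ) * (Q * (Q + 1))) ^ 2 := by
    have h := hV.R_eq
    rw [← hgC, Nat.cast_mul] at h
    push_cast
    refine mul_left_cancel₀ (Nat.cast_ne_zero.2 (Nat.card_pos (α := C)).ne' : (Nat.card C : ℚ) ≠ 0) ?_
    linear_combination h
  have hE' : ∀ l : ℕ, l.Prime → l ≠ 2 → (l : ℤ) ∣ Q + 1 →
      padicValInt l (C.index : ℤ) ≤ 2 * padicValInt l (a0 : ℤ) := fun l hl h2 hd => by
    obtain ⟨⟨w, hwo, hwz⟩, hw⟩ := hlift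
    have h := hE w hwo hwz l hl h2 hd
    rw [hw w hwo hwz] at h
    rwa [padicValInt.of_nat, padicValInt.of_nat]
  obtain ⟨hA, hB, hsol⟩ :=
    sd_solve_free E V.R_ne hp hn hQ h4 hg (by exact_mod_cast hgo) (by exact_mod_cast hao) hE'
  have hb := S0.M.T.big
  have hq : 3 ≤ Q ∨ Q ≤ -3 := by omega
  have hwi : V.w 1 Sh.i.1 ≠ 0 := by
    rw [Sh.w0, Pi.add_apply, sv_of_ne Sh.bi.symm, sv_self, zero_add]
    exact Sh.hi.ne_zero
  have hwa : V.w 0 Sh.a.1 ≠ 0 := by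
    rw [Sh.wA, Pi.add_apply, Pi.add_apply, sv_self, sv_of_ne Sh.ab, sv_of_ne Sh.ac, add_zero, add_zero]
    exact Sh.ha.ne_zero
  have hwe : V.w (![2, 3, 4] 0) (Sh.e 0).1 ≠ 0 := by
    rw [Sh.wT 0, Pi.add_apply, sv_of_ne (Sh.ea 0), sv_self, zero_add]
    exact (Sh.he 0).ne_zero
  have hneg : ∀ {x : IrrCharacter G × ℤ}, IsSigned x → IsSigned ((x.1, -x.2) : IrrCharacter G × ℤ) := signed_neg
  have hi0 : V.v 0 Sh.i.1 = 0 := by
    have h : V.w 0 Sh.i.1 = 0 := by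
      rw [Sh.wA, Pi.add_apply, Pi.add_apply, sv_of_ne Sh.ai.symm, sv_of_ne Sh.bi.symm, sv_of_ne Sh.ci.symm]; rfl
    simpa [Vecs.w, Sh.io] using h
  have he0 : V.v 0 (Sh.e 0).1 = 0 := by
    have h : V.w 0 (Sh.e 0).1 = 0 := by
      rw [Sh.wA, Pi.add_apply, Pi.add_apply, sv_of_ne (Sh.ea 0), sv_of_ne (Sh.eb 0), sv_of_ne (Sh.ec 0)]; rfl
    simpa [Vecs.w, Sh.eo 0] using h
  have hu : ∀ {x : IrrCharacter G × ℤ} {j : Fin _} {d t : ℤ}, IsSigned x → V.w j x.1 ≠ 0 → V.v 0 x.1 = 0 →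
      V.dg x = d → V.vl x = t → 0 < d → UWitness M z S0 d t := fun {x} _ _ _ hx hj h0 hd ht hp' =>
    let ⟨hB, h1, h2⟩ := chars_of_signed hV hx hj hd ht hp'
    ⟨x.1, hB, h1, h2, hout _ hB h0⟩
  rcases hsol with ⟨-, eb, eg⟩ | ⟨ea, -, eg⟩ | ⟨hQ5, ea, -, eg⟩ | ⟨hQ9, ea, -, eg⟩
  · refine Or.inl ⟨hu Sh.hi hwi hi0 (by rw [hdi, eb]; ring) (by rw [hvi, hB]; ring) ?_, eg⟩
    rcases hq with h | h <;> nlinarith
  · refine Or.inr (Or.inl ⟨witness_of_signed hV (hneg Sh.ha) hwa ?_ ?_ ?_,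
      hu (Sh.he 0) hwe he0 (by rw [hde, ea]; ring) (by rw [hve, hA]; ring) ?_, eg⟩)
    · simp only [Vecs.dg] at hda ⊢; linear_combination -hda - ea
    · simp only [Vecs.vl] at hva ⊢; linear_combination -hva - hA
    · rcases hq with h | h <;> nlinarith
    · rcases hq with h | h <;> nlinarith
  · refine Or.inr (Or.inr (Or.inl ⟨hQ5, hu (Sh.he 0) hwe he0 (by rw [hde, ea]; ring)
      (by rw [hve, hA, hQ5]; ring) (by norm_num), eg⟩))
  · refine Or.inr (Or.inr (Or.inr ⟨hQ9, ?_, eg⟩))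
    obtain ⟨hBl, h1, h2⟩ := chars_of_signed hV (Sh.he 0) hwe (show V.dg (Sh.e 0) = 134 by rw [hde, ea]; ring)
      (show V.vl (Sh.e 0) = -10 by rw [hve, hA, hQ9]; ring) (by norm_num)
    have hT : V.v 2 (Sh.e 0).1 = 1 := by
      have hsg : (Sh.e 0).2 = 1 := by
        rcases Sh.he 0 with h | h
        · exact h
        · have := V.deg_pos (Sh.e 0).1
          simp only [Vecs.dg, h] at hde
          omega
      have h : V.w 2 (Sh.e 0).1 = (Sh.e 0).2 := by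
        rw [show V.w 2 = sv Sh.a + sv (Sh.e 0) from Sh.wT 0, Pi.add_apply, sv_of_ne (Sh.ea 0), sv_self, zero_add]
      simpa [Vecs.w, Sh.eo 0, hsg] using h
    exact ⟨(Sh.e 0).1, hBl, by rw [h1]; norm_num, by rw [h2]; norm_num, hout _ hBl he0,
      hten _ (Sh.eo 0) he0 hT hQ9⟩

end Chars

/-! ### The inputs of the final steps -/

variable {G : Type u} [Group G] [Fintype G] [IsSimpleGroup G]

/-- The witness character in the linear case, from `E(l)`. -/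
theorem linChar_of (hna : ¬ IsMulCommutative G)
    (hE : ∀ (S : Sylow 2 G) (z : G) (F : Type) [Field F] [Fintype F] (L : Type) [Field L] [Fintype L] [Algebra F L],
      Cfsg.IsQuasiDihedral (S : Subgroup G) → Fintype.card F % 4 = 3 → orderOf z = 2 → z ∈ S →
        (∀ s ∈ (S : Subgroup G), s * z = z * s) → Module.finrank F L = 2 →
        Shape0 (CQ z) F (GL (Fin 2) F) Lˣ (Fintype.card F : ℤ) → EllBound z (Fintype.card F : ℤ)) :
    LinChar G := by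
  intro S z F L _ _ _ _ _ hc hz hzS hzc hL h5 s
  have hodd : Odd (Fintype.card F) := by
    rcases hc with ⟨-, h⟩ | ⟨-, h⟩ <;> exact Nat.odd_iff.2 (by omega)
  obtain ⟨pp, ⟨MM⟩⟩ := BrauerL3.matModel_GL (F := F) hodd
  obtain ⟨M, hM⟩ := Char.exists_isPModular 2 Nat.prime_two
  obtain ⟨p, hp⟩ := CharP.exists F
  obtain ⟨n, hpp, hn⟩ := FiniteField.card F p
  rcases hc with ⟨hqd, h4⟩ | ⟨hwr, h4⟩
  · obtain ⟨a0, -, -, h⟩ := semidihedral_witness hna S z hz hzc hqd s MM hpp n.pos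
      (Or.inl (by rw [hn]; push_cast; rfl)) (Or.inl rfl) (by omega) (hE S z F L hqd h4 hz hzS hzc hL s) hM
    rcases h with ⟨⟨χ, hχ, h1, h2, -⟩, -⟩ | ⟨⟨χ, hχ, h1, h2⟩, -⟩ | ⟨hQ5, -⟩ | ⟨hQ9, -⟩
    · exact ⟨M, χ, 2, hM, hχ, Or.inr rfl, by rw [h1]; push_cast; ring, by rw [h2]; push_cast; ring⟩
    · exact ⟨M, χ, 1, hM, hχ, Or.inl rfl, by rw [h1]; push_cast; ring, by rw [h2]; push_cast; ring⟩
    · omega
    · omega
  · obtain ⟨χ, hχ, h1, h2, -⟩ := wreathed_witness hna S z hz hzc hwr s MM (Or.inl rfl) (by omega) hM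
    exact ⟨M, χ, 2, hM, hχ, Or.inr rfl, by rw [h1]; push_cast; ring, by rw [h2]; push_cast; ring⟩

/-- The witness character for `GU(2, 3)`. -/
theorem unitCharThree (hna : ¬ IsMulCommutative G) : UnitCharThree G := by
  intro S z F L _ _ _ _ _ hwr hz hzS hzc hL hcL h3 s
  obtain ⟨pp, ⟨MM⟩⟩ := BrauerL3.matModel_GU (F := L) (q := Fintype.card F) hcL (h3 ▸ by decide)
  obtain ⟨M, hM⟩ := Char.exists_isPModular 2 Nat.prime_two
  obtain ⟨χ, hχ, h1, h2, -⟩ := wreathed_witness hna S z hz hzc hwr s MM (Or.inr rfl) (by rw [h3]; decide) hM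
  exact ⟨M, χ, hM, hχ, by rw [h1, h3]; norm_num, by rw [h2, h3]; norm_num⟩

end Cfsg.Agent.Invol.AbgOrder
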