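import Cfsg.Agent.Lib.Invol.AbgOrder.BudgetUBorel
import Cfsg.Agent.Lib.Invol.AbgOrder.BudgetUEq
import Cfsg.Agent.Lib.Invol.AbgOrder.CoreUnitary
import Cfsg.Agent.Lib.Invol.AbgOrder.ExcUnitBudget
import Cfsg.Agent.Lib.Invol.AbgOrder.FinalCore
import Cfsg.Agent.Lib.Invol.AbgOrder.FinalSteps
import Cfsg.Agent.Lib.Invol.AbgOrder.OrdChar

/-!
# The core data in the unitary case

With equality in the budget the involution centralises the core and the three cores meet trivially.  The character of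
the other solution of the degree equations exceeds the budget; two exceptional degrees have their own count.
-/

set_option autoImplicit false
set_option linter.unusedSectionVars false
set_option linter.style.haveILetI false
set_option maxHeartbeats 1000000

open scoped Classical

namespace Cfsg.Agent.Invol.AbgOrder

open Cfsg Cfsg.Agent.Char Cfsg.Agent.Block
open Cfsg.Agent.Invol.BrauerL3 (scal MatModel matModel_GU)

universe u v w x

attribute [local instance] oddCore_normal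
attribute [-instance] MonoidHom.decidableMemKer

/-- What the core data need at the constituents. -/
def UData.GoodAll {C : Type u} [Group C] [Fintype C] {X : Type v} [Group X] {F : Type w} [Field F] [Fintype F]
    (B : UData C X F) : Prop :=
  ∀ θ, B.Cons θ → Char.conjN B.O B.w (θ : B.O → ℂ) = (θ : B.O → ℂ) ∧ IsIrrCharacter B.R (B.resR θ) ∧
    ((B.resR θ = fun _ => 1) ∨ classInner B.πw (B.resR θ) ≠ 0 ∨ classInner B.πu (B.resR θ) ≠ 0)

section Orbits

/-- A group of odd order on an even number of points has at least two orbits. -/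
theorem two_le_orbits {R : Type u} [Group R] [Fintype R] (hR : Odd (Nat.card R)) (Ω : Type v) [MulAction R Ω]
    [Fintype Ω] (hΩ : Even (Nat.card Ω)) [Nonempty Ω] :
    2 ≤ (classInner (PermChar.piFun R Ω) fun _ => 1).re := by
  haveI : ∀ g : R, Fintype (MulAction.fixedBy Ω g) := fun g => Fintype.ofFinite _
  haveI : Fintype (MulAction.orbitRel.Quotient R Ω) := Fintype.ofFinite _
  have hB := MulAction.sum_card_fixedBy_eq_card_orbits_mul_card_group R Ω
  have hsum : classInner (PermChar.piFun R Ω) (fun _ => 1) = (Fintype.card (MulAction.orbitRel.Quotient R Ω) : ℂ) := by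
    have h : ∑ g : R, PermChar.piFun R Ω g = (Fintype.card (MulAction.orbitRel.Quotient R Ω) : ℂ) * Fintype.card R := by
      rw [← Nat.cast_mul]
      simp only [PermChar.piFun, Nat.card_eq_fintype_card, ← Nat.cast_sum]
      exact_mod_cast hB
    simp only [classInner, map_one, mul_one]
    rw [h, Nat.card_eq_fintype_card, mul_comm (_ : ℂ), mul_assoc, mul_inv_cancel₀ (Nat.cast_ne_zero.2 Fintype.card_ne_zero),
      mul_one]
  rw [hsum, Complex.natCast_re]
  by_contra hlt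
  have h1 : Fintype.card (MulAction.orbitRel.Quotient R Ω) ≤ 1 := by
    have : (Fintype.card (MulAction.orbitRel.Quotient R Ω) : ℝ) < 2 := lt_of_not_ge hlt
    have : Fintype.card (MulAction.orbitRel.Quotient R Ω) < 2 := by exact_mod_cast this
    omega
  haveI := Fintype.card_le_one_iff_subsingleton.1 h1
  obtain ⟨a⟩ := (inferInstance : Nonempty Ω)
  haveI : MulAction.IsPretransitive R Ω := ⟨fun x y => MulAction.mem_orbit_iff.1
    (MulAction.orbitRel_apply.1 (Quotient.exact (Subsingleton.elim (α := MulAction.orbitRel.Quotient R Ω) ⟦y⟧ ⟦x⟧)))⟩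
  have hd : Nat.card Ω ∣ Nat.card R := by
    rw [← MulAction.index_stabilizer_of_transitive R a]
    exact Subgroup.index_dvd_card _
  exact Nat.not_even_iff_odd.2 (hR.of_dvd_nat hd) hΩ

/-- Odd subgroups have at least two orbits on the points of the line. -/
theorem Shape0.two_le_points {X : Type u} [Group X] [Fintype X] {F : Type v} [Field F] [Fintype F] [DecidableEq F]
    {H : Type w} [Group H] {K : Type x} [CommGroup K] {Q : ℤ} (s : Shape0 X F H K Q)
    (hodd : Odd (Fintype.card F)) {R : Type*} [Group R] [Fintype R] (hR : Odd (Nat.card R)) (ρ : R →* X) :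
    2 ≤ (classInner (fun y => s.refSt (ρ y) + 1) fun _ => 1).re := by
  letI : MulAction R (X ⧸ s.borel) := MulAction.compHom _ ρ
  rw [show (fun y => s.refSt (ρ y) + 1) = PermChar.piFun R (X ⧸ s.borel) from funext fun y => by
    rw [Shape0.refSt, sub_add_cancel, Contrib.indFun_one_apply, PermChar.piFun]
    rfl]
  refine two_le_orbits hR _ ?_
  have h := s.refSt_one
  rw [Shape0.refSt, Contrib.indFun_one_apply, sub_eq_iff_eq_add, ← Nat.cast_one, ← Nat.cast_add, Nat.cast_inj,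
    Nat.card_congr (Equiv.subtypeUnivEquiv fun t => one_smul X t)] at h
  rw [h]
  exact hodd.add_odd odd_one

end Orbits

section Adapter

variable {G : Type u} [Group G] [Fintype G] {F : Type v} [Field F] [Fintype F] {H : Type w} [Group H] {K : Type x}
  [CommGroup K] {Q : ℤ} (c : PreSetup G F H K Q) {M : Ideal AlgInt}

namespace PreSetup

theorem kapv_eq_one {y : ↥(Subgroup.centralizer ({c.z} : Set G))} (hy : (y : G) ∈ coreAt (c.z * c.w)) :
    c.kapv y = 1 := by
  have h := coreAt_conj c.g (c.z * c.w) hy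
  rw [c.gzw] at h
  exact (c.mem_O.1 h).2

/-- Constituents fixed, irreducible on the fixed points and meeting the permutation characters give the core data. -/
theorem core_of_good (hQ : Q = -(Fintype.card F : ℤ)) (hM : IsPModular 2 M) {χ : IrrCharacter G}
    (hχ : χ ∈ principalBlock M G) {e Dp Dm : ℕ} (hdeg : (χ : G → ℂ) 1 = (Dp : ℂ) + Dm)
    (hval : (χ : G → ℂ) c.z = (Dp : ℂ) - Dm)
    (hcol : ∀ v : ↥(Subgroup.centralizer ({c.z} : Set G)), Odd (orderOf v) →
      (χ : G → ℂ) (c.z * (v : G)) = (e : ℂ) - 1 - c.s.refSt (QuotientGroup.mk v))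
    (hout : OuterVanish c.z c.s (χ : G → ℂ)) [IsSimpleGroup G] (hne : (χ : G → ℂ) c.z ≠ (χ : G → ℂ) 1)
    (hgood : (c.udata hQ χ hM hχ e Dp Dm hdeg hval hcol (c.borel_of_outer hQ hM hχ hout)).GoodAll) :
    ∃ cs : CoreSetup G F H K Q, cs.toPreSetup = c := by
  set B := c.udata hQ χ hM hχ e Dp Dm hdeg hval hcol (c.borel_of_outer hQ hM hχ hout) with hB
  haveI : B.O.Normal := MonoidHom.normal_ker _
  refine c.core_setup_of_constituents (N := B.O) (R := B.R) (QuotientGroup.ker_mk' _) inf_le_left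
    (fun r hr => hr.2) B.isChar (fun o _ ho => Subtype.ext (faithful_of_ne (irr_isChar χ) hne ho))
    fun θ hc => ⟨(hgood θ hc).1, (hgood θ hc).2.1, fun o hw hu => ?_⟩
  obtain ⟨-, hirr, hcase⟩ := hgood θ hc
  have hoR : (o : ↥(Subgroup.centralizer ({c.z} : Set G))) ∈ B.R :=
    ⟨o.2, c.mem_MW.2 (coreAt_comm hw.2)⟩
  suffices h : B.resR θ ⟨o, hoR⟩ = B.resR θ 1 from h
  have h1 : ∀ π : B.R → ℂ, IsCharacter B.R π → classInner π (B.resR θ) ≠ 0 →
      π ⟨o, hoR⟩ = π 1 → B.resR θ ⟨o, hoR⟩ = B.resR θ 1 := fun π hπ hcp he => constituent_ker hπ hirr hcp he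
  rcases hcase with h | h | h
  · rw [h]
  · refine h1 _ B.πw_char h ?_
    show c.s.refSt (c.kap (o : ↥(Subgroup.centralizer ({c.z} : Set G)))) + 1 = c.s.refSt (c.kap 1) + 1
    rw [(c.kap_eq_one hoR.2).2 hw.2, c.kap_one]
  · refine h1 _ B.πu_char h ?_
    show c.s.refSt (c.kapv (o : ↥(Subgroup.centralizer ({c.z} : Set G)))) + 1 = c.s.refSt (c.kapv 1) + 1
    rw [c.kapv_eq_one hu.2, c.kapv_eq_one (one_mem _)]

/-- Equality in the budget. -/
theorem core_main (hQ : Q = -(Fintype.card F : ℤ)) (hN : NHyp c.s.π.range) (hM : IsPModular 2 M) [IsSimpleGroup G]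
    {χ : IrrCharacter G} (hχ : χ ∈ principalBlock M G) (h5 : 5 ≤ Fintype.card F)
    (hdeg : (χ : G → ℂ) 1 = (Fintype.card F : ℂ) ^ 2 - Fintype.card F)
    (hval : (χ : G → ℂ) c.z = 1 - (Fintype.card F : ℂ))
    (hout : OuterVanish c.z c.s (χ : G → ℂ)) : ∃ cs : CoreSetup G F H K Q, cs.toPreSetup = c := by
  obtain ⟨k, hk⟩ := c.odd_card
  have hk' : (Fintype.card F : ℂ) = 2 * k + 1 := by exact_mod_cast hk
  have hdeg' : (χ : G → ℂ) 1 = ((2 * k ^ 2 : ℕ) : ℂ) + (2 * k ^ 2 + 2 * k : ℕ) := by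
    rw [hdeg, hk']; push_cast; ring
  have hval' : (χ : G → ℂ) c.z = ((2 * k ^ 2 : ℕ) : ℂ) - (2 * k ^ 2 + 2 * k : ℕ) := by
    rw [hval, hk']; push_cast; ring
  have hne : (χ : G → ℂ) c.z ≠ (χ : G → ℂ) 1 := by
    rw [hdeg', hval']
    intro h
    have h' : ((2 * k ^ 2 + 2 * k : ℕ) : ℂ) = 0 := by linear_combination (-1 / 2 : ℂ) * h
    rw [Nat.cast_eq_zero] at h'
    omega
  refine c.core_of_good hQ hM hχ hdeg' hval' (c.unit_col_two hQ hN hM hχ hval) hout hne ?_
  set B := c.udata hQ χ hM hχ 2 _ _ hdeg' hval' (c.unit_col_two hQ hN hM hχ hval) (c.borel_of_outer hQ hM hχ hout)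
  have hO := B.budget_out h5 (show 2 * ((2 * k ^ 2 : ℕ) : ℤ) =
    ((Fintype.card F : ℤ) - 1) * ((Fintype.card F : ℤ) + 1 - ((2 : ℕ) : ℤ)) by
      rw [hk]; push_cast; ring)
  exact fun θ hc => ⟨hO.fixed θ hc, hO.restr θ hc, hO.cases θ hc⟩

/-- The exception at five elements. -/
theorem core_five (hQ : Q = -(Fintype.card F : ℤ)) (hq : Fintype.card F = 5) (hN : NHyp c.s.π.range)
    (hM : IsPModular 2 M) [IsSimpleGroup G] {χ : IrrCharacter G} (hχ : χ ∈ principalBlock M G)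
    (hdeg : (χ : G → ℂ) 1 = 34) (hval : (χ : G → ℂ) c.z = -6)
    (hout : OuterVanish c.z c.s (χ : G → ℂ)) : ∃ cs : CoreSetup G F H K Q, cs.toPreSetup = c := by
  have hdeg' : (χ : G → ℂ) 1 = ((14 : ℕ) : ℂ) + (20 : ℕ) := by rw [hdeg]; norm_num
  have hval' : (χ : G → ℂ) c.z = ((14 : ℕ) : ℂ) - (20 : ℕ) := by rw [hval]; norm_num
  have hcol := c.unit_col_neg hQ (by rw [hq]) hN hM hχ (by rw [hval, hq]; norm_num)
  refine c.core_of_good hQ hM hχ hdeg' hval' hcol hout (by rw [hdeg, hval]; norm_num) ?_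
  set B := c.udata hQ χ hM hχ 0 _ _ hdeg' hval' hcol (c.borel_of_outer hQ hM hχ hout)
  have hR : Odd (Nat.card B.R) := B.ker_odd.of_dvd_nat (Subgroup.card_dvd_of_le inf_le_left)
  intro θ hc
  obtain ⟨h1, h2, h3⟩ := B.exc_five hq rfl rfl
    (c.s.two_le_points c.odd_card hR
      { toFun := fun y : B.R => c.kap y
        map_one' := c.kap_one
        map_mul' := fun a b => c.kap_mul (c.mem_RU a.2).2 (c.mem_RU b.2).2 })
    (c.s.two_le_points c.odd_card hR
      { toFun := fun y : B.R => c.kapv y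
        map_one' := c.kapv_eq_one (one_mem _)
        map_mul' := fun a b => by
          rw [kapv, kapv, kapv, ← c.q_mul (c.gMv (c.mem_RU a.2).2).1 (c.gMv (c.mem_RU b.2).2).1]
          simp [mul_assoc] }) θ hc
  refine ⟨h1, h2, h3.imp_left fun e => ?_⟩
  rw [e]
  rfl

/-- The exception at nine elements, given the extra constituent. -/
theorem core_nine (hQ : Q = -(Fintype.card F : ℤ)) (hq : Fintype.card F = 9)
    (hN : NHyp c.s.π.range) (hM : IsPModular 2 M) [IsSimpleGroup G] {χ : IrrCharacter G}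
    (hχ : χ ∈ principalBlock M G) (hdeg : (χ : G → ℂ) 1 = 134) (hval : (χ : G → ℂ) c.z = -10)
    (hout : OuterVanish c.z c.s (χ : G → ℂ)) (hY : (c.s.π.comp c.s.M.ι).range ⊔ Subgroup.zpowers (c.σU c.wC) = ⊤)
    {ψ : CQ c.z → ℂ} (hψ : IsIrrCharacter (CQ c.z) ψ) (h10 : ψ 1 = 10)
    (hz : ψ (c.σU ⟨c.z, mem_cent.2 rfl⟩) = ψ 1) (hψw : ψ (c.σU c.wC) = 0)
    (hc : classInner (fun y : ↥(Subgroup.centralizer ({c.z} : Set G)) => (χ : G → ℂ) y)
      (fun y => ψ (c.σU y)) ≠ 0) :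
    ∃ cs : CoreSetup G F H K Q, cs.toPreSetup = c := by
  have hdeg' : (χ : G → ℂ) 1 = ((62 : ℕ) : ℂ) + (72 : ℕ) := by rw [hdeg]; norm_num
  have hval' : (χ : G → ℂ) c.z = ((62 : ℕ) : ℂ) - (72 : ℕ) := by rw [hval]; norm_num
  have hcol := c.unit_col_neg hQ (by rw [hq]) hN hM hχ (by rw [hval, hq]; norm_num)
  refine c.core_of_good hQ hM hχ hdeg' hval' hcol hout (by rw [hdeg, hval]; norm_num) ?_
  set B := c.udata hQ χ hM hχ 0 _ _ hdeg' hval' hcol (c.borel_of_outer hQ hM hχ hout)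
  have hR : Odd (Nat.card B.R) := B.ker_odd.of_dvd_nat (Subgroup.card_dvd_of_le inf_le_left)
  have hY' : B.Yw = ⊤ := hY
  have hz' : ψ (B.σ B.z) = ψ 1 := hz
  have hw' : ψ (B.σ B.w) = 0 := hψw
  have hcc : classInner (fun y => B.χ y) (fun y => ψ (B.σ y)) ≠ 0 := hc
  intro θ hc'
  obtain ⟨h1, h2, h3⟩ := B.exc_nine hq rfl rfl
    (c.s.two_le_points c.odd_card hR
      { toFun := fun y : B.R => c.kap y
        map_one' := c.kap_one
        map_mul' := fun a b => c.kap_mul (c.mem_RU a.2).2 (c.mem_RU b.2).2 })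
    (c.s.two_le_points c.odd_card hR
      { toFun := fun y : B.R => c.kapv y
        map_one' := c.kapv_eq_one (one_mem _)
        map_mul' := fun a b => by
          rw [kapv, kapv, kapv, ← c.q_mul (c.gMv (c.mem_RU a.2).2).1 (c.gMv (c.mem_RU b.2).2).1]
          simp [mul_assoc] }) hY' hψ h10 hz' hw' hcc θ hc'
  refine ⟨h1, h2, h3.imp_left fun e => ?_⟩
  rw [e]
  rfl

/-- Without field part and with `Q = -q`, `q` congruent to `1` modulo `4`, the quotient is `SL(2, q)` with `w`. -/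
theorem range_sup_top (hQ : Q = -(Fintype.card F : ℤ)) (h14 : Fintype.card F % 4 = 1) (hσ : orderOf c.s.σ = 1) :
    (c.s.π.comp c.s.M.ι).range ⊔ Subgroup.zpowers (c.σU c.wC) = ⊤ := by
  haveI := c.s.M.finite
  obtain ⟨r, hr⟩ : ∃ r, Fintype.card F + 1 = 2 * (2 * r + 1) := ⟨Fintype.card F / 4, by omega⟩
  refine eq_top_iff.2 fun x _ => ?_
  obtain ⟨h, i, rfl⟩ := c.s.gen x
  rw [show c.s.f = 1 from orderOf_eq_one_iff.1 (c.s.orderOf_f.trans hσ), one_pow, mul_one]
  set b := c.s.M.T.dt h with hb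
  have hsq : (b ^ (2 * r + 1)) * (b ^ (2 * r + 1)) = 1 := by
    rw [← pow_add, show 2 * r + 1 + (2 * r + 1) = Fintype.card F + 1 by omega]
    exact c.s.scal_pow_card hQ b
  -- the part of order two
  obtain ⟨ε, hε, hu, hodd⟩ : ∃ ε : scal K Q, ε * ε = 1 ∧
      c.s.π (c.s.M.T.D (1, ε)) ∈ Subgroup.zpowers (c.σU c.wC) ∧ (b * ε) ^ (2 * r + 1) = 1 := by
    rcases (c.k.e_uniq ((b ^ (2 * r + 1) : scal K Q) : K) (congrArg Subtype.val hsq)) with h1 | h1
    · exact ⟨1, mul_one 1, by rw [← Prod.one_eq_mk, map_one, map_one]; exact one_mem _,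
        by rw [mul_one]; exact Subtype.ext h1⟩
    · refine ⟨c.k.e, c.k.e_sq, by rw [show c.σU c.wC = c.k.u from c.hw]; exact Subgroup.mem_zpowers _, ?_⟩
      rw [mul_pow, show b ^ (2 * r + 1) = c.k.e from Subtype.ext h1, pow_succ c.k.e, pow_mul, sq, c.k.e_sq, one_pow,
        one_mul, c.k.e_sq]
  set d := (b * ε) ^ (r + 1) with hd
  have hd2 : d * d = b * ε := by
    rw [hd, ← pow_add, show r + 1 + (r + 1) = 2 * r + 1 + 1 by omega, pow_succ, hodd, one_mul]
  have hkill : c.s.π (c.s.M.T.D (d, d)) = 1 := c.s.ker_all _ (c.s.M.T.D_center d) (by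
    rw [orderOf_injective _ c.s.M.T.D_inj, Prod.orderOf_mk, Nat.lcm_self, hd]
    exact (show Odd (2 * r + 1) from ⟨r, rfl⟩).of_dvd_nat ((orderOf_pow_dvd _).trans (orderOf_dvd_of_pow_eq_one hodd)))
  obtain ⟨t, ht⟩ := c.s.M.exists_of_dt (h := h * (c.s.M.T.D (d, d) * c.s.M.T.D (1, ε))⁻¹) (by
    rw [map_mul, map_inv, map_mul, c.s.M.T.dt_D, c.s.M.T.dt_D, one_mul, hd2, mul_assoc b, hε, mul_one, mul_inv_cancel])
  rw [← inv_mul_cancel_right h (c.s.M.T.D (d, d) * c.s.M.T.D (1, ε)), inv_mul_cancel_right, mul_inv_eq_iff_eq_mul.1 ht,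
    map_mul, map_mul, hkill, one_mul]
  exact mul_mem (Subgroup.mem_sup_left ⟨t, rfl⟩) (Subgroup.mem_sup_right hu)


/-- With nine elements `SL(2, 9)` and the involution fill the quotient. -/
theorem top_nine (hQ : Q = -(Fintype.card F : ℤ)) (hq : Fintype.card F = 9) :
    (c.s.π.comp c.s.M.ι).range ⊔ Subgroup.zpowers (c.σU c.wC) = ⊤ :=
  c.range_sup_top hQ (by rw [hq]) (c.s.orderOf_f.symm.trans (c.s.orderOf_f_nine hq))

/-- The other solution is over the budget. -/
theorem second_false (hQ : Q = -(Fintype.card F : ℤ)) (h14 : Fintype.card F % 4 = 1) (hN : NHyp c.s.π.range)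
    (hM : IsPModular 2 M) {χ : IrrCharacter G} (hχ : χ ∈ principalBlock M G) (h5 : 5 ≤ Fintype.card F)
    (hdeg : (χ : G → ℂ) 1 = (Fintype.card F : ℂ) ^ 2 - Fintype.card F - 2)
    (hval : (χ : G → ℂ) c.z = -((Fintype.card F : ℂ) + 1))
    (hout : OuterVanish c.z c.s (χ : G → ℂ)) : False := by
  obtain ⟨k, hk⟩ := c.odd_card
  have hk' : (Fintype.card F : ℂ) = 2 * k + 1 := by exact_mod_cast hk
  have hk2 : 2 ≤ k := by omega
  have h2 : 2 ≤ 2 * k ^ 2 := by nlinarith
  have hdeg' : (χ : G → ℂ) 1 = ((2 * k ^ 2 - 2 : ℕ) : ℂ) + (2 * k ^ 2 + 2 * k : ℕ) := by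
    rw [hdeg, hk', Nat.cast_sub h2]; push_cast; ring
  have hval' : (χ : G → ℂ) c.z = ((2 * k ^ 2 - 2 : ℕ) : ℂ) - (2 * k ^ 2 + 2 * k : ℕ) := by
    rw [hval, hk', Nat.cast_sub h2]; push_cast; ring
  have h := (c.udata hQ χ hM hχ 0 _ _ hdeg' hval' (c.unit_col_neg hQ h14 hN hM hχ hval)
    (c.borel_of_outer hQ hM hχ hout)).budget_le h5
  rw [show (c.udata hQ χ hM hχ 0 _ _ hdeg' hval' (c.unit_col_neg hQ h14 hN hM hχ hval)
    (c.borel_of_outer hQ hM hχ hout)).Dp = 2 * k ^ 2 - 2 from rfl,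
    show (c.udata hQ χ hM hχ 0 _ _ hdeg' hval' (c.unit_col_neg hQ h14 hN hM hχ hval)
    (c.borel_of_outer hQ hM hχ hout)).e = 0 from rfl, hk, Nat.cast_sub h2] at h
  push_cast at h
  nlinarith

end PreSetup

end Adapter

/-- The exception at nine elements. -/
def UnitNine (G : Type u) [Group G] [Fintype G] : Prop :=
  ∀ (S : Sylow 2 G) (F L : Type) [Field F] [Fintype F] [Field L] [Fintype L] [Algebra F L],
    Cfsg.IsQuasiDihedral (S : Subgroup G) → Fintype.card F = 9 → Module.finrank F L = 2 →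
    Fintype.card L = Fintype.card F ^ 2 →
    ∀ c : PreSetup G F (Cfsg.GU 2 L (Fintype.card F)) Lˣ (-(Fintype.card F : ℤ)), c.z ∈ S →
      (∀ s ∈ (S : Subgroup G), s * c.z = c.z * s) → ∀ M : Ideal AlgInt, IsPModular 2 M →
      TenWitness M c.z c.s →
      ∃ cs : CoreSetup G F (Cfsg.GU 2 L (Fintype.card F)) Lˣ (-(Fintype.card F : ℤ)), cs.toPreSetup = c

/-- The exception at nine elements holds. -/
theorem unit_nine {G : Type u} [Group G] [Fintype G] [IsSimpleGroup G] : UnitNine G := by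
  intro S F L _ _ _ _ _ hqd hq _ _ c hzS hzc M hM hw
  haveI := Fintype.ofFinite (CQ c.z)
  obtain ⟨χ, hχ, h1, h2, hout, hten⟩ := hw
  obtain ⟨ψ, hψ, h10, hz, hothers, hne⟩ := hten c.order_z
  have hN := nhyp_of_shape S c.z hzc (Or.inl hqd) c.s
  have hw' : c.σU c.wC = c.q c.w := c.hw.trans c.q_w.symm
  refine c.core_nine rfl hq hN hM hχ h1 h2 (hout rfl c.four_le) (c.top_nine rfl hq) hψ h10 (hz.trans h10.symm)
    (hothers _ ?_ ?_) hne
  · refine orderOf_eq_prime ?_ fun h => ?_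
    · rw [← map_pow, pow_two, c.wC_sq, map_one]
    · exact c.q_w_ne 1 (by rw [map_one, map_one, ← hw', h])
  · intro h
    refine c.q_w_ne (-1) ?_
    rw [← c.q_z, ← hw', h]
    exact c.σU_z.symm

/-- The core data in the unitary case, from `E(l)`. -/
theorem unit_core_of {G : Type u} [Group G] [Fintype G] [IsSimpleGroup G] (hna : ¬ IsMulCommutative G)
    (hE : ∀ (S : Sylow 2 G) (z : G) (F : Type) [Field F] [Fintype F] (L : Type) [Field L] [Fintype L] [Algebra F L],
      Cfsg.IsQuasiDihedral (S : Subgroup G) → Fintype.card F % 4 = 1 → orderOf z = 2 → z ∈ S →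
        (∀ s ∈ (S : Subgroup G), s * z = z * s) → Module.finrank F L = 2 → Fintype.card L = Fintype.card F ^ 2 →
        Shape0 (CQ z) F (Cfsg.GU 2 L (Fintype.card F)) Lˣ (-(Fintype.card F : ℤ)) →
          EllBound z (-(Fintype.card F : ℤ)))
    (h9 : UnitNine G) : UnitCore G := by
  intro S F L _ _ _ _ _ hc hL hcL c hzS hzc
  have hodd : Odd (Fintype.card F) := c.odd_card
  have h5 : 5 ≤ Fintype.card F := by
    have := c.four_le
    rcases hc with ⟨-, h⟩ | ⟨-, h⟩ <;> omega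
  have hz := c.order_z
  have hS := sylow_type hc
  have hN := nhyp_of_shape S c.z hzc hS c.s
  obtain ⟨pp, ⟨MM⟩⟩ := matModel_GU (F := L) (q := Fintype.card F) hcL hodd
  obtain ⟨M, hM⟩ := Char.exists_isPModular 2 Nat.prime_two
  have main : UWitness M c.z c.s ((-(Fintype.card F : ℤ)) ^ 2 + -(Fintype.card F : ℤ))
      (-(Fintype.card F : ℤ) + 1) →
      ∃ cs : CoreSetup G F (Cfsg.GU 2 L (Fintype.card F)) Lˣ (-(Fintype.card F : ℤ)), cs.toPreSetup = c :=
    fun ⟨χ, hχ, h1, h2, hout⟩ => c.core_main rfl hN hM hχ h5 (by rw [h1]; push_cast; ring)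
      (by rw [h2]; push_cast; ring) (hout rfl c.four_le)
  rcases hc with ⟨hqd, h4⟩ | ⟨hwr, h4⟩
  · obtain ⟨p, hp⟩ := CharP.exists F
    obtain ⟨n, hpp, hn⟩ := FiniteField.card F p
    obtain ⟨a0, -, -, h⟩ := semidihedral_witness hna S c.z hz hzc hqd c.s MM hpp n.pos
      (Or.inr (by rw [hn]; push_cast; rfl)) (Or.inr rfl) (by omega) (hE S c.z F L hqd h4 hz hzS hzc hL hcL c.s) hM
    rcases h with ⟨hw, -⟩ | ⟨-, ⟨χ, hχ, h1, h2, hout⟩, -⟩ | ⟨hQ5, ⟨χ, hχ, h1, h2, hout⟩, -⟩ | ⟨hQ9, hw, -⟩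
    · exact main hw
    · exact (c.second_false rfl h4 hN hM hχ h5 (by rw [h1]; push_cast; ring) (by rw [h2]; push_cast; ring)
        (hout rfl c.four_le)).elim
    · exact c.core_five rfl (by omega) hN hM hχ (by rw [h1]; norm_num) (by rw [h2]; norm_num) (hout rfl c.four_le)
    · exact h9 S F L hqd (by omega) hL hcL c hzS hzc M hM hw
  · exact main (wreathed_witness hna S c.z hz hzc hwr c.s MM (Or.inr rfl) (by omega) hM)

end Cfsg.Agent.Invol.AbgOrder
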