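import Cfsg.Agent.Lib.Invol.AbgOrder.FieldFree
import Cfsg.Agent.Lib.Invol.AbgOrder.FinalUnit

/-!
# The classification with a wreathed Sylow 2-subgroup

The inputs that only concern a quasi-dihedral Sylow 2-subgroup are void.
-/

set_option autoImplicit false
set_option linter.unusedSectionVars false

open scoped Classical

namespace Cfsg.Agent.Invol.AbgOrder

universe u

/-- No Sylow subgroup is quasi-dihedral next to a wreathed one. -/
theorem not_qd_of_wreathed {G : Type u} [Group G] [Finite G] {S₀ : Sylow 2 G}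
    (hS₀ : Cfsg.IsWreathed (S₀ : Subgroup G)) (S : Sylow 2 G) : ¬ Cfsg.IsQuasiDihedral (S : Subgroup G) := by
  haveI : Fact (Nat.Prime 2) := ⟨Nat.prime_two⟩
  intro h
  exact not_qd_and_wreathed ((sylShape_congr (S.equiv S₀)).1 h) hS₀

/-- The classification with a wreathed Sylow 2-subgroup. -/
theorem wreathed_classified : AbgConsumers.WrStmt.{u} := by
  intro G _ _ _ S hS
  haveI := Fintype.ofFinite G
  have hno := not_qd_of_wreathed hS
  have hna := (simple_facts S (Or.inr hS)).1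
  have hl : LinearStep G := linear_step_of (linChar_of hna fun S' _ _ _ _ _ _ _ _ hq => (hno S' hq).elim)
    (linFieldFree_of fun S' _ _ _ _ _ _ _ _ hq => (hno S' hq).elim)
  have hu : UnitaryStep G := unitary_step_of (unitCharThree hna)
    (unit_core_of hna (fun S' _ _ _ _ _ _ _ _ hq => (hno S' hq).elim) fun S' _ _ _ _ _ _ _ hq => (hno S' hq).elim)
    (unitFieldFree_of fun S' _ _ _ _ _ _ _ _ hq => (hno S' hq).elim)
  rcases final_of_steps S (Or.inr hS) hl hu with ⟨F, i1, i2, hc, h⟩ | ⟨L, i1, i2, q, hq, hc, h⟩ | h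
  · exact Or.inl ⟨F, i1, i2, Nat.odd_iff.2 (by rcases hc with ⟨-, e⟩ | ⟨-, e⟩ <;> omega), h⟩
  · exact Or.inr (Or.inl ⟨L, i1, i2, q, hq, Nat.odd_iff.2 (by rcases hc with ⟨-, e⟩ | ⟨-, e⟩ <;> omega), h⟩)
  · exact Or.inr (Or.inr h)

end Cfsg.Agent.Invol.AbgOrder
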