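import Cfsg.Agent.Lib.Invol.AbgOrder.AlgSdBound
import Cfsg.Agent.Lib.Invol.BrauerL3.AlgSd

/-!
# The semidihedral equations with a regular normaliser

With `|G| = c g₀`, an integral odd scalar `a₀` and `p ^ (2 v(a₀) + 2 n) ∣ g₀`, the equations force `a = -Q³`: the
parities give `2 ∥ a + Q²`, the divisibility leaves `Q ∣ a + 1` or `Q³ ∣ a`, so the first branch has only this
solution, and the second one is empty by size.
-/

set_option autoImplicit false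

namespace Cfsg.Agent.Invol.AbgOrder

open BrauerL3 (two_terms three_terms)

variable {Q a : ℤ} {R : ℚ}

/-- The cleared equations, with a scalar. -/
theorem sd_cleared (E : BrauerL3.SdEqs Q R) (hR : R ≠ 0) (h1 : Q ≠ 1) (h0 : Q ≠ 0) {g₀ a₀ : ℤ}
    (hg : R * g₀ = ((a₀ : ℚ) * (Q * (Q + 1))) ^ 2) :
    E.a + Q ≠ 0 ∧ g₀ * (E.a + Q) ^ 2 = a₀ ^ 2 * Q * (Q + 1) ^ 2 * (Q - 1) * E.a * (E.a + 1) ∧
      E.a * ((1 + E.a) * E.B + (Q - 1) * E.b) ^ 2 + (E.a + Q) ^ 2 * E.b * (1 + E.a + E.b) = 0 ∧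
      (Q - 1) * E.a * (E.a + 1) * (E.b + E.b ^ 2 + E.B ^ 2 * (1 + E.b) - (2 * Q + 1 - E.B) ^ 2 * E.b) -
        (Q + 1) * (E.a + Q) ^ 2 * E.b * (1 + E.b) = 0 := by
  have hA := E.A_eq h1
  have ha : (E.a : ℚ) ≠ 0 := by exact_mod_cast E.a0
  have ha1 : (E.a : ℚ) ≠ -1 := by exact_mod_cast E.a1
  have ha' : (E.a : ℚ) + 1 ≠ 0 := fun e => ha1 (by linarith)
  have hb : (E.b : ℚ) ≠ 0 := by exact_mod_cast E.b0
  have hb1 : (E.b : ℚ) ≠ -1 := by exact_mod_cast E.b1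
  have hb' : (E.b : ℚ) + 1 ≠ 0 := fun e => hb1 (by linarith)
  have hb'' : -1 - (E.b : ℚ) ≠ 0 := fun e => hb1 (by linarith)
  have hc : (-1 - (E.a : ℚ) - E.b) ≠ 0 := fun e => E.ab (by
    have h' : ((E.a + E.b : ℤ) : ℚ) = ((-1 : ℤ) : ℚ) := by push_cast; linarith
    exact_mod_cast h')
  have hq : (Q : ℚ) ≠ 0 := by exact_mod_cast h0
  have hq1 : (Q : ℚ) - 1 ≠ 0 := sub_ne_zero.2 (by exact_mod_cast h1)
  have eA : (E.A : ℚ) = -(Q : ℚ) := by rw [hA]; push_cast; ring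
  have hT := E.eqT
  rw [two_terms ha ha1, eA, div_eq_iff (mul_ne_zero ha ha')] at hT
  have hT' : R * ((Q : ℚ) - 1) * E.a * (E.a + 1) = Q * ((E.a : ℚ) + Q) ^ 2 := by
    have : ((-(Q : ℚ) - E.a) ^ 2) * Q = R * (((Q : ℚ) - 1) / Q) * (E.a * (E.a + 1)) * Q := by rw [hT]
    field_simp at this
    linear_combination -this
  have hu : E.a + Q ≠ 0 := fun e => by
    have e' : (E.a : ℚ) + Q = 0 := by exact_mod_cast e
    rw [e', zero_pow two_ne_zero, mul_zero] at hT'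
    exact mul_ne_zero (mul_ne_zero (mul_ne_zero hR hq1) ha) ha' hT'
  refine ⟨hu, ?_, ?_, ?_⟩
  · have h : (g₀ : ℚ) * ((E.a : ℚ) + Q) ^ 2 =
        (a₀ : ℚ) ^ 2 * Q * (Q + 1) ^ 2 * (Q - 1) * E.a * (E.a + 1) := by
      refine mul_left_cancel₀ hq ?_
      linear_combination -(g₀ : ℚ) * hT' + ((Q : ℚ) - 1) * E.a * (E.a + 1) * hg
    exact_mod_cast h
  · have h := three_terms (C := -1 - (E.A : ℚ) - E.B) ha ha1 hb hc (by ring) (by ring) E.eqA
    rw [eA] at h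
    have h' : (E.a : ℚ) * ((1 + E.a) * E.B + ((Q : ℚ) - 1) * E.b) ^ 2 +
        ((E.a : ℚ) + Q) ^ 2 * E.b * (1 + E.a + E.b) = 0 := by linear_combination h
    exact_mod_cast h'
  · have h := E.eq0
    have e : ((E.b : ℚ) * (E.b + 1) + (E.B : ℚ) ^ 2 * (E.b + 1) - (2 * (1 + (Q : ℚ)) - 1 - E.B) ^ 2 * E.b) =
        E.b * (E.b + 1) * (R * (((Q : ℚ) + 1) / Q)) := by
      rw [← h]; field_simp; ring
    have h' : ((Q : ℚ) - 1) * E.a * (E.a + 1) *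
        ((E.b : ℚ) + (E.b : ℚ) ^ 2 + (E.B : ℚ) ^ 2 * (1 + E.b) - (2 * (Q : ℚ) + 1 - E.B) ^ 2 * E.b) -
        ((Q : ℚ) + 1) * ((E.a : ℚ) + Q) ^ 2 * E.b * (1 + E.b) = 0 := by
      refine mul_left_cancel₀ hq ?_
      have e' : ((E.b : ℚ) * (E.b + 1) + (E.B : ℚ) ^ 2 * (E.b + 1) - (2 * (1 + (Q : ℚ)) - 1 - E.B) ^ 2 * E.b) * Q =
          E.b * (E.b + 1) * R * ((Q : ℚ) + 1) := by rw [e]; field_simp
      linear_combination ((Q : ℚ) - 1) * E.a * (E.a + 1) * e' +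
        (E.b : ℚ) * (E.b + 1) * ((Q : ℚ) + 1) * hT'
    exact_mod_cast h'

/-- The only divisor `x ≡ 1 [Q]`, `x ≡ 2 [4]`, of `Q² - 1` is `1 - Q`. -/
theorem divisor_eq (hq : 3 ≤ |Q|) (hQ4 : Q % 4 = 3) {x : ℤ} (hx : x ∣ Q ^ 2 - 1) (hm : Q ∣ x - 1) (h2 : x % 4 = 2) :
    x = 1 - Q := by
  obtain ⟨y, hy⟩ := hx
  obtain ⟨j, hj⟩ := hm
  have hx' : x = 1 + j * Q := by linear_combination hj
  subst hx'
  obtain ⟨i, hi⟩ : ∃ i, i = Q - j * y := ⟨_, rfl⟩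
  have hyi : y = i * Q - 1 := by rw [hi]; linear_combination -hy
  have hQ0 : Q ≠ 0 := by omega
  have key : Q * (1 - i * j) = i - j := mul_left_cancel₀ hQ0 (by rw [hyi] at hy; linear_combination hy)
  rcases eq_or_ne j 0 with rfl | hj0
  · simp at h2
  rcases eq_or_ne i 0 with hi0 | hi0
  · rw [hi0] at key
    have hjQ : j = -Q := by linear_combination key
    rw [hjQ] at h2
    obtain ⟨k, hk⟩ : ∃ k, Q = 4 * k + 3 := ⟨Q / 4, by omega⟩
    have e : 1 + -Q * Q = 4 * (-4 * k * k - 6 * k - 2) := by rw [hk]; ring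
    omega
  rcases eq_or_ne (i * j) 1 with h | h
  · rw [h] at key
    have : i = j := by linear_combination -key
    subst this
    rcases Int.isUnit_iff.1 (IsUnit.of_mul_eq_one _ h) with rfl | rfl
    · omega
    · ring
  exfalso
  have hb : 3 * |1 - i * j| ≤ |i| + |j| := by
    calc 3 * |1 - i * j| ≤ |Q| * |1 - i * j| := mul_le_mul_of_nonneg_right hq (abs_nonneg _)
      _ = |i - j| := by rw [← abs_mul, key]
      _ ≤ |i| + |j| := abs_sub i j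
  have hb' : |i| * |j| - 1 ≤ |1 - i * j| := by
    have := abs_sub_abs_le_abs_sub (i * j) 1
    rwa [abs_mul, abs_one, abs_sub_comm (i * j)] at this
  have h1 : 1 ≤ |i| := abs_pos.2 hi0
  have h1' : 1 ≤ |j| := abs_pos.2 hj0
  have hi2 : |i| ≤ 2 := by nlinarith
  have hj2 : |j| ≤ 2 := by nlinarith
  obtain ⟨hi3, hi4⟩ := abs_le.1 hi2
  obtain ⟨hj3, hj4⟩ := abs_le.1 hj2
  interval_cases i <;> interval_cases j <;> rcases abs_cases Q with ⟨e, -⟩ | ⟨e, -⟩ <;> omega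

/-- The parities. -/
theorem sd_par (h4 : Q % 4 = 3) (hq : 3 ≤ |Q|) (ha : a ≠ 0) (ha1 : a ≠ -1) (hu : a + Q ≠ 0) {g₀ a₀ : ℤ}
    (hgo : Odd g₀) (hao : Odd a₀)
    (hgu : g₀ * (a + Q) ^ 2 = a₀ ^ 2 * Q * (Q + 1) ^ 2 * (Q - 1) * a * (a + 1)) :
    Odd a ∧ Par Q a (padicValInt 2 (Q + 1)) := by
  have hQ0 : Q ≠ 0 := by omega
  have hQp : Q + 1 ≠ 0 := by rcases abs_cases Q with e | e <;> omega
  have hQm : Q - 1 ≠ 0 := by omega
  have ha1' : a + 1 ≠ 0 := by omega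
  have ha0' : a₀ ≠ 0 := by rintro rfl; simp at hao
  have hg0 : g₀ ≠ 0 := by rintro rfl; simp at hgo
  have odd0 : ∀ {z : ℤ}, Odd z → padicValInt 2 z = 0 := fun {z} hz => val_zero (l := 2) fun h => by
    obtain ⟨k, rfl⟩ := hz; omega
  have even1 : ∀ {z : ℤ}, z ≠ 0 → 2 ∣ z → 1 ≤ padicValInt 2 z := fun {z} hz h =>
    le_val (l := 2) hz (k := 1) (by simpa using h)
  have hc2 : 2 ≤ padicValInt 2 (Q + 1) := le_val (l := 2) hQp (by norm_num; omega)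
  have hvm : padicValInt 2 (Q - 1) = 1 := by
    refine le_antisymm (not_lt.1 fun h => ?_) (even1 hQm (by omega))
    have h' := (pow_dvd_pow (2 : ℤ) (show 2 ≤ padicValInt 2 (Q - 1) by omega)).trans
      (by exact_mod_cast padicValInt_dvd (p := 2) (Q - 1))
    norm_num at h'
    omega
  have hv := congrArg (padicValInt 2) hgu
  rw [padicValInt.mul hg0 (pow_ne_zero _ hu),
    padicValInt.mul (mul_ne_zero (mul_ne_zero (mul_ne_zero (mul_ne_zero (pow_ne_zero _ ha0') hQ0)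
      (pow_ne_zero _ hQp)) hQm) ha) ha1',
    padicValInt.mul (mul_ne_zero (mul_ne_zero (mul_ne_zero (pow_ne_zero _ ha0') hQ0) (pow_ne_zero _ hQp)) hQm) ha,
    padicValInt.mul (mul_ne_zero (mul_ne_zero (pow_ne_zero _ ha0') hQ0) (pow_ne_zero _ hQp)) hQm,
    padicValInt.mul (mul_ne_zero (pow_ne_zero _ ha0') hQ0) (pow_ne_zero _ hQp),
    padicValInt.mul (pow_ne_zero _ ha0') hQ0, val_pow, val_pow, val_pow, odd0 hgo, odd0 hao, hvm,
    odd0 (z := Q) (Int.odd_iff.2 (by omega))] at hv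
  have hodd : Odd a := Int.not_even_iff_odd.1 fun h => by
    have := odd0 (z := a + Q) (h.add_odd (Int.odd_iff.2 (by omega)))
    omega
  have hva := odd0 hodd
  have hva1 : padicValInt 2 (a + 1) = 1 := by
    by_contra hne
    have h2 : 2 ≤ padicValInt 2 (a + 1) := by
      have := even1 ha1' (by obtain ⟨k, rfl⟩ := hodd; omega)
      omega
    have h3 := (val_add' (l := 2) hQm (show padicValInt 2 (Q - 1) < padicValInt 2 (a + 1) by omega)).2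
    rw [show Q - 1 + (a + 1) = a + Q by ring] at h3
    omega
  exact ⟨hodd, ⟨hc2, hva, hva1, by omega, rfl, hvm⟩⟩

/-- The prime of `Q`. -/
theorem sd_regular {p n : ℕ} (hp : p.Prime) (hn : 0 < n) (hQ : Q.natAbs = p ^ n) (hp2 : p ≠ 2) (ha : a ≠ 0)
    (ha1 : a ≠ -1) (hu : a + Q ≠ 0) {g₀ a₀ : ℤ} (hg0 : g₀ ≠ 0) (ha0 : a₀ ≠ 0)
    (hreg : (p : ℤ) ^ (2 * padicValInt p a₀ + 2 * n) ∣ g₀)
    (hgu : g₀ * (a + Q) ^ 2 = a₀ ^ 2 * Q * (Q + 1) ^ 2 * (Q - 1) * a * (a + 1)) :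
    ((p : ℤ) ∣ a ∧ Q ^ 3 ∣ a) ∨ (¬ (p : ℤ) ∣ a ∧ Q ∣ a + 1) := by
  haveI := Fact.mk hp
  have hQ0 : Q ≠ 0 := by
    intro e; rw [e] at hQ; simp [eq_comm, pow_eq_zero_iff, hp.ne_zero] at hQ
  have hvQ : padicValInt p Q = n := by
    rw [padicValInt, hQ]; exact padicValNat.prime_pow n
  have hpQ : (p : ℤ) ∣ Q := (val_pos hQ0).1 (by omega)
  have hp1 : ¬ p ∣ 1 := hp.not_dvd_one
  have hQp' : ¬ (p : ℤ) ∣ Q + 1 := fun h => hp.not_dvd_one (Int.natCast_dvd_natCast.1 (by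
    simpa using dvd_sub h hpQ))
  have hQm' : ¬ (p : ℤ) ∣ Q - 1 := not_both (k := 1) hpQ (by push_cast; ring) hp1
  have hQp : Q + 1 ≠ 0 := fun e => hQp' (e ▸ dvd_zero _)
  have hQm : Q - 1 ≠ 0 := fun e => hQm' (e ▸ dvd_zero _)
  have ha1' : a + 1 ≠ 0 := by omega
  have hv := congrArg (padicValInt p) hgu
  rw [padicValInt.mul hg0 (pow_ne_zero _ hu),
    padicValInt.mul (mul_ne_zero (mul_ne_zero (mul_ne_zero (mul_ne_zero (pow_ne_zero _ ha0) hQ0)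
      (pow_ne_zero _ hQp)) hQm) ha) ha1',
    padicValInt.mul (mul_ne_zero (mul_ne_zero (mul_ne_zero (pow_ne_zero _ ha0) hQ0) (pow_ne_zero _ hQp)) hQm) ha,
    padicValInt.mul (mul_ne_zero (mul_ne_zero (pow_ne_zero _ ha0) hQ0) (pow_ne_zero _ hQp)) hQm,
    padicValInt.mul (mul_ne_zero (pow_ne_zero _ ha0) hQ0) (pow_ne_zero _ hQp),
    padicValInt.mul (pow_ne_zero _ ha0) hQ0, val_pow, val_pow, val_pow, hvQ, val_zero hQp', val_zero hQm'] at hv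
  have hvg := le_val hg0 hreg
  have pe : ∀ {z : ℤ} {k : ℕ}, k * n ≤ padicValInt p z → Q ^ k ∣ z := fun {z k} h => by
    rw [← Int.natAbs_dvd, Int.natAbs_pow, hQ, ← pow_mul, mul_comm n k]
    exact_mod_cast (pow_dvd_pow (p : ℤ) h).trans (padicValInt_dvd z)
  by_cases hpa : (p : ℤ) ∣ a
  · refine Or.inl ⟨hpa, pe ?_⟩
    have hva1 : padicValInt p (a + 1) = 0 := val_zero fun h => hp.not_dvd_one (Int.natCast_dvd_natCast.1 (by
      simpa using dvd_sub h hpa))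
    rcases lt_or_ge (padicValInt p a) n with hlt | hge
    · have := (val_add' ha (hvQ ▸ hlt)).2
      omega
    · have hle : n ≤ padicValInt p (a + Q) := le_val hu (dvd_add
        ((pow_dvd_pow _ hge).trans (padicValInt_dvd a)) (hvQ ▸ padicValInt_dvd Q))
      omega
  · refine Or.inr ⟨hpa, ?_⟩
    have := val_zero hpa
    have : padicValInt p (a + Q) = 0 := val_zero fun h => hpa ((dvd_add_left hpQ).1 h)
    simpa using pe (z := a + 1) (k := 1) (by omega)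

/-- **The semidihedral solution.** -/
theorem sd_solve (E : BrauerL3.SdEqs Q R) (hR : R ≠ 0) {p n : ℕ} (hp : p.Prime) (hn : 0 < n)
    (hQ : Q = (p : ℤ) ^ n ∨ Q = -(p : ℤ) ^ n) (h4 : Q % 4 = 3) {g₀ a₀ : ℤ}
    (hg : R * g₀ = ((a₀ : ℚ) * (Q * (Q + 1))) ^ 2) (hgo : Odd g₀) (hao : Odd a₀)
    (hreg : (p : ℤ) ^ (2 * padicValInt p a₀ + 2 * n) ∣ g₀) :
    E.a = -Q ^ 3 ∧ E.A = -Q ∧ E.b = -(Q ^ 2 + Q + 1) ∧ E.B = Q ∧ g₀ = a₀ ^ 2 * Q ^ 2 * (Q ^ 2 + Q + 1) := by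
  have hp2 : p ≠ 2 := by
    rintro rfl
    have h2 : (2 : ℤ) ∣ (2 : ℤ) ^ n := dvd_pow_self _ hn.ne'
    rcases hQ with h | h <;> push_cast at h <;> omega
  have hQ' : Q.natAbs = p ^ n := BrauerL3.abs_pow_of hQ
  have hq : (3 : ℤ) ≤ |Q| := by
    have h3 : 3 ≤ p ^ n := le_trans (show 3 ≤ p by have := hp.two_le; omega) (Nat.le_self_pow hn.ne' p)
    rw [Int.abs_eq_natAbs, hQ']
    exact_mod_cast h3
  have h1 : Q ≠ 1 := by omega
  have h0 : Q ≠ 0 := by omega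
  obtain ⟨hu, hgu, hi, hii⟩ := sd_cleared E hR h1 h0 hg
  obtain ⟨hodd, P⟩ := sd_par h4 hq E.a0 E.a1 hu hgo hao hgu
  have hcase := sd_regular hp hn hQ' hp2 E.a0 E.a1 hu (by rintro rfl; simp at hgo) (by rintro rfl; simp at hao)
    hreg hgu
  rcases BrauerL3.sd_branches rfl E.a0 E.a1 E.b0 hi hii with h | h
  swap
  · exact (sd_second_false hp hQ' hn hq P E.a0 E.a1 hodd hu E.b0 E.ab hcase h).elim
  set a := E.a
  set b := E.b
  set B := E.B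
  have ha1' : a + 1 ≠ 0 := by have := E.a1; omega
  have hdvd : a + Q ^ 2 ∣ Q ^ 2 * (Q ^ 2 - 1) := ⟨b + Q ^ 2, by linear_combination -h⟩
  have hu8 : (8 : ℤ) ∣ a + Q := by
    have h3 : 3 ≤ padicValInt 2 (a + Q) := by rw [P.vu]; have := P.c2; omega
    have := (pow_dvd_pow (2 : ℤ) h3).trans (by exact_mod_cast padicValInt_dvd (p := 2) (a + Q))
    norm_num at this
    exact this
  obtain ⟨k, hk⟩ : ∃ k, Q = 4 * k + 3 := ⟨Q / 4, by omega⟩
  have hv4 : (a + Q ^ 2) % 4 = 2 := by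
    have e : a + Q ^ 2 = (a + Q) + 4 * (4 * k * k + 5 * k + 1) + 2 := by rw [hk]; ring
    omega
  rcases hcase with ⟨-, a', ha'⟩ | ⟨hpa, hQa⟩
  · -- `Q³ ∣ a`
    have hx : Q * a' + 1 = 1 - Q := by
      refine divisor_eq hq h4 ?_ ⟨a', by ring⟩ ?_
      · refine (mul_dvd_mul_iff_left (pow_ne_zero 2 h0)).1 ?_
        rw [show Q ^ 2 * (Q * a' + 1) = a + Q ^ 2 by rw [ha']; ring]
        exact hdvd
      · obtain ⟨M, hM⟩ : ∃ M, Q * a' + 1 = (a + Q ^ 2) - 4 * M :=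
          ⟨(4 * k * k + 6 * k + 2) * (Q * a' + 1), by rw [ha', hk]; ring⟩
        omega
    have ea' : a' = -1 := mul_left_cancel₀ h0 (by linear_combination hx)
    have ea : a = -Q ^ 3 := by rw [ha', ea']; ring
    have hQ1 : 1 - Q ≠ 0 := by omega
    have hQ1' : Q + 1 ≠ 0 := by rcases abs_cases Q with e | e <;> omega
    have eb : b = -(Q ^ 2 + Q + 1) := by
      refine mul_left_cancel₀ (mul_ne_zero (pow_ne_zero 2 h0) hQ1) ?_
      rw [ea] at h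
      linear_combination h
    rw [ea, eb] at hi hii
    have h3 : 1 - Q ^ 3 ≠ 0 := by rw [ea] at ha1'; omega
    have hB2 : (B - Q) * (B + Q + 2) = 0 := by
      refine mul_left_cancel₀ (mul_ne_zero (pow_ne_zero 3 h0) (pow_ne_zero 2 h3)) ?_
      linear_combination -hi
    have eB : B = Q := by
      rcases mul_eq_zero.1 hB2 with e | e
      · linarith
      exfalso
      rw [show B = -Q - 2 by linarith] at hii
      have h' : 4 * (Q - 1) * Q ^ 3 * (1 - Q ^ 3) * (Q + 1) ^ 2 * (2 * Q ^ 2 + Q + 2) = 0 := by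
        linear_combination -hii
      exact mul_ne_zero (mul_ne_zero (mul_ne_zero (mul_ne_zero (mul_ne_zero (by norm_num)
        (show Q - 1 ≠ 0 by omega)) (pow_ne_zero 3 h0)) h3) (pow_ne_zero 2 hQ1'))
        (by nlinarith [sq_nonneg (Q + 1), sq_nonneg Q] : (0 : ℤ) < 2 * Q ^ 2 + Q + 2).ne' h'
    refine ⟨ea, E.A_eq h1, eb, eB, ?_⟩
    refine mul_left_cancel₀ (mul_ne_zero (pow_ne_zero 2 h0) (pow_ne_zero 2 (mul_ne_zero hQ1 hQ1'))) ?_
    rw [ea] at hgu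
    linear_combination hgu
  · -- `Q ∣ a + 1`
    exfalso
    have hcop : IsCoprime (a + Q ^ 2) (Q ^ 2) := by
      have hpQ : (p : ℤ) ∣ Q := Int.natCast_dvd.2 (hQ' ▸ dvd_pow_self _ hn.ne')
      have hnd : ¬ (p : ℤ) ∣ a + Q ^ 2 := fun h => hpa ((dvd_add_left (hpQ.trans (dvd_pow_self _ two_ne_zero))).1 h)
      have h5 := ((Nat.prime_iff_prime_int.1 hp).coprime_iff_not_dvd.2 hnd).symm.pow_right (n := n)
      generalize a + Q ^ 2 = z at h5 ⊢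
      rcases hQ with e | e <;> rw [e]
      · exact h5.pow_right
      · exact h5.neg_right.pow_right
    have hx : -(a + Q ^ 2) = 1 - Q := by
      refine divisor_eq hq h4 (neg_dvd.2 (hcop.dvd_of_dvd_mul_left hdvd)) ?_ (by omega)
      rw [show -(a + Q ^ 2) - 1 = -((a + 1) + Q * Q) by ring]
      exact (hQa.add (dvd_mul_right Q Q)).neg_right
    obtain ⟨M, hM⟩ : ∃ M, a + Q = -(8 * M) - 4 := ⟨2 * k * k + 2 * k, by
      rw [show a = -(Q ^ 2) + Q - 1 by linarith, hk]; ring⟩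
    omega

end Cfsg.Agent.Invol.AbgOrder
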