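import Mathlib

/-!
# The second semidihedral branch is empty

`D = u⁴ + 4 a K²` with `K = (Q² - 1) (a + 1)` divides `(u² + 2aK)²`, hence `a (u² - 2K)²`; so it divides the `p`-part
times `(Q + 1)² gcd (a + 1, Q - 1)⁶`, which is too small.
-/

set_option autoImplicit false

namespace Cfsg.Agent.Invol.AbgOrder

section Val

variable {l : ℕ} [hl : Fact l.Prime]

theorem val_le_of_dvd {x y : ℤ} (hy : y ≠ 0) (h : x ∣ y) : padicValInt l x ≤ padicValInt l y :=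
  ((padicValInt_dvd_iff _ y).1 ((padicValInt_dvd x).trans h)).resolve_left hy

theorem le_val {x : ℤ} (hx : x ≠ 0) {k : ℕ} (h : (l : ℤ) ^ k ∣ x) : k ≤ padicValInt l x :=
  ((padicValInt_dvd_iff k x).1 h).resolve_left hx

theorem val_pos {x : ℤ} (hx : x ≠ 0) : 0 < padicValInt l x ↔ (l : ℤ) ∣ x := by
  rw [← pow_one (l : ℤ), padicValInt_dvd_iff 1 x]
  simp [hx, Nat.one_le_iff_ne_zero, Nat.pos_iff_ne_zero]

theorem val_zero {x : ℤ} (h : ¬ (l : ℤ) ∣ x) : padicValInt l x = 0 := padicValInt.eq_zero_of_not_dvd h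

theorem val_pow {x : ℤ} (k : ℕ) : padicValInt l (x ^ k) = k * padicValInt l x := by
  by_cases hx : x = 0
  · subst hx; rcases k with _ | k <;> simp [padicValInt]
  induction k with
  | zero => simp [padicValInt]
  | succ k ih => rw [pow_succ, padicValInt.mul (pow_ne_zero _ hx) hx, ih]; ring

/-- Adding a more divisible term does not change the valuation. -/
theorem val_add {x y : ℤ} (hx : x ≠ 0) (hy : (l : ℤ) ^ (padicValInt l x + 1) ∣ y) :
    x + y ≠ 0 ∧ padicValInt l (x + y) = padicValInt l x := by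
  set k := padicValInt l x
  have hn : ¬ (l : ℤ) ^ (k + 1) ∣ x := fun h => by have := le_val hx h; omega
  have h0 : x + y ≠ 0 := fun e => hn (by
    rw [show x = -y by linarith]; exact dvd_neg.2 hy)
  refine ⟨h0, le_antisymm ?_ (le_val h0 (dvd_add (padicValInt_dvd x) ((pow_dvd_pow _ (Nat.le_succ k)).trans hy)))⟩
  by_contra hlt
  push Not at hlt
  exact hn ((dvd_add_left hy).1 ((pow_dvd_pow _ hlt).trans (padicValInt_dvd _)))

theorem val_add' {x y : ℤ} (hx : x ≠ 0) (h : padicValInt l x < padicValInt l y) :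
    x + y ≠ 0 ∧ padicValInt l (x + y) = padicValInt l x :=
  val_add hx ((pow_dvd_pow _ h).trans (padicValInt_dvd y))

theorem val_min_le {g h : ℤ} (hgh : g - h ≠ 0) :
    padicValInt l g ≤ padicValInt l (g - h) ∨ padicValInt l h ≤ padicValInt l (g - h) := by
  by_contra hc
  push Not at hc
  have := le_val hgh (dvd_sub ((pow_dvd_pow (l : ℤ) hc.1).trans (padicValInt_dvd g))
    ((pow_dvd_pow (l : ℤ) hc.2).trans (padicValInt_dvd h)))
  omega

theorem val_two (h : l ≠ 2) : padicValInt l 2 = 0 :=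
  val_zero fun hd => h ((Nat.prime_dvd_prime_iff_eq hl.out Nat.prime_two).1 (by exact_mod_cast hd))

theorem not_both {x y : ℤ} {k : ℕ} (h : (l : ℤ) ∣ x) (h' : x - y = (k : ℤ)) (hk : ¬ l ∣ k) : ¬ (l : ℤ) ∣ y :=
  fun hy => hk (Int.natCast_dvd_natCast.1 (h' ▸ dvd_sub h hy))

end Val

theorem dvd_of_val_le {x y : ℤ} (hx : x ≠ 0) (hy : y ≠ 0)
    (h : ∀ l : ℕ, l.Prime → padicValInt l x ≤ padicValInt l y) : x ∣ y := by
  rw [← Int.natAbs_dvd_natAbs]
  refine (Nat.factorization_le_iff_dvd (Int.natAbs_ne_zero.2 hx) (Int.natAbs_ne_zero.2 hy)).1 fun l => ?_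
  by_cases hl : l.Prime
  · rw [Nat.factorization_def _ hl, Nat.factorization_def _ hl]
    exact h l hl
  · simp [Nat.factorization_eq_zero_of_not_prime _ hl]

variable {Q a b : ℤ} {p n c : ℕ}

/-- The common hypotheses: `2^(c+1) ∥ a + Q`, `2 ∥ a + 1`, `2^c ∥ Q + 1`. -/
structure Par (Q a : ℤ) (c : ℕ) : Prop where
  c2 : 2 ≤ c
  va : padicValInt 2 a = 0
  va1 : padicValInt 2 (a + 1) = 1
  vu : padicValInt 2 (a + Q) = c + 1
  vp : padicValInt 2 (Q + 1) = c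
  vm : padicValInt 2 (Q - 1) = 1

/-- The divisibility bound. -/
theorem sd_D_dvd (hp : p.Prime) (hQ : Q.natAbs = p ^ n) (hn : 0 < n) (hq : 3 ≤ |Q|) (P : Par Q a c) (ha : a ≠ 0)
    (ha1 : a ≠ -1) (hu : a + Q ≠ 0) (hb : b ≠ 0) (hab : a + b ≠ -1)
    (h : b * (((a + Q) ^ 2) ^ 2 + a * (-2 * (Q ^ 2 - 1) * (1 + a)) ^ 2) +
        ((a + Q) ^ 2 - a * (-2 * (Q ^ 2 - 1) * (1 + a))) ^ 2 = 0)
    {W : ℤ} (hW : W ≠ 0) (hW4 : (p : ℤ) ^ min (padicValInt p a) (4 * n) ∣ W) :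
    ((a + Q) ^ 2) ^ 2 + a * (-2 * (Q ^ 2 - 1) * (1 + a)) ^ 2 ≠ 0 ∧
      ((a + Q) ^ 2) ^ 2 + a * (-2 * (Q ^ 2 - 1) * (1 + a)) ^ 2 ∣
        W * (Q + 1) ^ 2 * (Int.gcd (a + 1) (Q - 1) : ℤ) ^ 6 := by
  set u := a + Q with hu'
  set K := (Q ^ 2 - 1) * (a + 1) with hK
  set D := (u ^ 2) ^ 2 + a * (-2 * (Q ^ 2 - 1) * (1 + a)) ^ 2 with hD
  have hDe : D = u ^ 4 + 4 * a * K ^ 2 := by rw [hD, hK]; ring
  set g := u ^ 2 + 2 * a * K with hg
  set hh := u ^ 2 - 2 * K with hhh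
  have hbD : b * D = -g ^ 2 := by rw [hD, hg, hK]; linear_combination h
  have hQ1 : Q + 1 ≠ 0 := by rcases abs_cases Q with e | e <;> omega
  have hQm : Q - 1 ≠ 0 := by rcases abs_cases Q with e | e <;> omega
  have ha1' : a + 1 ≠ 0 := by omega
  have hK0 : K ≠ 0 := mul_ne_zero (by
    rw [show Q ^ 2 - 1 = (Q - 1) * (Q + 1) by ring]; exact mul_ne_zero hQm hQ1) ha1'
  have hD0 : D ≠ 0 := fun e => by
    rw [e, mul_zero, eq_comm, neg_eq_zero, pow_eq_zero_iff two_ne_zero, hg] at hbD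
    rw [hDe, show u ^ 4 = (u ^ 2) ^ 2 by ring, show u ^ 2 = -(2 * a * K) by linarith] at e
    have h4 : 4 * a * (a + 1) * K ^ 2 = 0 := by linear_combination e
    simp [ha, ha1', hK0] at h4
  have hg0 : g ≠ 0 := fun e => by
    rw [e, zero_pow two_ne_zero, neg_zero] at hbD
    exact mul_ne_zero hb hD0 hbD
  have hsum : a * hh ^ 2 + g ^ 2 = (a + 1) * D := by rw [hhh, hg, hDe]; ring
  have hh0 : hh ≠ 0 := fun e => by
    rw [e, zero_pow two_ne_zero, mul_zero, zero_add] at hsum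
    have : (a + 1 + b) * D = 0 := by linear_combination hbD - hsum
    rcases mul_eq_zero.1 this with h' | h'
    · omega
    · exact hD0 h'
  have dg : D ∣ g ^ 2 := ⟨-b, by linear_combination hbD⟩
  have dh : D ∣ a * hh ^ 2 := ⟨a + 1 + b, by linear_combination hsum - hbD⟩
  have hgh : g - hh = 2 * ((a + 1) * K) := by rw [hg, hhh]; ring
  set T : ℤ := (Int.gcd (a + 1) (Q - 1) : ℤ) with hT
  have hT0 : T ≠ 0 := by
    rw [hT]; exact_mod_cast (Int.gcd_pos_iff.2 (Or.inl ha1')).ne'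
  refine ⟨hD0, dvd_of_val_le hD0 (mul_ne_zero (mul_ne_zero hW (pow_ne_zero _ hQ1)) (pow_ne_zero _ hT0)) fun l hl => ?_⟩
  haveI := Fact.mk hl
  rw [padicValInt.mul (mul_ne_zero hW (pow_ne_zero _ hQ1)) (pow_ne_zero _ hT0),
    padicValInt.mul hW (pow_ne_zero _ hQ1), val_pow, val_pow]
  have V1 : padicValInt l D ≤ 2 * padicValInt l g := by
    rw [← val_pow]; exact val_le_of_dvd (pow_ne_zero _ hg0) dg
  have V2 : padicValInt l D ≤ padicValInt l a + 2 * padicValInt l hh := by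
    rw [← val_pow, ← padicValInt.mul ha (pow_ne_zero _ hh0)]
    exact val_le_of_dvd (mul_ne_zero ha (pow_ne_zero _ hh0)) dh
  have hvK : padicValInt l K = padicValInt l (Q - 1) + padicValInt l (Q + 1) + padicValInt l (a + 1) := by
    rw [hK, show Q ^ 2 - 1 = (Q - 1) * (Q + 1) by ring, padicValInt.mul (mul_ne_zero hQm hQ1) ha1',
      padicValInt.mul hQm hQ1]
  have h2aK : padicValInt l (2 * a * K) = padicValInt l 2 + padicValInt l a + padicValInt l K := by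
    rw [padicValInt.mul (mul_ne_zero two_ne_zero ha) hK0, padicValInt.mul two_ne_zero ha]
  have G1 : padicValInt l D ≤ padicValInt l a +
      2 * (padicValInt l 2 + (padicValInt l (a + 1) + padicValInt l K)) := by
    have h0 : g - hh ≠ 0 := hgh ▸ mul_ne_zero two_ne_zero (mul_ne_zero ha1' hK0)
    have e : padicValInt l (g - hh) = padicValInt l 2 + (padicValInt l (a + 1) + padicValInt l K) := by
      rw [hgh, padicValInt.mul two_ne_zero (mul_ne_zero ha1' hK0), padicValInt.mul ha1' hK0]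
    rcases val_min_le (l := l) h0 with h' | h' <;> omega
  have G2 : 2 * padicValInt l u < padicValInt l (2 * a * K) → padicValInt l D ≤ 4 * padicValInt l u := by
    intro hlt
    have := (val_add' (l := l) (x := u ^ 2) (y := 2 * a * K) (pow_ne_zero _ hu) (by rw [val_pow]; exact hlt)).2
    rw [← hg, val_pow] at this
    omega
  have G3 : padicValInt l (2 * a * K) < 2 * padicValInt l u → padicValInt l D ≤ 2 * padicValInt l (2 * a * K) := by
    intro hlt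
    have := (val_add' (l := l) (x := 2 * a * K) (y := u ^ 2) (mul_ne_zero (mul_ne_zero two_ne_zero ha) hK0)
      (by rw [val_pow]; exact hlt)).2
    rw [add_comm, ← hg] at this
    omega
  have hTv : ∀ k : ℕ, k ≤ padicValInt l (a + 1) → k ≤ padicValInt l (Q - 1) → k ≤ padicValInt l T := fun k h1 h2 =>
    le_val hT0 (Int.dvd_coe_gcd ((pow_dvd_pow _ h1).trans (padicValInt_dvd _))
      ((pow_dvd_pow _ h2).trans (padicValInt_dvd _)))
  by_cases hl2 : l = 2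
  · subst hl2
    have h22 : padicValInt 2 (2 : ℤ) = 1 := padicValInt_self
    have := P.c2
    rw [h2aK, hvK, h22, P.va, P.va1, P.vp, P.vm, P.vu] at G3
    have := hTv 1 (by rw [P.va1]) (by rw [P.vm])
    have := G3 (by omega)
    rw [P.vp]
    omega
  have h20 := val_two (l := l) hl2
  by_cases hlp : l = p
  · subst hlp
    have hvQ : padicValInt l Q = n := by
      rw [padicValInt, hQ]; exact padicValNat.prime_pow n
    have hQ0 : Q ≠ 0 := by intro e; simp [e] at hq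
    have hlQ : (l : ℤ) ∣ Q := (val_pos hQ0).1 (by omega)
    have hp1 : ¬ l ∣ 1 := hl.not_dvd_one
    have hvp : padicValInt l (Q + 1) = 0 := val_zero fun h' =>
      not_both (k := 1) h' (by push_cast; ring) hp1 hlQ
    have hvm : padicValInt l (Q - 1) = 0 := val_zero (not_both (k := 1) hlQ (by push_cast; ring) hp1)
    have hkW := le_val hW hW4
    by_cases hpa : (l : ℤ) ∣ a
    · have hva1 : padicValInt l (a + 1) = 0 := val_zero fun h' =>
        not_both (k := 1) h' (by push_cast; ring) hp1 hpa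
      rcases le_or_gt (padicValInt l a) (4 * n) with hle | hgt
      · omega
      · have hvu : padicValInt l u = n := by
          rw [hu', add_comm, (val_add' hQ0 (by omega)).2, hvQ]
        have := G2 (by rw [hvu, h2aK]; omega)
        omega
    · have hva := val_zero hpa
      by_cases hpa1 : (l : ℤ) ∣ a + 1
      · have hvu : padicValInt l u = 0 := val_zero fun h' => hpa ((dvd_add_left hlQ).1 h')
        have := (val_pos ha1').2 hpa1
        have := G2 (by rw [hvu, h2aK, hvK]; omega)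
        omega
      · have := val_zero hpa1
        omega
  have hlQ : ¬ (l : ℤ) ∣ Q := fun h' => hlp ((Nat.prime_dvd_prime_iff_eq hl hp).1
    (hl.dvd_of_dvd_pow (hQ ▸ Int.natCast_dvd.1 h')))
  by_cases hla : (l : ℤ) ∣ a
  · have hvu : padicValInt l u = 0 := val_zero fun h' => hlQ ((dvd_add_right hla).1 h')
    have := (val_pos ha).2 hla
    have := G2 (by rw [hvu, h2aK]; omega)
    omega
  have hva := val_zero hla
  have hl1 : ¬ l ∣ 2 := fun h' => hl2 ((Nat.prime_dvd_prime_iff_eq hl Nat.prime_two).1 h')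
  by_cases hj : (l : ℤ) ∣ Q - 1
  · have hvp : padicValInt l (Q + 1) = 0 := val_zero fun h' => not_both (k := 2) h' (by push_cast; ring) hl1 hj
    have hjp := (val_pos hQm).2 hj
    rcases lt_trichotomy (padicValInt l (a + 1)) (padicValInt l (Q - 1)) with hlt | heq | hlt
    · have hvu : padicValInt l u = padicValInt l (a + 1) := by
        rw [hu', show a + Q = (a + 1) + (Q - 1) by ring, (val_add' ha1' hlt).2]
      have := G2 (by rw [hvu, h2aK, hvK]; omega)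
      have := hTv _ le_rfl hlt.le
      omega
    · have := hTv _ le_rfl heq.le
      omega
    · have hvu : padicValInt l u = padicValInt l (Q - 1) := by
        rw [hu', show a + Q = (Q - 1) + (a + 1) by ring, (val_add' hQm hlt).2]
      have := G2 (by rw [hvu, h2aK, hvK]; omega)
      have := hTv _ hlt.le le_rfl
      omega
  · have hjm := val_zero hj
    by_cases hh1 : (l : ℤ) ∣ a + 1
    · have hvu : padicValInt l u = 0 := val_zero fun h' => hj ((dvd_add_right hh1).1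
        (by rwa [show a + 1 + (Q - 1) = u by rw [hu']; ring]))
      have := (val_pos ha1').2 hh1
      have := G2 (by rw [hvu, h2aK, hvK]; omega)
      omega
    · have := val_zero hh1
      omega

/-- The size inequalities used below. -/
theorem size_facts {q : ℤ} (hq : 3 ≤ q) :
    64 * q + 32 ≤ 4 * (q ^ 2 - 1) ^ 2 ∧ 6 * q ^ 2 + 8 * q + 4 ≤ 2 * (q ^ 2 - 1) ^ 2 ∧
      12 * q ^ 3 + q ^ 4 ≤ 12 * (q ^ 2 - 1) ^ 2 ∧ 4 * q ^ 3 + 12 * q + 3 ≤ 8 * (q ^ 2 - 1) ^ 2 ∧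
      5 * (6 * q ^ 2 + 12 * q + 9) ≤ 8 * (q ^ 2 - 1) ^ 2 ∧
      16 * q ^ 4 ≤ 81 * (q - 1) ^ 4 ∧ 8 * (q + 1) ^ 4 < q ^ 2 * (15 * q ^ 3 - 46) := by
  obtain ⟨k, hk, rfl⟩ : ∃ k, 0 ≤ k ∧ q = k + 3 := ⟨q - 3, by omega, by ring⟩
  have h2 := pow_nonneg hk 2
  have h3 := pow_nonneg hk 3
  have h4 := pow_nonneg hk 4
  have h5 := pow_nonneg hk 5
  refine ⟨?_, ?_, ?_, ?_, ?_, ?_, ?_⟩ <;> ring_nf <;> linarith

/-- The bounds on `D` in terms of a multiple `W` of the `p`-part. -/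
theorem sd_D_le (hp : p.Prime) (hQ : Q.natAbs = p ^ n) (hn : 0 < n) (hq : 3 ≤ |Q|) (P : Par Q a c) (ha : a ≠ 0)
    (ha1 : a ≠ -1) (hu : a + Q ≠ 0) (hb : b ≠ 0) (hab : a + b ≠ -1)
    (h : b * (((a + Q) ^ 2) ^ 2 + a * (-2 * (Q ^ 2 - 1) * (1 + a)) ^ 2) +
        ((a + Q) ^ 2 - a * (-2 * (Q ^ 2 - 1) * (1 + a))) ^ 2 = 0)
    {W : ℤ} (hW : W ≠ 0) (hW4 : (p : ℤ) ^ min (padicValInt p a) (4 * n) ∣ W) :
    |((a + Q) ^ 2) ^ 2 + a * (-2 * (Q ^ 2 - 1) * (1 + a)) ^ 2| ≤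
      |W| * ((Q + 1) ^ 2 * (Int.gcd (a + 1) (Q - 1) : ℤ) ^ 6) := by
  obtain ⟨-, hd⟩ := sd_D_dvd hp hQ hn hq P ha ha1 hu hb hab h hW hW4
  have hQ1 : Q + 1 ≠ 0 := by rcases abs_cases Q with e | e <;> omega
  have hgc0 : (0 : ℤ) ≤ (Int.gcd (a + 1) (Q - 1) : ℤ) := Int.natCast_nonneg _
  have hg : (Int.gcd (a + 1) (Q - 1) : ℤ) ≠ 0 := by
    exact_mod_cast (Int.gcd_pos_iff.2 (Or.inl (show a + 1 ≠ 0 by omega))).ne'
  have h' := Int.le_of_dvd (abs_pos.2 (mul_ne_zero (mul_ne_zero hW (pow_ne_zero _ hQ1)) (pow_ne_zero _ hg)))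
    ((abs_dvd_abs _ _).2 hd)
  rw [abs_mul, abs_mul, abs_of_nonneg (sq_nonneg (Q + 1)), abs_of_nonneg (pow_nonneg hgc0 6), mul_assoc |W|] at h'
  exact h'

/-- `D` is large, unless `a = -x` with `x` far below the root of `D`. -/
theorem sd_size (hp : p.Prime) (hQ : Q.natAbs = p ^ n) (hn : 0 < n) (hq : 3 ≤ |Q|) (P : Par Q a c) (ha : a ≠ 0)
    (ha1 : a ≠ -1) (hao : Odd a) (hu : a + Q ≠ 0) (hb : b ≠ 0) (hab : a + b ≠ -1)
    (h : b * (((a + Q) ^ 2) ^ 2 + a * (-2 * (Q ^ 2 - 1) * (1 + a)) ^ 2) +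
        ((a + Q) ^ 2 - a * (-2 * (Q ^ 2 - 1) * (1 + a))) ^ 2 = 0) :
    (0 < a ∧ 4 * a * (a + 1) ^ 2 * (Q ^ 2 - 1) ^ 2 ≤
        |((a + Q) ^ 2) ^ 2 + a * (-2 * (Q ^ 2 - 1) * (1 + a)) ^ 2|) ∨
      ∃ x, a = -x ∧ 3 ≤ x ∧ x ^ 2 * (15 * x - 46) * (Q ^ 2 - 1) ^ 2 ≤
        8 * |((a + Q) ^ 2) ^ 2 + a * (-2 * (Q ^ 2 - 1) * (1 + a)) ^ 2| := by
  set D := ((a + Q) ^ 2) ^ 2 + a * (-2 * (Q ^ 2 - 1) * (1 + a)) ^ 2 with hD
  set S := (Q ^ 2 - 1) ^ 2 with hS
  set q := |Q| with hq'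
  have hQq : Q ^ 2 = q ^ 2 := (sq_abs Q).symm
  have hS' : S = (q ^ 2 - 1) ^ 2 := by rw [hS, hQq]
  obtain ⟨s1, s2, s3, s4, s5, s6, s7⟩ := size_facts hq
  have hS0 : 0 < S := by rw [hS']; exact pow_pos (by nlinarith) 2
  have hQ0 : Q ≠ 0 := by intro e; rw [e] at hq'; simp [hq'] at hq
  have hW : Q ^ 4 ≠ 0 := pow_ne_zero _ hQ0
  have hgc : (Int.gcd (a + 1) (Q - 1) : ℤ) ≤ |Q - 1| :=
    Int.le_of_dvd (abs_pos.2 (by rcases abs_cases Q with e | e <;> omega)) ((dvd_abs _ _).2 (Int.gcd_dvd_right _ _))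
  have hgc0 : (0 : ℤ) ≤ (Int.gcd (a + 1) (Q - 1) : ℤ) := Int.natCast_nonneg _
  have hQm : |Q - 1| ≤ q + 1 := (abs_sub Q 1).trans (by rw [abs_one])
  have hQS : (Q + 1) ^ 2 * |Q - 1| ^ 2 = S := by rw [sq_abs, hS]; ring
  have hW4 : (p : ℤ) ^ min (padicValInt p a) (4 * n) ∣ Q ^ 4 := by
    rw [← Int.dvd_natAbs, Int.natAbs_pow, hQ, ← pow_mul, mul_comm n 4]
    exact_mod_cast pow_dvd_pow (p : ℤ) (min_le_right (padicValInt p a) (4 * n))
  have bd1 : |D| ≤ q ^ 4 * (q + 1) ^ 4 * S := by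
    have h1 : (Q + 1) ^ 2 * (Int.gcd (a + 1) (Q - 1) : ℤ) ^ 6 ≤ (q + 1) ^ 4 * S := by
      calc (Q + 1) ^ 2 * (Int.gcd (a + 1) (Q - 1) : ℤ) ^ 6 ≤ (Q + 1) ^ 2 * |Q - 1| ^ 6 :=
            mul_le_mul_of_nonneg_left (pow_le_pow_left₀ hgc0 hgc 6) (sq_nonneg _)
        _ = |Q - 1| ^ 4 * ((Q + 1) ^ 2 * |Q - 1| ^ 2) := by ring
        _ ≤ (q + 1) ^ 4 * S := by
            rw [hQS]; exact mul_le_mul_of_nonneg_right (pow_le_pow_left₀ (abs_nonneg _) hQm 4) hS0.le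
    have hb' : |D| ≤ |Q ^ 4| * ((Q + 1) ^ 2 * (Int.gcd (a + 1) (Q - 1) : ℤ) ^ 6) :=
      sd_D_le hp hQ hn hq P ha ha1 hu hb hab h hW hW4
    calc |D| ≤ |Q ^ 4| * ((Q + 1) ^ 2 * (Int.gcd (a + 1) (Q - 1) : ℤ) ^ 6) := hb'
      _ ≤ |Q ^ 4| * ((q + 1) ^ 4 * S) := mul_le_mul_of_nonneg_left h1 (abs_nonneg _)
      _ = _ := by rw [abs_pow]; ring
  rcases lt_or_gt_of_ne ha with han | hap
  · -- `a = -x`
    obtain ⟨x, rfl⟩ : ∃ x, a = -x := ⟨-a, by ring⟩
    have hx3 : 3 ≤ x := by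
      obtain ⟨k, hk⟩ := hao; omega
    set w := 4 * S + 4 * Q - 2 with hw
    have hDf : D = (x - w) * (x ^ 2 * (x - 2)) + (6 * Q ^ 2 - 8 * Q + 4) * x ^ 2 - (4 * Q ^ 3 + 4 * S) * x + Q ^ 4 := by
      rw [hD, hw, hS]; ring
    have hQ3 : |Q ^ 3| = q ^ 3 := by rw [abs_pow]
    have hQ3' := abs_le.1 hQ3.le
    have hQ4 : Q ^ 4 = q ^ 4 := by rw [show Q ^ 4 = (Q ^ 2) ^ 2 by ring, hQq]; ring
    have hQle := abs_le.1 hq'.symm.le
    have hodd : x ≠ w := fun e => by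
      obtain ⟨k, hk⟩ := hao
      omega
    rcases lt_or_gt_of_ne hodd with hlt | hgt
    · -- `x < w`
      have hlow : x ^ 2 * ((w - x) * (x - 2) - (6 * q ^ 2 + 8 * q + 4)) ≤ |D| := by
        refine le_trans ?_ (neg_le_abs D)
        have h1 : (6 * Q ^ 2 - 8 * Q + 4) * x ^ 2 ≤ (6 * q ^ 2 + 8 * q + 4) * x ^ 2 :=
          mul_le_mul_of_nonneg_right (by rw [hQq]; linarith [hQle.1]) (sq_nonneg x)
        have h2 : q ^ 4 ≤ (4 * Q ^ 3 + 4 * S) * x := by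
          calc q ^ 4 ≤ (4 * Q ^ 3 + 4 * S) * 3 := by rw [hS']; linarith [hQ3'.1]
            _ ≤ _ := mul_le_mul_of_nonneg_left hx3 (by rw [hS']; linarith [hQ3'.1, pow_nonneg (abs_nonneg Q) 4])
        rw [hDf, hQ4]
        linarith
      have hw15 : 15 * S ≤ 4 * w := by rw [hw, hS']; linarith [hQle.1]
      by_cases hbig : w < 2 * x
      · -- near `w`
        have h1 : w - 3 ≤ (w - x) * (x - 2) := by
          linarith [mul_nonneg (show (0 : ℤ) ≤ x - 3 by omega) (show (0 : ℤ) ≤ w - 1 - x by omega),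
            show (w - x) * (x - 2) - (w - 3) = (x - 3) * (w - 1 - x) by ring]
        have hF : 12 * S ≤ 5 * (w - 3 - (6 * q ^ 2 + 8 * q + 4)) := by rw [hw, hS']; linarith [hQle.1]
        have h2 : x ^ 2 * (12 * S) ≤ 5 * |D| := by
          calc x ^ 2 * (12 * S) ≤ x ^ 2 * (5 * ((w - x) * (x - 2) - (6 * q ^ 2 + 8 * q + 4))) :=
                mul_le_mul_of_nonneg_left (by linarith) (sq_nonneg x)
            _ = 5 * (x ^ 2 * ((w - x) * (x - 2) - (6 * q ^ 2 + 8 * q + 4))) := by ring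
            _ ≤ _ := mul_le_mul_of_nonneg_left hlow (by norm_num)
        have h3 : 15 * S ≤ 8 * x := by linarith
        have h4 : 225 * S ^ 2 ≤ 64 * x ^ 2 := by
          have := pow_le_pow_left₀ (show (0 : ℤ) ≤ 15 * S by linarith) h3 2
          linarith
        have h5 : 12 * 225 * S ^ 3 ≤ 5 * 64 * |D| := by
          calc 12 * 225 * S ^ 3 = (225 * S ^ 2) * (12 * S) := by ring
            _ ≤ (64 * x ^ 2) * (12 * S) := mul_le_mul_of_nonneg_right h4 (by linarith)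
            _ ≤ _ := by linarith
        have h6 : q ^ 4 * (q + 1) ^ 4 * (16 * S) ≤ 81 * (S ^ 2 * S) := by
          calc q ^ 4 * (q + 1) ^ 4 * (16 * S) = (16 * q ^ 4) * ((q + 1) ^ 4 * S) := by ring
            _ ≤ (81 * (q - 1) ^ 4) * ((q + 1) ^ 4 * S) := mul_le_mul_of_nonneg_right s6 (by positivity)
            _ = _ := by rw [hS']; ring
        have : 0 < S ^ 3 := by positivity
        linarith [bd1, show S ^ 2 * S = S ^ 3 by ring]
      · -- far below `w`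
        push Not at hbig
        have h1 : 15 * S * (x - 2) ≤ 8 * ((w - x) * (x - 2)) := by
          rw [← mul_assoc]; exact mul_le_mul_of_nonneg_right (by linarith) (by omega)
        have h2 : x ^ 2 * (15 * x - 46) * S ≤ 8 * |D| := by
          calc x ^ 2 * (15 * x - 46) * S = x ^ 2 * (15 * S * (x - 2) - 16 * S) := by ring
            _ ≤ x ^ 2 * (8 * ((w - x) * (x - 2) - (6 * q ^ 2 + 8 * q + 4))) :=
                mul_le_mul_of_nonneg_left (by rw [hS'] at *; linarith) (sq_nonneg x)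
            _ = 8 * (x ^ 2 * ((w - x) * (x - 2) - (6 * q ^ 2 + 8 * q + 4))) := by ring
            _ ≤ _ := mul_le_mul_of_nonneg_left hlow (by norm_num)
        exact Or.inr ⟨x, rfl, hx3, h2⟩
    · -- `x > w`
      have hwlow : 4 * S - 4 * q - 2 ≤ w := by rw [hw]; linarith [hQle.1]
      have hx34 : 3 * S ≤ x := by rw [hS'] at *; linarith
      have hD1 : x ^ 2 * (x - 2) ≤ |D| := by
        refine le_trans ?_ (le_abs_self D)
        have h1 : x ^ 2 * (x - 2) ≤ (x - w) * (x ^ 2 * (x - 2)) :=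
          le_mul_of_one_le_left (mul_nonneg (sq_nonneg x) (by omega)) (by omega)
        have h2 : 3 * x ^ 2 ≤ (6 * Q ^ 2 - 8 * Q + 4) * x ^ 2 := by
          refine mul_le_mul_of_nonneg_right ?_ (sq_nonneg x)
          rw [hQq]
          have : 3 * q ≤ q ^ 2 := by rw [pow_two]; exact mul_le_mul_of_nonneg_right hq (by omega)
          linarith [hQle.2]
        have h3 : (4 * Q ^ 3 + 4 * S) * x ≤ 3 * x * x :=
          mul_le_mul_of_nonneg_right (by rw [hS'] at *; linarith [hQ3'.2]) (by omega)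
        have h4 : (0 : ℤ) ≤ Q ^ 4 := by rw [hQ4]; positivity
        rw [hDf]
        linarith [show (3 : ℤ) * x ^ 2 = 3 * x * x by ring]
      have h5 : (3 * S) ^ 2 * (2 * S) ≤ x ^ 2 * (x - 2) :=
        mul_le_mul (pow_le_pow_left₀ (by linarith) hx34 2) (by rw [hS'] at *; linarith) (by linarith) (sq_nonneg x)
      have h6 : q ^ 4 * (q + 1) ^ 4 * (16 * S) ≤ 81 * (S ^ 2 * S) := by
        calc q ^ 4 * (q + 1) ^ 4 * (16 * S) = (16 * q ^ 4) * ((q + 1) ^ 4 * S) := by ring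
          _ ≤ (81 * (q - 1) ^ 4) * ((q + 1) ^ 4 * S) := mul_le_mul_of_nonneg_right s6 (by positivity)
          _ = _ := by rw [hS']; ring
      have : 0 < S ^ 3 := by positivity
      linarith [show (3 * S) ^ 2 * (2 * S) = 18 * S ^ 3 by ring, show S ^ 2 * S = S ^ 3 by ring]
  · -- `a > 0`
    have hlow : 4 * a * (a + 1) ^ 2 * S ≤ |D| := by
      refine le_trans ?_ (le_abs_self D)
      have : 0 ≤ ((a + Q) ^ 2) ^ 2 := sq_nonneg _
      rw [hD, hS]
      linarith [show a * (-2 * (Q ^ 2 - 1) * (1 + a)) ^ 2 = 4 * a * (a + 1) ^ 2 * (Q ^ 2 - 1) ^ 2 by ring]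
    exact Or.inl ⟨hap, hlow⟩

/-- The branch is empty. -/
theorem sd_second_false (hp : p.Prime) (hQ : Q.natAbs = p ^ n) (hn : 0 < n) (hq : 3 ≤ |Q|) (P : Par Q a c) (ha : a ≠ 0)
    (ha1 : a ≠ -1) (hao : Odd a) (hu : a + Q ≠ 0) (hb : b ≠ 0) (hab : a + b ≠ -1)
    (hcase : ((p : ℤ) ∣ a ∧ Q ^ 3 ∣ a) ∨ (¬ (p : ℤ) ∣ a ∧ Q ∣ a + 1))
    (h : b * (((a + Q) ^ 2) ^ 2 + a * (-2 * (Q ^ 2 - 1) * (1 + a)) ^ 2) +
        ((a + Q) ^ 2 - a * (-2 * (Q ^ 2 - 1) * (1 + a))) ^ 2 = 0) : False := by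
  set D := ((a + Q) ^ 2) ^ 2 + a * (-2 * (Q ^ 2 - 1) * (1 + a)) ^ 2 with hD
  set S := (Q ^ 2 - 1) ^ 2 with hS
  set q := |Q| with hq'
  have hQq : Q ^ 2 = q ^ 2 := (sq_abs Q).symm
  have hS' : S = (q ^ 2 - 1) ^ 2 := by rw [hS, hQq]
  obtain ⟨s1, s2, s3, s4, s5, s6, s7⟩ := size_facts hq
  have hS0 : 0 < S := by rw [hS']; exact pow_pos (by nlinarith) 2
  have hQ0 : Q ≠ 0 := by intro e; rw [e] at hq'; simp [hq'] at hq
  have hW : Q ^ 4 ≠ 0 := pow_ne_zero _ hQ0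
  have hgc : (Int.gcd (a + 1) (Q - 1) : ℤ) ≤ |Q - 1| :=
    Int.le_of_dvd (abs_pos.2 (by rcases abs_cases Q with e | e <;> omega)) ((dvd_abs _ _).2 (Int.gcd_dvd_right _ _))
  have hgc0 : (0 : ℤ) ≤ (Int.gcd (a + 1) (Q - 1) : ℤ) := Int.natCast_nonneg _
  have hQm : |Q - 1| ≤ q + 1 := (abs_sub Q 1).trans (by rw [abs_one])
  have hQS : (Q + 1) ^ 2 * |Q - 1| ^ 2 = S := by rw [sq_abs, hS]; ring
  have hW4 : (p : ℤ) ^ min (padicValInt p a) (4 * n) ∣ Q ^ 4 := by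
    rw [← Int.dvd_natAbs, Int.natAbs_pow, hQ, ← pow_mul, mul_comm n 4]
    exact_mod_cast pow_dvd_pow (p : ℤ) (min_le_right (padicValInt p a) (4 * n))
  have bd1 : |D| ≤ q ^ 4 * (q + 1) ^ 4 * S := by
    have h1 : (Q + 1) ^ 2 * (Int.gcd (a + 1) (Q - 1) : ℤ) ^ 6 ≤ (q + 1) ^ 4 * S := by
      calc (Q + 1) ^ 2 * (Int.gcd (a + 1) (Q - 1) : ℤ) ^ 6 ≤ (Q + 1) ^ 2 * |Q - 1| ^ 6 :=
            mul_le_mul_of_nonneg_left (pow_le_pow_left₀ hgc0 hgc 6) (sq_nonneg _)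
        _ = |Q - 1| ^ 4 * ((Q + 1) ^ 2 * |Q - 1| ^ 2) := by ring
        _ ≤ (q + 1) ^ 4 * S := by
            rw [hQS]; exact mul_le_mul_of_nonneg_right (pow_le_pow_left₀ (abs_nonneg _) hQm 4) hS0.le
    have hb' : |D| ≤ |Q ^ 4| * ((Q + 1) ^ 2 * (Int.gcd (a + 1) (Q - 1) : ℤ) ^ 6) :=
      sd_D_le hp hQ hn hq P ha ha1 hu hb hab h hW hW4
    calc |D| ≤ |Q ^ 4| * ((Q + 1) ^ 2 * (Int.gcd (a + 1) (Q - 1) : ℤ) ^ 6) := hb'
      _ ≤ |Q ^ 4| * ((q + 1) ^ 4 * S) := mul_le_mul_of_nonneg_left h1 (abs_nonneg _)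
      _ = _ := by rw [abs_pow]; ring
  have bd2 : ¬ (p : ℤ) ∣ a → Q ∣ a + 1 → ∀ t, a + 1 = Q * t → |D| ≤ (q + 1) * |t| ^ 3 * S := by
    intro hpa hQa t ht
    have h1 : |D| ≤ |(1 : ℤ)| * ((Q + 1) ^ 2 * (Int.gcd (a + 1) (Q - 1) : ℤ) ^ 6) :=
      sd_D_le hp hQ hn hq P ha ha1 hu hb hab h one_ne_zero (by haveI := Fact.mk hp; simp [val_zero hpa])
    rw [abs_one, one_mul] at h1
    have ht0 : t ≠ 0 := by rintro rfl; rw [mul_zero] at ht; omega
    have hTt : (Int.gcd (a + 1) (Q - 1) : ℤ) ≤ |t| := by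
      refine Int.le_of_dvd (abs_pos.2 ht0) ((dvd_abs _ _).2 ?_)
      have h2 : (Int.gcd (a + 1) (Q - 1) : ℤ) ∣ Q * t := ht ▸ Int.gcd_dvd_left _ _
      have h3 : IsCoprime (Q - 1) Q := ⟨-1, 1, by ring⟩
      exact (h3.of_isCoprime_of_dvd_left (Int.gcd_dvd_right _ _)).dvd_of_dvd_mul_left h2
    have h2 : (Q + 1) ^ 2 * (Int.gcd (a + 1) (Q - 1) : ℤ) ^ 6 ≤ (Q + 1) ^ 2 * (|Q - 1| ^ 3 * |t| ^ 3) := by
      refine mul_le_mul_of_nonneg_left ?_ (sq_nonneg _)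
      rw [show (Int.gcd (a + 1) (Q - 1) : ℤ) ^ 6 =
        (Int.gcd (a + 1) (Q - 1) : ℤ) ^ 3 * (Int.gcd (a + 1) (Q - 1) : ℤ) ^ 3 by ring]
      exact mul_le_mul (pow_le_pow_left₀ hgc0 hgc 3) (pow_le_pow_left₀ hgc0 hTt 3) (pow_nonneg hgc0 3) (by positivity)
    refine h1.trans (h2.trans ?_)
    rw [show (Q + 1) ^ 2 * (|Q - 1| ^ 3 * |t| ^ 3) = |Q - 1| * |t| ^ 3 * ((Q + 1) ^ 2 * |Q - 1| ^ 2) by ring, hQS]
    exact mul_le_mul_of_nonneg_right (mul_le_mul_of_nonneg_right hQm (by positivity)) hS0.le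
  have tval : ∀ t, a + 1 = Q * t → |a + 1| ^ 3 = q ^ 3 * |t| ^ 3 := fun t ht => by
    rw [ht, abs_mul, mul_pow]
  have q1 : 3 * (q + 1) ≤ 4 * q := by omega
  rcases sd_size hp hQ hn hq P ha ha1 hao hu hb hab h with ⟨hap, hlow⟩ | ⟨x, rfl, hx3, h2⟩
  · have hlow : 4 * a * (a + 1) ^ 2 * S ≤ |D| := hlow
    rcases hcase with ⟨-, hd⟩ | ⟨hpa, hd⟩
    · have hx : q ^ 3 ≤ a := by
        have := Int.le_of_dvd hap ((abs_dvd _ _).2 hd)
        rwa [abs_pow] at this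
      have hq3 : 0 ≤ q ^ 3 := by positivity
      have h1 : 4 * q ^ 3 * (q ^ 3) ^ 2 * S ≤ 4 * a * (a + 1) ^ 2 * S :=
        mul_le_mul_of_nonneg_right (mul_le_mul (by linarith) (pow_le_pow_left₀ hq3 (by linarith) 2) (by positivity)
          (by linarith)) hS0.le
      have h2 : 81 * (q ^ 4 * (q + 1) ^ 4) ≤ 256 * q ^ 8 := by
        calc 81 * (q ^ 4 * (q + 1) ^ 4) = q ^ 4 * (3 * (q + 1)) ^ 4 := by ring
          _ ≤ q ^ 4 * (4 * q) ^ 4 := mul_le_mul_of_nonneg_left (pow_le_pow_left₀ (by omega) q1 4) (by positivity)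
          _ = _ := by ring
      have h3 : 3 * q ^ 8 ≤ q ^ 9 := by rw [pow_succ' q 8]; exact mul_le_mul_of_nonneg_right hq (by positivity)
      have h8 : 0 < q ^ 8 := pow_pos (by omega) 8
      have h4 : q ^ 4 * (q + 1) ^ 4 * S < 4 * q ^ 9 * S := mul_lt_mul_of_pos_right (by linarith) hS0
      linarith [show 4 * q ^ 3 * (q ^ 3) ^ 2 * S = 4 * q ^ 9 * S by ring]
    · obtain ⟨t, ht⟩ := hd
      have hb2 := bd2 hpa ⟨t, ht⟩ t ht
      have ht3 := tval t ht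
      rw [abs_of_pos (show 0 < a + 1 by omega)] at ht3
      have htp : 0 < |t| ^ 3 := pow_pos (abs_pos.2 (by rintro rfl; simp at ht; omega)) 3
      have h1 : 2 * (a + 1) ^ 3 * S ≤ 4 * a * (a + 1) ^ 2 * S := by
        refine mul_le_mul_of_nonneg_right ?_ hS0.le
        rw [show 2 * (a + 1) ^ 3 = (2 * (a + 1)) * (a + 1) ^ 2 by ring]
        exact mul_le_mul_of_nonneg_right (by omega) (sq_nonneg _)
      have h4 : (q + 1) * |t| ^ 3 * S < 2 * q ^ 3 * |t| ^ 3 * S := by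
        refine mul_lt_mul_of_pos_right (mul_lt_mul_of_pos_right ?_ htp) hS0
        have : q * 1 ≤ q * q ^ 2 := mul_le_mul_of_nonneg_left (one_le_pow₀ (by omega)) (by omega)
        linarith [show q * q ^ 2 = q ^ 3 by ring]
      rw [ht3] at h1
      linarith
  · have h2 : x ^ 2 * (15 * x - 46) * S ≤ 8 * |D| := h2
    have han : -x < 0 := by omega
    rcases hcase with ⟨-, hd⟩ | ⟨hpa, hd⟩
    · have hx : q ^ 3 ≤ x := by
        have := Int.le_of_dvd (by omega) ((abs_dvd _ _).2 (dvd_neg.1 hd))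
        rwa [abs_pow] at this
      have hq27 : 27 ≤ q ^ 3 := le_trans (by norm_num) (pow_le_pow_left₀ (by norm_num) hq 3)
      have h3 : (q ^ 3) ^ 2 * (15 * q ^ 3 - 46) ≤ x ^ 2 * (15 * x - 46) :=
        mul_le_mul (pow_le_pow_left₀ (by positivity) hx 2) (by linarith) (by linarith) (sq_nonneg x)
      have h4 : q ^ 4 * (8 * (q + 1) ^ 4) * S < q ^ 4 * (q ^ 2 * (15 * q ^ 3 - 46)) * S :=
        mul_lt_mul_of_pos_right (mul_lt_mul_of_pos_left s7 (pow_pos (by omega) 4)) hS0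
      have h5 := mul_le_mul_of_nonneg_right h3 hS0.le
      linarith
    · obtain ⟨t, ht⟩ := hd
      have hb2 := bd2 hpa ⟨t, ht⟩ t ht
      have ht3 := tval t ht
      rw [show |-x + 1| = x - 1 by rw [abs_of_nonpos (by omega)]; ring] at ht3
      have hx7 : 7 ≤ x := by
        have h7 : |(-x + 1)| = q * |t| := by rw [ht, abs_mul]
        rw [abs_of_nonpos (by omega)] at h7
        obtain ⟨k, hk⟩ := hao
        have ht2 : 2 ≤ |t| := by
          rcases (show |t| = 0 ∨ |t| = 1 ∨ 2 ≤ |t| by have := abs_nonneg t; omega) with e | e | e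
          · rw [e] at h7; omega
          · exfalso
            rw [e, mul_one] at h7
            have h2Q : (2 : ℤ) ∣ Q - 1 := by
              have := padicValInt_dvd (p := 2) (Q - 1)
              rw [P.vm] at this
              simpa using this
            obtain ⟨j, hj⟩ := h2Q
            rcases abs_cases Q with ⟨e1, -⟩ | ⟨e1, -⟩ <;> omega
          · exact e
        have : 3 * 2 ≤ q * |t| := mul_le_mul hq ht2 (by norm_num) (by omega)
        omega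
      have h3 : 11 * (x - 1) ^ 3 ≤ x ^ 2 * (15 * x - 46) := by
        linarith [mul_nonneg (sq_nonneg x) (show (0 : ℤ) ≤ 4 * x - 24 by omega),
          mul_nonneg (show (0 : ℤ) ≤ x by omega) (show (0 : ℤ) ≤ x - 3 by omega),
          show x ^ 2 * (15 * x - 46) - 11 * (x - 1) ^ 3 = x ^ 2 * (4 * x - 24) + 11 * (x * (x - 3)) + 11 by ring]
      have htp : 0 < |t| ^ 3 := pow_pos (abs_pos.2 (by rintro rfl; simp at ht; omega)) 3
      have h4 : 8 * (q + 1) * |t| ^ 3 < 11 * q ^ 3 * |t| ^ 3 := by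
        refine mul_lt_mul_of_pos_right ?_ htp
        have : 9 * q ≤ q ^ 3 := by
          rw [show q ^ 3 = q * q * q by ring]
          exact mul_le_mul_of_nonneg_right (le_trans (by norm_num) (mul_le_mul hq hq (by norm_num) (by omega))) (by omega)
        omega
      have h5 := mul_le_mul_of_nonneg_right h3 hS0.le
      have h6 := mul_lt_mul_of_pos_right h4 hS0
      rw [ht3] at h5
      linarith

end Cfsg.Agent.Invol.AbgOrder
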