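import Mathlib

/-!
# The twisted semidihedral equations with the second index

With `g₀ = (Q² + Q - 1) Q (Q + 2)` one has `d = δ² t`, `t x y = g₀`, `D ∣ Q t`, `w ∣ 3 Q t` for four linear forms in
`w, δ` in two pairs, so `w D x y ∣ 3 Q g₀`.  By size `δ = 1` and a form is at most five; modulo `Q` it is a unit, and
`d = 1` or `d + a + b = 1`.
-/

set_option autoImplicit false
set_option maxHeartbeats 1600000

namespace Cfsg.Agent.Invol.AbgOrder

/-- A pair near zero: the parameter is one and a member is small. -/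
theorem sd_two_near {Q u g N M δ : ℤ} (hq : 27 ≤ |Q|) (hδ : 0 < δ) (hN : N ≠ 0) (hu : u ≠ 0) (hug : u + g ≠ 0)
    (hg : (|Q| - 1) * δ ≤ |g|) (hnear : |u| ≤ 2 * |g|)
    (hE : N * (u * (u + g) * ((Q * g - u) * (Q * g - g - u))) = M)
    (hM : |M| ≤ 3 * |Q| ^ 2 * (|Q| ^ 2 + |Q| + 1) * (|Q| + 2)) :
    δ = 1 ∧ (|N * u| ≤ 5 ∨ |N * (u + g)| ≤ 5) := by
  set q := |Q| with hqdef
  set G := |g| with hG
  obtain ⟨k, hk, hqk⟩ : ∃ k, 0 ≤ k ∧ q = k + 27 := ⟨q - 27, by omega, by ring⟩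
  have hG1 : q - 1 ≤ G := le_trans (le_mul_of_one_le_right (by omega) hδ) hg
  have far : ∀ v c : ℤ, |v| ≤ c * G → (q - c) * G ≤ |Q * g - v| := fun v c h => by
    have := abs_sub_abs_le_abs_sub (Q * g) v
    rw [abs_mul, ← hqdef, ← hG] at this
    linarith
  have f1 : (q - 2) * G ≤ |Q * g - u| := far u 2 hnear
  have f2 : (q - 3) * G ≤ |Q * g - g - u| := by
    rw [show Q * g - g - u = Q * g - (g + u) by ring]
    exact far _ 3 ((abs_add_le g u).trans (by linarith))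
  have hab : G ≤ |u| + |u + g| := by
    have := abs_sub (u + g) u
    rw [add_sub_cancel_left] at this
    linarith
  have ha1 : 1 ≤ |u| := abs_pos.2 hu
  have hb1 : 1 ≤ |u + g| := abs_pos.2 hug
  have hA1 : 1 ≤ |N| := abs_pos.2 hN
  set L := |N| * (|u| * |u + g|) with hL
  have hB : L * ((q - 2) * G * ((q - 3) * G)) ≤ 3 * q ^ 2 * (q ^ 2 + q + 1) * (q + 2) := by
    refine le_trans ?_ hM
    calc L * ((q - 2) * G * ((q - 3) * G)) ≤ L * (|Q * g - u| * |Q * g - g - u|) :=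
          mul_le_mul_of_nonneg_left (mul_le_mul f1 f2 (mul_nonneg (by omega) (by omega)) (abs_nonneg _))
            (mul_nonneg (abs_nonneg N) (mul_nonneg (abs_nonneg u) (abs_nonneg _)))
      _ = |M| := by rw [← hE]; simp only [abs_mul, hL]; ring
  have hδ1 : δ = 1 := by
    by_contra hne
    have hG2 : 2 * (q - 1) ≤ G := le_trans (by nlinarith [show 2 ≤ δ by omega]) hg
    have hL1 : G - 1 ≤ L := by
      have h1 : G - 1 ≤ |u| * |u + g| := by nlinarith [mul_nonneg (sub_nonneg.2 ha1) (sub_nonneg.2 hb1)]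
      exact h1.trans (le_mul_of_one_le_left (by positivity) hA1)
    have h2 : (2 * q - 3) * ((q - 2) * (2 * (q - 1)) * ((q - 3) * (2 * (q - 1)))) ≤
        L * ((q - 2) * G * ((q - 3) * G)) :=
      mul_le_mul (by omega) (mul_le_mul (mul_le_mul_of_nonneg_left hG2 (by omega))
        (mul_le_mul_of_nonneg_left hG2 (by omega)) (mul_nonneg (by omega) (by omega))
        (mul_nonneg (by omega) (by omega)))
        (mul_nonneg (mul_nonneg (by omega) (by omega)) (mul_nonneg (by omega) (by omega))) (by omega)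
    have h3 := h2.trans hB
    rw [hqk] at h3
    ring_nf at h3
    nlinarith [pow_nonneg hk 2, pow_nonneg hk 3, pow_nonneg hk 4, pow_nonneg hk 5]
  refine ⟨hδ1, ?_⟩
  by_contra hne
  push Not at hne
  rw [abs_mul, abs_mul] at hne
  have hL6 : 6 * G - 36 ≤ L := by
    refine le_of_mul_le_mul_left ?_ (show (0 : ℤ) < |N| by omega)
    have h1 := mul_nonneg (show 0 ≤ |N| * |u| - 6 by omega) (show 0 ≤ |N| * |u + g| - 6 by omega)
    have h2 := mul_le_mul_of_nonneg_left hab (show (0 : ℤ) ≤ |N| by omega)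
    rw [hL]
    nlinarith
  have h2 : (6 * (q - 1) - 36) * ((q - 2) * (q - 1) * ((q - 3) * (q - 1))) ≤
      L * ((q - 2) * G * ((q - 3) * G)) :=
    mul_le_mul (by omega) (mul_le_mul (mul_le_mul_of_nonneg_left hG1 (by omega))
      (mul_le_mul_of_nonneg_left hG1 (by omega)) (mul_nonneg (by omega) (by omega))
      (mul_nonneg (by omega) (by omega)))
      (mul_nonneg (mul_nonneg (by omega) (by omega)) (mul_nonneg (by omega) (by omega))) (by omega)
  have h3 := h2.trans hB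
  rw [hqk] at h3
  ring_nf at h3
  nlinarith [pow_nonneg hk 2, pow_nonneg hk 3, pow_nonneg hk 4, pow_nonneg hk 5]

/-- Modulo `Q` the small member is a unit. -/
theorem sd_two_unit {Q N k σ : ℤ} {l n : ℕ} (hl : l.Prime) (hQ : Q.natAbs = l ^ n) (hQo : Odd Q) (hq : 27 ≤ |Q|)
    (hN : Odd N) (hk : Odd k) (hσ : σ = 1 ∨ σ = -1) (hb : |N * k| ≤ 5) (hd : Q ∣ N * (k * (k + σ)) ^ 2) :
    k + σ = 0 := by
  by_contra hne
  have hk0 : k ≠ 0 := by rintro rfl; exact absurd hk (by decide)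
  have hN0 : N ≠ 0 := by rintro rfl; exact absurd hN (by decide)
  have hNb : |N| ≤ 5 := le_trans (le_mul_of_one_le_right (abs_nonneg N) (abs_pos.2 hk0)) (abs_mul N k ▸ hb)
  have hkb : |k| ≤ 5 := le_trans (le_mul_of_one_le_left (abs_nonneg k) (abs_pos.2 hN0)) (abs_mul N k ▸ hb)
  obtain ⟨hN1, hN2⟩ := abs_le.1 hNb
  obtain ⟨hk1, hk2⟩ := abs_le.1 hkb
  have h36 : N * (k * (k + σ)) ^ 2 ∣ 3600 := by
    rcases hσ with rfl | rfl <;> interval_cases N <;> interval_cases k <;>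
      first
      | decide
      | omega
      | norm_num at hb
  have hq1 : Q.natAbs ∣ 3600 := Int.natAbs_dvd_natAbs.2 (hd.trans h36)
  have hq2 : Q.natAbs ∣ 225 := by
    have hodd : Odd Q.natAbs := Int.natAbs_odd.2 hQo
    exact ((hodd.coprime_two_right).pow_right 4).dvd_of_dvd_mul_left (show Q.natAbs ∣ 2 ^ 4 * 225 from hq1)
  have h27 : 27 ≤ Q.natAbs := by rw [Int.abs_eq_natAbs] at hq; exact_mod_cast hq
  have h15 : ∀ m ∈ Nat.divisors 225, 27 ≤ m → 3 ∣ m ∧ 5 ∣ m := by decide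
  obtain ⟨h3, h5⟩ := h15 _ (Nat.mem_divisors.2 ⟨hq2, by decide⟩) h27
  rw [hQ] at h3 h5
  have e3 := (Nat.prime_dvd_prime_iff_eq Nat.prime_three hl).1 (Nat.prime_three.dvd_of_dvd_pow h3)
  have e5 := (Nat.prime_dvd_prime_iff_eq (by norm_num) hl).1 ((show Nat.Prime 5 by norm_num).dvd_of_dvd_pow h5)
  omega

/-- **The second index leaves a linear character**: `d = 1` or `d + a + b = 1`. -/
theorem sd_two_arith {Q a b d : ℤ} {l n : ℕ} (hl : l.Prime) (hQ : Q.natAbs = l ^ n) (hQo : Odd Q) (hq : 27 ≤ |Q|)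
    (ha : a ≠ 0) (hd : d ≠ 0) (had : a + d ≠ 0) (hu : a + Q * d ≠ 0)
    (hH1 : a * (a + d) * d * ((Q + 1) ^ 2 * (Q - 1)) = (Q + 2) * (Q ^ 2 + Q - 1) * (a + Q * d) ^ 2)
    (hH2 : b * (a + Q ^ 2 * d) + Q ^ 2 * (a + d) * d = 0) : d = 1 ∨ d + a + b = 1 := by
  have hQ0 : Q ≠ 0 := fun e => by rw [e] at hq; norm_num at hq
  have hm0 : Q - 1 ≠ 0 := fun e => by rw [show Q = 1 by omega] at hq; norm_num at hq
  have hp0 : Q + 1 ≠ 0 := fun e => by rw [show Q = -1 by omega] at hq; norm_num at hq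
  -- `w (a + Q d) = Q (Q² - 1) δ d` in lowest terms
  obtain ⟨w, δ, hδ, hwδ, hwu⟩ : ∃ w δ : ℤ, 0 < δ ∧ IsCoprime w δ ∧
      w * (a + Q * d) = Q * (Q ^ 2 - 1) * δ * d := by
    obtain ⟨g, w, δ, hg, hco, hm, hn⟩ := Int.exists_gcd_one' (m := Q * (Q ^ 2 - 1) * d) (n := a + Q * d)
      (Int.gcd_pos_iff.2 (Or.inr hu))
    have hc : IsCoprime w δ := Int.isCoprime_iff_gcd_eq_one.2 hco
    have h : w * (a + Q * d) = Q * (Q ^ 2 - 1) * δ * d := by linear_combination w * hn - δ * hm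
    rcases lt_trichotomy δ 0 with h' | h' | h'
    · exact ⟨-w, -δ, by omega, hc.neg_neg, by linear_combination -h⟩
    · exact absurd (by rw [hn, h', zero_mul]) hu
    · exact ⟨w, δ, h', hc, h⟩
  have hw0 : w ≠ 0 := fun e => by
    rw [e, zero_mul] at hwu
    exact mul_ne_zero (mul_ne_zero (mul_ne_zero hQ0 (show Q ^ 2 - 1 ≠ 0 from by
      rw [show Q ^ 2 - 1 = (Q - 1) * (Q + 1) by ring]; exact mul_ne_zero hm0 hp0)) hδ.ne') hd hwu.symm
  set x := (Q ^ 2 + Q) * δ - w with hx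
  set y := (Q ^ 2 - 1) * δ - w with hy
  set D := (Q + 1) * δ + w with hD
  have hwa : w * a = Q * d * y := by rw [hy]; linear_combination hwu
  have hwad : w * (a + d) = d * (Q - 1) * x := by rw [hy] at hwa; rw [hx]; linear_combination hwa
  have hy0 : y ≠ 0 := fun e => mul_ne_zero hw0 ha (by rw [hwa, e, mul_zero])
  have hx0 : x ≠ 0 := fun e => mul_ne_zero hw0 (show a + d ≠ 0 from had) (by rw [hwad, e, mul_zero])
  have hdxy : d * (x * y) = (Q + 2) * (Q ^ 2 + Q - 1) * Q * δ ^ 2 := by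
    refine mul_left_cancel₀ (mul_ne_zero (mul_ne_zero hQ0 (pow_ne_zero 2 hd))
      (pow_ne_zero 2 (mul_ne_zero hm0 hp0))) ?_
    have h : (w * a) * (w * (a + d)) * d * ((Q + 1) ^ 2 * (Q - 1)) =
        (Q + 2) * (Q ^ 2 + Q - 1) * (w * (a + Q * d)) ^ 2 := by linear_combination w ^ 2 * hH1
    rw [hwa, hwad, hwu] at h
    linear_combination h
  have hbD : b * D = -(Q * x * d) := by
    refine mul_left_cancel₀ (mul_ne_zero (mul_ne_zero hQ0 hd) hm0) ?_
    have h : b * (w * a + Q ^ 2 * d * w) + Q ^ 2 * (w * (a + d)) * d = 0 := by linear_combination w * hH2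
    rw [hwad, hwa] at h
    rw [hD, hy] at *
    linear_combination h
  have hxδ : IsCoprime x δ := by
    have := hwδ.neg_left.add_mul_left_left (Q ^ 2 + Q)
    rwa [show -w + δ * (Q ^ 2 + Q) = x by rw [hx]; ring] at this
  have hyδ : IsCoprime y δ := by
    have := hwδ.neg_left.add_mul_left_left (Q ^ 2 - 1)
    rwa [show -w + δ * (Q ^ 2 - 1) = y by rw [hy]; ring] at this
  obtain ⟨t, hdt⟩ : δ ^ 2 ∣ d :=
    (hxδ.mul_left hyδ).symm.pow_left.dvd_of_dvd_mul_right
      ⟨(Q + 2) * (Q ^ 2 + Q - 1) * Q, by rw [hdxy]; ring⟩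
  set g0 := (Q + 2) * (Q ^ 2 + Q - 1) * Q with hg0
  have ht : t * (x * y) = g0 := mul_left_cancel₀ (pow_ne_zero 2 hδ.ne') (by rw [hdt] at hdxy; linear_combination hdxy)
  have hg0p : IsCoprime g0 (Q + 1) := ⟨1, -(Q ^ 3 + 2 * Q ^ 2 - Q - 1), by rw [hg0]; ring⟩
  have hxp : IsCoprime x (Q + 1) := hg0p.of_isCoprime_of_dvd_left ⟨t * y, by linear_combination -ht⟩
  have hwp : IsCoprime w (Q + 1) := by
    have := hxp.neg_left.add_mul_left_left (Q * δ)
    rwa [show -x + (Q + 1) * (Q * δ) = w by rw [hx]; ring] at this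
  have hDδ : IsCoprime D δ := by
    have := hwδ.add_mul_left_left (Q + 1)
    rwa [show w + δ * (Q + 1) = D by rw [hD]; ring] at this
  have hDp : IsCoprime D (Q + 1) := by
    have := hwp.add_mul_left_left δ
    rwa [show w + (Q + 1) * δ = D by rw [hD]; ring] at this
  have hwD : IsCoprime w D := by
    have := (hwp.mul_right hwδ).add_mul_left_right 1
    rwa [show (Q + 1) * δ + w * 1 = D by rw [hD]; ring] at this
  -- `w ∣ 3 Q t` and `D ∣ Q t`
  have hw1 : w ∣ Q * t * y := by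
    refine (hwδ.pow_right (n := 2)).dvd_of_dvd_mul_right (⟨a, ?_⟩ : w ∣ Q * t * y * δ ^ 2)
    rw [hdt] at hwa
    linear_combination -hwa
  have hw2 : w ∣ Q * (Q - 1) * t := by
    refine (hwp.mul_right hwδ).dvd_of_dvd_mul_right ?_
    have h := dvd_add hw1 (dvd_mul_left w (Q * t))
    rwa [show Q * t * y + Q * t * w = Q * (Q - 1) * t * ((Q + 1) * δ) by rw [hy]; ring] at h
  have hw3 : w ∣ 3 * Q * t := by
    have h := dvd_sub (hw1.mul_right (t * x)) (hw2.mul_right (Q ^ 3 + 4 * Q ^ 2 + 5 * Q + 3))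
    rwa [show Q * t * y * (t * x) - Q * (Q - 1) * t * (Q ^ 3 + 4 * Q ^ 2 + 5 * Q + 3) = 3 * Q * t by
      linear_combination Q * t * (ht.trans hg0)] at h
  have hD1 : D ∣ Q * x * t := (hDδ.pow_right (n := 2)).dvd_of_dvd_mul_right ⟨-b, by
    rw [hdt] at hbD; linear_combination hbD⟩
  have hD2 : D ∣ Q * t := by
    refine ((hDp.pow_right (n := 2)).mul_right hDδ).dvd_of_dvd_mul_right ?_
    have h := dvd_add hD1 (dvd_mul_left D (Q * t))
    rwa [show Q * x * t + Q * t * D = Q * t * ((Q + 1) ^ 2 * δ) by rw [hx, hD]; ring] at h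
  obtain ⟨N, hN⟩ : w * D ∣ 3 * Q * t := hwD.mul_dvd hw3 (by rw [mul_assoc]; exact hD2.mul_left 3)
  set M := 3 * Q * g0 with hM
  have hE : N * (w * D * (x * y)) = M := by rw [hM]; linear_combination (3 * Q) * ht - (x * y) * hN
  -- parity
  have hMo : Odd M := by
    obtain ⟨m, hm⟩ := hQo
    have h2 : Odd (Q + 2) := ⟨m + 1, by rw [hm]; ring⟩
    have h3 : Odd (Q ^ 2 + Q - 1) := ⟨2 * m * m + 3 * m, by rw [hm]; ring⟩
    exact ((show Odd (3 : ℤ) by decide).mul ⟨m, hm⟩).mul ((h2.mul h3).mul ⟨m, hm⟩)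
  rw [← hE] at hMo
  simp only [Int.odd_mul] at hMo
  obtain ⟨hNo, ⟨hwo, hDo⟩, hxo, hyo⟩ := hMo
  have hne : ∀ {z : ℤ}, Odd z → z ≠ 0 := fun {z} h e => by rw [e] at h; exact absurd h (by decide)
  -- sizes
  set q := |Q| with hqdef
  set g := (Q + 1) * δ with hg
  have hgb : (q - 1) * δ ≤ |g| := by
    rw [hg, abs_mul, abs_of_pos hδ]
    refine mul_le_mul_of_nonneg_right ?_ hδ.le
    rw [hqdef]
    rcases abs_cases Q with u | u <;> rcases abs_cases (Q + 1) with v | v <;> omega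
  have hW : |Q ^ 2 + Q - 1| ≤ q ^ 2 + q + 1 := by
    have h2 : q ^ 2 = Q ^ 2 := sq_abs Q
    rw [h2, abs_le]
    constructor <;> rcases abs_cases Q with u | u <;> nlinarith
  have hQ2 : |Q + 2| ≤ q + 2 := (abs_add_le Q 2).trans (by rw [hqdef]; norm_num)
  have hMb : |M| ≤ 3 * q ^ 2 * (q ^ 2 + q + 1) * (q + 2) := by
    rw [hM, hg0, abs_mul, abs_mul, abs_mul, abs_mul, ← hqdef, show |(3 : ℤ)| = 3 from rfl]
    nlinarith [mul_le_mul hQ2 hW (abs_nonneg _) (by omega), mul_nonneg (abs_nonneg Q) (abs_nonneg Q)]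
  have hsum1 : w + x = Q * g := by rw [hx, hg]; ring
  have hsum2 : D + y = Q * g := by rw [hy, hD, hg]; ring
  -- one of the pairs is near zero
  have hcase : |w| ≤ 2 * |g| ∨ |y| ≤ 2 * |g| := by
    by_contra hc
    push Not at hc
    obtain ⟨hw2', hy2'⟩ := hc
    have hDg : |g| < |D| := by
      have := abs_add_le D (-g)
      rw [abs_neg, show D + -g = w by rw [hD, hg]; ring] at this
      linarith
    have hxg : |g| < |x| := by
      have := abs_add_le x (-g)
      rw [abs_neg, show x + -g = y by rw [hx, hy, hg]; ring] at this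
      linarith
    have pr : ∀ u v : ℤ, |g| ≤ |u| → |g| ≤ |v| → u + v = Q * g → (q - 1) * |g| ^ 2 ≤ |u * v| := fun u v h1 h2 h => by
      have h3 := abs_add_le u v
      rw [h, abs_mul, ← hqdef] at h3
      rw [abs_mul u v]
      nlinarith [mul_nonneg (sub_nonneg.2 h1) (sub_nonneg.2 h2), mul_le_mul_of_nonneg_left h3 (abs_nonneg g)]
    have h1 := pr w x (by linarith [abs_nonneg g]) hxg.le hsum1
    have h2 := pr D y hDg.le (by linarith [abs_nonneg g]) hsum2
    have hG : q - 1 ≤ |g| := le_trans (le_mul_of_one_le_right (by omega) hδ) hgb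
    have h3 : (q - 1) * (q - 1) ^ 2 * ((q - 1) * (q - 1) ^ 2) ≤ |M| := by
      rw [← hE, abs_mul, show w * D * (x * y) = w * x * (D * y) by ring, abs_mul]
      refine le_trans ?_ (le_mul_of_one_le_left (by positivity) (abs_pos.2 (hne hNo)))
      have hp : (q - 1) * (q - 1) ^ 2 ≤ (q - 1) * |g| ^ 2 :=
        mul_le_mul_of_nonneg_left (pow_le_pow_left₀ (by omega) hG 2) (by omega)
      exact mul_le_mul (hp.trans h1) (hp.trans h2) (mul_nonneg (by omega) (sq_nonneg _)) (abs_nonneg _)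
    obtain ⟨k, hk, hqk⟩ : ∃ k, 0 ≤ k ∧ q = k + 27 := ⟨q - 27, by omega, by ring⟩
    have h4 := h3.trans hMb
    rw [hqk] at h4
    ring_nf at h4
    nlinarith [pow_nonneg hk 2, pow_nonneg hk 3, pow_nonneg hk 4, pow_nonneg hk 5, pow_nonneg hk 6]
  have hmod : ∀ {C z : ℤ}, N * z = M → Q ∣ z - C → Q ∣ N * C := fun {C z} h h' => by
    have := dvd_sub (show Q ∣ M from ⟨3 * g0, by rw [hM]; ring⟩) (h'.mul_left N)
    rwa [← h, ← mul_sub, sub_sub_cancel] at this
  rcases hcase with hc | hc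
  · -- a small member in `w`, `D`
    have hug : w + g ≠ 0 := by rw [show w + g = D by rw [hD, hg]; ring]; exact hne hDo
    obtain ⟨rfl, h5⟩ := sd_two_near hq hδ (hne hNo) (hne hwo) hug hgb hc (M := M)
      (by rw [← hE, hx, hy, hD, hg]; ring) hMb
    simp only [mul_one] at *
    rcases h5 with h5 | h5
    · exfalso
      have hk := sd_two_unit hl hQ hQo hq hNo hwo (Or.inl rfl) h5 (hmod hE
        ⟨w * D * (Q + 1) * (Q * (Q + 1) - w - D) + w ^ 2 * (Q + 2 * (w + 1)), by rw [hx, hy, hD]; ring⟩)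
      have hw1' : w = -1 := by omega
      rw [hx, hy, hD, hM, hg0, hw1'] at hE
      have h6 : Q ∣ 6 := ⟨N * (Q ^ 2 + Q + 1) + 3 * (Q ^ 2 + 3 * Q + 1),
        mul_left_cancel₀ (pow_ne_zero 2 hQ0) (by linear_combination hE)⟩
      have := Int.le_of_dvd (by norm_num) ((abs_dvd _ _).2 h6)
      omega
    · have hk := sd_two_unit (k := w + (Q + 1)) hl hQ hQo hq hNo
        (by rw [show w + (Q + 1) = D by rw [hD]; ring]; exact hDo) (Or.inr rfl) (by rwa [hg] at h5) (hmod hE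
        ⟨w * D * (Q + 1) * (Q * (Q + 1) - w - D) + D ^ 2 * (Q - 2 * (D - 1)), by rw [hx, hy, hD]; ring⟩)
      have hw1' : w = -Q := by omega
      left
      have ht1 : t = 1 := by
        refine mul_right_cancel₀ (mul_ne_zero hx0 hy0) ?_
        rw [ht, hg0, hx, hy, hw1']; ring
      rw [hdt, ht1]; ring
  · -- a small member in `y`, `x`
    have hug : y + g ≠ 0 := by rw [show y + g = x by rw [hx, hy, hg]; ring]; exact hne hxo
    obtain ⟨rfl, h5⟩ := sd_two_near hq hδ (hne hNo) (hne hyo) hug hgb hc (M := M)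
      (by rw [← hE, hx, hy, hD, hg]; ring) hMb
    simp only [mul_one] at *
    rcases h5 with h5 | h5
    · exfalso
      have hk := sd_two_unit hl hQ hQo hq hNo hyo (Or.inl rfl) h5 (hmod hE
        ⟨x * y * (Q + 1) * (Q * (Q + 1) - x - y) + y ^ 2 * (Q + 2 * (y + 1)), by rw [hx, hy, hD]; ring⟩)
      have hw1' : w = Q ^ 2 := by rw [hy] at hk; linarith
      rw [hx, hy, hD, hM, hg0, hw1'] at hE
      have h6 : Q ∣ 6 := ⟨N * (Q ^ 2 + Q + 1) + 3 * (Q ^ 2 + 3 * Q + 1),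
        mul_left_cancel₀ (pow_ne_zero 2 hQ0) (by linear_combination hE)⟩
      have := Int.le_of_dvd (by norm_num) ((abs_dvd _ _).2 h6)
      omega
    · have hk := sd_two_unit (k := y + (Q + 1)) hl hQ hQo hq hNo
        (by rw [show y + (Q + 1) = x by rw [hx, hy]; ring]; exact hxo) (Or.inr rfl) (by rwa [hg] at h5) (hmod hE
        ⟨x * y * (Q + 1) * (Q * (Q + 1) - x - y) + x ^ 2 * (Q - 2 * (x - 1)), by rw [hx, hy, hD]; ring⟩)
      have hw1' : w = Q ^ 2 + Q - 1 := by rw [hy] at hk; linarith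
      right
      have e1 : x = 1 := by rw [hx, hw1']; ring
      have e2 : y = -Q := by rw [hy, hw1']; ring
      have e3 : D = Q * (Q + 2) := by rw [hD, hw1']; ring
      have ht1 : t = -((Q + 2) * w) := by
        refine mul_right_cancel₀ hQ0 ?_
        rw [e1, e2, hg0] at ht
        rw [hw1']; linear_combination -ht
      have hd1 : d = -((Q + 2) * w) := by rw [hdt, ht1]; ring
      have ha' : a = Q ^ 2 * (Q + 2) := by
        refine mul_left_cancel₀ hw0 ?_
        rw [hwa, e2, hd1]; ring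
      have hb' : b = w := by
        refine mul_right_cancel₀ (hne hDo) ?_
        rw [hbD, e1, hd1, e3]; ring
      rw [ha', hb', hd1, hw1']; ring

end Cfsg.Agent.Invol.AbgOrder
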