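import Cfsg.Agent.Lib.Invol.AbgOrder.AlgSdFieldArith
import Cfsg.Agent.Lib.Invol.AbgOrder.AlgSdFieldTwo

/-!
# The semidihedral equations for a twisted principal component

The column at `z` is the coefficient vector of a combination of the functions, so `v = A + I` and `B = C + I`; with
`A = 1 - Q - v` this gives `v = 1`, `A = -Q`, `B = Q`.  The equation for `A` then factors, and one of the characters of
degrees `d₀`, `-(d₀ + a + b)` is linear.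
-/

set_option autoImplicit false

namespace Cfsg.Agent.Invol.AbgOrder

/-- The equations with an unknown component of degree `d₀` and value `v`. -/
structure SdEqsV (Q : ℤ) (R : ℚ) where
  /-- signed degree in place of the trivial character -/
  d₀ : ℤ
  /-- its value -/
  v : ℤ
  /-- degree of `a` -/
  a : ℤ
  /-- degree of `b` -/
  b : ℤ
  /-- value of `a` -/
  A : ℤ
  /-- value of `b` -/
  B : ℤ
  d0_ne : d₀ ≠ 0
  a0 : a ≠ 0
  a1 : d₀ + a ≠ 0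
  b0 : b ≠ 0
  b1 : d₀ + b ≠ 0
  ab : d₀ + a + b ≠ 0
  eqA : (v : ℚ) ^ 2 / d₀ + (A : ℚ) ^ 2 / a + (B : ℚ) ^ 2 / b +
    (-(v : ℚ) - A - B) ^ 2 / (-(d₀ : ℚ) - a - b) = 0
  eq0 : (v : ℚ) ^ 2 / d₀ + (B : ℚ) ^ 2 / b + (2 * (1 + (Q : ℚ)) - v - B) ^ 2 / (-(d₀ : ℚ) - b) =
    R * (((Q : ℚ) + 1) / Q)
  eqT : (v : ℚ) ^ 2 / d₀ + (A : ℚ) ^ 2 / a + (-(v : ℚ) - A) ^ 2 / (-(d₀ : ℚ) - a) = R * (((Q : ℚ) - 1) / Q)
  eqF : (v : ℚ) ^ 2 / d₀ + (A : ℚ) ^ 2 / a + (2 * (1 - (Q : ℚ)) - v - A) ^ 2 / (-(d₀ : ℚ) - a) =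
    R * (((Q : ℚ) - 1) / Q)

/-- The two possible normalisations: the index `Q² (Q² + Q + 1)` or, for `|Q| ≥ 27`, `(Q² + Q - 1)(Q² + 2 Q)`. -/
def SdIndexR (Q : ℤ) (R : ℚ) : Prop :=
  R * ((Q : ℚ) ^ 2 + Q + 1) = ((Q : ℚ) + 1) ^ 2 ∨
    (27 ≤ |Q| ∧ R * (((Q : ℚ) + 2) * ((Q : ℚ) ^ 2 + Q - 1)) = Q * ((Q : ℚ) + 1) ^ 2)

/-- The identity that excludes `b = -a`. -/
theorem sd_neg_identity {d a Q : ℚ} (hd : d ≠ 0) (ha : a ≠ 0) (he : -d + a ≠ 0) :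
    1 / d + Q ^ 2 / -a + (Q + 1) ^ 2 / (-d + a) = (a + Q * d) ^ 2 / (d * a * (-d + a)) := by
  field_simp
  ring

theorem sd_T_identity {d a Q : ℚ} (hd : d ≠ 0) (ha : a ≠ 0) (he : -d - a ≠ 0) :
    1 / d + (-Q) ^ 2 / a + (-1 + Q) ^ 2 / (-d - a) = (a + Q * d) ^ 2 / (d * a * (d + a)) := by
  have : d + a ≠ 0 := fun e => he (by linarith)
  field_simp
  ring

/-- **A linear character remains**: `d₀ = 1` or `d₀ + a + b = 1`. -/
theorem SdEqsV.solve {Q : ℤ} {R : ℚ} (E : SdEqsV Q R) {p n : ℕ} (hp : p.Prime) (hn : 0 < n)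
    (hQ : Q = (p : ℤ) ^ n ∨ Q = -(p : ℤ) ^ n) (h4 : Q % 4 = 3)
    (hR : SdIndexR Q R)
    (hv : E.v = E.A + (2 * (Q + 1) - E.v - E.B))
    (hB : E.B = (-E.v - E.A - E.B) + (2 * (Q + 1) - E.v - E.B)) :
    E.v = 1 ∧ E.A = -Q ∧ E.B = Q ∧ (E.d₀ = 1 ∨ E.d₀ + E.a + E.b = 1) := by
  have hQ' : Q.natAbs = p ^ n := by rcases hQ with e | e <;> simp [e, Int.natAbs_pow]
  have hq : (3 : ℤ) ≤ |Q| := by
    have h2 : 2 ≤ p ^ n := le_trans hp.two_le (Nat.le_self_pow hn.ne' p)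
    have h3 : (2 : ℤ) ≤ |Q| := by rw [Int.abs_eq_natAbs, hQ']; exact_mod_cast h2
    rcases abs_cases Q with e | e <;> omega
  have cz : ∀ z : ℤ, z ≠ 0 → (z : ℚ) ≠ 0 := fun z hz => Int.cast_ne_zero.2 hz
  have hd := cz _ E.d0_ne
  have ha := cz _ E.a0
  have hb := cz _ E.b0
  have he : -(E.d₀ : ℚ) - E.a ≠ 0 := fun h => cz _ E.a1 (by push_cast; linarith)
  have hQ0 : (Q : ℚ) ≠ 0 := cz _ (by omega)
  have hm : (Q : ℚ) - 1 ≠ 0 := fun h => cz _ (show Q - 1 ≠ 0 by omega) (by push_cast; linarith)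
  have hQ1 : (Q : ℚ) + 1 ≠ 0 := fun h => cz _ (show Q + 1 ≠ 0 by rcases abs_cases Q with e | e <;> omega)
    (by push_cast; linarith)
  have hR0 : R ≠ 0 := fun e => by
    rcases hR with h | ⟨-, h⟩ <;> rw [e, zero_mul] at h
    · exact pow_ne_zero 2 hQ1 h.symm
    · exact mul_ne_zero hQ0 (pow_ne_zero 2 hQ1) h.symm
  -- the values
  have hA : E.A = 1 - Q - E.v := by
    have h := E.eqT.trans E.eqF.symm
    have h2 : (-(E.v : ℚ) - E.A) ^ 2 = (2 * (1 - (Q : ℚ)) - E.v - E.A) ^ 2 := by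
      have h' := congrArg (fun z : ℚ => (z - (E.v : ℚ) ^ 2 / E.d₀ - (E.A : ℚ) ^ 2 / E.a) * (-(E.d₀ : ℚ) - E.a)) h
      simpa [add_sub_assoc, div_mul_cancel₀ _ he] using h'
    have h3 : (1 - (Q : ℚ)) * ((1 - (Q : ℚ)) - E.v - E.A) = 0 := by linear_combination -(1 / 4 : ℚ) * h2
    rcases mul_eq_zero.1 h3 with h4' | h4'
    · exact absurd (by linarith) hm
    · exact_mod_cast (show ((E.A : ℤ) : ℚ) = ((1 - Q - E.v : ℤ) : ℚ) by push_cast; linarith)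
  have hv1 : E.v = 1 := by omega
  have zA : E.A = -Q := by omega
  have zB : E.B = Q := by omega
  refine ⟨hv1, zA, zB, ?_⟩
  -- `eqT`
  have hT := E.eqT
  rw [hv1, zA] at hT
  push_cast at hT
  rw [one_pow, show -(1 : ℚ) - -(Q : ℚ) = -1 + (Q : ℚ) by ring, sd_T_identity hd ha he] at hT
  have hda : (E.d₀ : ℚ) + E.a ≠ 0 := fun h => he (by linarith)
  have hT' : R * ((Q : ℚ) - 1) * (E.d₀ * E.a * (E.d₀ + E.a)) = Q * ((E.a : ℚ) + Q * E.d₀) ^ 2 := by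
    have h := (div_eq_iff (mul_ne_zero (mul_ne_zero hd ha) hda)).1 hT
    rw [h]; field_simp
  have hu : E.a + Q * E.d₀ ≠ 0 := fun h => by
    have h' : (E.a : ℚ) + Q * E.d₀ = 0 := by exact_mod_cast h
    rw [h', zero_pow two_ne_zero, mul_zero] at hT'
    exact mul_ne_zero (mul_ne_zero hR0 hm) (mul_ne_zero (mul_ne_zero hd ha) hda) hT'
  have hH1 : E.a * (E.a + E.d₀) * E.d₀ * ((Q + 1) ^ 2 * (Q - 1)) =
        Q * (Q ^ 2 + Q + 1) * (E.a + Q * E.d₀) ^ 2 ∨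
      (27 ≤ |Q| ∧ E.a * (E.a + E.d₀) * E.d₀ * ((Q + 1) ^ 2 * (Q - 1)) =
        (Q + 2) * (Q ^ 2 + Q - 1) * (E.a + Q * E.d₀) ^ 2) := by
    rcases hR with h | ⟨h27, h⟩
    · exact Or.inl (Int.cast_injective (α := ℚ) (by
        push_cast
        linear_combination ((Q : ℚ) ^ 2 + Q + 1) * hT' - ((Q : ℚ) - 1) * (E.d₀ * E.a * (E.d₀ + E.a)) * h))
    · refine Or.inr ⟨h27, Int.cast_injective (α := ℚ) ?_⟩
      push_cast
      refine mul_left_cancel₀ hQ0 ?_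
      linear_combination (((Q : ℚ) + 2) * ((Q : ℚ) ^ 2 + Q - 1)) * hT' -
        ((Q : ℚ) - 1) * (E.d₀ * E.a * (E.d₀ + E.a)) * h
  -- `eqA`
  have hc : -(E.d₀ : ℚ) - E.a - E.b ≠ 0 := fun h => cz _ E.ab (by push_cast; linarith)
  have hAeq := E.eqA
  rw [hv1, zA, zB] at hAeq
  push_cast at hAeq
  field_simp at hAeq
  have hfac : (E.a + E.b) * (E.b * (E.a + Q ^ 2 * E.d₀) + Q ^ 2 * (E.a + E.d₀) * E.d₀) = 0 :=
    Int.cast_injective (α := ℚ) (by push_cast; linear_combination -hAeq)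
  rcases mul_eq_zero.1 hfac with hdeg | hH2
  · -- `b = -a` is impossible
    exfalso
    have hba : E.b = -E.a := by omega
    have hbq : -(E.d₀ : ℚ) + E.a ≠ 0 := fun h => cz _ E.b1 (by rw [hba]; push_cast; linarith)
    have h0 := E.eq0
    rw [hv1, zB, hba] at h0
    push_cast at h0
    rw [one_pow, show 2 * (1 + (Q : ℚ)) - 1 - (Q : ℚ) = (Q : ℚ) + 1 by ring,
      show -(E.d₀ : ℚ) - -(E.a : ℚ) = -(E.d₀ : ℚ) + E.a by ring, sd_neg_identity hd ha hbq] at h0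
    have h0' := (div_eq_iff (mul_ne_zero (mul_ne_zero hd ha) hbq)).1 h0
    have h5 : ((Q : ℚ) - 1) * (E.d₀ + E.a) = ((Q : ℚ) + 1) * (-(E.d₀ : ℚ) + E.a) := by
      refine mul_left_cancel₀ (mul_ne_zero (mul_ne_zero hR0 hd) ha) ?_
      have h6 : ((E.a : ℚ) + Q * E.d₀) ^ 2 * Q = R * ((Q : ℚ) + 1) * (E.d₀ * E.a * (-(E.d₀ : ℚ) + E.a)) := by
        rw [h0']; field_simp
      linear_combination hT' + h6
    have haQ : E.a = Q * E.d₀ := Int.cast_injective (α := ℚ) (by push_cast; linear_combination (-1 / 2 : ℚ) * h5)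
    rw [haQ] at hH1
    have hcp : IsCoprime (Q + 1) Q := ⟨1, -1, by ring⟩
    have h8 : (Q + 1) ^ 3 ∣ 4 := by
      rcases hH1 with hH1 | ⟨-, hH1⟩
      · have h7 : E.d₀ * (Q + 1) ^ 3 * (Q - 1) = 4 * Q ^ 2 * (Q ^ 2 + Q + 1) := by
          refine mul_left_cancel₀ (mul_ne_zero (show Q ≠ 0 by omega) (pow_ne_zero 2 E.d0_ne)) ?_
          linear_combination hH1
        have hc : IsCoprime ((Q + 1) ^ 3) (Q ^ 2 * (Q ^ 2 + Q + 1)) :=
          (hcp.pow_right.mul_right (show IsCoprime (Q + 1) (Q ^ 2 + Q + 1) from ⟨-Q, 1, by ring⟩)).pow_left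
        exact hc.dvd_of_dvd_mul_right ⟨E.d₀ * (Q - 1), by linear_combination -h7⟩
      · have h7 : E.d₀ * (Q + 1) ^ 3 * (Q - 1) = 4 * Q * ((Q + 2) * (Q ^ 2 + Q - 1)) := by
          refine mul_left_cancel₀ (mul_ne_zero (show Q ≠ 0 by omega) (pow_ne_zero 2 E.d0_ne)) ?_
          linear_combination hH1
        have hc : IsCoprime ((Q + 1) ^ 3) (Q * ((Q + 2) * (Q ^ 2 + Q - 1))) :=
          (hcp.mul_right ((show IsCoprime (Q + 1) (Q + 2) from ⟨-1, 1, by ring⟩).mul_right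
            (show IsCoprime (Q + 1) (Q ^ 2 + Q - 1) from ⟨Q, -1, by ring⟩))).pow_left
        exact hc.dvd_of_dvd_mul_right ⟨E.d₀ * (Q - 1), by linear_combination -h7⟩
    have h9 : Q + 1 ∣ 4 := (dvd_pow_self _ three_ne_zero).trans h8
    have u1 := Int.le_of_dvd (by norm_num) h9
    have u2 := Int.le_of_dvd (by norm_num) (neg_dvd.2 h9)
    have hQs : Q = 3 ∨ Q = -5 := by rcases abs_cases Q with e | e <;> omega
    rcases hQs with rfl | rfl <;> norm_num at h8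
  rcases hH1 with hH1 | ⟨h27, hH1⟩
  swap
  · exact sd_two_arith hp hQ' (Int.odd_iff.2 (by omega)) h27 E.a0 E.d0_ne (by have := E.a1; omega) hu hH1 hH2
  exact sd_hom_arith hp hQ' h4 hq E.a0 E.d0_ne (by have := E.a1; omega) hu hH1 hH2

end Cfsg.Agent.Invol.AbgOrder
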