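import Mathlib

/-!
# The arithmetic behind the removal of the field automorphisms in the semidihedral case

With `(a, d) = e (p, q)` the two equations give `(Q + 1) ∣ p + Q q`, `Q - 1 = j μ` with `j ∣ 3`, and a pair `X`, `Y` with
`X Y ∣ Q² + Q + 1` and `X + Y` a multiple of `Q (Q + 1)`; so one of them is a unit and `d = 1` or `d + a + b = 1`.
-/

set_option autoImplicit false

namespace Cfsg.Agent.Invol.AbgOrder

variable {Q : ℤ}

/-- One of two numbers with `X Y ∣ T` and `Q (Q + 1) ∣ X + Y ≠ 0` is a unit. -/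
theorem unit_pair (h4 : Q % 4 = 3) (hq : 3 ≤ |Q|) {X Y i : ℤ} (hi : i ≠ 0)
    (hdvd : X * Y ∣ Q ^ 2 + Q + 1) (hsum : X + Y = Q * (Q + 1) * i) :
    (|X| = 1 ∧ Y = -(X * (Q ^ 2 + Q + 1))) ∨ (|Y| = 1 ∧ X = -(Y * (Q ^ 2 + Q + 1))) := by
  set T := Q ^ 2 + Q + 1 with hT
  have hT0 : 0 < T := by rw [hT]; nlinarith [sq_nonneg (2 * Q + 1)]
  obtain ⟨k, hk⟩ : ∃ k, T = 2 * k + 1 := by
    obtain ⟨u, hu⟩ : ∃ u, Q = 2 * u + 1 := ⟨Q / 2, by omega⟩
    exact ⟨2 * u * u + 3 * u + 1, by rw [hT, hu]; ring⟩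
  have hX0 : X ≠ 0 := by rintro rfl; rw [zero_mul] at hdvd; have := zero_dvd_iff.1 hdvd; omega
  have hY0 : Y ≠ 0 := by rintro rfl; rw [mul_zero] at hdvd; have := zero_dvd_iff.1 hdvd; omega
  have hXY : |X| * |Y| ≤ T := by
    rw [← abs_mul]; exact Int.le_of_dvd hT0 ((abs_dvd _ _).2 hdvd)
  have hXT : X ∣ T := (dvd_mul_right X Y).trans hdvd
  have hYT : Y ∣ T := (dvd_mul_left Y X).trans hdvd
  have hX2 : ¬ (2 : ℤ) ∣ X := fun h => by have := h.trans hXT; omega
  have hY2 : ¬ (2 : ℤ) ∣ Y := fun h => by have := h.trans hYT; omega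
  have hQ1 : |Q| - 1 ≤ |Q + 1| := by
    rcases abs_cases Q with u | u <;> rcases abs_cases (Q + 1) with v | v <;> omega
  have hge : |Q| * (|Q| - 1) ≤ |X| + |Y| := by
    refine le_trans ?_ (abs_add_le X Y)
    rw [hsum, abs_mul, abs_mul]
    have h1 : 1 ≤ |i| := abs_pos.2 hi
    calc |Q| * (|Q| - 1) ≤ |Q| * |Q + 1| := mul_le_mul_of_nonneg_left hQ1 (abs_nonneg Q)
      _ ≤ _ := le_mul_of_one_le_right (by positivity) h1
  have hQsq : Q ^ 2 = |Q| * |Q| := by rw [abs_mul_abs_self, pow_two]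
  have hTle : T ≤ |Q| * |Q| + |Q| + 1 := by rw [hT, hQsq]; linarith [le_abs_self Q]
  have main : ∀ X Y : ℤ, X ≠ 0 → Y ≠ 0 → ¬ (2 : ℤ) ∣ Y → |X| = 1 → Y ∣ T → |Q| * (|Q| - 1) ≤ |X| + |Y| →
      Q ∣ X + Y → Y = -(X * T) := by
    intro X Y hX0 hY0 hY2 hX hYT hge hQd
    obtain ⟨t, ht⟩ := hYT
    have ht1 : |t| = 1 := by
      have h2 : T = |Y| * |t| := by rw [← abs_mul, ← ht, abs_of_pos hT0]
      by_contra hne
      have ht3 : 2 ≤ |t| := by
        have : t ≠ 0 := fun e => by rw [e, mul_zero] at ht; omega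
        have := abs_pos.2 this
        omega
      have ht3' : 3 ≤ |t| := by
        rcases eq_or_lt_of_le ht3 with e | e
        · rw [← e] at h2; omega
        · omega
      have h3 := mul_le_mul_of_nonneg_left ht3' (abs_nonneg Y)
      rcases (show |Q| = 3 ∨ 4 ≤ |Q| by omega) with e | e
      · have : Q = 3 := by rcases abs_cases Q with u | u <;> omega
        subst this
        norm_num at hT hge
        omega
      · nlinarith
    have hYv : Y = T ∨ Y = -T := by
      rcases (abs_eq (show (0 : ℤ) ≤ 1 by norm_num)).1 ht1 with e | e <;> rw [e] at ht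
      · exact Or.inl (by linarith)
      · exact Or.inr (by linarith)
    have hQT : Q ∣ T - 1 := ⟨Q + 1, by rw [hT]; ring⟩
    rcases (abs_eq (show (0 : ℤ) ≤ 1 by norm_num)).1 hX with rfl | rfl <;> rcases hYv with rfl | rfl
    · exfalso
      have h2 : Q ∣ 2 := by
        have := dvd_sub hQd hQT
        rwa [show 1 + T - (T - 1) = 2 by ring] at this
      have h5 := Int.le_of_dvd (by norm_num) h2
      have h6 := Int.le_of_dvd (by norm_num) (neg_dvd.2 h2)
      rcases abs_cases Q with u | u <;> omega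
    · ring
    · ring
    · exfalso
      have h2 : Q ∣ 2 := by
        have := dvd_add hQd hQT
        rw [show -1 + -T + (T - 1) = -2 by ring] at this
        exact dvd_neg.1 this
      have h5 := Int.le_of_dvd (by norm_num) h2
      have h6 := Int.le_of_dvd (by norm_num) (neg_dvd.2 h2)
      rcases abs_cases Q with u | u <;> omega
  by_cases hX1 : |X| = 1
  · exact Or.inl ⟨hX1, main X Y hX0 hY0 hY2 hX1 hYT hge (by rw [hsum, mul_assoc]; exact dvd_mul_right _ _)⟩
  by_cases hY1 : |Y| = 1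
  · exact Or.inr ⟨hY1, main Y X hY0 hX0 hX2 hY1 hXT (by linarith)
      (by rw [add_comm, hsum, mul_assoc]; exact dvd_mul_right _ _)⟩
  exfalso
  have hX3 : 3 ≤ |X| := by rcases abs_cases X with u | u <;> omega
  have hY3 : 3 ≤ |Y| := by rcases abs_cases Y with u | u <;> omega
  rcases (show |Q| = 3 ∨ 4 ≤ |Q| by omega) with e | e
  · have : Q = 3 := by rcases abs_cases Q with u | u <;> omega
    subst this
    norm_num at hT hge
    have hX4 : |X| ≤ 4 := by nlinarith
    have hY4 : |Y| ≤ 4 := by nlinarith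
    norm_num [T] at hXT hYT
    rcases abs_cases X with u | u <;>
      rcases (show X = 3 ∨ X = -3 ∨ X = 4 ∨ X = -4 by omega) with rfl | rfl | rfl | rfl <;> first | omega | norm_num at hXT
  · nlinarith [mul_nonneg (show (0 : ℤ) ≤ |X| - 3 by omega) (show (0 : ℤ) ≤ |Y| - 3 by omega)]

/-- `d = 1` or `d + a + b = 1`. -/
theorem sd_hom_arith {l n : ℕ} (hl : l.Prime) (hQ : Q.natAbs = l ^ n) (h4 : Q % 4 = 3) (hq : 3 ≤ |Q|)
    {a b d : ℤ} (ha : a ≠ 0) (hd : d ≠ 0) (had : a + d ≠ 0) (hu : a + Q * d ≠ 0)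
    (hH1 : a * (a + d) * d * ((Q + 1) ^ 2 * (Q - 1)) = Q * (Q ^ 2 + Q + 1) * (a + Q * d) ^ 2)
    (hH2 : b * (a + Q ^ 2 * d) + Q ^ 2 * (a + d) * d = 0) : d = 1 ∨ d + a + b = 1 := by
  set T := Q ^ 2 + Q + 1 with hT
  have hT0 : T ≠ 0 := by rw [hT]; nlinarith [sq_nonneg (2 * Q + 1)]
  have hQ0 : Q ≠ 0 := by omega
  have hQ1 : Q + 1 ≠ 0 := by rcases abs_cases Q with u | u <;> omega
  have hm0 : Q - 1 ≠ 0 := by omega
  -- lowest terms
  obtain ⟨e, p, q, he, hco, hea, hed⟩ := Int.exists_gcd_one' (m := a) (n := d) (Int.gcd_pos_iff.2 (Or.inl ha))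
  have hpq : IsCoprime p q := Int.isCoprime_iff_gcd_eq_one.2 hco
  have he0 : (e : ℤ) ≠ 0 := by exact_mod_cast he.ne'
  have hp0 : p ≠ 0 := by rintro rfl; exact ha (by rw [hea, zero_mul])
  have hq0 : q ≠ 0 := by rintro rfl; exact hd (by rw [hed, zero_mul])
  have hpq0 : p + q ≠ 0 := fun u => had (by rw [hea, hed]; linear_combination (e : ℤ) * u)
  have hR0 : p + Q * q ≠ 0 := fun u => hu (by rw [hea, hed]; linear_combination (e : ℤ) * u)
  have E0 : (e : ℤ) * (p * (p + q) * q) * ((Q + 1) ^ 2 * (Q - 1)) = Q * T * (p + Q * q) ^ 2 := by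
    refine mul_left_cancel₀ (pow_ne_zero 2 he0) ?_
    rw [hea, hed] at hH1
    linear_combination hH1
  have E2 : b * (p + Q ^ 2 * q) + Q ^ 2 * (p + q) * q * e = 0 := by
    refine mul_left_cancel₀ he0 ?_
    rw [hea, hed] at hH2
    linear_combination hH2
  -- `Q + 1 ∣ p + Q q`
  have hcQT : IsCoprime (Q + 1) (Q * T) := ⟨Q ^ 2 + 1, -1, by rw [hT]; ring⟩
  obtain ⟨k, hk⟩ : Q + 1 ∣ p + Q * q := by
    refine (Int.pow_dvd_pow_iff two_ne_zero).1 ((hcQT.pow_left (m := 2)).dvd_of_dvd_mul_left ?_)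
    exact ⟨(e : ℤ) * (p * (p + q) * q) * (Q - 1), by linear_combination -E0⟩
  have hk0 : k ≠ 0 := fun u => hR0 (by rw [hk, u, mul_zero])
  have E1 : (e : ℤ) * (p * (p + q) * q) * (Q - 1) = Q * T * k ^ 2 := by
    refine mul_left_cancel₀ (pow_ne_zero 2 hQ1) ?_
    rw [hk] at E0
    linear_combination E0
  -- `Q - 1 = j μ`, `k = μ κ`, `j ∣ 3`
  obtain ⟨j, μ, κ, hj, hjμ, hkμ, hjκ⟩ : ∃ j μ κ : ℤ, (j = 1 ∨ j = 3) ∧ Q - 1 = j * μ ∧ k = μ * κ ∧
      IsCoprime j κ := by
    obtain ⟨g, m', k', hg, hco', hm', hk'⟩ := Int.exists_gcd_one' (m := Q - 1) (n := k)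
      (Int.gcd_pos_iff.2 (Or.inl hm0))
    have hc : IsCoprime m' k' := Int.isCoprime_iff_gcd_eq_one.2 hco'
    obtain ⟨s', hs'⟩ : (g : ℤ) ∣ p + q := ⟨(Q + 1) * k' - m' * q, by
      linear_combination hk - q * hm' + (Q + 1) * hk'⟩
    have h1 : m' ∣ Q * T := by
      refine (hc.pow_right (n := 2)).dvd_of_dvd_mul_right ⟨(e : ℤ) * (p * s' * q), ?_⟩
      refine mul_left_cancel₀ (pow_ne_zero 2 (show (g : ℤ) ≠ 0 by exact_mod_cast hg.ne')) ?_
      rw [hm', hk', hs'] at E1
      linear_combination -E1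
    have h3 : m' ∣ 3 := by
      have hmQ : m' ∣ Q - 1 := ⟨g, hm'⟩
      have := dvd_sub h1 (dvd_mul_of_dvd_left hmQ (Q ^ 2 + 2 * Q + 3))
      rwa [show Q * T - (Q - 1) * (Q ^ 2 + 2 * Q + 3) = 3 by rw [hT]; ring] at this
    have u1 := Int.le_of_dvd (by norm_num) h3
    have u2 := Int.le_of_dvd (by norm_num) (neg_dvd.2 h3)
    rcases (show m' = 1 ∨ m' = 3 ∨ m' = -1 ∨ m' = -3 ∨ m' = 0 ∨ m' = 2 ∨ m' = -2 by omega) with
      h | h | h | h | h | h | h
    · exact ⟨1, g, k', Or.inl rfl, by rw [hm', h], by rw [hk', mul_comm], isCoprime_one_left⟩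
    · exact ⟨3, g, k', Or.inr rfl, by rw [hm', h], by rw [hk', mul_comm], h ▸ hc⟩
    · exact ⟨1, -g, -k', Or.inl rfl, by rw [hm', h]; ring, by rw [hk']; ring, isCoprime_one_left⟩
    · exact ⟨3, -g, -k', Or.inr rfl, by rw [hm', h]; ring, by rw [hk']; ring, (h ▸ hc).neg_neg⟩
    all_goals rw [h] at h3; norm_num at h3
  have hμ0 : μ ≠ 0 := fun u => hm0 (by rw [hjμ, u, mul_zero])
  set s := (Q + 1) * κ - j * q with hs
  have hps : p + q = μ * s := by rw [hs]; linear_combination hk + (Q + 1) * hkμ - q * hjμ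
  have E1' : j * e * q * p * s = Q * T * κ ^ 2 := by
    refine mul_left_cancel₀ (pow_ne_zero 2 hμ0) ?_
    rw [hps, hjμ, hkμ] at E1
    linear_combination E1
  have hκ0 : κ ≠ 0 := fun u => hk0 (by rw [hkμ, u, mul_zero])
  have hR : p + Q * q = (Q + 1) * μ * κ := by rw [hk, hkμ]; ring
  have hqs : IsCoprime q s := by
    obtain ⟨x, y, hxy⟩ := hpq
    exact ⟨y - x, x * μ, by linear_combination hxy - x * hps⟩
  have hqκ : IsCoprime q κ := by
    obtain ⟨x, y, hxy⟩ := hpq
    exact ⟨y - x * Q, x * (Q + 1) * μ, by linear_combination hxy - x * hR⟩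
  have hsκ : IsCoprime s κ := by
    have h1 : IsCoprime (j * q) κ := hjκ.mul_left hqκ
    have h2 := h1.neg_left.add_mul_right_left (Q + 1)
    rwa [show -(j * q) + (Q + 1) * κ = s by rw [hs]; ring] at h2
  have hQμ : IsCoprime Q μ := by
    have h1 : IsCoprime Q (j * μ) := hjμ ▸ ⟨1, -1, by ring⟩
    exact h1.of_mul_right_right
  have hjQ : IsCoprime j Q := by
    have h1 : IsCoprime Q (j * μ) := hjμ ▸ ⟨1, -1, by ring⟩
    exact h1.of_mul_right_left.symm
  have hlp := Nat.prime_iff_prime_int.1 hl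
  have cpQ : ∀ {z : ℤ}, ¬ (l : ℤ) ∣ z → IsCoprime z Q := fun {z} hz => by
    have h5 := (hlp.coprime_iff_not_dvd.2 hz).symm.pow_right (n := n)
    rcases Int.natAbs_eq Q with u | u <;> rw [u, hQ] <;> push_cast
    · exact h5
    · exact h5.neg_right
  have hn0 : n ≠ 0 := fun u => by rw [u, pow_zero] at hQ; rcases abs_cases Q with v | v <;> omega
  have hlQ : (l : ℤ) ∣ Q := Int.natCast_dvd.2 (hQ ▸ dvd_pow_self _ hn0)
  by_cases hA : Q ∣ p
  · -- the pair `j q`, `s`
    have hlp' : (l : ℤ) ∣ p := hlQ.trans hA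
    have hlq : ¬ (l : ℤ) ∣ q := fun u => hlp.not_isUnit (hpq.isUnit_of_dvd' hlp' u)
    have hls : ¬ (l : ℤ) ∣ s := fun u => hlq (by
      have := dvd_sub (u.mul_left μ) hlp'
      rwa [← hps, add_sub_cancel_left] at this)
    have hQκ : Q ∣ κ := by
      have h1 : Q ∣ (Q + 1) * μ * κ := hR ▸ dvd_add hA (dvd_mul_right Q q)
      exact (IsCoprime.mul_right (x := Q) ⟨-1, 1, by ring⟩ hQμ).dvd_of_dvd_mul_left h1
    obtain ⟨i, hi⟩ := hQκ
    have hdvd : j * q * s ∣ T := by
      have h1 : j * q * s ∣ Q * T * κ ^ 2 := ⟨(e : ℤ) * p, by linear_combination -E1'⟩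
      have h2 : IsCoprime (j * q * s) (κ ^ 2) := ((hjκ.mul_left hqκ).mul_left hsκ).pow_right
      have h3 : IsCoprime (j * q * s) Q := (hjQ.mul_left (cpQ hlq)).mul_left (cpQ hls)
      exact h3.dvd_of_dvd_mul_left (h2.dvd_of_dvd_mul_right h1)
    rcases unit_pair h4 hq (X := j * q) (Y := s) (i := i) (fun u => hκ0 (by rw [hi, u, mul_zero])) hdvd
      (by rw [hs, hi]; ring) with ⟨h, hY⟩ | ⟨h, hX⟩
    · -- `d = 1`
      left
      have hj1 : j = 1 := by
        rcases hj with rfl | rfl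
        · rfl
        · rw [abs_mul] at h; norm_num at h; omega
      subst hj1
      rw [one_mul] at h hY hjμ
      subst hjμ
      have hq2 : q * q = 1 := by rw [← abs_mul_abs_self q, h, one_mul]
      have hp' : p = -(q * Q ^ 3) := by rw [hY] at hps; linear_combination hps
      have hκ : κ = -(q * Q) := by
        refine mul_left_cancel₀ hQ1 ?_
        rw [hs] at hY; linear_combination hY
      have he1 : q * (e : ℤ) = 1 := by
        refine mul_left_cancel₀ (mul_ne_zero (pow_ne_zero 3 hQ0) hT0) ?_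
        rw [hp', hY, hκ] at E1'
        linear_combination E1' + (T * Q ^ 3 * (1 - q * (e : ℤ))) * hq2
      rw [hed]; linarith
    · -- impossible
      exfalso
      have hs2 : s * s = 1 := by rw [← abs_mul_abs_self s, h, one_mul]
      have hjp : j * p = s * (Q * (Q + 2)) := by
        linear_combination j * hps - s * hjμ - hX
      have hκ : κ = -(s * Q) := by
        refine mul_left_cancel₀ hQ1 ?_
        linear_combination hX - hs
      have h5 : -(s * (e : ℤ) * (Q + 2)) = j * Q ^ 2 := by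
        refine mul_left_cancel₀ (mul_ne_zero hQ0 hT0) ?_
        have h6 : (j * p) * (j * q) * e * s = j * (Q * T * κ ^ 2) := by linear_combination j * E1'
        rw [hjp, hX, hκ] at h6
        linear_combination h6 + (Q * T * (s * (e : ℤ) * (Q + 2) + j * Q ^ 2)) * hs2
      have h7 : Q + 2 ∣ j := by
        obtain ⟨u, hu⟩ : ∃ u, Q = 2 * u + 1 := ⟨Q / 2, by omega⟩
        have hc : IsCoprime (Q + 2) (Q ^ 2) := (show IsCoprime (Q + 2) Q from ⟨-u, u + 1, by rw [hu]; ring⟩).pow_right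
        exact hc.dvd_of_dvd_mul_right ⟨-(s * (e : ℤ)), by linear_combination -h5⟩
      rcases hj with rfl | rfl
      · have := Int.le_of_dvd (by norm_num) h7
        have := Int.le_of_dvd (by norm_num) (neg_dvd.2 h7)
        rcases abs_cases Q with v | v <;> omega
      · have := Int.le_of_dvd (by norm_num) h7
        have := Int.le_of_dvd (by norm_num) (neg_dvd.2 h7)
        obtain rfl : Q = -5 := by rcases abs_cases Q with v | v <;> omega
        norm_num at hX hjp h5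
        rcases (abs_eq (show (0 : ℤ) ≤ 1 by norm_num)).1 h with hs1 | hs1 <;> rw [hs1] at hX hjp h5 <;>
          norm_num at hX hjp h5
        all_goals
          have e1 : p = 5 := by omega
          have e2 : q = -7 := by omega
          have e3 : (e : ℤ) = 25 := by omega
          rw [e1, e2, e3] at E2
          norm_num at E2
          omega
  · -- the pair `j p₁`, `D`
    obtain ⟨i, hin, hi⟩ : ∃ i : ℕ, i ≤ n ∧ (Int.gcd p Q) = l ^ i := by
      have h1 : Int.gcd p Q ∣ l ^ n := hQ ▸ Int.natCast_dvd.1 (Int.gcd_dvd_right p Q)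
      exact (Nat.dvd_prime_pow hl).1 h1
    set P := ((l : ℤ) ^ i) with hP
    have hP0 : P ≠ 0 := pow_ne_zero _ (by exact_mod_cast hl.ne_zero)
    have hPQ : P ∣ Q := by
      rw [hP]; exact_mod_cast hi ▸ Int.gcd_dvd_right p Q
    obtain ⟨p1, hp1⟩ : P ∣ p := by rw [hP]; exact_mod_cast hi ▸ Int.gcd_dvd_left p Q
    obtain ⟨M, hM⟩ := hPQ
    have hilt : i < n := by
      refine lt_of_le_of_ne hin fun u => hA ?_
      have h1 : (Q.natAbs : ℤ) ∣ p := by
        rw [hQ, ← u, ← hi]; exact Int.gcd_dvd_left p Q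
      exact Int.natAbs_dvd.1 h1
    have hlM : (l : ℤ) ∣ M := by
      have h1 : (l : ℤ) ^ (i + 1) ∣ P * M := by
        rw [← hM, ← Int.dvd_natAbs, hQ]; exact_mod_cast pow_dvd_pow l hilt
      rw [pow_succ, ← hP] at h1
      exact (mul_dvd_mul_iff_left hP0).1 h1
    have hlp1 : ¬ (l : ℤ) ∣ p1 := fun u => by
      have h1 : (l : ℤ) ^ (i + 1) ∣ (Int.gcd p Q : ℤ) := Int.dvd_coe_gcd
        (by rw [hp1, pow_succ, ← hP]; exact mul_dvd_mul_left P u)
        (by rw [hM, pow_succ, ← hP]; exact mul_dvd_mul_left P hlM)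
      rw [hi] at h1
      have h2 : l ^ (i + 1) ∣ l ^ i := by exact_mod_cast h1
      have := (Nat.pow_dvd_pow_iff_le_right hl.one_lt).1 h2
      omega
    obtain ⟨κ1, hκ1⟩ : P ∣ κ := by
      have h1 : P ∣ (Q + 1) * μ * κ := hR ▸ dvd_add ⟨p1, hp1⟩ (dvd_mul_of_dvd_left ⟨M, hM⟩ q)
      have hc : IsCoprime Q ((Q + 1) * μ) := IsCoprime.mul_right (x := Q) ⟨-1, 1, by ring⟩ hQμ
      exact (hc.of_isCoprime_of_dvd_left ⟨M, hM⟩).dvd_of_dvd_mul_left h1
    set D := (Q + 1) * κ1 + M * (j * q) with hD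
    have hPD : P * D = s + (Q + 1) * (j * q) := by
      rw [hs, hD]; linear_combination -(Q + 1) * hκ1 - j * q * hM
    have hD0 : p + Q ^ 2 * q = μ * (P * D) := by
      rw [hPD]; linear_combination hps + (Q + 1) * q * hjμ
    have hμD : μ * D = p1 + Q * M * q := mul_left_cancel₀ hP0 (by linear_combination -hD0 + hp1 + Q * q * hM)
    have hlD : ¬ (l : ℤ) ∣ D := fun u => hlp1 (by
      have := dvd_sub (u.mul_left μ) ((hlQ.mul_right M).mul_right q)
      rwa [hμD, add_sub_cancel_right] at this)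
    have hκ10 : κ1 ≠ 0 := fun u => hκ0 (by rw [hκ1, u, mul_zero])
    have hp1q : IsCoprime p1 q := hpq.of_isCoprime_of_dvd_left ⟨P, by rw [hp1, mul_comm]⟩
    have hjκ1 : IsCoprime j κ1 := hjκ.of_isCoprime_of_dvd_right ⟨P, by rw [hκ1, mul_comm]⟩
    have hqκ1 : IsCoprime q κ1 := hqκ.of_isCoprime_of_dvd_right ⟨P, by rw [hκ1, mul_comm]⟩
    have hpκ1 : IsCoprime p1 κ1 := by
      have hMQ : IsCoprime p1 (M * q) := ((cpQ hlp1).of_isCoprime_of_dvd_right ⟨P, by rw [hM, mul_comm]⟩).mul_right hp1q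
      obtain ⟨x, y, hxy⟩ := hMQ
      have h1 : p1 + M * q = (Q + 1) * μ * κ1 :=
        mul_left_cancel₀ hP0 (by linear_combination hR - hp1 - q * hM + (Q + 1) * μ * hκ1)
      exact ⟨x - y, y * (Q + 1) * μ, by linear_combination hxy - y * h1⟩
    have hDκ1 : IsCoprime D κ1 := by
      have h1 : IsCoprime (M * (j * q)) κ1 := by
        refine IsCoprime.mul_left ?_ (hjκ1.mul_left hqκ1)
        refine (IsCoprime.of_isCoprime_of_dvd_left ?_ (⟨P, by rw [hM, mul_comm]⟩ : M ∣ Q))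
        refine (cpQ ?_).symm
        intro u
        exact hlD (dvd_add (u.mul_left _) (hlM.mul_right _))
      have h2 := h1.add_mul_right_left (Q + 1)
      rwa [add_comm] at h2
    have hdvd : j * p1 * D ∣ T := by
      have h1 : j * p1 * D ∣ Q ^ 3 * T * κ1 ^ 2 := by
        refine (mul_dvd_mul_iff_left (mul_ne_zero hP0 hP0)).1 ?_
        have h0 : Q ^ 2 * s * q * e + b * (P * D) = 0 := by
          refine mul_left_cancel₀ hμ0 ?_
          rw [hD0, hps] at E2
          linear_combination E2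
        refine ⟨-b, ?_⟩
        rw [hp1, hκ1] at E1'
        linear_combination -Q ^ 2 * E1' + j * (P * p1) * h0
      have h2 : IsCoprime (j * p1 * D) (κ1 ^ 2) := ((hjκ1.mul_left hpκ1).mul_left hDκ1).pow_right
      have h3 : IsCoprime (j * p1 * D) (Q ^ 3) := ((hjQ.mul_left (cpQ hlp1)).mul_left (cpQ hlD)).pow_right
      exact h3.dvd_of_dvd_mul_left (h2.dvd_of_dvd_mul_right h1)
    have hsum : j * p1 + D = Q * (Q + 1) * κ1 := by
      refine mul_left_cancel₀ hP0 ?_
      rw [mul_add, hPD]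
      linear_combination j * (hps - hp1) - s * hjμ - Q * hs + Q * (Q + 1) * hκ1
    rcases unit_pair h4 hq (X := j * p1) (Y := D) (i := κ1) hκ10 hdvd hsum with ⟨h, hY⟩ | ⟨h, hX⟩
    · -- `d + a + b = 1`
      right
      have hj1 : j = 1 := by
        rcases hj with rfl | rfl
        · rfl
        · rw [abs_mul] at h; norm_num at h; omega
      subst hj1
      rw [one_mul] at h hY hjμ
      subst hjμ
      have hq' : q = -(P * (p1 * Q)) := by
        refine mul_left_cancel₀ (pow_ne_zero 2 hQ0) ?_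
        rw [hY] at hD0
        linear_combination hD0 - hp1
      have hP1 : P = 1 := by
        rcases Nat.eq_zero_or_pos i with u | u
        · rw [hP, u, pow_zero]
        · exfalso
          have hlP : (l : ℤ) ∣ P := hP ▸ dvd_pow_self _ u.ne'
          exact hlp.not_isUnit (hpq.isUnit_of_dvd' (hp1 ▸ hlP.mul_right p1) (hq' ▸ (hlP.mul_right _).neg_right))
      rw [hP1, one_mul] at hp1 hq' hκ1
      subst hp1
      have hp2 : p * p = 1 := by rw [← abs_mul_abs_self p, h, one_mul]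
      have hs' : s = -p := mul_left_cancel₀ hm0 (by rw [hq'] at hps; linear_combination -hps)
      have hκ : κ = -p := mul_left_cancel₀ hQ1 (by rw [hs'] at hs; rw [hq'] at hs; linear_combination -hs)
      have he1 : (e : ℤ) = p * T := by
        refine mul_left_cancel₀ hQ0 ?_
        rw [hq', hs', hκ] at E1'
        linear_combination p * E1' + ((-(e : ℤ) * Q) * (p * p + 1) + p * Q * T) * hp2
      have hb : b = Q ^ 3 := by
        have h3 : 1 - Q ^ 3 ≠ 0 := by
          rw [show 1 - Q ^ 3 = (Q - 1) * -T by rw [hT]; ring]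
          exact mul_ne_zero hm0 (neg_ne_zero.2 hT0)
        refine mul_left_cancel₀ h3 ?_
        rw [hq', he1] at E2
        rw [hT] at E2
        linear_combination p * E2 - b * (1 - Q ^ 3) * hp2 + (Q ^ 3 * (1 - Q) * (Q ^ 2 + Q + 1)) * (p * p + 1) * hp2
      rw [hea, hed, hb, he1, hq']
      rw [hT]
      linear_combination (Q ^ 2 + Q + 1) * (1 - Q) * hp2
    · -- impossible
      exfalso
      have h1 : j * (Q * q) = P * D * (Q + 2) := by
        refine mul_left_cancel₀ hQ0 ?_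
        linear_combination j * hD0 - j * hp1 - P * hX - P * D * hjμ
      have hc : IsCoprime Q (D * (Q + 2)) := by
        refine (cpQ hlD).symm.mul_right ?_
        obtain ⟨u, hu⟩ : ∃ u, Q = 2 * u + 1 := ⟨Q / 2, by omega⟩
        exact ⟨u + 1, -u, by rw [hu]; ring⟩
      have h2 : Q ∣ P := hc.dvd_of_dvd_mul_right ⟨j * q, by linear_combination -h1⟩
      exact hA (h2.trans ⟨p1, hp1⟩)

end Cfsg.Agent.Invol.AbgOrder
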