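import Cfsg.Agent.Lib.Invol.BrauerL3.AlgWr

/-!
# The wreathed equations without the odd prime function

With `t = y / x` the equations for the vectors `A`, `o`, `F`, `M`, `W` give `b (a + t²) = -(a + 1) t²`; the vector `f1`
gives `x = b`, hence `a = t³`, and `X = B + 2 (Q + 1)`, hence `t = -Q`.  Neither a prime power nor local data is used.
-/

set_option autoImplicit false

namespace Cfsg.Agent.Invol.AbgOrder

open BrauerL3 (two_terms three_terms)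

/-- The equations in the wreathed case: no equation for a character `θ` of order four. -/
structure WrEqsF (Q : ℤ) (R : ℚ) where
  /-- degree of `a` -/
  a : ℤ
  /-- degree of `b` -/
  b : ℤ
  /-- degree of `x` -/
  x : ℤ
  /-- degree of `y` -/
  y : ℤ
  /-- value of `a` -/
  A : ℤ
  /-- value of `b` -/
  B : ℤ
  /-- value of `x` -/
  X : ℤ
  /-- value of `y` -/
  Y : ℤ
  a0 : a ≠ 0
  a1 : a ≠ -1
  b0 : b ≠ 0
  b1 : b ≠ -1
  ab : a + b ≠ -1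
  x0 : x ≠ 0
  y0 : y ≠ 0
  xy : x ≠ y
  sum_d : a + x + y = -1
  sum_v : A + X + Y = -1
  eqA : 1 + (A : ℚ) ^ 2 / a + (B : ℚ) ^ 2 / b + (-1 - (A : ℚ) - B) ^ 2 / (-1 - (a : ℚ) - b) = 0
  eq0 : 1 + (B : ℚ) ^ 2 / b + (-1 - (B : ℚ)) ^ 2 / (-1 - (b : ℚ)) =
    R * (((Q : ℚ) - 1) ^ 2 / (Q * (Q + 1)))
  eqF : 1 + (A : ℚ) ^ 2 / a + (2 * (1 - (Q : ℚ)) - 1 - A) ^ 2 / (-1 - (a : ℚ)) = R * (((Q : ℚ) - 1) / Q)
  eqM : 1 + (A : ℚ) ^ 2 / a + (X : ℚ) ^ 2 / x + (Y : ℚ) ^ 2 / y = 0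
  eqW : -((X : ℚ) ^ 2 / x) + (Y : ℚ) ^ 2 / y + ((X : ℚ) - Y) ^ 2 / ((x : ℚ) - y) =
    R * (((Q : ℚ) - 1) ^ 2 / (Q * (Q + 1)))

namespace WrEqsF

variable {Q : ℤ} {R : ℚ} (E : WrEqsF Q R)

theorem casts (h1 : Q ≠ 1) (h0 : Q ≠ 0) (hm : Q ≠ -1) :
    (E.a : ℚ) ≠ 0 ∧ (E.a : ℚ) + 1 ≠ 0 ∧ (E.b : ℚ) ≠ 0 ∧ (E.b : ℚ) + 1 ≠ 0 ∧ (-1 - (E.a : ℚ) - E.b) ≠ 0 ∧
      (E.x : ℚ) ≠ 0 ∧ (E.y : ℚ) ≠ 0 ∧ (E.x : ℚ) - E.y ≠ 0 ∧ (Q : ℚ) ≠ 0 ∧ (Q : ℚ) - 1 ≠ 0 ∧ (Q : ℚ) + 1 ≠ 0 := by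
  have cz : ∀ z : ℤ, z ≠ 0 → (z : ℚ) ≠ 0 := fun z hz => Int.cast_ne_zero.2 hz
  have h := cz _ (show E.a + 1 ≠ 0 by have := E.a1; omega)
  have h' := cz _ (show E.b + 1 ≠ 0 by have := E.b1; omega)
  have h'' := cz _ (show -1 - E.a - E.b ≠ 0 by have := E.ab; omega)
  have h3 := cz _ (sub_ne_zero.2 E.xy)
  have h4 := cz _ (sub_ne_zero.2 h1)
  have h5 := cz _ (show Q + 1 ≠ 0 by omega)
  push_cast at h h' h'' h3 h4 h5
  exact ⟨cz _ E.a0, h, cz _ E.b0, h', h'', cz _ E.x0, cz _ E.y0, h3, cz _ h0, h4, h5⟩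

/-- What the five equations give: `u ≠ 0`, `R` and the three relations in `t = y / x`. -/
theorem key (hR : R ≠ 0) (h1 : Q ≠ 1) (h0 : Q ≠ 0) (hm : Q ≠ -1) :
    ∃ t : ℚ, (E.y : ℚ) = t * E.x ∧ t ≠ 1 ∧ t ≠ -1 ∧ t ≠ 0 ∧ (E.a : ℚ) - E.A ≠ 0 ∧
      ((Q : ℚ) + t) * ((E.a : ℚ) - E.A) ^ 2 = 2 * (((Q : ℚ) - 1) ^ 2 * E.a * (Q + E.A)) * (1 - t) ∧
      (E.b : ℚ) * (E.a + t ^ 2) = -(((E.a : ℚ) + 1) * t ^ 2) ∧
      (E.a : ℚ) * ((E.B : ℚ) - E.b) * (1 - t) = t * (E.b + 1) * (E.a - E.A) ∧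
      (E.a : ℚ) * R * ((Q : ℚ) - 1) ^ 2 * (E.x - E.y) = ((E.a : ℚ) - E.A) ^ 2 * (Q * (Q + 1)) := by
  obtain ⟨ha, ha', hb, hb', hc, hx, hy, hxy, hq, hq1, hq2⟩ := E.casts h1 h0 hm
  have hsd : (E.a : ℚ) + E.x + E.y = -1 := by exact_mod_cast E.sum_d
  have hsv : (E.A : ℚ) + E.X + E.Y = -1 := by exact_mod_cast E.sum_v
  have ha1 : (E.a : ℚ) ≠ -1 := fun e => ha' (by rw [e]; ring)
  set u := (E.a : ℚ) - E.A with hu
  set P := 4 * ((Q : ℚ) - 1) * E.a * (Q + E.A) - u ^ 2 with hP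
  -- `eqF`
  have hF : (Q : ℚ) * P = R * ((Q : ℚ) - 1) * E.a * (-1 - E.a) := by
    have h := E.eqF
    have he : -1 - (E.a : ℚ) ≠ 0 := fun e => ha' (by linarith)
    field_simp at h
    rw [hP, hu]
    linear_combination h
  -- `eqM`, `eqW`
  have hM := three_terms ha ha1 hx hy hsd hsv E.eqM
  have hW : ((E.X : ℚ) * E.y - E.x * E.Y) ^ 2 =
      R * (((Q : ℚ) - 1) ^ 2 / (Q * (Q + 1))) * (E.x * E.y * (E.x - E.y)) := by
    rw [← E.eqW]; field_simp; ring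
  have hxy' : (E.a : ℚ) * R * ((Q : ℚ) - 1) ^ 2 * (E.x - E.y) = u ^ 2 * (Q * (Q + 1)) := by
    rw [hW] at hM
    refine mul_left_cancel₀ (mul_ne_zero hx hy) ?_
    have hk : R * (((Q : ℚ) - 1) ^ 2 / (Q * (Q + 1))) * (Q * (Q + 1)) = R * ((Q : ℚ) - 1) ^ 2 := by field_simp
    linear_combination ((Q : ℚ) * (Q + 1)) * hM - (E.a : ℚ) * ((E.x : ℚ) * E.y * (E.x - E.y)) * hk
  have hu0 : u ≠ 0 := fun e => by
    rw [e] at hxy'
    simp [ha, hR, hq1, hxy] at hxy'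
  set S := u ^ 2 + 2 * (((Q : ℚ) - 1) ^ 2 * E.a * (Q + E.A)) with hS
  have hlin : (E.x : ℚ) * ((Q : ℚ) * u ^ 2 - 2 * (((Q : ℚ) - 1) ^ 2 * E.a * (Q + E.A))) + E.y * S = 0 := by
    refine mul_left_cancel₀ (mul_ne_zero (two_ne_zero' ℚ) hq) ?_
    rw [hS]
    have he : (E.x : ℚ) + E.y = -1 - E.a := by linarith
    linear_combination (((Q : ℚ) + 1) * u ^ 2 * Q) * he - (-1 - (E.a : ℚ)) * hxy' -
      ((Q : ℚ) - 1) * (E.x - E.y) * hF + ((Q : ℚ) - 1) * (E.x - E.y) * Q * hP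
  have hS0 : S ≠ 0 := fun e => by
    rw [e, mul_zero, add_zero] at hlin
    have h2 := (mul_eq_zero.1 hlin).resolve_left hx
    have h3 : ((Q : ℚ) + 1) * u ^ 2 = 0 := by rw [hS] at e; linear_combination h2 + e
    exact mul_ne_zero hq2 (pow_ne_zero 2 hu0) h3
  set t := (E.y : ℚ) / E.x with ht
  have hyt : (E.y : ℚ) = t * E.x := by rw [ht]; field_simp
  have ht0 : t ≠ 0 := div_ne_zero hy hx
  have htS : (Q : ℚ) * u ^ 2 - 2 * (((Q : ℚ) - 1) ^ 2 * E.a * (Q + E.A)) = -(t * S) := by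
    refine mul_left_cancel₀ hx ?_
    rw [hyt] at hlin
    linear_combination hlin
  have ht1 : t ≠ 1 := fun e => hxy (by rw [hyt, e]; ring)
  have ht2 : t ≠ -1 := fun e => ha' (by rw [hyt, e] at hsd; linarith)
  have hS1 : ((Q : ℚ) + 1) * u ^ 2 = S * (1 - t) := by rw [hS] at htS ⊢; linear_combination htS
  have hS2 : ((Q : ℚ) - 1) * P = S * (1 + t) := by rw [hP, hS] at *; linear_combination -htS
  -- `eqA`, `eq0`
  have hA3 := three_terms (C := -1 - (E.A : ℚ) - E.B) ha ha1 hb hc (by ring) (by ring) E.eqA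
  have h0' := E.eq0
  rw [two_terms hb (fun e => hb' (by rw [e]; ring)), div_eq_iff (mul_ne_zero hb hb')] at h0'
  set D := (E.B : ℚ) - E.b
  have hD2 : ((Q : ℚ) + 1) * E.a * (E.a + 1) * D ^ 2 = -(((Q : ℚ) - 1) * P * E.b * (E.b + 1)) := by
    have hk : R * (((Q : ℚ) - 1) ^ 2 / (Q * (Q + 1))) * (Q * (Q + 1)) = R * ((Q : ℚ) - 1) ^ 2 := by field_simp
    refine mul_left_cancel₀ hq ?_
    rw [h0']
    linear_combination (E.a : ℚ) * (E.a + 1) * ((E.b : ℚ) * (E.b + 1)) * hk +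
      (((Q : ℚ) - 1) * (E.b : ℚ) * (E.b + 1)) * hF
  have hDlin : ((Q : ℚ) + 1) * E.a * u * D = ((E.b : ℚ) + 1) * (t * S) := by
    refine mul_left_cancel₀ (mul_ne_zero (mul_ne_zero (two_ne_zero' ℚ) ha') hb) ?_
    simp only [D, hu] at hA3 ⊢ hD2
    linear_combination ((Q : ℚ) + 1) * hA3 - ((E.a : ℚ) + 1) * hD2 -
      ((E.a : ℚ) + 1) * E.b * (E.b + 1) * hS1 + ((E.a : ℚ) + 1) * E.b * (E.b + 1) * hS2
  refine ⟨t, hyt, ht1, ht2, ht0, hu0, by linear_combination htS + t * hS, ?_, ?_, hxy'⟩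
  · refine mul_left_cancel₀ (mul_ne_zero (pow_ne_zero 2 hS0) hb') ?_
    have h2 := congrArg (fun z : ℚ => z ^ 2) hDlin
    simp only [mul_pow] at h2
    linear_combination -((E.a : ℚ) + 1) * h2 + ((Q : ℚ) + 1) * E.a * u ^ 2 * hD2 -
      (E.a : ℚ) * E.b * (E.b + 1) * S * (1 + t) * hS1 - (E.a : ℚ) * E.b * (E.b + 1) * ((Q : ℚ) + 1) * u ^ 2 * hS2
  · refine mul_left_cancel₀ (mul_ne_zero hq2 hu0) ?_
    linear_combination (1 - t) * hDlin - t * ((E.b : ℚ) + 1) * hS1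

/-- The other labelling: `y` with the degree of `b` forces `x = -1`. -/
theorem not_y (hR : R ≠ 0) (h1 : Q ≠ 1) (h0 : Q ≠ 0) (hm : Q ≠ -1) (hx1 : E.x ≠ -1) (hy : E.y = E.b) : False := by
  obtain ⟨ha, ha', hb, hb', hc, hx, hy', hxy, hq, hq1, hq2⟩ := E.casts h1 h0 hm
  obtain ⟨t, hyt, ht1, ht2, ht0, -, -, hb2, -, -⟩ := E.key hR h1 h0 hm
  have hsd : (E.a : ℚ) + E.x + E.y = -1 := by exact_mod_cast E.sum_d
  have hby : (E.b : ℚ) = t * E.x := by rw [← hyt, hy]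
  have hat : (E.a : ℚ) = t := by
    have : (E.x : ℚ) * t * ((E.a : ℚ) - t) = 0 := by
      rw [hby] at hb2
      linear_combination hb2 - t ^ 2 * (hsd - hyt)
    rcases mul_eq_zero.1 this with h | h
    · exact absurd h (mul_ne_zero hx ht0)
    · linarith
  refine hx1 ?_
  have h2 : ((E.x : ℚ) + 1) * (1 + t) = 0 := by linear_combination hsd - hyt - hat
  rcases mul_eq_zero.1 h2 with h | h
  · have h' : ((E.x : ℤ) : ℚ) = ((-1 : ℤ) : ℚ) := by push_cast; linarith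
    exact_mod_cast h'
  · exact absurd (by linarith : t = -1) ht2

/-- The solution. -/
structure Sol : Prop where
  a_eq : E.a = -Q ^ 3
  b_eq : E.b = -(Q ^ 2 + Q + 1)
  x_eq : E.x = -(Q ^ 2 + Q + 1)
  y_eq : E.y = Q ^ 3 + Q ^ 2 + Q
  A_eq : E.A = -Q
  B_eq : E.B = -Q - 2
  X_eq : E.X = Q
  Y_eq : E.Y = -1
  i_eq : -1 - E.b = Q ^ 2 + Q
  I_eq : -1 - E.B = Q + 1
  R_eq : R * ((Q : ℚ) ^ 2 + Q + 1) = ((Q : ℚ) + 1) ^ 2

/-- With the degree and the value supplied by `f1` everything is determined. -/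
theorem solve (hR : R ≠ 0) (h1 : Q ≠ 1) (h0 : Q ≠ 0) (hm : Q ≠ -1) (hxb : E.x = E.b)
    (hX : E.X = E.B + 2 * (Q + 1)) : E.Sol := by
  obtain ⟨ha, ha', hb, hb', hc, hx, hy, hxy, hq, hq1, hq2⟩ := E.casts h1 h0 hm
  obtain ⟨t, hyt, ht1, ht2, ht0, hu0, hu2, hb2, hD, hxy'⟩ := E.key hR h1 h0 hm
  have hsd : (E.a : ℚ) + E.x + E.y = -1 := by exact_mod_cast E.sum_d
  have hsv : (E.A : ℚ) + E.X + E.Y = -1 := by exact_mod_cast E.sum_v
  have hxb' : (E.x : ℚ) = E.b := by exact_mod_cast hxb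
  have hX' : (E.X : ℚ) = E.B + 2 * (Q + 1) := by exact_mod_cast hX
  have hba : (E.b : ℚ) * (1 + t) = -1 - E.a := by linear_combination hsd - hyt - (1 + t) * hxb'
  have hat : (E.a : ℚ) = t ^ 3 := by
    refine mul_left_cancel₀ hb ?_
    linear_combination hb2 - t ^ 2 * hba
  have ht1' : 1 + t ≠ 0 := fun e => ht2 (by linarith)
  have hbv : (E.b : ℚ) = -(t ^ 2 - t + 1) := by
    refine mul_left_cancel₀ ht1' ?_
    linear_combination hba - hat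
  set u := (E.a : ℚ) - E.A with hu
  have ht1'' : 1 - t ≠ 0 := fun e => ht1 (by linarith)
  have hDv : t * ((E.B : ℚ) - E.b) = u := by
    refine mul_left_cancel₀ (mul_ne_zero (pow_ne_zero 2 ht0) ht1'') ?_
    linear_combination hD - ((E.B : ℚ) - E.b) * (1 - t) * hat + t * u * hbv
  -- `eqM` gives `u`
  have hM := three_terms ha (fun e => ha' (by rw [e]; ring)) hx hy hsd hsv E.eqM
  have hsq : (t * ((E.X : ℚ) * (1 + t) + 1 + E.A)) ^ 2 = u ^ 2 := by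
    refine mul_left_cancel₀ (mul_ne_zero ht0 (pow_ne_zero 2 hx)) ?_
    have hY : (E.Y : ℚ) = -1 - E.A - E.X := by linarith
    rw [hY, hyt, hat] at hM
    rw [hu, hat]
    linear_combination hM
  have hin : t * ((E.X : ℚ) * (1 + t) + 1 + E.A) = u + 2 * t * ((Q : ℚ) + 1) * (1 + t) := by
    rw [hu] at hDv ⊢
    linear_combination t * (1 + t) * hX' + (1 + t) * hDv + t * hba
  have huv : u = -(t * ((Q : ℚ) + 1) * (1 + t)) := by
    rcases sq_eq_sq_iff_eq_or_eq_neg.1 hsq with h | h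
    · exfalso
      refine mul_ne_zero (mul_ne_zero (mul_ne_zero (two_ne_zero' ℚ) ht0) hq2) ht1' ?_
      linear_combination h - hin
    · linear_combination (h - hin) / 2
  have hpoly : (t + Q) * (((Q : ℚ) + 1) ^ 2 * (1 + t) ^ 2 +
      2 * ((Q : ℚ) - 1) ^ 2 * (t * (t - 1)) * (t ^ 2 + t + 1)) = 0 := by
    refine mul_left_cancel₀ (pow_ne_zero 2 ht0) ?_
    have e : (E.A : ℚ) = t ^ 3 + t * ((Q : ℚ) + 1) * (1 + t) := by linear_combination -hu + hat - huv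
    rw [huv, hat, e] at hu2
    linear_combination hu2
  have htQ : t = -(Q : ℚ) := by
    rcases mul_eq_zero.1 hpoly with h | h
    · linarith
    · exfalso
      have hout : 0 ≤ t * (t - 1) := by
        by_contra hneg
        push Not at hneg
        have h0t : 0 < t ∧ t < 1 := by constructor <;> nlinarith
        have hlo : (0 : ℚ) < E.a := by rw [hat]; exact pow_pos h0t.1 3
        have hhi : (E.a : ℚ) < 1 := by rw [hat]; exact pow_lt_one₀ h0t.1.le h0t.2 (by norm_num)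
        have h2 : (0 : ℤ) < E.a := by exact_mod_cast hlo
        have h3 : E.a < 1 := by exact_mod_cast hhi
        omega
      have hpos : 0 < ((Q : ℚ) + 1) ^ 2 * (1 + t) ^ 2 := by positivity
      have hnn : 0 ≤ 2 * ((Q : ℚ) - 1) ^ 2 * (t * (t - 1)) * (t ^ 2 + t + 1) :=
        mul_nonneg (mul_nonneg (by positivity) hout) (by nlinarith [sq_nonneg (2 * t + 1)])
      linarith
  subst htQ
  have eb : (E.b : ℚ) = ((-(Q ^ 2 + Q + 1) : ℤ) : ℚ) := by push_cast; linear_combination hbv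
  have ea : (E.a : ℚ) = ((-Q ^ 3 : ℤ) : ℚ) := by push_cast; linear_combination hat
  have eA : (E.A : ℚ) = ((-Q : ℤ) : ℚ) := by push_cast; linear_combination -hu + hat - huv
  have eB : (E.B : ℚ) = ((-Q - 2 : ℤ) : ℚ) := by
    refine mul_left_cancel₀ ht0 ?_
    push_cast
    linear_combination hDv + huv + (-(Q : ℚ)) * hbv
  have za : E.a = -Q ^ 3 := Int.cast_injective ea
  have zb : E.b = -(Q ^ 2 + Q + 1) := Int.cast_injective eb
  have zA : E.A = -Q := Int.cast_injective eA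
  have zB : E.B = -Q - 2 := Int.cast_injective eB
  refine ⟨za, zb, hxb.trans zb, ?_, zA, zB, by rw [hX, zB]; ring, ?_, by rw [zb]; ring, by rw [zB]; ring, ?_⟩
  · have := E.sum_d; rw [za, hxb, zb] at this; linarith
  · have := E.sum_v; rw [zA, hX, zB] at this; linarith
  · refine mul_left_cancel₀ (mul_ne_zero (pow_ne_zero 2 hq1) (mul_ne_zero (pow_ne_zero 3 hq) hq2)) ?_
    push_cast at eb ea eA
    rw [hyt, hxb', eb, ea] at hxy'
    have hu' : u = (Q : ℚ) - (Q : ℚ) ^ 3 := by rw [hu, ea, eA]; ring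
    rw [hu'] at hxy'
    linear_combination hxy'

end WrEqsF

end Cfsg.Agent.Invol.AbgOrder
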