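import Cfsg.Agent.Lib.Invol.AbgOrder.AlgWrFieldArith

/-!
# The wreathed equations for a twisted principal component

The functions are multiplied by a character of odd order of `C`, so the trivial character is replaced by an unknown
one of signed degree `d₀` with value `v` at `z`, while `R` is already known.  Divided by `d₀` the equations are those
of `AlgWr`, with `u = v α - A` and `m = Q - 1 + v + A`; the arithmetic leaves only `t = -Q`, `v = d₀ = 1`.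
-/

set_option autoImplicit false

namespace Cfsg.Agent.Invol.AbgOrder

theorem two_terms_v {β B v : ℚ} (hb : β ≠ 0) (hb1 : β + 1 ≠ 0) :
    v ^ 2 + B ^ 2 / β + (-v - B) ^ 2 / (-1 - β) = (B - v * β) ^ 2 / (β * (β + 1)) := by
  have h1 : -1 - β ≠ 0 := fun e => hb1 (by linarith)
  field_simp
  ring

theorem three_terms_v {α A β B c C v : ℚ} (ha : α ≠ 0) (ha1 : α + 1 ≠ 0) (hb : β ≠ 0) (hc : c ≠ 0)
    (hd : α + β + c = -1) (hv : A + B + C = -v) (h : v ^ 2 + A ^ 2 / α + B ^ 2 / β + C ^ 2 / c = 0) :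
    α * (B * c - β * C) ^ 2 = (v * α - A) ^ 2 * β * c := by
  have h' : v ^ 2 * α * β * c + A ^ 2 * β * c + B ^ 2 * α * c + C ^ 2 * α * β = 0 := by
    have e : v ^ 2 * α * β * c + A ^ 2 * β * c + B ^ 2 * α * c + C ^ 2 * α * β =
        α * β * c * (v ^ 2 + A ^ 2 / α + B ^ 2 / β + C ^ 2 / c) := by field_simp
    rw [e, h, mul_zero]
  obtain rfl : c = -1 - α - β := by linarith
  obtain rfl : C = -v - A - B := by linarith
  linear_combination -(1 + α) * h'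

/-- The equations with an unknown component of degree `d₀` and value `v`. -/
structure WrEqsV (Q : ℤ) (R : ℚ) where
  /-- signed degree in place of the trivial character -/
  d₀ : ℤ
  /-- its value -/
  v : ℤ
  /-- degree of `a` -/
  a : ℤ
  /-- degree of `b` -/
  b : ℤ
  /-- degree of `x` -/
  x : ℤ
  /-- degree of `y` -/
  y : ℤ
  /-- value of `a` -/
  A : ℤ
  /-- value of `b` -/
  B : ℤ
  /-- value of `x` -/
  X : ℤ
  /-- value of `y` -/
  Y : ℤ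
  d0_ne : d₀ ≠ 0
  a0 : a ≠ 0
  a1 : d₀ + a ≠ 0
  b0 : b ≠ 0
  b1 : d₀ + b ≠ 0
  ab : d₀ + a + b ≠ 0
  x0 : x ≠ 0
  y0 : y ≠ 0
  xy : x ≠ y
  sum_d : d₀ + a + x + y = 0
  sum_v : v + A + X + Y = 0
  eqA : (v : ℚ) ^ 2 / d₀ + (A : ℚ) ^ 2 / a + (B : ℚ) ^ 2 / b +
    (-(v : ℚ) - A - B) ^ 2 / (-(d₀ : ℚ) - a - b) = 0
  eq0 : (v : ℚ) ^ 2 / d₀ + (B : ℚ) ^ 2 / b + (-(v : ℚ) - B) ^ 2 / (-(d₀ : ℚ) - b) =
    R * (((Q : ℚ) - 1) ^ 2 / (Q * (Q + 1)))
  eqF : (v : ℚ) ^ 2 / d₀ + (A : ℚ) ^ 2 / a + (2 * (1 - (Q : ℚ)) - v - A) ^ 2 / (-(d₀ : ℚ) - a) =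
    R * (((Q : ℚ) - 1) / Q)
  eqM : (v : ℚ) ^ 2 / d₀ + (A : ℚ) ^ 2 / a + (X : ℚ) ^ 2 / x + (Y : ℚ) ^ 2 / y = 0
  eqW : -((X : ℚ) ^ 2 / x) + (Y : ℚ) ^ 2 / y + ((X : ℚ) - Y) ^ 2 / ((x : ℚ) - y) =
    R * (((Q : ℚ) - 1) ^ 2 / (Q * (Q + 1)))

section Scaled

variable {Q R α β ξ η v A B X Y : ℚ}

/-- The scaled equations: what `A`, `o`, `F`, `M`, `W` give. -/
theorem hom_key (hR : R ≠ 0) (hq : Q ≠ 0) (hq1 : Q - 1 ≠ 0) (hq2 : Q + 1 ≠ 0) (ha : α ≠ 0) (ha' : α + 1 ≠ 0)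
    (hb : β ≠ 0) (hb' : β + 1 ≠ 0) (hc : -1 - α - β ≠ 0) (hx : ξ ≠ 0) (hy : η ≠ 0) (hxy : ξ - η ≠ 0)
    (hsd : α + ξ + η = -1) (hsv : A + X + Y = -v)
    (eA : v ^ 2 + A ^ 2 / α + B ^ 2 / β + (-v - A - B) ^ 2 / (-1 - α - β) = 0)
    (e0 : v ^ 2 + B ^ 2 / β + (-v - B) ^ 2 / (-1 - β) = R * ((Q - 1) ^ 2 / (Q * (Q + 1))))
    (eF : v ^ 2 + A ^ 2 / α + (2 * (1 - Q) - v - A) ^ 2 / (-1 - α) = R * ((Q - 1) / Q))
    (eM : v ^ 2 + A ^ 2 / α + X ^ 2 / ξ + Y ^ 2 / η = 0)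
    (eW : -(X ^ 2 / ξ) + Y ^ 2 / η + (X - Y) ^ 2 / (ξ - η) = R * ((Q - 1) ^ 2 / (Q * (Q + 1)))) :
    ∃ t : ℚ, η = t * ξ ∧ t ≠ 1 ∧ t ≠ -1 ∧ t ≠ 0 ∧ v * α - A ≠ 0 ∧
      (Q + t) * (v * α - A) ^ 2 = 2 * ((Q - 1) ^ 2 * α * (Q - 1 + v + A)) * (1 - t) ∧
      β * (α + t ^ 2) = -((α + 1) * t ^ 2) ∧
      α * (B - v * β) * (1 - t) = t * (β + 1) * (v * α - A) ∧
      α * R * (Q - 1) ^ 2 * (ξ - η) = (v * α - A) ^ 2 * (Q * (Q + 1)) := by
  set u := v * α - A with hu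
  set P := 4 * (Q - 1) * α * (Q - 1 + v + A) - u ^ 2 with hP
  -- `eqF`
  have hF : Q * P = R * (Q - 1) * α * (-1 - α) := by
    have h := eF
    have he : -1 - α ≠ 0 := fun e => ha' (by linarith)
    field_simp at h
    rw [hP, hu]
    linear_combination h
  -- `eqM`, `eqW`
  have hM := three_terms_v ha ha' hx hy hsd hsv eM
  have hW : (X * η - ξ * Y) ^ 2 = R * ((Q - 1) ^ 2 / (Q * (Q + 1))) * (ξ * η * (ξ - η)) := by
    rw [← eW]; field_simp; ring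
  have hxy' : α * R * (Q - 1) ^ 2 * (ξ - η) = u ^ 2 * (Q * (Q + 1)) := by
    rw [hW] at hM
    refine mul_left_cancel₀ (mul_ne_zero hx hy) ?_
    have hk : R * ((Q - 1) ^ 2 / (Q * (Q + 1))) * (Q * (Q + 1)) = R * (Q - 1) ^ 2 := by field_simp
    linear_combination (Q * (Q + 1)) * hM - α * (ξ * η * (ξ - η)) * hk
  have hu0 : u ≠ 0 := fun e => by
    rw [e] at hxy'
    simp [ha, hR, hq1, hxy] at hxy'
  set S := u ^ 2 + 2 * ((Q - 1) ^ 2 * α * (Q - 1 + v + A)) with hS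
  have hlin : ξ * (Q * u ^ 2 - 2 * ((Q - 1) ^ 2 * α * (Q - 1 + v + A))) + η * S = 0 := by
    refine mul_left_cancel₀ (mul_ne_zero (two_ne_zero' ℚ) hq) ?_
    rw [hS]
    have he : ξ + η = -1 - α := by linarith
    linear_combination ((Q + 1) * u ^ 2 * Q) * he - (-1 - α) * hxy' - (Q - 1) * (ξ - η) * hF +
      (Q - 1) * (ξ - η) * Q * hP
  have hS0 : S ≠ 0 := fun e => by
    rw [e, mul_zero, add_zero] at hlin
    have h2 := (mul_eq_zero.1 hlin).resolve_left hx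
    have h3 : (Q + 1) * u ^ 2 = 0 := by rw [hS] at e; linear_combination h2 + e
    exact mul_ne_zero hq2 (pow_ne_zero 2 hu0) h3
  set t := η / ξ with ht
  have hyt : η = t * ξ := by rw [ht]; field_simp
  have ht0 : t ≠ 0 := div_ne_zero hy hx
  have htS : Q * u ^ 2 - 2 * ((Q - 1) ^ 2 * α * (Q - 1 + v + A)) = -(t * S) := by
    refine mul_left_cancel₀ hx ?_
    rw [hyt] at hlin
    linear_combination hlin
  have ht1 : t ≠ 1 := fun e => hxy (by rw [hyt, e]; ring)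
  have ht2 : t ≠ -1 := fun e => ha' (by rw [hyt, e] at hsd; linarith)
  have hS1 : (Q + 1) * u ^ 2 = S * (1 - t) := by rw [hS] at htS ⊢; linear_combination htS
  have hS2 : (Q - 1) * P = S * (1 + t) := by rw [hP, hS] at *; linear_combination -htS
  -- `eqA`, `eq0`
  have hA3 := three_terms_v (C := -v - A - B) ha ha' hb hc (by ring) (by ring) eA
  have h0' := e0
  rw [two_terms_v hb hb', div_eq_iff (mul_ne_zero hb hb')] at h0'
  set D := B - v * β with hDdef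
  have hD2 : (Q + 1) * α * (α + 1) * D ^ 2 = -((Q - 1) * P * β * (β + 1)) := by
    have hk : R * ((Q - 1) ^ 2 / (Q * (Q + 1))) * (Q * (Q + 1)) = R * (Q - 1) ^ 2 := by field_simp
    refine mul_left_cancel₀ hq ?_
    rw [h0']
    linear_combination α * (α + 1) * (β * (β + 1)) * hk + ((Q - 1) * β * (β + 1)) * hF
  have hDlin : (Q + 1) * α * u * D = (β + 1) * (t * S) := by
    refine mul_left_cancel₀ (mul_ne_zero (mul_ne_zero (two_ne_zero' ℚ) ha') hb) ?_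
    simp only [hDdef, hu] at hA3 ⊢ hD2
    linear_combination (Q + 1) * hA3 - (α + 1) * hD2 - (α + 1) * β * (β + 1) * hS1 +
      (α + 1) * β * (β + 1) * hS2
  refine ⟨t, hyt, ht1, ht2, ht0, hu0, by linear_combination htS + t * hS, ?_, ?_, hxy'⟩
  · refine mul_left_cancel₀ (mul_ne_zero (pow_ne_zero 2 hS0) hb') ?_
    have h2 := congrArg (fun z : ℚ => z ^ 2) hDlin
    simp only [mul_pow] at h2
    linear_combination -(α + 1) * h2 + (Q + 1) * α * u ^ 2 * hD2 -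
      α * β * (β + 1) * S * (1 + t) * hS1 - α * β * (β + 1) * (Q + 1) * u ^ 2 * hS2
  · refine mul_left_cancel₀ (mul_ne_zero hq2 hu0) ?_
    linear_combination (1 - t) * hDlin - t * (β + 1) * hS1

end Scaled

namespace WrEqsV

variable {Q : ℤ} {R : ℚ} (E : WrEqsV Q R)

/-- The solution. -/
structure Sol : Prop where
  d_eq : E.d₀ = 1
  v_eq : E.v = 1
  a_eq : E.a = -Q ^ 3
  b_eq : E.b = -(Q ^ 2 + Q + 1)
  x_eq : E.x = -(Q ^ 2 + Q + 1)
  A_eq : E.A = -Q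
  B_eq : E.B = -Q - 2
  X_eq : E.X = Q

/-- **No field automorphism survives**: `d₀ = v = 1`. -/
theorem solve (h4 : Q % 4 = 1) (hq : 3 ≤ |Q|) (hR : R * ((Q : ℚ) ^ 2 + Q + 1) = ((Q : ℚ) + 1) ^ 2)
    (hxb : E.x = E.b) (hX : E.X = E.B + 2 * (Q + 1)) : E.Sol := by
  have cz : ∀ z : ℤ, z ≠ 0 → (z : ℚ) ≠ 0 := fun z hz => Int.cast_ne_zero.2 hz
  have hQ0 : (Q : ℚ) ≠ 0 := cz _ (by omega)
  have hQ1 : (Q : ℚ) - 1 ≠ 0 := by
    have := cz _ (show Q - 1 ≠ 0 by rcases abs_cases Q with u | u <;> omega)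
    push_cast at this
    exact this
  have hQ2 : (Q : ℚ) + 1 ≠ 0 := by
    have := cz _ (show Q + 1 ≠ 0 by rcases abs_cases Q with u | u <;> omega)
    push_cast at this
    exact this
  have hd : (E.d₀ : ℚ) ≠ 0 := cz _ E.d0_ne
  have hR0 : R ≠ 0 := fun e => by
    rw [e, zero_mul] at hR
    exact pow_ne_zero 2 hQ2 hR.symm
  have hsd : (E.d₀ : ℚ) + E.a + E.x + E.y = 0 := by exact_mod_cast E.sum_d
  have hsv : (E.v : ℚ) + E.A + E.X + E.Y = 0 := by exact_mod_cast E.sum_v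
  have ha := cz _ E.a0
  have hb := cz _ E.b0
  have hx := cz _ E.x0
  have hy := cz _ E.y0
  have ha1 : (E.d₀ : ℚ) + E.a ≠ 0 := by exact_mod_cast cz _ E.a1
  have hb1 : (E.d₀ : ℚ) + E.b ≠ 0 := by exact_mod_cast cz _ E.b1
  have hab : (E.d₀ : ℚ) + E.a + E.b ≠ 0 := by exact_mod_cast cz _ E.ab
  have hxy : (E.x : ℚ) - E.y ≠ 0 := sub_ne_zero.2 (fun e => E.xy (by exact_mod_cast e))
  set α := (E.a : ℚ) / E.d₀ with hα
  set β := (E.b : ℚ) / E.d₀ with hβ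
  set ξ := (E.x : ℚ) / E.d₀ with hξ
  set η := (E.y : ℚ) / E.d₀ with hη
  have dv : ∀ z w : ℚ, z / (w / E.d₀) = E.d₀ * (z / w) := fun z w => by
    rw [div_div_eq_mul_div, mul_comm, mul_div_assoc]
  have hv2 : (E.v : ℚ) ^ 2 = E.d₀ * ((E.v : ℚ) ^ 2 / E.d₀) := by field_simp
  have ec : -1 - α - β = (-(E.d₀ : ℚ) - E.a - E.b) / E.d₀ := by rw [hα, hβ]; field_simp
  have ee : -1 - α = (-(E.d₀ : ℚ) - E.a) / E.d₀ := by rw [hα]; field_simp
  have ei : -1 - β = (-(E.d₀ : ℚ) - E.b) / E.d₀ := by rw [hβ]; field_simp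
  have ej : ξ - η = ((E.x : ℚ) - E.y) / E.d₀ := by rw [hξ, hη]; field_simp
  obtain ⟨t, hyt, ht1, ht2, ht0, hu0, hu2, hb2, hD, hxy'⟩ := hom_key (Q := (Q : ℚ)) (R := E.d₀ * R) (v := (E.v : ℚ))
    (A := (E.A : ℚ)) (B := (E.B : ℚ)) (X := (E.X : ℚ)) (Y := (E.Y : ℚ)) (α := α) (β := β) (ξ := ξ) (η := η)
    (mul_ne_zero hd hR0) hQ0 hQ1 hQ2 (div_ne_zero ha hd)
    (fun e => ha1 (by rw [hα] at e; field_simp at e; linarith))
    (div_ne_zero hb hd) (fun e => hb1 (by rw [hβ] at e; field_simp at e; linarith))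
    (fun e => hab (by rw [ec, div_eq_zero_iff] at e; linarith [e.resolve_right hd]))
    (div_ne_zero hx hd) (div_ne_zero hy hd) (by rw [ej]; exact div_ne_zero hxy hd)
    (by rw [hα, hξ, hη]; field_simp; linarith) (by linarith)
    (by rw [ec, hα, hβ, dv, dv, dv, hv2]; linear_combination (E.d₀ : ℚ) * E.eqA)
    (by rw [ei, hβ, dv, dv, hv2]; linear_combination (E.d₀ : ℚ) * E.eq0)
    (by rw [ee, hα, dv, dv, hv2]; linear_combination (E.d₀ : ℚ) * E.eqF)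
    (by rw [hα, hξ, hη, dv, dv, dv, hv2]; linear_combination (E.d₀ : ℚ) * E.eqM)
    (by rw [ej, hξ, hη, dv, dv, dv]; linear_combination (E.d₀ : ℚ) * E.eqW)
  have hsd' : α + ξ + η = -1 := by rw [hα, hξ, hη]; field_simp; linarith
  have hsv' : (E.A : ℚ) + E.X + E.Y = -(E.v : ℚ) := by linarith
  have hxb' : ξ = β := by rw [hξ, hβ, hxb]
  have hX' : (E.X : ℚ) = E.B + 2 * (Q + 1) := by exact_mod_cast hX
  have ha' : α + 1 ≠ 0 := fun e => ha1 (by rw [hα] at e; field_simp at e; linarith)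
  have hb0 : β ≠ 0 := div_ne_zero hb hd
  have hba : β * (1 + t) = -1 - α := by linear_combination hsd' - hyt - (1 + t) * hxb'
  have hat : α = t ^ 3 := by
    refine mul_left_cancel₀ hb0 ?_
    linear_combination hb2 - t ^ 2 * hba
  have ht1' : 1 + t ≠ 0 := fun e => ht2 (by linarith)
  have hbv : β = -(t ^ 2 - t + 1) := by
    refine mul_left_cancel₀ ht1' ?_
    linear_combination hba - hat
  set u := (E.v : ℚ) * α - E.A with hu
  have ht1'' : 1 - t ≠ 0 := fun e => ht1 (by linarith)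
  have hDv : t * ((E.B : ℚ) - E.v * β) = u := by
    refine mul_left_cancel₀ (mul_ne_zero (pow_ne_zero 2 ht0) ht1'') ?_
    linear_combination hD - ((E.B : ℚ) - E.v * β) * (1 - t) * hat + t * u * hbv
  have hsq : (t * ((E.X : ℚ) * (1 + t) + E.v + E.A)) ^ 2 = u ^ 2 := by
    have hξ0 : ξ ≠ 0 := div_ne_zero hx hd
    have hη0 : η ≠ 0 := div_ne_zero hy hd
    have hM := three_terms_v (α := α) (A := (E.A : ℚ)) (β := ξ) (B := (E.X : ℚ)) (c := η) (C := (E.Y : ℚ))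
      (v := (E.v : ℚ)) (div_ne_zero ha hd) ha' hξ0 hη0 hsd' hsv'
      (by rw [hα, hξ, hη, dv, dv, dv, hv2]; linear_combination (E.d₀ : ℚ) * E.eqM)
    refine mul_left_cancel₀ (mul_ne_zero ht0 (pow_ne_zero 2 hξ0)) ?_
    have hY : (E.Y : ℚ) = -(E.v : ℚ) - E.A - E.X := by linarith
    rw [hY, hyt, hat] at hM
    rw [hu, hat]
    linear_combination hM
  have hin : t * ((E.X : ℚ) * (1 + t) + E.v + E.A) = u + 2 * t * ((Q : ℚ) + 1) * (1 + t) := by
    rw [hu] at hDv ⊢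
    linear_combination t * (1 + t) * hX' + (1 + t) * hDv + (E.v : ℚ) * t * hba
  have huv : u = -(t * ((Q : ℚ) + 1) * (1 + t)) := by
    rcases sq_eq_sq_iff_eq_or_eq_neg.1 hsq with h | h
    · exfalso
      refine mul_ne_zero (mul_ne_zero (mul_ne_zero (two_ne_zero' ℚ) ht0) hQ2) ht1' ?_
      linear_combination h - hin
    · linear_combination (h - hin) / 2
  have eA : (E.A : ℚ) = E.v * t ^ 3 + t * ((Q : ℚ) + 1) * (1 + t) := by
    linear_combination -hu + (E.v : ℚ) * hat - huv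
  -- the two equations in `t`
  have hI0 : (E.d₀ : ℚ) * (t * (t - 1) * (t ^ 2 - t + 1)) * ((Q : ℚ) - 1) ^ 2 =
      Q * (Q + 1) * ((Q : ℚ) ^ 2 + Q + 1) * (1 + t) ^ 2 := by
    refine mul_left_cancel₀ (mul_ne_zero (pow_ne_zero 2 ht0) (pow_ne_zero 2 hQ2)) ?_
    rw [hyt, hxb', hat, hbv, huv] at hxy'
    linear_combination ((Q : ℚ) ^ 2 + Q + 1) * hxy' -
      (E.d₀ : ℚ) * t ^ 3 * ((Q : ℚ) - 1) ^ 2 * ((t - 1) * (t ^ 2 - t + 1)) * hR
  have hII0 : 2 * ((Q : ℚ) - 1) ^ 2 * t * (1 - t) *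
      ((E.v : ℚ) * (1 + t ^ 3) + ((Q : ℚ) - 1) + t * (t + 1) * (Q + 1)) =
        ((Q : ℚ) + t) * ((Q : ℚ) + 1) ^ 2 * (1 + t) ^ 2 := by
    refine mul_left_cancel₀ (pow_ne_zero 2 ht0) ?_
    rw [huv, hat, eA] at hu2
    linear_combination -hu2
  -- lowest terms
  set r := t.num with hr
  set s := (t.den : ℤ) with hs
  have hts : (r : ℚ) = t * (s : ℚ) := by
    rw [hr, hs, Int.cast_natCast]; exact (Rat.mul_den_eq_num t).symm
  have hs0 : s ≠ 0 := Int.natCast_ne_zero.2 t.den_nz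
  have hsq0 : (s : ℚ) ≠ 0 := cz _ hs0
  have hco : IsCoprime r s := Int.isCoprime_iff_nat_coprime.2 (by simpa [hr, hs] using t.reduced)
  have hr0 : r ≠ 0 := fun e => by
    rw [e, Int.cast_zero] at hts
    exact mul_ne_zero ht0 hsq0 hts.symm
  have hrs : r ≠ s := fun e => by
    rw [e] at hts
    exact ht1 (mul_right_cancel₀ hsq0 (by linear_combination -hts))
  have hσ : r + s ≠ 0 := fun e => by
    have e' : (r : ℚ) + s = 0 := by exact_mod_cast e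
    rw [hts] at e'
    exact ht2 (mul_right_cancel₀ hsq0 (by linear_combination e'))
  obtain ⟨e, he⟩ : s ^ 3 ∣ E.d₀ := by
    refine (hco.symm.pow (m := 3) (n := 3)).dvd_of_dvd_mul_right ⟨E.a, ?_⟩
    have h : ((E.d₀ * r ^ 3 : ℤ) : ℚ) = ((s ^ 3 * E.a : ℤ) : ℚ) := by
      push_cast
      have : (E.a : ℚ) = E.d₀ * t ^ 3 := by rw [← hat, hα]; field_simp
      rw [hts, this]; ring
    exact Int.cast_injective h
  have he' : (E.d₀ : ℚ) = (s : ℚ) ^ 3 * e := by rw [he]; push_cast; ring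
  obtain ⟨u1, u2, u3⟩ := hom_arith (Q := Q) (r := r) (s := s) (e := e) (v := E.v) h4 hq hco hr0 hs0 hrs hσ
    (Int.cast_injective (α := ℚ) (by
      push_cast; rw [hts]; rw [he'] at hI0; linear_combination (s : ℚ) ^ 2 * hI0))
    (Int.cast_injective (α := ℚ) (by push_cast; rw [hts]; linear_combination (s : ℚ) ^ 5 * hII0))
    ⟨E.A, Int.cast_injective (α := ℚ) (by push_cast; rw [hts, eA]; ring)⟩
  have htQ : t = -(Q : ℚ) := by
    refine mul_right_cancel₀ hsq0 ?_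
    rw [← hts, u1]; push_cast; ring
  have hd1 : E.d₀ = 1 := by rw [he, ← u3]; ring
  have hd1' : (E.d₀ : ℚ) = 1 := by rw [hd1]; norm_num
  have hv1' : (E.v : ℚ) = 1 := by rw [u2]; norm_num
  subst htQ
  have za : E.a = -Q ^ 3 := Int.cast_injective (α := ℚ) (by
    push_cast; rw [hα, hd1', div_one] at hat; linear_combination hat)
  have zb : E.b = -(Q ^ 2 + Q + 1) := Int.cast_injective (α := ℚ) (by
    push_cast; rw [hβ, hd1', div_one] at hbv; linear_combination hbv)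
  have zA : E.A = -Q := Int.cast_injective (α := ℚ) (by
    push_cast; rw [hv1'] at eA; linear_combination eA)
  have zB : E.B = -Q - 2 := Int.cast_injective (α := ℚ) (by
    refine mul_left_cancel₀ ht0 ?_
    push_cast
    linear_combination hDv + huv + (-(Q : ℚ)) * (E.v : ℚ) * hbv + (-(Q : ℚ)) * (-(Q : ℚ) ^ 2 - Q - 1) * hv1')
  exact ⟨hd1, u2, za, zb, hxb.trans zb, zA, zB, by rw [hX, zB]; ring⟩

end WrEqsV

end Cfsg.Agent.Invol.AbgOrder
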