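import Mathlib

/-!
# The arithmetic behind the removal of the field automorphisms in the wreathed case

For `t = r / s` in lowest terms the scaled wreathed equations give two equations and a congruence in `r`, `s`, the
degree `d₀ = e s³` and the value `v`.  They force `r + s = ± (Q - 1)`, then `s ∣ Q + 1`, `r - s ∣ Q + 1`,
`r ∣ Q (Q + 1)`, so `r = -Q s`, `v = 1`, `d₀ = 1`.
-/

set_option autoImplicit false
set_option maxRecDepth 100000

namespace Cfsg.Agent.Invol.AbgOrder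

/-- The finitely many remaining cases. -/
theorem hom_small : ∀ i ∈ Finset.range 25, ∀ j ∈ Finset.range 29,
    ((fun r s : ℤ => r ≠ 0 ∧ s ≠ 0 ∧ s ≠ 1 ∧ r - s ≠ 0 ∧ (1 - r - s) % 4 = 1 ∧ 3 ≤ |1 - r - s| ∧
        Int.gcd r s = 1 ∧ (2 - r - s) % s = 0 ∧ (2 - r - s) % (r - s) = 0) ((i : ℤ) - 12) ((j : ℤ) - 14)) →
      ((fun r s : ℤ => ((1 - r - s) * (2 - r - s) * ((1 - r - s) ^ 2 + (1 - r - s) + 1)) %
        (s * r * (r - s) * (r ^ 2 - r * s + s ^ 2))) ((i : ℤ) - 12) ((j : ℤ) - 14)) ≠ 0 := by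
  decide +kernel

variable {Q r s e v : ℤ}

/-- The normalised case `r + s = 1 - Q`. -/
theorem hom_core (h4 : Q % 4 = 1) (hq : 3 ≤ |Q|) (hco : IsCoprime r s) (hr : r ≠ 0) (hs : s ≠ 0) (hrs : r ≠ s)
    (hQ : Q = 1 - r - s)
    (hI : e * (s * r * (r - s) * (r ^ 2 - r * s + s ^ 2)) = Q * (Q + 1) * (Q ^ 2 + Q + 1))
    (hII : 2 * v * (r ^ 2 - r * s + s ^ 2) * r * (r - s) =
      s ^ 2 * (s - 1) * (Q + 1) ^ 2 - 2 * r * (s - r) * s * (s ^ 2 - r * (Q + 1)))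
    (hA : s ^ 3 ∣ v * r ^ 3 + r * s * (r + s) * (Q + 1)) : r = -Q ∧ s = 1 ∧ v = 1 ∧ e = 1 := by
  have hQ1 : Q + 1 ≠ 0 := by rcases abs_cases Q with u | u <;> omega
  obtain ⟨v1, rfl⟩ : s ∣ v := by
    refine (hco.symm.pow_right (n := 3)).dvd_of_dvd_mul_right ?_
    have h1 := dvd_sub ((dvd_pow_self s three_ne_zero).trans hA)
      (dvd_mul_right s (r * ((r + s) * (Q + 1))))
    rwa [show v * r ^ 3 + r * s * (r + s) * (Q + 1) - s * (r * ((r + s) * (Q + 1))) = v * r ^ 3 by ring] at h1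
  obtain ⟨q, hq2⟩ : s ^ 2 ∣ v1 * r ^ 2 + (r + s) * (Q + 1) := by
    refine (hco.symm.pow_left (m := 2)).dvd_of_dvd_mul_left ?_
    refine (mul_dvd_mul_iff_left hs).1 ?_
    rw [← pow_succ', show s * (r * (v1 * r ^ 2 + (r + s) * (Q + 1))) =
      s * v1 * r ^ 3 + r * s * (r + s) * (Q + 1) by ring]
    exact hA
  have hII' : 2 * v1 * (r ^ 2 - r * s + s ^ 2) * r * (r - s) =
      s * (s - 1) * (Q + 1) ^ 2 - 2 * r * (s - r) * (s ^ 2 - r * (Q + 1)) := by
    refine mul_left_cancel₀ hs ?_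
    linear_combination hII
  set M := Q * (Q ^ 2 + Q + 1) with hM
  have hMQ : IsCoprime (Q + 1) M := ⟨Q ^ 2 + 1, -1, by rw [hM]; ring⟩
  have hN : Q * (Q + 1) * (Q ^ 2 + Q + 1) = (Q + 1) * M := by rw [hM]; ring
  -- `s ∣ Q + 1`
  have hsQ : s ∣ Q + 1 := by
    have h1 : s ∣ (Q + 1) ^ 2 := by
      refine ⟨(Q + 1) ^ 2 - 2 * r * (s - r) - 4 * (Q + 1) * r - 2 * v1 * (2 * r ^ 2 - r * s) -
        2 * (r ^ 2 - 2 * r * s) * q, mul_left_cancel₀ hs ?_⟩
      linear_combination hII' - 2 * (r ^ 2 - 2 * r * s) * hq2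
    have h2 : s ∣ (Q + 1) * M := hN ▸ ⟨e * (r * (r - s) * (r ^ 2 - r * s + s ^ 2)), by linear_combination -hI⟩
    obtain ⟨x, y, hxy⟩ := hMQ
    rw [show Q + 1 = x * (Q + 1) ^ 2 + y * ((Q + 1) * M) by linear_combination -(Q + 1) * hxy]
    exact dvd_add (h1.mul_left x) (h2.mul_left y)
  -- `r - s ∣ Q + 1`
  have hds : IsCoprime (r - s) s := by
    obtain ⟨x, y, hxy⟩ := hco
    exact ⟨x, x + y, by linear_combination hxy⟩
  have hdQ : r - s ∣ Q + 1 := by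
    have h1 : r - s ∣ (Q + 1) ^ 2 * (Q + 1) := by
      have h0 : r - s ∣ s * ((s - 1) * (Q + 1) ^ 2) :=
        ⟨2 * v1 * (r ^ 2 - r * s + s ^ 2) * r - 2 * r * (s ^ 2 - r * (Q + 1)), by linear_combination -hII'⟩
      have := dvd_sub ((hds.dvd_of_dvd_mul_left h0).mul_left (-2)) (dvd_mul_right (r - s) ((Q + 1) ^ 2))
      rwa [show -2 * ((s - 1) * (Q + 1) ^ 2) - (r - s) * (Q + 1) ^ 2 = (Q + 1) ^ 2 * (Q + 1) by
        rw [hQ]; ring] at this
    have h2 : r - s ∣ (Q + 1) * M := hN ▸ ⟨e * (s * r * (r ^ 2 - r * s + s ^ 2)), by linear_combination -hI⟩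
    obtain ⟨x, y, hxy⟩ := hMQ.pow_left (m := 2)
    rw [show Q + 1 = x * ((Q + 1) ^ 2 * (Q + 1)) + y * ((Q + 1) * M) by linear_combination -(Q + 1) * hxy]
    exact dvd_add (h1.mul_left x) (h2.mul_left y)
  -- `r ∣ Q (Q + 1)`
  have hrQ : r ∣ Q * (Q + 1) := by
    have h1 : r ∣ s * (Q * (Q + 1) ^ 2) :=
      ⟨-(2 * v1 * (r ^ 2 - r * s + s ^ 2) * (r - s)) - 2 * (s - r) * (s ^ 2 - r * (Q + 1)) -
        s * (Q + 1) ^ 2, by rw [hQ] at hII' ⊢; linear_combination hII'⟩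
    have h2 : r ∣ Q * (Q + 1) * (Q ^ 2 + Q + 1) :=
      ⟨e * (s * (r - s) * (r ^ 2 - r * s + s ^ 2)), by linear_combination -hI⟩
    have := dvd_sub h2 ((hco.dvd_of_dvd_mul_left h1).mul_left Q)
    rwa [show Q * (Q + 1) * (Q ^ 2 + Q + 1) - Q * (Q * (Q + 1) ^ 2) = Q * (Q + 1) by ring] at this
  rcases eq_or_ne s 1 with hs1 | hs1
  · subst hs1
    have hrQ' : r = -Q := by omega
    subst hrQ'
    have hQ0 : Q ≠ 0 := by omega
    have hw0 : Q ^ 2 + Q + 1 ≠ 0 := fun u => by nlinarith [sq_nonneg (2 * Q + 1)]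
    refine ⟨rfl, rfl, ?_, ?_⟩
    · refine mul_left_cancel₀ (mul_ne_zero (mul_ne_zero (mul_ne_zero (two_ne_zero' ℤ) hQ0) hQ1) hw0) ?_
      linear_combination hII'
    · refine mul_left_cancel₀ (mul_ne_zero (mul_ne_zero hQ0 hQ1) hw0) ?_
      linear_combination hI
  exfalso
  have hd0 : r - s ≠ 0 := sub_ne_zero.2 hrs
  have hbound : |r| ≤ 12 ∧ |s| ≤ 14 := by
    rcases eq_or_ne (r - s) 2 with hd2 | hd2
    · have hr2 : r = s + 2 := by omega
      have h12 : r ∣ 12 := by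
        have := dvd_sub hrQ (dvd_mul_right r (4 * r - 14))
        rwa [show Q * (Q + 1) - r * (4 * r - 14) = 12 by rw [hQ, show s = r - 2 by omega]; ring] at this
      have u1 := Int.le_of_dvd (by norm_num) h12
      have u2 := Int.le_of_dvd (by norm_num) (neg_dvd.2 h12)
      constructor <;> rw [abs_le] <;> constructor <;> omega
    have hd1 : |r - s| ≤ 2 * |s| + 2 := by
      have h0 : r - s ∣ 2 * (1 - s) := by
        have := dvd_add hdQ (dvd_refl (r - s))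
        rwa [show Q + 1 + (r - s) = 2 * (1 - s) by omega] at this
      have := Int.le_of_dvd (abs_pos.2 (show 2 * (1 - s) ≠ 0 by omega)) ((abs_dvd_abs _ _).2 h0)
      rcases abs_cases (2 * (1 - s)) with u | u <;> rcases abs_cases s with u' | u' <;> omega
    have hs2 : |s| ≤ |r - s| + 2 := by
      have h0 : s ∣ 2 - (r - s) := by
        have := dvd_add hsQ (dvd_mul_right s 2)
        rwa [show Q + 1 + s * 2 = 2 - (r - s) by omega] at this
      have := Int.le_of_dvd (abs_pos.2 (show 2 - (r - s) ≠ 0 by omega)) ((abs_dvd_abs _ _).2 h0)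
      rcases abs_cases (2 - (r - s)) with u | u <;> rcases abs_cases (r - s) with u' | u' <;> omega
    have hprod : |r - s| * |s| ≤ 2 + |r - s| + 2 * |s| := by
      have := Int.le_of_dvd (abs_pos.2 hQ1) ((abs_dvd_abs _ _).2 (hds.mul_dvd hdQ hsQ))
      rw [abs_mul] at this
      rcases abs_cases (Q + 1) with u | u <;> rcases abs_cases (r - s) with u' | u' <;>
        rcases abs_cases s with u'' | u'' <;> omega
    have h2d : 2 ≤ |r - s| := by
      rcases abs_cases (r - s) with u | u <;> omega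
    have hs5 : |s| ≤ 5 := by
      rcases (show |r - s| = 2 ∨ 3 ≤ |r - s| by omega) with u | u
      · omega
      · nlinarith
    constructor <;> rcases abs_cases r with u | u <;> rcases abs_cases (r - s) with u' | u' <;>
      rcases abs_cases s with u'' | u'' <;> first
        | omega
        | (by_contra hbig; push Not at hbig; nlinarith)
  obtain ⟨⟨hr1, hr2⟩, ⟨hs1', hs2'⟩⟩ := And.intro (abs_le.1 hbound.1) (abs_le.1 hbound.2)
  obtain ⟨i, hi⟩ : ∃ i : ℕ, (i : ℤ) = r + 12 := ⟨(r + 12).toNat, by omega⟩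
  obtain ⟨j, hj⟩ : ∃ j : ℕ, (j : ℤ) = s + 14 := ⟨(s + 14).toNat, by omega⟩
  have h := hom_small i (Finset.mem_range.2 (by omega)) j (Finset.mem_range.2 (by omega))
  rw [show (i : ℤ) - 12 = r by omega, show (j : ℤ) - 14 = s by omega] at h
  simp only [show 2 - r - s = Q + 1 by omega, ← hQ] at h
  refine h ⟨hr, hs, hs1, hd0, h4, hq, Int.isCoprime_iff_gcd_eq_one.1 hco, Int.emod_eq_zero_of_dvd hsQ,
    Int.emod_eq_zero_of_dvd hdQ⟩ (Int.emod_eq_zero_of_dvd ⟨e, by linear_combination -hI⟩)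

/-- The only solution has `t = r / s = -Q`. -/
theorem hom_arith (h4 : Q % 4 = 1) (hq : 3 ≤ |Q|) (hco : IsCoprime r s) (hr : r ≠ 0) (hs : s ≠ 0) (hrs : r ≠ s)
    (hσ : r + s ≠ 0)
    (hI : e * (s * r * (r - s) * (r ^ 2 - r * s + s ^ 2)) * (Q - 1) ^ 2 =
      Q * (Q + 1) * (Q ^ 2 + Q + 1) * (r + s) ^ 2)
    (hII : 2 * (Q - 1) ^ 2 * r * (s - r) *
        (v * (r + s) * (r ^ 2 - r * s + s ^ 2) + (Q - 1) * s ^ 3 + r * (r + s) * s * (Q + 1)) =
      (Q * s + r) * (Q + 1) ^ 2 * (r + s) ^ 2 * s ^ 2)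
    (hA : s ^ 3 ∣ v * r ^ 3 + r * s * (r + s) * (Q + 1)) : r = -(Q * s) ∧ v = 1 ∧ e * s ^ 3 = 1 := by
  have hm0 : Q - 1 ≠ 0 := by rcases abs_cases Q with u | u <;> omega
  -- `Q - 1 ∣ r + s`
  obtain ⟨k, hk⟩ : Q - 1 ∣ r + s := by
    obtain ⟨g, m', σ', hg, hco', hm', hσ'⟩ := Int.exists_gcd_one' (m := Q - 1) (n := r + s)
      (Int.gcd_pos_iff.2 (Or.inl hm0))
    have hc : IsCoprime m' σ' := Int.isCoprime_iff_gcd_eq_one.2 hco'
    have hN : m' ^ 2 ∣ Q * (Q + 1) * (Q ^ 2 + Q + 1) := by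
      refine (hc.pow (m := 2) (n := 2)).dvd_of_dvd_mul_right
        ⟨e * (s * r * (r - s) * (r ^ 2 - r * s + s ^ 2)), ?_⟩
      refine mul_left_cancel₀ (pow_ne_zero 2 (show (g : ℤ) ≠ 0 by exact_mod_cast hg.ne')) ?_
      rw [hm', hσ'] at hI
      linear_combination -hI
    have hmQ : m' ∣ Q - 1 := ⟨g, hm'⟩
    have h6 : m' ∣ 6 := by
      have := dvd_sub ((dvd_pow_self m' two_ne_zero).trans hN) (dvd_mul_of_dvd_left hmQ (Q ^ 3 + 3 * Q ^ 2 + 5 * Q + 6))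
      rwa [show Q * (Q + 1) * (Q ^ 2 + Q + 1) - (Q - 1) * (Q ^ 3 + 3 * Q ^ 2 + 5 * Q + 6) = 6 by ring] at this
    have n2 : ¬ (2 : ℤ) ∣ m' := fun h => by
      obtain ⟨i, hi⟩ : ∃ i, Q = 4 * i + 1 := ⟨Q / 4, by omega⟩
      obtain ⟨N', hN'⟩ : (4 : ℤ) ∣ Q * (Q + 1) * (Q ^ 2 + Q + 1) := by
        have := (pow_dvd_pow_of_dvd h 2).trans hN
        norm_num at this
        exact this
      obtain ⟨M, hM⟩ : ∃ M, Q * (Q + 1) * (Q ^ 2 + Q + 1) = 4 * M + 2 :=
        ⟨64 * i ^ 4 + 96 * i ^ 3 + 56 * i ^ 2 + 15 * i + 1, by rw [hi]; ring⟩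
      omega
    have n3 : ¬ (3 : ℤ) ∣ m' := fun h => by
      obtain ⟨i, hi⟩ : ∃ i, Q = 3 * i + 1 := ⟨Q / 3, by have := h.trans hmQ; omega⟩
      obtain ⟨N', hN'⟩ : (9 : ℤ) ∣ Q * (Q + 1) * (Q ^ 2 + Q + 1) := by
        have := (pow_dvd_pow_of_dvd h 2).trans hN
        norm_num at this
        exact this
      obtain ⟨M, hM⟩ : ∃ M, Q * (Q + 1) * (Q ^ 2 + Q + 1) = 9 * M + 6 :=
        ⟨9 * i ^ 4 + 18 * i ^ 3 + 14 * i ^ 2 + 5 * i, by rw [hi]; ring⟩
      omega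
    have u1 := Int.le_of_dvd (by norm_num) h6
    have u2 := Int.le_of_dvd (by norm_num) (neg_dvd.2 h6)
    have hm1 : IsUnit m' := by
      rw [Int.isUnit_iff]
      by_contra hne
      push Not at hne
      have : m' ∈ ({-6, -5, -4, -3, -2, 0, 2, 3, 4, 5, 6} : Finset ℤ) := by simp; omega
      simp only [Finset.mem_insert, Finset.mem_singleton] at this
      rcases this with rfl | rfl | rfl | rfl | rfl | rfl | rfl | rfl | rfl | rfl | rfl <;> first | omega | norm_num at h6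
    rw [hm', hσ', mul_comm, mul_comm σ']
    exact mul_dvd_mul_left (g : ℤ) (hm1.dvd)
  have hk0 : k ≠ 0 := fun u => hσ (by rw [hk, u, mul_zero])
  have hI' : e * (s * r * (r - s) * (r ^ 2 - r * s + s ^ 2)) = Q * (Q + 1) * (Q ^ 2 + Q + 1) * k ^ 2 := by
    refine mul_left_cancel₀ (pow_ne_zero 2 hm0) ?_
    rw [hk] at hI
    linear_combination hI
  have hII' : 2 * v * k * (r ^ 2 - r * s + s ^ 2) * r * (s - r) =
      s ^ 2 * (s + k) * (Q + 1) ^ 2 * k ^ 2 - 2 * r * (s - r) * s * (s ^ 2 + r * k * (Q + 1)) := by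
    refine mul_left_cancel₀ (pow_ne_zero 3 hm0) ?_
    rw [show Q * s + r = (Q - 1) * (s + k) by linear_combination hk, hk] at hII
    linear_combination hII
  have hck : IsCoprime k r ∧ IsCoprime k s := by
    obtain ⟨x, y, hxy⟩ := hco
    exact ⟨⟨y * (Q - 1), x - y, by linear_combination hxy - y * hk⟩,
      ⟨x * (Q - 1), y - x, by linear_combination hxy - x * hk⟩⟩
  have hk4 : k ∣ 4 := by
    refine (hck.1.mul_right (hck.2.pow_right (n := 4))).dvd_of_dvd_mul_right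
      ⟨s ^ 2 * (s + k) * (Q + 1) ^ 2 * k - 2 * r * (s - r) * s * (r * (Q + 1)) -
        2 * v * (r ^ 2 - r * s + s ^ 2) * r * (s - r) + 2 * r * s ^ 3 * (Q - 1), ?_⟩
    linear_combination hII' + 2 * r * s ^ 3 * hk
  have hr2 : ¬ (2 : ℤ) ∣ r := fun h => by
    refine Int.prime_two.not_isUnit (hco.isUnit_of_dvd' h ?_)
    have := dvd_sub (dvd_mul_of_dvd_left (show (2 : ℤ) ∣ Q - 1 by omega) k) h
    rwa [← hk, add_sub_cancel_left] at this
  have hs2 : ¬ (2 : ℤ) ∣ s := fun h => by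
    refine hr2 ?_
    have := dvd_sub (dvd_mul_of_dvd_left (show (2 : ℤ) ∣ Q - 1 by omega) k) h
    rwa [← hk, add_sub_cancel_right] at this
  have hkodd : ¬ (2 : ℤ) ∣ k := by
    rintro ⟨k1, rfl⟩
    obtain ⟨q1, hq1⟩ : ∃ q1, Q + 1 = 2 * q1 := ⟨(Q + 1) / 2, by omega⟩
    obtain ⟨m1, hm1⟩ : ∃ m1, Q - 1 = 4 * m1 := ⟨(Q - 1) / 4, by omega⟩
    set i := s - 4 * m1 * k1 with hi
    have hsr : s - r = 2 * i := by rw [hm1] at hk; linear_combination -hk
    rw [hsr, hq1] at hII'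
    have h2 : (2 : ℤ) ∣ r * i * s ^ 3 := by
      refine ⟨2 * s ^ 2 * (s + 2 * k1) * q1 ^ 2 * k1 ^ 2 - 2 * r ^ 2 * i * s * k1 * q1 -
        v * k1 * (r ^ 2 - r * s + s ^ 2) * r * i, ?_⟩
      refine mul_left_cancel₀ (show (4 : ℤ) ≠ 0 by norm_num) ?_
      linear_combination hII'
    rcases Int.prime_two.dvd_mul.1 h2 with h | h
    · rcases Int.prime_two.dvd_mul.1 h with h | h
      · exact hr2 h
      · refine hs2 ?_
        have := dvd_add h (⟨2 * m1 * k1, by ring⟩ : (2 : ℤ) ∣ 4 * m1 * k1)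
        rwa [hi, sub_add_cancel] at this
    · exact hs2 (Int.prime_two.dvd_of_dvd_pow h)
  have hk1 : k = 1 ∨ k = -1 := by
    have u1 := Int.le_of_dvd (by norm_num) hk4
    have u2 := Int.le_of_dvd (by norm_num) (neg_dvd.2 hk4)
    rcases (show k = 1 ∨ k = -1 ∨ k = 3 ∨ k = -3 by omega) with u | u | u | u
    · exact Or.inl u
    · exact Or.inr u
    all_goals rw [u] at hk4; norm_num at hk4
  rcases hk1 with rfl | rfl
  · obtain ⟨u1, u2, u3, u4⟩ := hom_core (r := -r) (s := -s) (e := -e) (v := v) h4 hq hco.neg_neg (neg_ne_zero.2 hr)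
      (neg_ne_zero.2 hs) (fun u => hrs (neg_injective u)) (by linear_combination -hk)
      (by linear_combination hI') (by linear_combination -hII')
      (by
        rw [show v * (-r) ^ 3 + -r * -s * (-r + -s) * (Q + 1) = -(v * r ^ 3 + r * s * (r + s) * (Q + 1)) by ring,
          show (-s) ^ 3 = -(s ^ 3) by ring]
        exact dvd_neg.2 (neg_dvd.2 hA))
    have hs1 : s = -1 := by linarith
    subst hs1
    exact ⟨by linarith, u3, by linarith⟩
  · obtain ⟨u1, u2, u3, u4⟩ := hom_core (e := e) (v := v) h4 hq hco hr hs hrs (by linear_combination hk)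
      (by linear_combination hI') (by linear_combination hII') hA
    subst u2 u4
    exact ⟨by linarith, u3, by norm_num⟩

end Cfsg.Agent.Invol.AbgOrder
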