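import Mathlib
import Cfsg.Agent.Lib.Grp.SL2Basic

/-!
# The fixed space of a root subgroup in a representation of `SL(2, q)` negating at `-1`

It is at most `2 / (q + 1)` of the whole space; an involution inverting the root subgroup has trace bounded by
the dimension of that fixed space.
-/

set_option autoImplicit false

namespace Cfsg.Agent.Invol.AbgOrder

open Cfsg.Agent.Grp Matrix Module

section Avg

variable {Y V A : Type*} [Group Y] [AddCommGroup V] [Module ℂ V] [AddCommGroup A] [Fintype A]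

/-- The average of a representation over the image of `A`. -/
noncomputable def avgOp (ρ : Representation ℂ Y V) (e : A → Y) : V →ₗ[ℂ] V :=
  (Fintype.card A : ℂ)⁻¹ • ∑ a, ρ (e a)

/-- The common fixed space of the image of `A`. -/
def fixSp (ρ : Representation ℂ Y V) (e : A → Y) : Submodule ℂ V :=
  ⨅ a, LinearMap.eqLocus (ρ (e a)) LinearMap.id

theorem mem_fixSp {ρ : Representation ℂ Y V} {e : A → Y} {v : V} :
    v ∈ fixSp ρ e ↔ ∀ a, ρ (e a) v = v := by
  simp [fixSp]

variable {ρ : Representation ℂ Y V} {e : A → Y}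

theorem avgOp_mul (he : ∀ a b, e (a + b) = e a * e b) (a : A) :
    ρ (e a) * avgOp ρ e = avgOp ρ e := by
  rw [avgOp, mul_smul_comm, Finset.mul_sum]
  congr 1
  exact Fintype.sum_equiv (Equiv.addLeft a) _ _ fun b => by simp [he]

theorem mul_avgOp (he : ∀ a b, e (a + b) = e a * e b) (a : A) :
    avgOp ρ e * ρ (e a) = avgOp ρ e := by
  rw [avgOp, smul_mul_assoc, Finset.sum_mul]
  congr 1
  exact Fintype.sum_equiv (Equiv.addRight a) _ _ fun b => by simp [he]

theorem avgOp_mul_self (he : ∀ a b, e (a + b) = e a * e b) : avgOp ρ e * avgOp ρ e = avgOp ρ e := by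
  conv_lhs => arg 1; rw [avgOp]
  rw [smul_mul_assoc, Finset.sum_mul, Finset.sum_congr rfl fun a _ => avgOp_mul he a, Finset.sum_const,
    ← Nat.cast_smul_eq_nsmul ℂ, smul_smul, Finset.card_univ,
    inv_mul_cancel₀ (Nat.cast_ne_zero.2 Fintype.card_ne_zero), one_smul]

theorem isProj_avgOp (he : ∀ a b, e (a + b) = e a * e b) :
    LinearMap.IsProj (fixSp ρ e) (avgOp ρ e) where
  map_mem v := mem_fixSp.2 fun a => LinearMap.congr_fun (avgOp_mul (ρ := ρ) he a) v
  map_id v hv := by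
    rw [avgOp, LinearMap.smul_apply, LinearMap.sum_apply,
      Finset.sum_congr rfl fun a _ => mem_fixSp.1 hv a, Finset.sum_const,
      ← Nat.cast_smul_eq_nsmul ℂ, smul_smul, Finset.card_univ,
      inv_mul_cancel₀ (Nat.cast_ne_zero.2 Fintype.card_ne_zero), one_smul]

variable [FiniteDimensional ℂ V]

theorem trace_avgOp (he : ∀ a b, e (a + b) = e a * e b) :
    LinearMap.trace ℂ V (avgOp ρ e) = (finrank ℂ (fixSp ρ e) : ℂ) :=
  LinearMap.IsProj.trace (isProj_avgOp he)

/-- The dimension of the fixed space from the traces. -/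
theorem card_mul_finrank_fixSp (he : ∀ a b, e (a + b) = e a * e b) :
    (Fintype.card A : ℂ) * finrank ℂ (fixSp ρ e) = ∑ a, LinearMap.trace ℂ V (ρ (e a)) := by
  rw [← trace_avgOp he, avgOp, map_smul, map_sum, smul_eq_mul, ← mul_assoc,
    mul_inv_cancel₀ (Nat.cast_ne_zero.2 Fintype.card_ne_zero), one_mul]

/-- An idempotent has natural trace. -/
theorem exists_trace_of_idem {P : V →ₗ[ℂ] V} (h : P * P = P) :
    ∃ n : ℕ, LinearMap.trace ℂ V P = n ∧ n = finrank ℂ (LinearMap.range P) := by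
  refine ⟨_, LinearMap.IsProj.trace ⟨fun v => LinearMap.mem_range_self P v, ?_⟩, rfl⟩
  rintro _ ⟨y, rfl⟩
  exact LinearMap.congr_fun h y

/-- The trace of an operator squaring to an idempotent that it commutes with. -/
theorem exists_int_trace_of_sq {P T : V →ₗ[ℂ] V} (hP : P * P = P) (hT : T * T = P) (h1 : P * T = T)
    (h2 : T * P = T) {n : ℕ} (hn : LinearMap.trace ℂ V P = n) :
    ∃ k : ℤ, LinearMap.trace ℂ V T = k ∧ |k| ≤ n := by
  have key : ∀ s : ℂ, s * s = 1 → ((2⁻¹ : ℂ) • (P + s • T)) * ((2⁻¹ : ℂ) • (P + s • T)) =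
      (2⁻¹ : ℂ) • (P + s • T) := by
    intro s hs
    simp only [smul_mul_assoc, mul_smul_comm, add_mul, mul_add, hP, hT, h1, h2, smul_add, smul_smul]
    rw [show (2⁻¹ : ℂ) * s * (2⁻¹ * s) = 2⁻¹ * 2⁻¹ by linear_combination (2⁻¹ * 2⁻¹ : ℂ) * hs]
    module
  obtain ⟨a, ha, -⟩ := exists_trace_of_idem (key 1 (one_mul 1))
  obtain ⟨b, hb, -⟩ := exists_trace_of_idem (key (-1) (by ring))
  simp only [map_smul, map_add, hn, smul_eq_mul, one_mul, neg_mul] at ha hb
  have e : ((a + b : ℕ) : ℂ) = (n : ℂ) := by push_cast; linear_combination -ha - hb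
  refine ⟨(a : ℤ) - b, by push_cast; linear_combination ha - hb, ?_⟩
  rw [Nat.cast_inj] at e
  rw [abs_le]
  omega

/-- An involution inverting a group of odd order has trace at most the dimension of its fixed space. -/
theorem exists_int_trace_inverting (he : ∀ a b, e (a + b) = e a * e b) (hodd : Odd (Fintype.card A))
    {w : Y} (hw : w * w = 1) (hinv : ∀ a, w * e a = e (-a) * w) :
    ∃ k : ℤ, LinearMap.trace ℂ V (ρ w) = k ∧ |k| ≤ finrank ℂ (fixSp ρ e) := by
  have hcomm : ρ w * avgOp ρ e = avgOp ρ e * ρ w := by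
    rw [avgOp, mul_smul_comm, smul_mul_assoc, Finset.mul_sum, Finset.sum_mul]
    congr 1
    refine Fintype.sum_equiv (Equiv.neg A) _ _ fun a => ?_
    simp only [Equiv.neg_apply]
    rw [← map_mul, ← map_mul, hinv]
  -- `w` is conjugate to every `w e(a)`
  have hconj : ∀ a : A, LinearMap.trace ℂ V (ρ w * ρ (e a)) = LinearMap.trace ℂ V (ρ w) := by
    intro a
    obtain ⟨m, hm⟩ := hodd
    set s : A := (m + 1) • a with hs
    have h2 : s + s = a := by
      rw [hs, ← add_smul, show m + 1 + (m + 1) = (2 * m + 1) + 1 by ring, add_smul, ← hm, one_smul]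
      simp
    have h0 : e 0 = 1 := by
      have := he 0 0
      rw [add_zero] at this
      exact mul_eq_left.1 this.symm
    have hsinv : e s * e (-s) = 1 := by rw [← he, add_neg_cancel, h0]
    have e1 : w * e a = e (-s) * w * e s := by
      rw [← h2, he, ← mul_assoc, hinv]
    rw [← map_mul ρ, e1, map_mul ρ, map_mul ρ, LinearMap.trace_mul_comm, ← mul_assoc, ← map_mul ρ, hsinv, map_one, one_mul]
  have htr : LinearMap.trace ℂ V (ρ w * avgOp ρ e) = LinearMap.trace ℂ V (ρ w) := by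
    rw [avgOp, mul_smul_comm, Finset.mul_sum, map_smul, map_sum, Finset.sum_congr rfl fun a _ => hconj a,
      Finset.sum_const, ← Nat.cast_smul_eq_nsmul ℂ, smul_smul, Finset.card_univ,
      inv_mul_cancel₀ (Nat.cast_ne_zero.2 Fintype.card_ne_zero), one_smul]
  obtain ⟨k, hk, hle⟩ := exists_int_trace_of_sq (T := ρ w * avgOp ρ e) (avgOp_mul_self (ρ := ρ) he)
    (by rw [mul_assoc, ← mul_assoc (avgOp ρ e), ← hcomm, mul_assoc (ρ w), avgOp_mul_self he, ← mul_assoc,
      ← map_mul, hw, map_one, one_mul])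
    (by rw [← mul_assoc, ← hcomm, mul_assoc, avgOp_mul_self he])
    (by rw [mul_assoc, avgOp_mul_self he]) (trace_avgOp he)
  exact ⟨k, htr ▸ hk, hle⟩

end Avg

section SLTwo

variable {F : Type*} [Field F]

local notation "SL₂" => Matrix.SpecialLinearGroup (Fin 2) F

/-- The monomial element. -/
def mono (c : Fˣ) : SL₂ :=
  ⟨!![0, -(c⁻¹ : Fˣ); c, 0], by simp [Matrix.det_fin_two]⟩

theorem mono_neg (c : Fˣ) : mono (-c) = -mono c :=
  Subtype.ext (by
    rw [Matrix.SpecialLinearGroup.coe_neg]; ext i j; fin_cases i <;> fin_cases j <;> simp [mono])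

theorem mono_mul_self (c : Fˣ) : mono c * mono c = -1 :=
  Subtype.ext (by
    rw [Matrix.SpecialLinearGroup.coe_mul, Matrix.SpecialLinearGroup.coe_neg]
    ext i j; fin_cases i <;> fin_cases j <;> simp [mono, Matrix.mul_apply, Fin.sum_univ_two])

/-- The diagonal element. -/
def dia (c : Fˣ) : SL₂ :=
  ⟨!![(c : F), 0; 0, (c⁻¹ : Fˣ)], by simp [Matrix.det_fin_two]⟩

theorem dia_mul_up (c : Fˣ) (t : F) : dia c * SL2.up t = SL2.up ((c : F) * c * t) * dia c :=
  Subtype.ext (by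
    rw [Matrix.SpecialLinearGroup.coe_mul, Matrix.SpecialLinearGroup.coe_mul]
    ext i j; fin_cases i <;> fin_cases j <;> simp [dia, SL2.up, Matrix.mul_apply, Fin.sum_univ_two]
    field_simp)

theorem mono_mul_up (c : Fˣ) (t : F) : mono c * SL2.up t = SL2.low (-((c : F) * c * t)) * mono c :=
  Subtype.ext (by
    rw [Matrix.SpecialLinearGroup.coe_mul, Matrix.SpecialLinearGroup.coe_mul]
    ext i j; fin_cases i <;> fin_cases j <;> simp [mono, SL2.up, SL2.low, Matrix.mul_apply, Fin.sum_univ_two]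
    field_simp)

theorem low_eq (c : Fˣ) : SL2.low (c : F) = SL2.up ((c⁻¹ : Fˣ) : F) * mono c * SL2.up ((c⁻¹ : Fˣ) : F) :=
  Subtype.ext (by
    rw [Matrix.SpecialLinearGroup.coe_mul, Matrix.SpecialLinearGroup.coe_mul]
    ext i j; fin_cases i <;> fin_cases j <;> simp [mono, SL2.up, SL2.low, Matrix.mul_apply, Fin.sum_univ_two])

/-- The Bruhat decomposition as a parametrisation. -/
noncomputable def bruhat : (Fˣ × F) ⊕ (Fˣ × F × F) → SL₂ :=
  Sum.elim (fun x => SL2.up x.2 * dia x.1) (fun x => SL2.up x.2.1 * mono x.1 * SL2.up x.2.2)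

theorem bruhat_bijective : Function.Bijective (bruhat (F := F)) := by
  have hl : ∀ (a : Fˣ) (s : F), (bruhat (.inl (a, s)) : Matrix (Fin 2) (Fin 2) F) =
      !![(a : F), s * (a : F)⁻¹; 0, (a : F)⁻¹] := fun a s => by
    rw [bruhat, Sum.elim_inl, Matrix.SpecialLinearGroup.coe_mul]
    ext i j
    fin_cases i <;> fin_cases j <;> simp [SL2.up, dia, Matrix.mul_apply, Fin.sum_univ_two]
  have hr : ∀ (a : Fˣ) (s t : F), (bruhat (.inr (a, s, t)) : Matrix (Fin 2) (Fin 2) F) =
      !![s * a, s * a * t - (a : F)⁻¹; a, a * t] := fun a s t => by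
    rw [bruhat, Sum.elim_inr, Matrix.SpecialLinearGroup.coe_mul, Matrix.SpecialLinearGroup.coe_mul]
    ext i j
    fin_cases i <;> fin_cases j <;> simp [SL2.up, mono, Matrix.mul_apply, Fin.sum_univ_two] <;> ring
  constructor
  · intro x y h
    have h' := fun i j => congrFun (congrFun (congrArg Subtype.val h) i) j
    rcases x with ⟨a, s⟩ | ⟨a, s, t⟩ <;> rcases y with ⟨b, u⟩ | ⟨b, u, v⟩ <;>
      simp only [hl, hr] at h' <;>
      have e00 := h' 0 0 <;> have e01 := h' 0 1 <;>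
      have e10 := h' 1 0 <;> have e11 := h' 1 1 <;>
      simp at e00 e01 e10 e11
    · have : a = b := Units.ext e00
      subst this
      simp at e01 ⊢
      exact e01
    · exact absurd e10 b.ne_zero.symm
    · have : a = b := Units.ext e10
      subst this
      simp at e00 e11 ⊢
      exact ⟨e00, e11⟩
  · intro g
    have hd := SL2.det_eq g
    by_cases h : (g : Matrix (Fin 2) (Fin 2) F) 1 0 = 0
    · rw [h, mul_zero, sub_zero] at hd
      have h0 := left_ne_zero_of_mul_eq_one hd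
      refine ⟨.inl (Units.mk0 _ h0,
        (g : Matrix (Fin 2) (Fin 2) F) 0 1 * (g : Matrix (Fin 2) (Fin 2) F) 0 0), Subtype.ext ?_⟩
      rw [hl]
      have e : (g : Matrix (Fin 2) (Fin 2) F) 1 1 = ((g : Matrix (Fin 2) (Fin 2) F) 0 0)⁻¹ :=
        eq_inv_of_mul_eq_one_right hd
      ext i j
      fin_cases i <;> fin_cases j <;> simp [h, e, h0]
    · refine ⟨.inr (Units.mk0 _ h, (g : Matrix (Fin 2) (Fin 2) F) 0 0 / (g : Matrix (Fin 2) (Fin 2) F) 1 0,
        (g : Matrix (Fin 2) (Fin 2) F) 1 1 / (g : Matrix (Fin 2) (Fin 2) F) 1 0), Subtype.ext ?_⟩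
      rw [hr]
      ext i j
      fin_cases i <;> fin_cases j <;> simp <;> field_simp
      linear_combination hd

variable [Fintype F] {V : Type*} [AddCommGroup V] [Module ℂ V] [FiniteDimensional ℂ V]

/-- LEMMA E: the fixed space of a root subgroup is at most `2 / (q + 1)` of the space. -/
theorem finrank_fix_le (ρ : Representation ℂ SL₂ V) (hz : ρ (-1) = -1) :
    (Fintype.card F + 1) * finrank ℂ (fixSp ρ (SL2.up : F → SL₂)) ≤ 2 * finrank ℂ V := by
  classical
  set q := Fintype.card F with hq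
  set e₀ := avgOp ρ (SL2.up : F → SL₂) with he₀
  have he : ∀ a b : F, SL2.up (a + b) = SL2.up a * SL2.up b := fun a b => (SL2.up_mul a b).symm
  have hneg : ∀ g, ρ (-g) = -ρ g := fun g => by rw [← neg_one_mul g, map_mul, hz, neg_one_mul]
  -- conjugates of the average
  have hdia : ∀ c : Fˣ, ρ (dia c) * e₀ = e₀ * ρ (dia c) := fun c => by
    rw [he₀, avgOp, mul_smul_comm, smul_mul_assoc, Finset.mul_sum, Finset.sum_mul]
    congr 1
    refine Fintype.sum_equiv (Equiv.mulLeft₀ ((c : F) * c) (mul_ne_zero c.ne_zero c.ne_zero)) _ _ fun t => ?_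
    show _ = ρ (SL2.up ((c : F) * c * t)) * ρ (dia c)
    rw [← map_mul, ← map_mul, dia_mul_up]
  have hmono : ∀ c : Fˣ, ρ (mono c) * e₀ = avgOp ρ (SL2.low : F → SL₂) * ρ (mono c) := fun c => by
    rw [he₀, avgOp, avgOp, mul_smul_comm, smul_mul_assoc, Finset.mul_sum, Finset.sum_mul]
    congr 1
    refine Fintype.sum_equiv ((Equiv.mulLeft₀ ((c : F) * c) (mul_ne_zero c.ne_zero c.ne_zero)).trans
      (Equiv.neg F)) _ _ fun t => ?_
    show _ = ρ (SL2.low (-((c : F) * c * t))) * ρ (mono c)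
    rw [← map_mul, ← map_mul, mono_mul_up]
  have hee : e₀ * e₀ = e₀ := avgOp_mul_self he
  have hlow : e₀ * avgOp ρ (SL2.low : F → SL₂) * e₀ = (q : ℂ)⁻¹ • e₀ := by
    set X : F → V →ₗ[ℂ] V := fun t => e₀ * ρ (SL2.low t) * e₀ with hX
    have hodd : ∀ c : Fˣ, X ((-c : Fˣ) : F) = -X (c : F) := fun c => by
      have e1 : ∀ d : Fˣ, X (d : F) = e₀ * ρ (mono d) * e₀ := fun d => by
        simp only [hX]
        rw [low_eq, map_mul, map_mul, ← mul_assoc, ← mul_assoc, he₀, mul_avgOp he, mul_assoc _ _ (avgOp _ _),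
          avgOp_mul he]
      rw [e1, e1, mono_neg, hneg, mul_neg, neg_mul]
    have hsum : (∑ c : Fˣ, X (c : F)) = 0 := by
      have h : (∑ c : Fˣ, X (c : F)) = -∑ c : Fˣ, X (c : F) := by
        rw [← Finset.sum_neg_distrib]
        exact Fintype.sum_equiv (Equiv.neg Fˣ) _ _ fun c => by rw [Equiv.neg_apply, hodd, neg_neg]
      rw [eq_neg_iff_add_eq_zero, ← two_smul ℂ, smul_eq_zero] at h
      exact h.resolve_left two_ne_zero
    have hX0 : X 0 = e₀ := by simp only [hX]; rw [SL2.low_zero, map_one, mul_one, hee]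
    rw [avgOp, mul_smul_comm, smul_mul_assoc, Finset.mul_sum, Finset.sum_mul, ← hq]
    congr 1
    show ∑ t, X t = e₀
    rw [← Finset.add_sum_erase _ _ (Finset.mem_univ (0 : F)), hX0, add_eq_left, ← hsum]
    exact Finset.sum_bij' (fun t ht => Units.mk0 t (Finset.mem_erase.1 ht).1) (fun c _ => (c : F))
      (by simp) (fun c _ => by simp) (by simp) (fun c _ => Units.ext rfl) (fun t _ => rfl)
  -- the sum of all conjugates
  set E : V →ₗ[ℂ] V := ((q * (q - 1) : ℕ) : ℂ)⁻¹ • ∑ g : SL₂, ρ g * e₀ * ρ g⁻¹ with hE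
  have hq2 : 2 ≤ q := Fintype.one_lt_card
  have hN : ((q * (q - 1) : ℕ) : ℂ) ≠ 0 := by
    rw [Nat.cast_ne_zero]
    exact Nat.mul_ne_zero (by omega) (by omega)
  have hcomm : ∀ h, ρ h * E = E * ρ h := fun h => by
    rw [hE, mul_smul_comm, smul_mul_assoc, Finset.mul_sum, Finset.sum_mul]
    congr 1
    refine Fintype.sum_equiv (Equiv.mulLeft h) _ _ fun g => ?_
    show _ = ρ (h * g) * e₀ * ρ (h * g)⁻¹ * ρ h
    rw [_root_.mul_inv_rev, map_mul, map_mul, mul_assoc (ρ h * ρ g * e₀) (ρ g⁻¹ * ρ h⁻¹),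
      mul_assoc (ρ g⁻¹), ← map_mul ρ h⁻¹ h, inv_mul_cancel, map_one, mul_one]
    simp only [mul_assoc]
  have hterm1 : ∀ x : Fˣ × F, e₀ * (ρ (bruhat (.inl x)) * e₀ * ρ (bruhat (.inl x))⁻¹) * e₀ = e₀ := by
    intro x
    have e2 : ρ (bruhat (.inl x)) * e₀ = e₀ * ρ (bruhat (.inl x)) := by
      simp only [bruhat, Sum.elim_inl]
      rw [map_mul, mul_assoc, hdia, ← mul_assoc, ← mul_assoc, he₀, avgOp_mul he, mul_avgOp he]
    rw [e2, mul_assoc e₀ (ρ _), ← map_mul, mul_inv_cancel, map_one, mul_one, hee, hee]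
  have hupinv : ∀ t : F, (SL2.up t : SL₂)⁻¹ = SL2.up (-t) := fun t =>
    inv_eq_of_mul_eq_one_right (by rw [SL2.up_mul, add_neg_cancel, SL2.up_zero])
  have hterm2 : ∀ x : Fˣ × F × F,
      e₀ * (ρ (bruhat (.inr x)) * e₀ * ρ (bruhat (.inr x))⁻¹) * e₀ = (q : ℂ)⁻¹ • e₀ := by
    intro x
    obtain ⟨c, s, t⟩ := x
    have e1 : ρ (bruhat (.inr (c, s, t))) * e₀ * ρ (bruhat (.inr (c, s, t)))⁻¹ =
        ρ (SL2.up s) * avgOp ρ (SL2.low : F → SL₂) * ρ (SL2.up s)⁻¹ := by
      simp only [bruhat, Sum.elim_inr, _root_.mul_inv_rev, map_mul]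
      calc _ = ρ (SL2.up s) * (ρ (mono c) * (ρ (SL2.up t) * e₀ * ρ (SL2.up t)⁻¹) * ρ (mono c)⁻¹) *
              ρ (SL2.up s)⁻¹ := by simp only [mul_assoc]
        _ = _ := by
          rw [hupinv t, he₀, avgOp_mul he, mul_avgOp he, ← he₀, hmono, mul_assoc _ (ρ (mono c)), ← map_mul,
            mul_inv_cancel, map_one, mul_one]
    calc _ = (e₀ * ρ (SL2.up s)) * avgOp ρ (SL2.low : F → SL₂) * (ρ (SL2.up s)⁻¹ * e₀) := by
          rw [e1]; simp only [mul_assoc]
      _ = _ := by rw [hupinv, he₀, mul_avgOp he, avgOp_mul he, ← he₀, hlow]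
  have hcardF : Fintype.card Fˣ = q - 1 := Fintype.card_units F
  have hEe : E * e₀ = (2 : ℂ) • e₀ := by
    have h : e₀ * E = E * e₀ := by
      conv_lhs => rw [he₀, avgOp, smul_mul_assoc, Finset.sum_mul, Finset.sum_congr rfl fun t _ => hcomm _,
        ← Finset.mul_sum, ← mul_smul_comm, ← avgOp, ← he₀]
    have h2 : e₀ * E * e₀ = (2 : ℂ) • e₀ := by
      rw [hE, mul_smul_comm, smul_mul_assoc, Finset.mul_sum, Finset.sum_mul,
        ← bruhat_bijective.sum_comp, Fintype.sum_sum_type]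
      simp only [hterm1, hterm2, Finset.sum_const, Finset.card_univ, Fintype.card_prod, hcardF, ← hq,
        ← Nat.cast_smul_eq_nsmul ℂ, smul_smul, ← add_smul]
      congr 1
      have hq0 : (q : ℂ) ≠ 0 := by exact_mod_cast (by omega : q ≠ 0)
      have hq1 : ((q - 1 : ℕ) : ℂ) ≠ 0 := by exact_mod_cast (by omega : q - 1 ≠ 0)
      push_cast
      field_simp
      ring
    rw [← h2, h, mul_assoc, hee]
  have hEE : E * E = (2 : ℂ) • E := by
    conv_lhs => arg 2; rw [hE]
    conv_rhs => rw [hE]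
    rw [mul_smul_comm, Finset.mul_sum, smul_comm (2 : ℂ), Finset.smul_sum (r := (2 : ℂ))]
    congr 1
    refine Finset.sum_congr rfl fun g _ => ?_
    rw [← mul_assoc, ← mul_assoc, ← hcomm, mul_assoc (ρ g), hEe, mul_smul_comm, smul_mul_assoc]
  obtain ⟨n, hn, hnle⟩ := exists_trace_of_idem (P := (2⁻¹ : ℂ) • E)
    (by rw [smul_mul_assoc, mul_smul_comm, hEE, smul_smul, smul_smul]; norm_num)
  have htr : LinearMap.trace ℂ V E = ((q + 1) * finrank ℂ (fixSp ρ (SL2.up : F → SL₂)) : ℕ) := by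
    have ht : ∀ g : SL₂, LinearMap.trace ℂ V (ρ g * e₀ * ρ g⁻¹) = finrank ℂ (fixSp ρ (SL2.up : F → SL₂)) :=
      fun g => by
        rw [LinearMap.trace_mul_comm, ← mul_assoc, ← map_mul, inv_mul_cancel, map_one, one_mul, he₀, trace_avgOp he]
    have hc : Fintype.card SL₂ = (q - 1) * q + (q - 1) * (q * q) := by
      rw [← Fintype.card_of_bijective bruhat_bijective, Fintype.card_sum, Fintype.card_prod, Fintype.card_prod,
        Fintype.card_prod, hcardF]
    rw [hE, map_smul, map_sum, Finset.sum_congr rfl fun g _ => ht g, Finset.sum_const, Finset.card_univ, hc,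
      ← Nat.cast_smul_eq_nsmul ℂ, smul_smul, smul_eq_mul, show (q - 1) * q + (q - 1) * (q * q) =
      (q * (q - 1)) * (q + 1) by ring, Nat.cast_mul (q * (q - 1)), ← mul_assoc, inv_mul_cancel₀ hN, one_mul,
      Nat.cast_mul]
  have h2n : (q + 1) * finrank ℂ (fixSp ρ (SL2.up : F → SL₂)) = 2 * n := by
    have h : ((2 * n : ℕ) : ℂ) = LinearMap.trace ℂ V E := by
      rw [Nat.cast_mul, ← hn, map_smul, smul_eq_mul, Nat.cast_ofNat, mul_inv_cancel_left₀ two_ne_zero]
    exact_mod_cast (htr.symm.trans h.symm)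
  rw [h2n, hnle]
  exact Nat.mul_le_mul_left 2 (Submodule.finrank_le _)

end SLTwo

end Cfsg.Agent.Invol.AbgOrder
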