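import Cfsg.Agent.Lib.Invol.AbgOrder.BudgetData
import Cfsg.Agent.Lib.Invol.AbgOrder.BudgetSLTwo

/-!
# The non-central involutions acting on the characters of the kernel

All of them are conjugate to `diag(1, -1)` under `SL(2, q)` and there are `q (q + 1)`; summing over them converts
weights of characters fixed by `w` into weights of all characters.
-/

set_option autoImplicit false
set_option linter.unusedSectionVars false
set_option linter.style.haveILetI false

namespace Cfsg.Agent.Invol.AbgOrder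

open Cfsg Cfsg.Agent.Char Matrix Cfsg.Agent.Grp
open scoped ComplexConjugate

universe u v t

section Invol

variable {F : Type t} [Field F]

local notation "SL₂" => Matrix.SpecialLinearGroup (Fin 2) F
local notation "GL₂" => GL (Fin 2) F
local notation "M₂" => Matrix (Fin 2) (Fin 2) F
local notation "tgl" => (Matrix.SpecialLinearGroup.toGL (n := Fin 2) (R := F))

theorem tgl_dia_comm (d : Fˣ) : tgl (dia d) * w0 F = w0 F * tgl (dia d) :=
  Units.ext (by
    show (dia d : M₂) * !![1, 0; 0, -1] = !![1, 0; 0, -1] * (dia d : M₂)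
    ext i j; fin_cases i <;> fin_cases j <;> simp [dia, Matrix.mul_apply, Fin.sum_univ_two])

theorem eq_dia_of_comm (h2 : (2 : F) ≠ 0) {s : SL₂} (h : tgl s * w0 F = w0 F * tgl s) :
    ∃ d : Fˣ, s = dia d := by
  have e : (s : M₂) * !![1, 0; 0, -1] = !![1, 0; 0, -1] * (s : M₂) := congrArg Units.val h
  have e01 := congrFun (congrFun e 0) 1
  have e10 := congrFun (congrFun e 1) 0
  simp [Matrix.mul_apply, Fin.sum_univ_two] at e01 e10
  have h01 : (s : M₂) 0 1 = 0 := (mul_eq_zero.1 (show (2 : F) * (s : M₂) 0 1 = 0 by linear_combination -e01)).resolve_left h2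
  have h10 : (s : M₂) 1 0 = 0 := (mul_eq_zero.1 (show (2 : F) * (s : M₂) 1 0 = 0 by linear_combination e10)).resolve_left h2
  have hd := SL2.det_eq s
  rw [h01, zero_mul, sub_zero] at hd
  refine ⟨Units.mk0 _ (left_ne_zero_of_mul_eq_one hd), Subtype.ext ?_⟩
  have e11 : (s : M₂) 1 1 = ((s : M₂) 0 0)⁻¹ := eq_inv_of_mul_eq_one_right hd
  ext i j
  fin_cases i <;> fin_cases j <;> simp [dia, h01, h10, e11]

theorem dia_mul (a b : Fˣ) : (dia a : SL₂) * dia b = dia (a * b) :=
  Subtype.ext (by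
    rw [Matrix.SpecialLinearGroup.coe_mul]
    ext i j; fin_cases i <;> fin_cases j <;> simp [dia, Matrix.mul_apply, Fin.sum_univ_two, mul_comm])

/-- A non-scalar involution is conjugate to `diag(1, -1)` by an element of determinant one. -/
theorem exists_conj_w0 (h2 : (2 : F) ≠ 0) {i : GL₂} (hi : i ∈ Jset (⊤ : Subgroup GL₂)) :
    ∃ s : SL₂, i = tgl s * w0 F * (tgl s)⁻¹ := by
  obtain ⟨hA, -, hA1⟩ := jset_facts h2 hi
  have hAn : (i : M₂) ≠ -1 := fun e => hi.2.2.2 (Units.ext (by rw [Units.val_neg, Units.val_one, e]))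
  obtain ⟨v, hv, hiv⟩ := exists_fixed h2 hA hAn
  obtain ⟨w, hw, hiw⟩ := exists_fixed h2 (A := -(i : M₂)) (by rw [neg_mul_neg, hA]) fun e => hA1 (neg_injective e)
  rw [Matrix.neg_mulVec, neg_eq_iff_eq_neg] at hiw
  have hd : (!![v 0, w 0; v 1, w 1] : M₂).det ≠ 0 := by
    intro h0
    obtain ⟨c, hc0, he⟩ := Matrix.exists_mulVec_eq_zero_iff.2 h0
    have e : c 0 • v + c 1 • w = 0 := funext fun k => by
      have := congrFun he k
      fin_cases k <;> simp [Matrix.mulVec, dotProduct, Fin.sum_univ_two] at this ⊢ <;> linear_combination this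
    have e' := congrArg (fun x => (i : M₂) *ᵥ x) e
    simp only [Matrix.mulVec_add, Matrix.mulVec_smul, hiv, hiw, Matrix.mulVec_zero, smul_neg] at e'
    have h1 : (2 : F) • (c 0 • v) = 0 := by linear_combination (norm := module) e + e'
    have hc00 : c 0 = 0 := (smul_eq_zero.1 ((smul_eq_zero.1 h1).resolve_left h2)).resolve_right hv
    rw [hc00, zero_smul, zero_add, smul_eq_zero] at e
    exact hc0 (funext fun k => by fin_cases k <;> [exact hc00; exact e.resolve_right hw])
  set d := (!![v 0, w 0; v 1, w 1] : M₂).det with hdd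
  set s : SL₂ := ⟨!![v 0, w 0 / d; v 1, w 1 / d], by
    rw [Matrix.det_fin_two_of]
    have : d = v 0 * w 1 - w 0 * v 1 := by rw [hdd, Matrix.det_fin_two_of]
    field_simp
    linear_combination -this⟩ with hs
  refine ⟨s, ?_⟩
  rw [eq_mul_inv_iff_mul_eq]
  refine Units.ext ?_
  show (i : M₂) * (s : M₂) = (s : M₂) * !![1, 0; 0, -1]
  ext k l
  have a := congrFun hiv k
  have b := congrFun hiw k
  fin_cases k <;> fin_cases l <;>
    simp [hs, Matrix.mul_apply, Matrix.mulVec, dotProduct, Fin.sum_univ_two] at a b ⊢ <;>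
    first | linear_combination a | (field_simp; linear_combination b)

variable [Fintype F]

theorem w0_mem (h2 : (2 : F) ≠ 0) : w0 F ∈ Jset (⊤ : Subgroup GL₂) :=
  ⟨Subgroup.mem_top _, BData.w0_sq, (BData.w0_ne h2).1, (BData.w0_ne h2).2⟩

theorem conj_mem_jset (h2 : (2 : F) ≠ 0) (g : GL₂) : g * w0 F * g⁻¹ ∈ Jset (⊤ : Subgroup GL₂) := by
  refine ⟨Subgroup.mem_top _, ?_, fun e => (BData.w0_ne h2).1 ?_, fun e => (BData.w0_ne h2).2 ?_⟩
  · rw [show g * w0 F * g⁻¹ * (g * w0 F * g⁻¹) = g * (w0 F * w0 F) * g⁻¹ by group, BData.w0_sq, mul_one,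
      mul_inv_cancel]
  · calc w0 F = g⁻¹ * (g * w0 F * g⁻¹) * g := by group
      _ = 1 := by rw [e, mul_one, inv_mul_cancel]
  · calc w0 F = g⁻¹ * (g * w0 F * g⁻¹) * g := by group
      _ = -1 := by rw [e, mul_neg, mul_one, neg_mul, inv_mul_cancel]

theorem card_sl2_bruhat : Nat.card SL₂ = (Fintype.card F - 1) * (Fintype.card F + Fintype.card F * Fintype.card F) := by
  classical
  rw [← Nat.card_eq_of_bijective _ bruhat_bijective, Nat.card_eq_fintype_card, Fintype.card_sum, Fintype.card_prod,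
    Fintype.card_prod, Fintype.card_prod, Fintype.card_units]
  ring

theorem card_jset_top (h2 : (2 : F) ≠ 0) :
    Nat.card (Jset (⊤ : Subgroup GL₂)) = Fintype.card F * (Fintype.card F + 1) := by
  classical
  choose s hs using fun i : Jset (⊤ : Subgroup GL₂) => exists_conj_w0 h2 i.2
  let e : Jset (⊤ : Subgroup GL₂) × Fˣ → SL₂ := fun p => s p.1 * dia p.2
  have hconj : ∀ p : Jset (⊤ : Subgroup GL₂) × Fˣ, tgl (e p) * w0 F * (tgl (e p))⁻¹ = p.1 := fun p => by
    simp only [e, map_mul, _root_.mul_inv_rev]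
    rw [mul_assoc (tgl (s p.1)) (tgl (dia p.2)), tgl_dia_comm]
    rw [hs p.1]
    group
  have hb : Function.Bijective e := by
    refine ⟨fun p q h => ?_, fun g => ?_⟩
    · have h1 : p.1 = q.1 := Subtype.ext (by rw [← hconj p, ← hconj q, h])
      refine Prod.ext h1 ?_
      simp only [e, h1, mul_right_inj] at h
      exact Units.ext (by simpa [dia] using congrFun (congrFun (congrArg Subtype.val h) 0) 0)
    · set i : Jset (⊤ : Subgroup GL₂) := ⟨_, conj_mem_jset h2 (tgl g)⟩
      obtain ⟨d, hd⟩ := eq_dia_of_comm h2 (s := (s i)⁻¹ * g) (by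
        have h := hs i
        rw [show ((i : Jset (⊤ : Subgroup GL₂)) : GL₂) = tgl g * w0 F * (tgl g)⁻¹ from rfl] at h
        rw [map_mul, map_inv]
        calc (tgl (s i))⁻¹ * tgl g * w0 F = (tgl (s i))⁻¹ * (tgl g * w0 F * (tgl g)⁻¹) * tgl g := by group
          _ = _ := by rw [h]; group)
      exact ⟨(i, d), by rw [show e (i, d) = s i * dia d from rfl, ← hd, mul_inv_cancel_left]⟩
  have h := Nat.card_eq_of_bijective e hb
  rw [Nat.card_prod, card_sl2_bruhat, Nat.card_eq_fintype_card (α := Fˣ), Fintype.card_units] at h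
  have hq : 0 < Fintype.card F - 1 := by have := Fintype.one_lt_card (α := F); omega
  refine Nat.eq_of_mul_eq_mul_right hq (h.trans ?_)
  ring

end Invol

namespace BData

variable {C : Type u} [Group C] [Fintype C] {X : Type v} [Group X] {F : Type t} [Field F] [Fintype F]
  (B : BData C X F)

local notation "tgl" => (Matrix.SpecialLinearGroup.toGL (n := Fin 2) (R := F))

/-- The multiplicity in the half `z = -1`. -/
noncomputable def m [Fintype B.O] (θ : IrrCharacter B.O) : ℕ :=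
  (IsChar.classInner_nat (IsChar.res B.isChar_χm B.O) (IsIrr.isCharacter θ.2)).choose

theorem m_spec [Fintype B.O] (θ : IrrCharacter B.O) :
    classInner (fun o : B.O => B.χm o) (θ : B.O → ℂ) = B.m θ :=
  (IsChar.classInner_nat (IsChar.res B.isChar_χm B.O) (IsIrr.isCharacter θ.2)).choose_spec

/-- The elements of `GL(2, q)` lying over the inertia group. -/
noncomputable def Kgl (θ : B.O → ℂ) : Subgroup (GL (Fin 2) F) := ((inertia B.O θ).map B.σ).comap B.gl

/-- `θ` is fixed by the whole linear group. -/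
def Lfix (θ : B.O → ℂ) : Prop := (B.Kgl θ).comap tgl = ⊤

theorem mem_Kgl {θ : B.O → ℂ} (hθ : IsClassFunction B.O θ) {g : GL (Fin 2) F} {c : C} (hc : B.σ c = B.gl g) :
    g ∈ B.Kgl θ ↔ Char.conjN B.O c θ = θ := by
  rw [← mem_inertia]
  constructor
  · rintro ⟨y, hy, hye⟩
    have : c * y⁻¹ ∈ B.O := by rw [MonoidHom.mem_ker, map_mul, map_inv, hye, hc, mul_inv_cancel]
    rw [show c = c * y⁻¹ * y by group]
    exact (inertia B.O θ).mul_mem (le_inertia B.O hθ this) hy
  · exact fun h => ⟨c, h, hc⟩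

theorem neg_one_mem_Kgl {θ : B.O → ℂ} (hθ : IsClassFunction B.O θ) : (-1 : GL (Fin 2) F) ∈ B.Kgl θ :=
  (B.mem_Kgl hθ B.gz.symm).2 (funext fun o => by
    rw [conjN_apply]
    exact congrArg θ (Subtype.ext (by
      show B.z * (o : C) * B.z⁻¹ = o
      rw [← B.z_central o, mul_inv_cancel_right])))

theorem lfix_iff {θ : B.O → ℂ} (hθ : IsClassFunction B.O θ) :
    B.Lfix θ ↔ ∀ c : C, B.σ c ∈ (Matrix.SpecialLinearGroup.toGL (n := Fin 2) (R := F)).range.map B.gl →
      Char.conjN B.O c θ = θ := by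
  constructor
  · rintro h c ⟨_, ⟨s, rfl⟩, e⟩
    exact (B.mem_Kgl hθ e.symm).1 ((Subgroup.eq_top_iff' _).1 h s)
  · intro h
    refine (Subgroup.eq_top_iff' _).2 fun s => ?_
    obtain ⟨c, hc⟩ := B.surj (B.gl (tgl s))
    exact (B.mem_Kgl hθ hc).2 (h c ⟨_, ⟨s, rfl⟩, hc.symm⟩)

theorem lfix_conj {θ : B.O → ℂ} (hθ : IsClassFunction B.O θ) (c : C) (h : B.Lfix θ) :
    B.Lfix (Char.conjN B.O c θ) := by
  have hc' : IsClassFunction B.O (Char.conjN B.O c θ) := fun a b => by
    rw [conjN_eq_comp]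
    show θ (conjEquivN B.O c (b * a * b⁻¹)) = θ (conjEquivN B.O c a)
    rw [map_mul, map_mul, map_inv]
    exact hθ _ _
  rw [B.lfix_iff hc']
  intro d hd
  rw [← conjN_mul, show c * d = (c * d * c⁻¹) * c by group, conjN_mul,
    (B.lfix_iff hθ).1 h (c * d * c⁻¹) (by rw [map_mul, map_mul, map_inv]; exact B.sl_normal.conj_mem _ hd _)]

theorem lfix_conj_iff {θ : B.O → ℂ} (hθ : IsClassFunction B.O θ) (c : C) :
    B.Lfix (Char.conjN B.O c θ) ↔ B.Lfix θ := by
  refine ⟨fun h => ?_, B.lfix_conj hθ c⟩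
  have h' := B.lfix_conj (θ := Char.conjN B.O c θ) (fun a b => by
    rw [conjN_eq_comp]
    show θ (conjEquivN B.O c (b * a * b⁻¹)) = θ (conjEquivN B.O c a)
    rw [map_mul, map_mul, map_inv]
    exact hθ _ _) c⁻¹ h
  rwa [conjN_inv_cancel] at h'

variable [Fintype B.O]

/-- Conjugation on the irreducible characters of the kernel. -/
noncomputable def conjI (c : C) (θ : IrrCharacter B.O) : IrrCharacter B.O :=
  ⟨Char.conjN B.O c (θ : B.O → ℂ), IsIrr.conjN B.O θ.2 c⟩

theorem conjI_coe (c : C) (θ : IrrCharacter B.O) :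
    ((B.conjI c θ : IrrCharacter B.O) : B.O → ℂ) = Char.conjN B.O c (θ : B.O → ℂ) := rfl

theorem m_conj (c : C) (θ : IrrCharacter B.O) : B.m (B.conjI c θ) = B.m θ := by
  have h := classInner_conjN B.O c (fun o : B.O => B.χm o) (θ : B.O → ℂ)
  rw [conjN_res B.O (IsChar.classFun B.isChar_χm) c, ← B.conjI_coe, m_spec, m_spec] at h
  exact_mod_cast h

theorem one_conj (c : C) (θ : IrrCharacter B.O) :
    ((B.conjI c θ : IrrCharacter B.O) : B.O → ℂ) 1 = (θ : B.O → ℂ) 1 := by
  rw [conjI_coe, conjN_eq_comp]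
  show (θ : B.O → ℂ) (conjEquivN B.O c 1) = _
  rw [map_one]

open _root_.Classical in
/-- The double count. -/
theorem sum_jset (S : IrrCharacter B.O → Prop) (hS : ∀ c θ, S (B.conjI c θ) ↔ S θ) (f : IrrCharacter B.O → ℝ)
    (hf : ∀ c θ, f (B.conjI c θ) = f θ) :
    ∑ θ : IrrCharacter B.O with S θ, (Nat.card (Jset (B.Kgl (θ : B.O → ℂ))) : ℝ) * f θ =
      ((Fintype.card F * (Fintype.card F + 1) : ℕ) : ℝ) *
        ∑ θ : IrrCharacter B.O with S θ ∧ Char.conjN B.O B.w (θ : B.O → ℂ) = (θ : B.O → ℂ), f θ := by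
  haveI : Fintype (Jset (⊤ : Subgroup (GL (Fin 2) F))) := Fintype.ofFinite _
  set P : GL (Fin 2) F → IrrCharacter B.O → Prop := fun i θ => i ∈ B.Kgl (θ : B.O → ℂ) with hP
  have hcnt : ∀ θ : IrrCharacter B.O, (Nat.card (Jset (B.Kgl (θ : B.O → ℂ))) : ℝ) =
      ∑ i : Jset (⊤ : Subgroup (GL (Fin 2) F)), if P i θ then (1 : ℝ) else 0 := by
    intro θ
    rw [Finset.sum_boole]
    congr 1
    rw [← Fintype.card_coe, ← Nat.card_eq_fintype_card]
    refine Nat.card_congr
      { toFun := fun i => ⟨⟨i.1, Subgroup.mem_top _, i.2.2⟩, Finset.mem_filter.2 ⟨Finset.mem_univ _, i.2.1⟩⟩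
        invFun := fun i => ⟨i.1.1, (Finset.mem_filter.1 i.2).2, i.1.2.2⟩
        left_inv := fun i => rfl
        right_inv := fun i => rfl }
  simp only [hcnt, Finset.sum_mul, ite_mul, one_mul, zero_mul]
  rw [Finset.sum_comm]
  have hone : ∀ i : Jset (⊤ : Subgroup (GL (Fin 2) F)),
      (∑ θ : IrrCharacter B.O with S θ, if P i θ then f θ else 0) =
        ∑ θ : IrrCharacter B.O with S θ ∧ Char.conjN B.O B.w (θ : B.O → ℂ) = (θ : B.O → ℂ), f θ := by
    intro i
    obtain ⟨s, hs⟩ := exists_conj_w0 B.char2 i.2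
    obtain ⟨c, hc⟩ := B.surj (B.gl (tgl s))
    have hi : B.σ (c * B.w * c⁻¹) = B.gl i := by
      rw [map_mul, map_mul, map_inv, hc, ← B.gw, hs, map_mul, map_mul, map_inv]
    rw [← Finset.sum_filter, Finset.filter_filter]
    refine Finset.sum_bij' (fun θ _ => B.conjI c θ) (fun θ _ => B.conjI c⁻¹ θ) ?_ ?_ ?_ ?_ ?_
    · intro θ hθ
      obtain ⟨-, hSθ, hPθ⟩ := Finset.mem_filter.1 hθ
      refine Finset.mem_filter.2 ⟨Finset.mem_univ _, (hS c θ).2 hSθ, ?_⟩
      have h := (B.mem_Kgl (IsIrr.classFun θ.2) hi).1 hPθ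
      rw [conjI_coe]
      conv_rhs => rw [← h]
      rw [← conjN_mul, ← conjN_mul]
      congr 1
      group
    · intro θ hθ
      obtain ⟨-, hSθ, hwθ⟩ := Finset.mem_filter.1 hθ
      refine Finset.mem_filter.2 ⟨Finset.mem_univ _, (hS c⁻¹ θ).2 hSθ, ?_⟩
      refine (B.mem_Kgl (IsIrr.classFun (B.conjI c⁻¹ θ).2) hi).2 ?_
      rw [conjI_coe, ← conjN_mul, show c⁻¹ * (c * B.w * c⁻¹) = B.w * c⁻¹ by group, conjN_mul, hwθ]
    · intro θ _
      exact Subtype.ext (conjN_inv_cancel B.O c _)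
    · intro θ _
      exact Subtype.ext (conjN_cancel_inv B.O c _)
    · intro θ _
      exact (hf c θ).symm
  rw [Finset.sum_congr rfl fun i _ => hone i, Finset.sum_const, Finset.card_univ, ← Nat.card_eq_fintype_card,
    card_jset_top B.char2, nsmul_eq_mul]

/-- Over an element with image of odd order the two halves agree away from the trivial character. -/
theorem isoPart_χp_eq {θ : IrrCharacter B.O} (hθ : (θ : B.O → ℂ) ≠ fun _ => 1) {g : C}
    (hg : Odd (orderOf (B.σ g))) :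
    isoPart B.χp (θ : B.O → ℂ) g = isoPart B.χm (θ : B.O → ℂ) g := by
  have h0 : ∑ o : B.O, (θ : B.O → ℂ) o = 0 := by
    have h := classInner_irr_ne θ.2 (isIrr_one (G := B.O)) hθ
    simp only [classInner, map_one, mul_one] at h
    exact (mul_eq_zero.1 h).resolve_left (inv_ne_zero (Nat.cast_ne_zero.2 Nat.card_pos.ne'))
  rw [← sub_eq_zero, isoPart, isoPart, ← mul_sub, ← Finset.sum_sub_distrib]
  refine mul_eq_zero_of_right _ ?_
  have hval : ∀ o : B.O, B.χp ((o : C) * g) - B.χm ((o : C) * g) = B.κ (B.σ g) := fun o => by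
    have ho : B.σ ((o : C) * g) = B.σ g := by rw [map_mul, MonoidHom.mem_ker.1 o.2, one_mul]
    rw [B.χp_sub_χm, B.χ_odd _ (B.odd_of_image (by rw [ho]; exact hg)), ho]
  simp only [← mul_sub, hval, ← Finset.sum_mul, ← map_sum, h0, map_zero, zero_mul]

end BData

end Cfsg.Agent.Invol.AbgOrder
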