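import Mathlib
import Cfsg.Agent.Lib.Classical.DicksonMain
import Cfsg.Agent.Lib.Classical.DicksonFacts
import Cfsg.Agent.Lib.Classical.DicksonGeneration

/-!
# Unipotent elements of a subgroup of `SL(2, q)`

Either they all commute, so that there are at most `q` of them (with the identity), or the subgroup contains
`-1` and, unless it is everything or `q = 9`, there are again at most `q` of them.
-/

set_option autoImplicit false
set_option linter.unusedSectionVars false

namespace Cfsg.Agent.Invol.AbgOrder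

open Matrix Cfsg.Agent.Grp.SL2 Cfsg.Agent.PSL2Spec Cfsg.Agent.Dickson

/-- The elements of exponent `p` of `PGL(2, k)` are at most `k²`. -/
theorem card_exp_pgl_le {K : Type*} [Field K] [Fintype K] (p : ℕ) [hp : Fact p.Prime] [CharP K p] :
    Nat.card {x : Matrix.ProjGenLinGroup (Fin 2) K // x ^ p = 1} ≤ Fintype.card K ^ 2 := by
  classical
  let N : K × K → Matrix (Fin 2) (Fin 2) K := fun ab =>
    if ab.2 = 0 then !![0, 0; ab.1, 0] else !![ab.1, ab.2; -(ab.1 * ab.1) / ab.2, -ab.1]
  have hN : ∀ ab, (1 + N ab).det = 1 := fun ab => by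
    simp only [N]
    split_ifs with h <;> simp [Matrix.det_fin_two]
    field_simp
    ring
  let f : K × K → {x : Matrix.ProjGenLinGroup (Fin 2) K // x ^ p = 1} := fun ab =>
    if h : (Matrix.ProjGenLinGroup.mk (Matrix.GeneralLinearGroup.mkOfDetNeZero (1 + N ab)
      (by rw [hN]; exact one_ne_zero))) ^ p = 1 then ⟨_, h⟩ else ⟨1, one_pow p⟩
  refine (Nat.card_le_card_of_surjective f ?_).trans
    (le_of_eq (by rw [Nat.card_eq_fintype_card, Fintype.card_prod, sq]))
  rintro ⟨x, hx⟩
  induction x using Matrix.ProjGenLinGroup.induction_on with | mk g => ?_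
  rw [← map_pow, ← map_one Matrix.ProjGenLinGroup.mk, eq_comm, Matrix.ProjGenLinGroup.mk_eq_mk_iff] at hx
  obtain ⟨u, hu⟩ := hx
  obtain ⟨r, hr⟩ := (bijective_frobenius K p).2 (u : K)
  have hgp : (g : Matrix (Fin 2) (Fin 2) K) ^ p = (u : K) • 1 := by
    have h := congrArg Units.val hu
    simp at h
    rw [← h]
    simp [Matrix.smul_one_eq_diagonal]
  have hr0 : r ≠ 0 := by
    intro h
    rw [frobenius_def, h, zero_pow hp.out.ne_zero] at hr
    exact u.ne_zero hr.symm
  set M : Matrix (Fin 2) (Fin 2) K := r⁻¹ • (g : Matrix (Fin 2) (Fin 2) K) with hM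
  have hMp : M ^ p = 1 := by
    rw [hM, smul_pow, hgp, smul_smul, inv_pow, ← frobenius_def, hr, inv_mul_cancel₀ u.ne_zero, one_smul]
  have hnil : IsNilpotent (M - 1) := ⟨p, by
    rw [sub_pow_char_of_commute (p := p) (Commute.one_right M), hMp, one_pow, sub_self]⟩
  have ht : (M - 1) 0 0 + (M - 1) 1 1 = 0 := by
    have h := (Matrix.isNilpotent_trace_of_isNilpotent hnil).eq_zero
    rwa [Matrix.trace_fin_two] at h
  have hd : (M - 1) 0 0 * (M - 1) 1 1 - (M - 1) 0 1 * (M - 1) 1 0 = 0 := by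
    obtain ⟨n, hn⟩ := hnil
    have h : ((M - 1).det) ^ (n + 1) = 0 := by rw [← Matrix.det_pow, pow_succ, hn, zero_mul, Matrix.det_zero]
    have := eq_zero_of_pow_eq_zero h
    rwa [Matrix.det_fin_two] at this
  set ab : K × K := if (M - 1) 0 1 = 0 then ((M - 1) 1 0, 0) else ((M - 1) 0 0, (M - 1) 0 1) with hab
  have hNab : 1 + N ab = M := by
    have key : N ab = M - 1 := by
      simp only [hab]
      split_ifs with h
      · have h00 : (M - 1) 0 0 = 0 := by
          rw [h, zero_mul, sub_zero, show (M - 1) 1 1 = -(M - 1) 0 0 by linear_combination ht,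
            mul_neg, neg_eq_zero] at hd
          exact mul_self_eq_zero.1 hd
        have h11 : (M - 1) 1 1 = 0 := by linear_combination ht - h00
        simp only [N, if_pos]
        ext i j
        fin_cases i <;> fin_cases j <;> simp_all
      · have h10 : (M - 1) 1 0 = -((M - 1) 0 0 * (M - 1) 0 0) / (M - 1) 0 1 := by
          rw [eq_div_iff h]
          linear_combination -hd + (M - 1) 0 0 * ht
        have h11 : (M - 1) 1 1 = -(M - 1) 0 0 := by linear_combination ht
        simp only [N, if_neg h]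
        ext i j
        fin_cases i <;> fin_cases j <;> simp_all
    rw [key]; abel
  refine ⟨ab, ?_⟩
  have he : Matrix.ProjGenLinGroup.mk (Matrix.GeneralLinearGroup.mkOfDetNeZero (1 + N ab)
      (by rw [hN]; exact one_ne_zero)) = Matrix.ProjGenLinGroup.mk g := by
    rw [eq_comm, Matrix.ProjGenLinGroup.mk_eq_mk_iff]
    refine ⟨Units.mk0 r⁻¹ (inv_ne_zero hr0), Units.ext ?_⟩
    ext i j
    simp [hNab, hM, Matrix.smul_apply, mul_comm]
  simp only [f]
  rw [dif_pos (by rw [he, ← map_pow, ← map_one Matrix.ProjGenLinGroup.mk, eq_comm,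
    Matrix.ProjGenLinGroup.mk_eq_mk_iff]; exact ⟨u, hu⟩)]
  exact Subtype.ext he

variable {F : Type*} [Field F] [Fintype F]

local notation "SL₂" => Matrix.SpecialLinearGroup (Fin 2) F
local notation "cj" => Cfsg.Agent.Grp.SL2.conjHom
local notation "PSL₂" => Matrix.ProjectiveSpecialLinearGroup (Fin 2) F

/-- The unipotent elements of a subgroup, identity included. -/
def unip (K₀ : Subgroup SL₂) : Set SL₂ := {u | u ∈ K₀ ∧ tr u = 2}

theorem proj_injOn_unip (h2 : (2 : F) ≠ 0) {u v : SL₂} (hu : tr u = 2) (hv : tr v = 2)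
    (h : proj u = proj v) : u = v := by
  rcases proj_eq_iff.1 h with e | e
  · exact e.symm
  · rw [e, tr_neg, hu] at hv
    exact absurd (mul_self_eq_zero.1 (show (2 : F) * 2 = 0 by linear_combination -hv)) h2

theorem isScalar_unip (h2 : (2 : F) ≠ 0) {u : SL₂} (hu : tr u = 2) (h : IsScalar u) : u = 1 :=
  proj_injOn_unip h2 hu tr_one (by rw [proj_one_iff.2 h, map_one])

/-- At most `q` commuting unipotent elements. -/
theorem card_unip_le_of_commute (h2 : (2 : F) ≠ 0) (K₀ : Subgroup SL₂)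
    (hc : ∀ u ∈ unip K₀, ∀ v ∈ unip K₀, Commute u v) : Nat.card (unip K₀) ≤ Fintype.card F := by
  classical
  by_cases h : ∀ u ∈ unip K₀, u = 1
  · haveI : Subsingleton (unip K₀) := ⟨fun a b => Subtype.ext ((h a a.2).trans (h b b.2).symm)⟩
    exact (Finite.card_le_one_iff_subsingleton.2 this).trans Fintype.card_pos
  push Not at h
  obtain ⟨x, hx, hx1⟩ := h
  obtain ⟨P, hP, e⟩ := exists_up hx.2 hx1
  rw [← Nat.card_eq_fintype_card]
  have key : ∀ v : unip K₀, ∃ s : F, cj P hP (up s) = (v : SL₂) := by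
    intro v
    obtain ⟨y, hy⟩ := conjHom_surjective P hP (v : SL₂)
    have hcy : Commute y (up (1 : F)) := by
      rw [← commute_map_iff (conjHom_injective P hP), hy, e]
      exact hc _ v.2 _ hx
    obtain ⟨s, hs | hs⟩ := eq_pm_up hcy
    · exact ⟨s, hs ▸ hy⟩
    · exfalso
      have ht : tr y = 2 := by rw [← tr_conjHom P hP, hy]; exact v.2.2
      rw [hs, tr_neg] at ht
      simp [tr, up] at ht
      exact h2 (mul_self_eq_zero.1 (show (2 : F) * 2 = 0 by linear_combination -ht))
  choose s hs using key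
  exact Nat.card_le_card_of_injective s fun a b hab => Subtype.ext (by rw [← hs a, ← hs b, hab])

theorem charP_model (p : ℕ) [Fact p.Prime] [CharP F p] {K : Type} [Field K] [Fintype K] {m : ℕ}
    (h : Fintype.card K ^ m = Fintype.card F) : CharP K p := by
  obtain ⟨n, hn, hcard⟩ := FiniteField.card F p
  obtain ⟨r, hr⟩ := CharP.exists K
  haveI := hr
  obtain ⟨n', hr', hcard'⟩ := FiniteField.card K r
  haveI : Fact r.Prime := ⟨hr'⟩
  have h1 : r ∣ p ^ (n : ℕ) := by
    rw [← hcard, ← h, hcard', ← pow_mul]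
    refine dvd_pow_self r (Nat.mul_ne_zero n'.ne_zero fun hm => ?_)
    rw [hm, pow_zero] at h
    have := Fintype.one_lt_card (α := F)
    omega
  obtain rfl : r = p := (Nat.prime_dvd_prime_iff_eq hr' (Fact.out)).1 (hr'.dvd_of_dvd_pow h1)
  exact hr

/-- The dichotomy. -/
theorem unip_dichotomy (p : ℕ) [hp : Fact p.Prime] [CharP F p] (h2 : (2 : F) ≠ 0) (K₀ : Subgroup SL₂) :
    (∀ u ∈ unip K₀, ∀ v ∈ unip K₀, Commute u v) ∨
      ((-1 : SL₂) ∈ K₀ ∧ (K₀ = ⊤ ∨ Fintype.card F = 9 ∨ Nat.card (unip K₀) ≤ Fintype.card F)) := by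
  classical
  set H : Subgroup PSL₂ := K₀.map proj with hH
  have hodd : p ≠ 2 := by
    rintro rfl
    exact h2 (by exact_mod_cast CharP.cast_eq_zero F 2)
  have hexp : ∀ u ∈ unip K₀, proj u ^ p = 1 := fun u hu => pow_eq_one_of_tr p (by rw [hu.2]; norm_num)
  have hmem : ∀ u ∈ unip K₀, proj u ∈ H := fun u hu => Subgroup.mem_map_of_mem _ hu.1
  have hne : ∀ u ∈ unip K₀, u ≠ 1 → proj u ≠ 1 := fun u hu h1 h =>
    h1 (isScalar_unip h2 hu.2 (proj_one_iff.1 h))
  have hnone : (∀ u ∈ unip K₀, u = 1) → ∀ u ∈ unip K₀, ∀ v ∈ unip K₀, Commute u v :=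
    fun h u hu v _ => by rw [h u hu]; exact Commute.one_left v
  have hsemi : ∀ a : PSL₂, a ≠ 1 → a ^ p ≠ 1 → ∀ u ∈ unip K₀, u ≠ 1 → proj u ∉ tor a := by
    intro a ha hap u hu hu1 hin
    have hT := (pslData (F := F) p).same ha hin (hne u hu hu1)
    exact hap ((pslData (F := F) p).uni_exp (hne u hu hu1) (hexp u hu)
      (by rw [hT]; exact (pslData (F := F) p).self a))
  have hcop : ¬ p ∣ Nat.card H → ∀ u ∈ unip K₀, u = 1 := by
    intro hd u hu
    by_contra h1
    exact hd (orderOf_eq_prime (hexp u hu) (hne u hu h1) ▸ H.orderOf_dvd_natCard (hmem u hu))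
  have hneg : 2 ∣ Nat.card H → (-1 : SL₂) ∈ K₀ := fun h => Gen.neg_one_mem h2 h
  have htop : H = ⊤ → (-1 : SL₂) ∈ K₀ → K₀ = ⊤ := by
    intro h hm
    rw [eq_top_iff]
    intro x _
    obtain ⟨y, hy, e⟩ : proj x ∈ K₀.map proj := by rw [← hH, h]; exact Subgroup.mem_top _
    rcases proj_eq_iff.1 e with e | e
    · exact e ▸ hy
    · rw [e, ← neg_one_mul]; exact K₀.mul_mem hm hy
  have hcardU : Nat.card (unip K₀) ≤ Nat.card {x : H // (x : PSL₂) ^ p = 1} :=
    Nat.card_le_card_of_injective (fun u => ⟨⟨proj u.1, hmem _ u.2⟩, hexp _ u.2⟩) fun u v h =>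
      Subtype.ext (proj_injOn_unip h2 u.2.2 v.2.2 (congrArg (fun z : {x : H // _} => ((z : H) : PSL₂)) h))
  have hq3 : p = 3 → Fintype.card F = 3 ∨ Fintype.card F = 9 ∨ Fintype.card F = 27 ∨ 81 ≤ Fintype.card F := by
    rintro rfl
    obtain ⟨n, -, hn⟩ := FiniteField.card F 3
    have h1 := n.pos
    rcases lt_or_ge (n : ℕ) 4 with h | h
    · interval_cases (n : ℕ) <;> simp_all
    · exact Or.inr (Or.inr (Or.inr (le_of_le_of_eq (Nat.pow_le_pow_right (by norm_num : 0 < 3) h) hn.symm)))
  have hpslsize : ∀ q : ℕ, Fintype.card F = q → Odd q → Nat.card PSL₂ * 2 = q * ((q - 1) * (q + 1)) := by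
    intro q hq hqo
    have h := card_psl (F := F)
    rcases del_cases F with ⟨hd, hev⟩ | ⟨hd, -⟩
    · exact absurd hev (Nat.not_even_iff_odd.2 (hq ▸ hqo))
    · rw [hd, hq] at h; exact h
  cases dickson p H with
  | trivial h =>
    refine Or.inl (hnone fun u hu => isScalar_unip h2 hu.2 (proj_one_iff.1 ?_))
    have := hmem u hu
    rwa [h, Subgroup.mem_bot] at this
  | cyclic a ha ha1 hap h =>
    exact Or.inl (hnone fun u hu => by_contra fun h1 => hsemi a ha1 hap u hu h1 (h (hmem u hu)))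
  | dihedral a ha ha1 hap hidx h iso =>
    refine Or.inl (hnone fun u hu => by_contra fun h1 => hsemi a ha1 hap u hu h1 ?_)
    have h2u : (⟨proj u, hmem u hu⟩ : H) ^ 2 ∈ (tor a).subgroupOf H := Subgroup.sq_mem_of_index_two hidx _
    obtain ⟨k, hk⟩ := hp.out.odd_of_ne_two hodd
    have h3 := ((tor a).subgroupOf H).pow_mem h2u (k + 1)
    rw [← pow_mul, show 2 * (k + 1) = p + 1 by omega, pow_succ] at h3
    have h4 : (⟨proj u, hmem u hu⟩ : H) ^ p = 1 := Subtype.ext (hexp u hu)
    rw [h4, one_mul] at h3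
    exact h3
  | borel a ha ha1 hap h =>
    left
    obtain ⟨P, hP, e⟩ := uni_frame p ha1 hap
    have key : ∀ u ∈ unip K₀, Commute u (cj P hP (up 1)) := by
      intro u hu
      obtain ⟨y, rfl⟩ := conjHom_surjective P hP u
      have hn := ((pslData (F := F) p).mem_normalizer_iff ha1).1 (h (hmem _ hu))
      change proj (cj P hP y) * a * (proj (cj P hP y))⁻¹ ∈ tor a at hn
      rw [e, conj_mem_tor_iff, ← map_inv, ← map_mul, ← map_mul, commute_map_iff (conjHom_injective P hP),
        lower_entry_iff] at hn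
      rw [commute_map_iff (conjHom_injective P hP), commute_up_one_iff]
      have ht : tr y = 2 := by rw [← tr_conjHom P hP]; exact hu.2
      have hd := det_eq y
      rw [tr] at ht
      rw [hn, mul_zero, sub_zero] at hd
      refine ⟨hn, sub_eq_zero.1 (mul_self_eq_zero.1 ?_)⟩
      linear_combination (y.1 0 0 + y.1 1 1 + 2) * ht - 4 * hd
    have hns : ¬ IsScalar (cj P hP (up 1)) := fun hs => ha1 (by rw [e, proj_one_iff.2 hs])
    exact fun u hu v hv => commute_trans hns (key u hu) (key v hv).symm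
  | alt4 hc iso hdiv =>
    rcases hdiv with hd | h3
    · exact Or.inl (hnone (hcop hd))
    have h1 : (-1 : SL₂) ∈ K₀ := hneg (by rw [hc]; norm_num)
    refine Or.inr ⟨h1, ?_⟩
    have hle : Nat.card (unip K₀) ≤ 12 := hcardU.trans (hc ▸ Finite.card_subtype_le _)
    rcases hq3 h3 with hq | hq | hq | hq
    · refine Or.inl (htop (Subgroup.eq_top_of_le_card _ ?_) h1)
      have := hpslsize 3 hq (by decide)
      omega
    · exact Or.inr (Or.inl hq)
    · exact Or.inr (Or.inr (by omega))
    · exact Or.inr (Or.inr (by omega))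
  | perm4 hc iso hd => exact Or.inl (hnone (hcop hd))
  | alt5 hc iso hdiv =>
    rcases hdiv with hd | h3
    · exact Or.inl (hnone (hcop hd))
    have h1 : (-1 : SL₂) ∈ K₀ := hneg (by rw [hc]; norm_num)
    refine Or.inr ⟨h1, ?_⟩
    have hle : Nat.card (unip K₀) ≤ 60 := hcardU.trans (hc ▸ Finite.card_subtype_le _)
    have hdvd := Subgroup.card_subgroup_dvd_card H
    rw [hc] at hdvd
    rcases hq3 h3 with hq | hq | hq | hq
    · have := hpslsize 3 hq (by decide)
      omega
    · exact Or.inr (Or.inl hq)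
    · have := hpslsize 27 hq (by decide)
      omega
    · exact Or.inr (Or.inr (by omega))
  | subfield h =>
    obtain ⟨K, hF, hFi, m, h3, hm, hiso⟩ := SubfieldType.nonempty h
    haveI : CharP K p := charP_model p hm
    have hK2 : (2 : K) ≠ 0 := by
      intro h0
      have : ((2 : ℕ) : K) = 0 := by exact_mod_cast h0
      exact hodd ((Nat.prime_dvd_prime_iff_eq hp.out Nat.prime_two).1 ((CharP.cast_eq_zero_iff K p 2).1 this))
    have hm0 : m ≠ 0 := fun h0 => by
      rw [h0, pow_zero] at hm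
      have := Fintype.one_lt_card (α := F)
      omega
    have hemb : ∃ φ : H →* Matrix.ProjGenLinGroup (Fin 2) K, Function.Injective φ ∧
        Nat.card (Matrix.ProjectiveSpecialLinearGroup (Fin 2) K) ∣ Nat.card H := by
      rcases hiso with ⟨⟨i⟩⟩ | ⟨⟨i⟩⟩
      · exact ⟨Matrix.ProjectiveSpecialLinearGroup.toPGL.comp i.toMonoidHom,
          Matrix.ProjectiveSpecialLinearGroup.toPGL_injective.comp i.injective,
          (Nat.card_congr i.toEquiv).symm.dvd⟩
      · refine ⟨i.toMonoidHom, i.injective, ?_⟩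
        rw [Nat.card_congr i.toEquiv]
        exact Subgroup.card_dvd_of_injective _ Matrix.ProjectiveSpecialLinearGroup.toPGL_injective
    obtain ⟨φ, hφ, hdvd⟩ := hemb
    have h1 : (-1 : SL₂) ∈ K₀ := hneg ((Gen.even_card_psl hK2).trans hdvd)
    refine Or.inr ⟨h1, ?_⟩
    rcases Nat.lt_or_ge m 2 with hm2 | hm2
    · obtain rfl : m = 1 := by omega
      rw [pow_one] at hm
      refine Or.inl (htop (Subgroup.eq_top_of_le_card _ ?_) h1)
      have hh := card_psl (F := F)
      have hh' := card_psl (F := K)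
      rcases del_cases F with ⟨hd, hev⟩ | ⟨hd, hod⟩
      · exfalso
        rw [← hm] at hev
        obtain ⟨n, -, hn⟩ := FiniteField.card K p
        exact Nat.not_even_iff_odd.2 (hn ▸ (hp.out.odd_of_ne_two hodd).pow) hev
      · rcases del_cases K with ⟨hd', hev'⟩ | ⟨hd', -⟩
        · exact absurd (hm ▸ hev') (Nat.not_even_iff_odd.2 hod)
        · rw [hd] at hh; rw [hd', hm] at hh'
          have hpos : 0 < Nat.card H := Nat.card_pos
          exact le_trans (by omega) (Nat.le_of_dvd hpos hdvd)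
    · haveI := finite_pgl (F := K)
      refine Or.inr (Or.inr (hcardU.trans (le_trans ?_ (le_trans (card_exp_pgl_le (K := K) p)
        (hm ▸ Nat.pow_le_pow_right Fintype.card_pos hm2)))))
      refine Nat.card_le_card_of_injective (fun x => ⟨φ x.1, ?_⟩) fun a b hab =>
        Subtype.ext (hφ (congrArg Subtype.val hab))
      rw [← map_pow, show (x.1 : H) ^ p = 1 from Subtype.ext x.2, map_one]

end Cfsg.Agent.Invol.AbgOrder
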