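import Mathlib
import Cfsg.Agent.Lib.Invol.AbgOrder.BudgetDickson

/-!
# At most `2 q` involutions in a proper subgroup of `GL(2, q)`

With equality only for the involutions with a common eigenline, or when every unipotent element of the subgroup
is a product of two of its involutions and these generate `-1`.
-/

set_option autoImplicit false
set_option linter.unusedSectionVars false

namespace Cfsg.Agent.Invol.AbgOrder

open Matrix Cfsg.Agent.Grp Cfsg.Agent.Dickson
open scoped LinearAlgebra.Projectivization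

variable {F : Type*} [Field F]

local notation "SL₂" => Matrix.SpecialLinearGroup (Fin 2) F
local notation "GL₂" => GL (Fin 2) F
local notation "M₂" => Matrix (Fin 2) (Fin 2) F
local notation "tgl" => (Matrix.SpecialLinearGroup.toGL (n := Fin 2) (R := F))

/-- The non-scalar involutions of a subgroup. -/
def Jset (K : Subgroup GL₂) : Set GL₂ := {i | i ∈ K ∧ i * i = 1 ∧ i ≠ 1 ∧ i ≠ -1}

theorem invol_entries (h2 : (2 : F) ≠ 0) {A : M₂} (h : A * A = 1) (h1 : A ≠ 1) (hn : A ≠ -1) :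
    A 1 1 = -A 0 0 ∧ A.det = -1 := by
  have e := fun i j => congrFun (congrFun h i) j
  have e00 := e 0 0
  have e01 := e 0 1
  have e10 := e 1 0
  have e11 := e 1 1
  simp [Matrix.mul_apply, Fin.sum_univ_two] at e00 e01 e10 e11
  have ht : A 0 0 + A 1 1 = 0 := by
    by_contra ht
    have a01 : A 0 1 = 0 := (mul_eq_zero.1 (show (A 0 0 + A 1 1) * A 0 1 = 0 by linear_combination e01)).resolve_left ht
    have a10 : A 1 0 = 0 := (mul_eq_zero.1 (show (A 0 0 + A 1 1) * A 1 0 = 0 by linear_combination e10)).resolve_left ht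
    have hd : A 0 0 = A 1 1 := sub_eq_zero.1 ((mul_eq_zero.1
      (show (A 0 0 + A 1 1) * (A 0 0 - A 1 1) = 0 by linear_combination e00 - e11)).resolve_left ht)
    rw [a01, zero_mul, add_zero] at e00
    rcases mul_self_eq_one_iff.1 e00 with c | c
    · exact h1 (by ext i j; fin_cases i <;> fin_cases j <;> simp [a01, a10, ← hd, c])
    · exact hn (by ext i j; fin_cases i <;> fin_cases j <;> simp [a01, a10, ← hd, c])
  have h11 : A 1 1 = -A 0 0 := by linear_combination ht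
  refine ⟨h11, ?_⟩
  rw [Matrix.det_fin_two, h11]
  linear_combination -e00

theorem jset_facts (h2 : (2 : F) ≠ 0) {K : Subgroup GL₂} {i : GL₂} (hi : i ∈ Jset K) :
    (i : M₂) * (i : M₂) = 1 ∧ (i : M₂).det = -1 ∧ (i : M₂) ≠ 1 := by
  have h : (i : M₂) * (i : M₂) = 1 := by rw [← Units.val_mul, hi.2.1, Units.val_one]
  have h1 : (i : M₂) ≠ 1 := fun e => hi.2.2.1 (Units.ext e)
  exact ⟨h, (invol_entries h2 h h1 fun e => hi.2.2.2 (Units.ext (by rw [Units.val_neg, Units.val_one, e]))).2, h1⟩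

theorem exists_fixed (h2 : (2 : F) ≠ 0) {A : M₂} (h : A * A = 1) (hn : A ≠ -1) :
    ∃ v : Fin 2 → F, v ≠ 0 ∧ A *ᵥ v = v := by
  have hne : A + 1 ≠ 0 := fun e => hn (eq_neg_of_add_eq_zero_left e)
  obtain ⟨x, hx⟩ : ∃ x, (A + 1) *ᵥ x ≠ 0 := by
    by_contra hc
    push Not at hc
    exact hne (Matrix.ext_of_mulVec_single fun j => by rw [hc, Matrix.zero_mulVec])
  refine ⟨_, hx, ?_⟩
  rw [Matrix.mulVec_mulVec, mul_add, h, mul_one, add_comm]

theorem exists_smul_of_fixed {A : M₂} (h1 : A ≠ 1) {v w : Fin 2 → F} (hv : v ≠ 0) (hA : A *ᵥ v = v)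
    (hw : A *ᵥ w = w) : ∃ c : F, w = c • v := by
  by_contra hc
  push Not at hc
  have hd : (!![v 0, w 0; v 1, w 1] : M₂).det ≠ 0 := by
    intro h0
    obtain ⟨c, hc0, he⟩ := Matrix.exists_mulVec_eq_zero_iff.2 h0
    have e : c 0 • v + c 1 • w = 0 := funext fun i => by
      have := congrFun he i
      fin_cases i <;> simp [Matrix.mulVec, dotProduct, Fin.sum_univ_two] at this ⊢ <;> linear_combination this
    by_cases h : c 1 = 0
    · rw [h, zero_smul, add_zero, smul_eq_zero] at e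
      exact hc0 (funext fun i => by fin_cases i <;> [exact e.resolve_right hv; exact h])
    · refine hc (-(c 0 / c 1)) ?_
      have := congrArg (fun z => (c 1)⁻¹ • z) e
      simp only [smul_add, smul_smul, inv_mul_cancel₀ h, one_smul, smul_zero] at this
      rw [neg_smul, eq_neg_iff_add_eq_zero, div_eq_inv_mul, add_comm]
      exact this
  set P : M₂ := !![v 0, w 0; v 1, w 1] with hP
  have hAP : A * P = P := by
    ext i j
    have a := congrFun hA i
    have b := congrFun hw i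
    fin_cases i <;> fin_cases j <;> simp [hP, Matrix.mul_apply, Matrix.mulVec, dotProduct, Fin.sum_univ_two] at a b ⊢ <;>
      first | linear_combination a | linear_combination b
  refine h1 ?_
  have := congrArg (fun z => z * P⁻¹) hAP
  rwa [Matrix.mul_assoc, Matrix.mul_nonsing_inv _ (isUnit_iff_ne_zero.2 hd), mul_one] at this

/-- The product of two involutions with a common fixed vector, as an element of `SL(2, F)`. -/
theorem exists_unip (h2 : (2 : F) ≠ 0) {K : Subgroup GL₂} {i j : GL₂} (hi : i ∈ Jset K) (hj : j ∈ Jset K)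
    {v : Fin 2 → F} (hv : v ≠ 0) (hiv : (i : M₂) *ᵥ v = v) (hjv : (j : M₂) *ᵥ v = v) :
    ∃ u ∈ unip (K.comap tgl), tgl u = i * j ∧ (u : M₂) *ᵥ v = v := by
  set u : SL₂ := ⟨(i : M₂) * (j : M₂), by
    rw [Matrix.det_mul, (jset_facts h2 hi).2.1, (jset_facts h2 hj).2.1]; ring⟩ with hu
  have he : tgl u = i * j := Units.ext rfl
  have huv : (u : M₂) *ᵥ v = v := by
    show ((i : M₂) * (j : M₂)) *ᵥ v = v
    rw [← Matrix.mulVec_mulVec, hjv, hiv]
  refine ⟨u, ⟨by rw [Subgroup.mem_comap, he]; exact K.mul_mem hi.1 hj.1, ?_⟩, he, huv⟩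
  have h0 : ((u : M₂) - 1).det = 0 := Matrix.exists_mulVec_eq_zero_iff.1 ⟨v, hv, by
    rw [Matrix.sub_mulVec, huv, Matrix.one_mulVec, sub_self]⟩
  have hd := SL2.det_eq u
  rw [Matrix.det_fin_two] at h0
  simp at h0
  rw [SL2.tr]
  linear_combination -h0 + hd

theorem eigen_unip {u : SL₂} (hu : SL2.tr u = 2) {v : Fin 2 → F} (hv : v ≠ 0) {c : F}
    (h : (u : M₂) *ᵥ v = c • v) : (u : M₂) *ᵥ v = v := by
  have e := congrArg (fun z : M₂ => z *ᵥ v) (SL2.cayley u)
  simp only [← Matrix.mulVec_mulVec, h, Matrix.mulVec_smul, Matrix.sub_mulVec, Matrix.smul_mulVec,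
    Matrix.one_mulVec, hu, smul_smul] at e
  have : ((c - 1) * (c - 1)) • v = 0 := by
    rw [show (c - 1) * (c - 1) = c * c - (2 * c - 1) by ring, sub_smul, sub_smul, one_smul, e, sub_self]
  rw [h, sub_eq_zero.1 (mul_self_eq_zero.1 ((smul_eq_zero.1 this).resolve_right hv)), one_smul]

theorem prod_sub_one_eq_zero {x y : SL₂} {v : Fin 2 → F} (hv : v ≠ 0) (hx : (x : M₂) *ᵥ v = v)
    (hy : (y : M₂) *ᵥ v = v) (ty : SL2.tr y = 2) : ((x : M₂) - 1) * ((y : M₂) - 1) = 0 := by
  by_cases h1 : (y : M₂) = 1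
  · rw [h1, sub_self, mul_zero]
  have hsq : ((y : M₂) - 1) * ((y : M₂) - 1) = 0 := by
    rw [mul_sub, sub_mul, SL2.cayley, ty, two_smul, one_mul, mul_one]
    abel
  refine Matrix.ext_of_mulVec_single fun j => ?_
  rw [← Matrix.mulVec_mulVec, Matrix.zero_mulVec]
  obtain ⟨c, hc⟩ := exists_smul_of_fixed h1 hv hy (w := ((y : M₂) - 1) *ᵥ Pi.single j 1) (by
    have h := congrArg (fun z : M₂ => z *ᵥ (Pi.single j 1 : Fin 2 → F)) hsq
    simp only [← Matrix.mulVec_mulVec, Matrix.zero_mulVec] at h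
    rwa [Matrix.sub_mulVec, Matrix.one_mulVec, sub_eq_zero] at h)
  rw [hc, Matrix.mulVec_smul, Matrix.sub_mulVec, hx, Matrix.one_mulVec, sub_self, smul_zero]

/-- Unipotent elements fixing the same vector commute. -/
theorem commute_of_fix {x y : SL₂} {v : Fin 2 → F} (hv : v ≠ 0) (hx : (x : M₂) *ᵥ v = v) (tx : SL2.tr x = 2)
    (hy : (y : M₂) *ᵥ v = v) (ty : SL2.tr y = 2) : Commute x y := by
  refine Subtype.ext ?_
  show (x : M₂) * (y : M₂) = (y : M₂) * (x : M₂)
  have e1 := prod_sub_one_eq_zero hv hx hy ty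
  have e2 := prod_sub_one_eq_zero hv hy hx tx
  simp only [mul_sub, sub_mul, one_mul, mul_one] at e1 e2
  linear_combination (norm := abel) e1 - e2

variable [Fintype F]

/-- The count with its equality cases. -/
theorem jset_count (p : ℕ) [Fact p.Prime] [CharP F p] (h2 : (2 : F) ≠ 0) (h9 : Fintype.card F ≠ 9)
    (K : Subgroup GL₂) :
    K.comap tgl = ⊤ ∨ Nat.card (Jset K) < 2 * Fintype.card F ∨
      Nat.card (Jset K) = 2 * Fintype.card F ∧
        ((∃ v : Fin 2 → F, v ≠ 0 ∧ (∀ i ∈ Jset K, ∃ c : F, (i : M₂) *ᵥ v = c • v) ∧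
            ((-1 : GL₂) ∈ K → ∀ i : GL₂, i * i = 1 → i ≠ 1 → i ≠ -1 → (∃ c : F, (i : M₂) *ᵥ v = c • v) → i ∈ K)) ∨
          ((∀ u ∈ unip (K.comap tgl), u ≠ 1 → ∃ i ∈ Jset K, ∃ j ∈ Jset K, tgl u = i * j) ∧
            (-1 : SL₂) ∈ Subgroup.closure (unip (K.comap tgl)))) := by
  classical
  set q := Fintype.card F with hq
  set K₀ := K.comap tgl with hK₀
  by_cases htop : K₀ = ⊤
  · exact Or.inl htop
  right
  have hclos : ∀ u ∈ unip K₀, u ∈ unip (Subgroup.closure (unip K₀)) := fun u hu =>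
    ⟨Subgroup.subset_closure hu, hu.2⟩
  have hle : Subgroup.closure (unip K₀) ≤ K₀ := (Subgroup.closure_le _).2 fun u hu => hu.1
  have hdich : (∀ u ∈ unip K₀, ∀ w ∈ unip K₀, Commute u w) ∨
      ((-1 : SL₂) ∈ Subgroup.closure (unip K₀) ∧ Nat.card (unip K₀) ≤ q) := by
    rcases unip_dichotomy p h2 (Subgroup.closure (unip K₀)) with h | ⟨hm, h | h | h⟩
    · exact Or.inl fun u hu w hw => h u (hclos u hu) w (hclos w hw)
    · exact absurd (eq_top_iff.2 (h ▸ hle)) htop
    · exact absurd h h9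
    · exact Or.inr ⟨hm, (Nat.card_le_card_of_injective (fun u : unip K₀ =>
        (⟨u.1, hclos _ u.2⟩ : unip (Subgroup.closure (unip K₀))))
        fun a b e => Subtype.ext (congrArg Subtype.val e :)).trans h⟩
  have hN : Nat.card (unip K₀) ≤ q := hdich.elim (card_unip_le_of_commute h2 K₀) And.right
  -- fixed lines
  let pl : GL₂ → ℙ F (Fin 2 → F) := fun g =>
    if h : ∃ v : Fin 2 → F, v ≠ 0 ∧ (g : M₂) *ᵥ v = v then Projectivization.mk F h.choose h.choose_spec.1
    else Projectivization.mk F (fun _ => 1) (fun e => one_ne_zero (congrFun e 0))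
  have hpl : ∀ (g : GL₂) (v : Fin 2 → F) (hv : v ≠ 0), g ≠ 1 → (g : M₂) *ᵥ v = v →
      pl g = Projectivization.mk F v hv := by
    intro g v hv hg hgv
    have h : ∃ w : Fin 2 → F, w ≠ 0 ∧ (g : M₂) *ᵥ w = w := ⟨v, hv, hgv⟩
    simp only [pl, dif_pos h]
    obtain ⟨c, hc⟩ := exists_smul_of_fixed (fun e => hg (Units.ext e)) hv hgv h.choose_spec.2
    exact (Projectivization.mk_eq_mk_iff' F _ _ _ _).2 ⟨c, hc.symm⟩
  have hJfix : ∀ i ∈ Jset K, ∃ (v : Fin 2 → F) (hv : v ≠ 0),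
      (i : M₂) *ᵥ v = v ∧ pl i = Projectivization.mk F v hv := by
    intro i hi
    obtain ⟨v, hv, hiv⟩ := exists_fixed h2 (jset_facts h2 hi).1
      fun e => hi.2.2.2 (Units.ext (by rw [Units.val_neg, Units.val_one, e]))
    exact ⟨v, hv, hiv, hpl i v hv hi.2.2.1 hiv⟩
  have hsame : ∀ i ∈ Jset K, ∀ j ∈ Jset K, pl i = pl j → ∃ u ∈ unip K₀, tgl u = i * j ∧
      (u ≠ 1 → pl (tgl u) = pl j) := by
    intro i hi j hj h
    obtain ⟨v, hv, hiv, hp⟩ := hJfix i hi
    obtain ⟨w, hw, hjw, hp'⟩ := hJfix j hj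
    obtain ⟨c, hc⟩ := (Projectivization.mk_eq_mk_iff' F v w hv hw).1 (by rw [← hp, h, hp'])
    have hjv : (j : M₂) *ᵥ v = v := by rw [← hc, Matrix.mulVec_smul, hjw]
    obtain ⟨u, hu, hue, huv⟩ := exists_unip h2 hi hj hv hiv hjv
    refine ⟨u, hu, hue, fun hu1 => ?_⟩
    rw [hpl (tgl u) v hv (fun e => hu1 (Matrix.SpecialLinearGroup.toGL_injective (e.trans (map_one _).symm))) huv,
      hpl j v hv hj.2.2.1 hjv]
  let rep : ℙ F (Fin 2 → F) → GL₂ := fun P => if h : ∃ i ∈ Jset K, pl i = P then h.choose else 1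
  have hrep : ∀ i ∈ Jset K, rep (pl i) ∈ Jset K ∧ pl (rep (pl i)) = pl i := fun i hi => by
    have h : ∃ j ∈ Jset K, pl j = pl i := ⟨i, hi, rfl⟩
    simp only [rep, dif_pos h]
    exact h.choose_spec
  let U1 : Set SL₂ := unip K₀ \ {1}
  have hmk : ∀ i : Jset K, (i : GL₂) ≠ rep (pl i) → ∃ u : U1, tgl (u : SL₂) = i * rep (pl i) := by
    intro i hne
    obtain ⟨hr, hrp⟩ := hrep i i.2
    obtain ⟨u, hu, hue, -⟩ := hsame i i.2 _ hr hrp.symm
    refine ⟨⟨u, hu, fun h1 => hne ?_⟩, hue⟩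
    rw [Set.mem_singleton_iff.1 h1, map_one] at hue
    calc (i : GL₂) = i * (rep (pl i) * rep (pl i)) := by rw [hr.2.1, mul_one]
      _ = rep (pl i) := by rw [← mul_assoc, ← hue, one_mul]
  let f : Jset K → ℙ F (Fin 2 → F) ⊕ U1 := fun i =>
    if h : (i : GL₂) = rep (pl i) then Sum.inl (pl i) else Sum.inr (hmk i h).choose
  have hf : Function.Injective f := by
    intro a b hab
    simp only [f] at hab
    split_ifs at hab with ha hb hb
    · exact Subtype.ext (by rw [ha, hb, Sum.inl.inj hab])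
    · have ea := (hmk a ha).choose_spec
      have eb := (hmk b hb).choose_spec
      rw [Sum.inr.inj hab] at ea
      have line : ∀ (i : Jset K) (u : U1), tgl (u : SL₂) = i * rep (pl i) → pl (tgl (u : SL₂)) = pl i := by
        intro i u hu
        obtain ⟨hr, hrp⟩ := hrep i i.2
        obtain ⟨u', hu', hue, hl⟩ := hsame i i.2 _ hr hrp.symm
        obtain rfl : u' = u := Matrix.SpecialLinearGroup.toGL_injective (hue.trans hu.symm)
        rw [hl u.2.2, hrp]
      have hp : pl a = pl b := (line a _ ea).symm.trans (line b _ eb)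
      exact Subtype.ext (mul_right_cancel (ea.symm.trans (eb.trans (by rw [hp]))))
  have hP : Nat.card (ℙ F (Fin 2 → F)) = q + 1 := by
    rw [Projectivization.card_of_finrank_two F (Fin 2 → F) (by simp), Nat.card_eq_fintype_card]
  have h1mem : (1 : SL₂) ∈ unip K₀ := ⟨K₀.one_mem, SL2.tr_one⟩
  have hU : Nat.card U1 + 1 = Nat.card (unip K₀) := by
    rw [Nat.card_coe_set_eq, Nat.card_coe_set_eq]
    exact Set.ncard_diff_singleton_add_one h1mem (Set.toFinite _)
  have hbound : Nat.card (Jset K) ≤ (q + 1) + Nat.card U1 := by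
    refine (Nat.card_le_card_of_injective f hf).trans (le_of_eq ?_)
    rw [Nat.card_sum, hP]
  rcases lt_or_ge (Nat.card (Jset K)) (2 * q) with h | h
  · exact Or.inl h
  refine Or.inr ⟨by omega, ?_⟩
  have hbij : Function.Bijective f := by
    refine (Nat.bijective_iff_injective_and_card f).2 ⟨hf, ?_⟩
    rw [Nat.card_sum, hP]
    omega
  have hprod : ∀ u ∈ unip K₀, u ≠ 1 → ∃ i ∈ Jset K, ∃ j ∈ Jset K, tgl u = i * j := by
    intro u hu hu1
    obtain ⟨i, hi⟩ := hbij.2 (Sum.inr ⟨u, hu, hu1⟩)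
    simp only [f] at hi
    split_ifs at hi with hc
    have e := (hmk i hc).choose_spec
    rw [Sum.inr.inj hi] at e
    exact ⟨i, i.2, _, (hrep i i.2).1, e⟩
  rcases hdich with hcomm | ⟨hm, -⟩
  swap
  · exact Or.inr ⟨hprod, hm⟩
  left
  -- all unipotent elements fix one line
  obtain ⟨u₀, hu₀, hu₀1⟩ : ∃ u ∈ unip K₀, u ≠ 1 := by
    by_contra hc
    push Not at hc
    haveI : Subsingleton (unip K₀) := ⟨fun a b => Subtype.ext ((hc a a.2).trans (hc b b.2).symm)⟩
    have := Finite.card_le_one_iff_subsingleton.2 ‹Subsingleton (unip K₀)›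
    have := Fintype.one_lt_card (α := F)
    omega
  have hM1 : (u₀ : M₂) ≠ 1 := fun e => hu₀1 (Subtype.ext e)
  obtain ⟨v, hv, hu₀v⟩ : ∃ v : Fin 2 → F, v ≠ 0 ∧ (u₀ : M₂) *ᵥ v = v := by
    have hd := SL2.det_eq u₀
    have ht := hu₀.2
    rw [SL2.tr] at ht
    obtain ⟨v, hv, h⟩ := Matrix.exists_mulVec_eq_zero_iff.2
      (show ((u₀ : M₂) - 1).det = 0 by rw [Matrix.det_fin_two]; simp; linear_combination hd - ht)
    exact ⟨v, hv, by rwa [Matrix.sub_mulVec, Matrix.one_mulVec, sub_eq_zero] at h⟩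
  have hufix : ∀ u ∈ unip K₀, (u : M₂) *ᵥ v = v := by
    intro u hu
    obtain ⟨c, hc⟩ := exists_smul_of_fixed hM1 hv hu₀v (w := (u : M₂) *ᵥ v) (by
      rw [Matrix.mulVec_mulVec, ← Matrix.SpecialLinearGroup.coe_mul, ← (hcomm u hu u₀ hu₀).eq,
        Matrix.SpecialLinearGroup.coe_mul, ← Matrix.mulVec_mulVec, hu₀v])
    exact eigen_unip hu.2 hv hc
  refine ⟨v, hv, fun i hi => ?_, ?_⟩
  · obtain ⟨hii, hdet, -⟩ := jset_facts h2 hi
    set u' : SL₂ := ⟨(i : M₂) * (u₀ : M₂) * (i : M₂), by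
      rw [Matrix.det_mul, Matrix.det_mul, hdet, u₀.2]; ring⟩ with hu'
    have hu'K : u' ∈ unip K₀ := by
      refine ⟨?_, ?_⟩
      · rw [hK₀, Subgroup.mem_comap]
        have : tgl u' = i * tgl u₀ * i := Units.ext rfl
        rw [this]
        exact K.mul_mem (K.mul_mem hi.1 hu₀.1) hi.1
      · have ht : SL2.tr u' = Matrix.trace ((i : M₂) * (u₀ : M₂) * (i : M₂)) := by
          rw [SL2.tr, Matrix.trace_fin_two]
        rw [ht, Matrix.trace_mul_comm, ← Matrix.mul_assoc, hii, one_mul, Matrix.trace_fin_two]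
        exact hu₀.2
    have h := hufix u' hu'K
    change ((i : M₂) * (u₀ : M₂) * (i : M₂)) *ᵥ v = v at h
    have h' := congrArg (fun z => (i : M₂) *ᵥ z) h
    simp only [Matrix.mulVec_mulVec] at h'
    rw [← Matrix.mul_assoc, ← Matrix.mul_assoc, hii, one_mul, ← Matrix.mulVec_mulVec] at h'
    exact exists_smul_of_fixed hM1 hv hu₀v h'
  · intro hneg i hii hi1 hin hev
    obtain ⟨c, hc⟩ := hev
    have hI : (i : M₂) * (i : M₂) = 1 := by rw [← Units.val_mul, hii, Units.val_one]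
    have hcc : c = 1 ∨ c = -1 := by
      have h := congrArg (fun z : M₂ => z *ᵥ v) hI
      simp only [← Matrix.mulVec_mulVec, hc, Matrix.mulVec_smul, Matrix.one_mulVec, smul_smul] at h
      exact mul_self_eq_one_iff.1 (smul_left_injective F hv (by simp only [one_smul]; exact h))
    suffices hplus : ∀ j : GL₂, j * j = 1 → j ≠ 1 → j ≠ -1 → (j : M₂) *ᵥ v = v → j ∈ K by
      rcases hcc with rfl | rfl
      · exact hplus i hii hi1 hin (by rw [hc, one_smul])
      · have h := hplus (-i) (by rw [neg_mul_neg, hii]) (fun e => hin (by rw [← e, neg_neg]))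
          (fun e => hi1 (neg_injective e)) (by rw [Units.val_neg, Matrix.neg_mulVec, hc, neg_smul, one_smul, neg_neg])
        have := K.mul_mem hneg h
        rwa [neg_mul_neg, one_mul] at this
    intro j hj hj1 hjn hjv
    obtain ⟨i₀, hi₀⟩ := hbij.2 (Sum.inl (Projectivization.mk F v hv))
    simp only [f] at hi₀
    split_ifs at hi₀ with hc0
    obtain ⟨w, hw, hiw, hp⟩ := hJfix i₀ i₀.2
    obtain ⟨c0, hc0'⟩ := (Projectivization.mk_eq_mk_iff' F v w hv hw).1 (by rw [← hp, Sum.inl.inj hi₀])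
    have hi₀v : ((i₀ : GL₂) : M₂) *ᵥ v = v := by rw [← hc0', Matrix.mulVec_smul, hiw]
    have hjT : j ∈ Jset (⊤ : Subgroup GL₂) := ⟨Subgroup.mem_top _, hj, hj1, hjn⟩
    have hiT : (i₀ : GL₂) ∈ Jset (⊤ : Subgroup GL₂) := ⟨Subgroup.mem_top _, i₀.2.2⟩
    obtain ⟨u, hu, hue, huv⟩ := exists_unip h2 hjT hiT hv hjv hi₀v
    have huK : u ∈ K₀ := by
      by_contra hne
      -- the unipotent elements fixing the vector commute, so there are at most `q` of them
      let S : Subgroup SL₂ :=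
        { carrier := {x | (x : M₂) *ᵥ v = v}
          one_mem' := by show ((1 : SL₂) : M₂) *ᵥ v = v; rw [Matrix.SpecialLinearGroup.coe_one, Matrix.one_mulVec]
          mul_mem' := fun {x y} hx hy => by
            show ((x * y : SL₂) : M₂) *ᵥ v = v
            rw [Matrix.SpecialLinearGroup.coe_mul, ← Matrix.mulVec_mulVec, hy, hx]
          inv_mem' := fun {x} hx => by
            show ((x⁻¹ : SL₂) : M₂) *ᵥ v = v
            conv_lhs => rw [← hx, Matrix.mulVec_mulVec, ← Matrix.SpecialLinearGroup.coe_mul, inv_mul_cancel]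
            rw [Matrix.SpecialLinearGroup.coe_one, Matrix.one_mulVec] }
      have hS : ∀ x ∈ unip S, ∀ y ∈ unip S, Commute x y := by
        intro x hx y hy
        exact commute_of_fix hv hx.1 hx.2 hy.1 hy.2
      have := card_unip_le_of_commute h2 S hS
      have hsub : unip K₀ ⊂ unip S := ⟨fun x hx => ⟨hufix x hx, hx.2⟩, fun hh => hne (hh ⟨huv, hu.2⟩).1⟩
      have hlt := Set.ncard_lt_ncard hsub (Set.toFinite _)
      rw [← Nat.card_coe_set_eq, ← Nat.card_coe_set_eq] at hlt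
      omega
    have e : j = tgl u * i₀ := by rw [hue, mul_assoc, i₀.2.2.1, mul_one]
    rw [e]
    exact K.mul_mem huK i₀.2.1

end Cfsg.Agent.Invol.AbgOrder
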