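import Cfsg.Agent.Lib.Char.CliffordCorr
import Cfsg.Agent.Lib.Invol.AbgOrder.BudgetCount
import Cfsg.Agent.Lib.Grp.SL2Basic

/-!
# The data of the budget, the two halves of the character, isotypic parts

`σ : C → X` has kernel `O` of odd order, `gl : GL(2, q) → X` has odd central kernel, `z, w` lie over `-1` and
`diag(1, -1)`; the character `χ` takes the value `κ` on `z` times odd elements and `d₁ + π` on `w`, `zw` times the
elements of `O` centralised by `w`.
-/

set_option autoImplicit false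
set_option linter.unusedSectionVars false
set_option linter.style.haveILetI false

namespace Cfsg.Agent.Invol.AbgOrder

open Cfsg Cfsg.Agent.Char Matrix
open scoped ComplexConjugate

universe u v t

section General

variable {C : Type u} [Group C] [Fintype C] (N : Subgroup C) [N.Normal]

/-- A character minus its average over a normal subgroup is a character. -/
theorem isChar_sub_avgN [Fintype N] {χ : C → ℂ} (h : IsCharacter C χ) :
    IsCharacter C (χ - Char.avgN N χ) := by
  classical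
  obtain ⟨a, rfl⟩ := IsChar.exists_decomp h
  rw [avgN_sum, ← Finset.sum_sub_distrib]
  refine IsChar.sum fun φ _ => ?_
  rw [avgN_smul, ← smul_sub]
  refine IsChar.nsmul ?_ _
  rcases avgN_irr N φ.2 with ⟨-, e⟩ | ⟨-, e⟩ <;> rw [e]
  · rw [sub_zero]; exact IsIrr.isCharacter φ.2
  · rw [sub_self]; exact IsChar.zero

variable {N}

/-- The part of `φ` over `θ`, as a formula. -/
noncomputable def isoPart [Fintype N] (φ : C → ℂ) (θ : N → ℂ) (g : C) : ℂ :=
  θ 1 * (Nat.card N : ℂ)⁻¹ * ∑ o : N, conj (θ o) * φ ((o : C) * g)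

/-- On a subgroup fixing `θ` the part over `θ` is the sum of the constituents lying over it. -/
theorem exists_isoPart_decomp [Fintype N] {φ : C → ℂ} (hφ : IsCharacter C φ) {θ : N → ℂ}
    (hθ : IsIrrCharacter N θ) {K : Subgroup C} [Fintype K] (hNK : N ≤ K) (hK : K ≤ inertia N θ) :
    ∃ n : IrrCharacter K → ℕ, (fun g : K => isoPart φ θ g) = ∑ ψ, (n ψ : ℂ) • (ψ : K → ℂ) ∧
      ∀ ψ : IrrCharacter K, n ψ ≠ 0 → classInner (fun g : K => φ g) (ψ : K → ℂ) ≠ 0 ∧
        ∃ e : ℂ, ∀ o : N, (ψ : K → ℂ) ⟨o, hNK o.2⟩ = e * θ o := by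
  classical
  haveI : (N.subgroupOf K).Normal := Subgroup.Normal.subgroupOf inferInstance _
  obtain ⟨a, hai, ha⟩ := IsChar.exists_decomp_inner (IsChar.res hφ K)
  set f : K → ℂ := fun x => if h : (x : C) ∈ N then conj (θ ⟨x, h⟩) else 0 with hf
  have hfc : IsClassFunction K f := by
    intro x y
    by_cases h : (x : C) ∈ N
    · have h' : ((y * x * y⁻¹ : K) : C) ∈ N := (inferInstance : N.Normal).conj_mem _ h _
      simp only [hf, dif_pos h, dif_pos h']
      exact congrArg conj (congrFun ((mem_inertia N).1 (hK y.2)) ⟨x, h⟩)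
    · have h' : ((y * x * y⁻¹ : K) : C) ∉ N := fun hh => h (by
        have := (inferInstance : N.Normal).conj_mem _ hh (y : C)⁻¹
        simpa [mul_assoc] using this)
      simp only [hf, dif_neg h, dif_neg h']
  have hsum : ∀ F : K → ℂ, ∑ x : K, f x * F x = ∑ o : N, conj (θ o) * F ⟨o, hNK o.2⟩ := by
    intro F
    symm
    refine Finset.sum_bij_ne_zero (fun o _ _ => (⟨o, hNK o.2⟩ : K)) (fun _ _ _ => Finset.mem_univ _)
      (fun a _ _ b _ _ hab => Subtype.ext (congrArg (fun z : K => (z : C)) hab)) (fun b _ hb => ?_) ?_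
    · have hbN : (b : C) ∈ N := by
        by_contra hn
        simp [hf, hn] at hb
      exact ⟨⟨b, hbN⟩, Finset.mem_univ _, by simpa [hf, hbN] using hb, rfl⟩
    · intro o _ _
      simp [hf, o.2]
  have key : ∀ ψ : IrrCharacter K, ∃ b : ℕ, (b ≠ 0 → ∃ e : ℂ, ∀ o : N, (ψ : K → ℂ) ⟨o, hNK o.2⟩ = e * θ o) ∧
      ∀ g : K,
      θ 1 * (Nat.card N : ℂ)⁻¹ * ∑ o : N, conj (θ o) * (ψ : K → ℂ) (⟨o, hNK o.2⟩ * g) =
        (b : ℂ) * (ψ : K → ℂ) g := by
    intro ψ
    set θ' : N.subgroupOf K → ℂ := fun x => θ ⟨((x : K) : C), x.2⟩ with hθ'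
    have hθ'i : IsIrrCharacter (N.subgroupOf K) θ' := IsIrr.comp_mulEquiv (Subgroup.subgroupOfEquivOfLe hNK) hθ
    haveI : Fintype (N.subgroupOf K) := Fintype.ofFinite _
    have hin : classInner (fun x : N.subgroupOf K => (ψ : K → ℂ) x) θ' =
        (Nat.card N : ℂ)⁻¹ * ∑ o : N, conj (θ o) * (ψ : K → ℂ) ⟨o, hNK o.2⟩ := by
      rw [classInner, Nat.card_congr (Subgroup.subgroupOfEquivOfLe hNK).toEquiv]
      congr 1
      exact Fintype.sum_equiv (Subgroup.subgroupOfEquivOfLe hNK).toEquiv _ _ fun x => mul_comm _ _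
    have hval : ∀ g : K, θ 1 * (Nat.card N : ℂ)⁻¹ * ∑ o : N, conj (θ o) * (ψ : K → ℂ) (⟨o, hNK o.2⟩ * g) =
        θ 1 * classInner (fun x : N.subgroupOf K => (ψ : K → ℂ) x) θ' / (ψ : K → ℂ) 1 * (ψ : K → ℂ) g := by
      intro g
      rw [← hsum fun x => (ψ : K → ℂ) (x * g), sum_classFun_mul_apply ψ.2 hfc g, hsum, hin]
      ring
    by_cases h0 : classInner (fun x : N.subgroupOf K => (ψ : K → ℂ) x) θ' = 0
    · exact ⟨0, fun h => absurd rfl h, fun g => by rw [hval, h0]; simp⟩
    · have hinv : inertia (N.subgroupOf K) θ' = ⊤ := (Subgroup.eq_top_iff' _).2 fun y => funext fun x =>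
        congrFun ((mem_inertia N).1 (hK y.2)) ⟨((x : K) : C), x.2⟩
      have horb : conjOrbit (N.subgroupOf K) θ' = {θ'} := by
        ext f
        rw [mem_conjOrbit, Finset.mem_singleton]
        constructor
        · rintro ⟨y, rfl⟩
          exact (Subgroup.eq_top_iff' _).1 hinv y
        · rintro rfl
          exact ⟨1, conjN_one _ _⟩
      have hres := clifford (N.subgroupOf K) ψ.2 hθ'i h0
      rw [horb, Finset.sum_singleton] at hres
      refine ⟨1, fun _ => ⟨_, fun o => congrFun hres ⟨⟨o, hNK o.2⟩, o.2⟩⟩, fun g => ?_⟩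
      have hcl := clifford_one (N.subgroupOf K) ψ.2 hθ'i h0
      rw [hinv, Subgroup.index_top] at hcl
      rw [hval, hcl]
      have hθ1 : θ' 1 = θ 1 := rfl
      rw [hθ1]
      have hψ0 := IsIrr.one_ne_zero ψ.2
      rw [hcl, hθ1] at hψ0
      have hθ0 := IsIrr.one_ne_zero hθ
      push_cast at hψ0 ⊢
      field_simp
  choose b hb hb' using key
  have he : (fun g : K => isoPart φ θ g) = ∑ ψ, ((a ψ * b ψ : ℕ) : ℂ) • (ψ : K → ℂ) := by
    funext g
    have hφg : ∀ x : K, φ x = ∑ ψ : IrrCharacter K, (a ψ : ℂ) * (ψ : K → ℂ) x := fun x => by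
      have := congrFun ha x
      rw [Finset.sum_apply] at this
      exact this
    rw [Finset.sum_apply]
    simp only [isoPart, Pi.smul_apply, smul_eq_mul, Nat.cast_mul, mul_assoc (a _ : ℂ), ← hb']
    rw [Finset.sum_congr rfl fun (o : N) _ => by
      rw [show φ ((o : C) * g) = φ ((⟨o, hNK o.2⟩ * g : K) : C) from rfl, hφg, Finset.mul_sum],
      Finset.sum_comm, Finset.mul_sum]
    refine Finset.sum_congr rfl fun ψ _ => ?_
    simp only [Finset.mul_sum]
    exact Finset.sum_congr rfl fun o _ => by ring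
  refine ⟨fun ψ => a ψ * b ψ, he, fun ψ hne => ⟨?_, hb ψ (right_ne_zero_of_mul hne)⟩⟩
  rw [hai, Nat.cast_ne_zero]
  exact left_ne_zero_of_mul hne

/-- On a subgroup fixing `θ` the part over `θ` is a character. -/
theorem isChar_isoPart [Fintype N] {φ : C → ℂ} (hφ : IsCharacter C φ) {θ : N → ℂ} (hθ : IsIrrCharacter N θ)
    {K : Subgroup C} (hNK : N ≤ K) (hK : K ≤ inertia N θ) :
    IsCharacter K (fun g : K => isoPart φ θ g) := by
  classical
  haveI : Fintype K := Fintype.ofFinite K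
  obtain ⟨n, hn, -⟩ := exists_isoPart_decomp hφ hθ hNK hK
  rw [hn]
  exact IsChar.sum fun ψ _ => IsChar.nsmul (IsIrr.isCharacter ψ.2) _

/-- On `N` it is a multiple of `θ`. -/
theorem isoPart_res [Fintype N] {φ : C → ℂ} (hφ : IsCharacter C φ) {θ : N → ℂ} (hθ : IsIrrCharacter N θ)
    (o : N) : isoPart φ θ o = classInner (fun x : N => φ x) θ * θ o := by
  classical
  obtain ⟨n, hn, hn'⟩ := exists_isoPart_decomp hφ hθ (le_refl N) (le_inertia N (IsIrr.classFun hθ))
  have hψ : ∀ ψ : IrrCharacter N, n ψ ≠ 0 → (ψ : N → ℂ) = θ := fun ψ h => by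
    obtain ⟨-, e, he⟩ := hn' ψ h
    by_contra hne
    have h0 := classInner_irr_ne ψ.2 hθ hne
    rw [show (ψ : N → ℂ) = e • θ from funext fun x => he x, classInner_smul_left, classInner_self_irr hθ,
      mul_one] at h0
    have h1 := he 1
    rw [h0, zero_mul] at h1
    exact IsIrr.one_ne_zero ψ.2 h1
  have hmul : ∀ x : N, isoPart φ θ x = (∑ ψ, (n ψ : ℂ)) * θ x := fun x => by
    have := congrFun hn x
    rw [Finset.sum_apply] at this
    rw [this, Finset.sum_mul]
    refine Finset.sum_congr rfl fun ψ _ => ?_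
    by_cases h : n ψ = 0
    · simp [h]
    · rw [Pi.smul_apply, smul_eq_mul, hψ ψ h]
  have h1 := hmul 1
  rw [Subgroup.coe_one, isoPart, Finset.sum_congr rfl fun (x : N) _ => by
    rw [mul_one, mul_comm (conj (θ x))], mul_assoc] at h1
  change θ 1 * classInner (fun x : N => φ x) θ = _ at h1
  rw [hmul, ← mul_left_cancel₀ (IsIrr.one_ne_zero hθ) (h1.trans (mul_comm _ _))]

/-- On `N` it is the multiplicity times `θ(1) θ`. -/
theorem isoPart_one [Fintype N] (φ : C → ℂ) (θ : N → ℂ) :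
    isoPart φ θ 1 = θ 1 * classInner (fun o : N => φ o) θ := by
  simp only [isoPart, classInner, mul_one, mul_assoc]
  congr 2
  exact Finset.sum_congr rfl fun o _ => mul_comm _ _

theorem isoPart_sum [Fintype N] (φ φ' : C → ℂ) (θ : N → ℂ) (g : C) :
    isoPart (φ + φ') θ g = isoPart φ θ g + isoPart φ' θ g := by
  simp [isoPart, mul_add, Finset.sum_add_distrib]

/-- Conjugation moves the part over `θ` to the part over the conjugate. -/
theorem isoPart_conj [Fintype N] {φ : C → ℂ} (hφ : IsClassFunction C φ) (θ : N → ℂ) (c g : C) :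
    isoPart φ (Char.conjN N c θ) g = isoPart φ θ (c * g * c⁻¹) := by
  rw [isoPart, isoPart]
  have h1 : Char.conjN N c θ 1 = θ 1 := by
    rw [conjN_eq_comp]
    show θ (conjEquivN N c 1) = θ 1
    rw [map_one]
  rw [h1]
  congr 1
  refine Fintype.sum_equiv (conjEquivN N c).toEquiv _ _ fun o => ?_
  rw [conjN_eq_comp]
  congr 1
  rw [← hφ _ c]
  congr 1
  show c * ((o : C) * g) * c⁻¹ = ((conjEquivN N c o : N) : C) * (c * g * c⁻¹)
  rw [conjEquivN_apply]
  group

end General

/-- The element `diag(1, -1)`. -/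
noncomputable def w0 (F : Type t) [Field F] : GL (Fin 2) F :=
  ⟨!![1, 0; 0, -1], !![1, 0; 0, -1], by ext i j; fin_cases i <;> fin_cases j <;> simp [Matrix.mul_apply],
    by ext i j; fin_cases i <;> fin_cases j <;> simp [Matrix.mul_apply]⟩

/-- The data of the budget (linear case). -/
structure BData (C : Type u) [Group C] (X : Type v) [Group X] (F : Type t) [Field F] [Fintype F] where
  z : C
  w : C
  σ : C →* X
  surj : Function.Surjective σ
  ker_odd : Odd (Nat.card σ.ker)
  z_central : ∀ c : C, c * z = z * c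
  z2 : z * z = 1
  w2 : w * w = 1
  gl : GL (Fin 2) F →* X
  gl_central : gl.ker ≤ Subgroup.center (GL (Fin 2) F)
  gl_odd : Odd (Nat.card gl.ker)
  gz : gl (-1) = σ z
  gw : gl (w0 F) = σ w
  range_normal : gl.range.Normal
  sl_normal : (Matrix.SpecialLinearGroup.toGL.range.map gl).Normal
  char2 : (2 : F) ≠ 0
  χ : C → ℂ
  isChar : IsCharacter C χ
  d1 : ℕ
  d1_pos : 0 < d1
  degree : χ 1 = (Fintype.card F : ℂ) ^ 2 + (Fintype.card F : ℂ) - 2 + d1
  κ : X → ℂ
  χ_odd : ∀ v : C, Odd (orderOf v) → χ (z * v) = κ (σ v)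
  κ_one : κ 1 = (Fintype.card F : ℂ) - 1 + d1
  κ_up : ∀ a : F, a ≠ 0 → κ (gl (Matrix.SpecialLinearGroup.toGL (Cfsg.Agent.Grp.SL2.up a))) = (d1 : ℂ) - 1
  πw : ↥(σ.ker ⊓ Subgroup.centralizer ({w} : Set C)) → ℂ
  πu : ↥(σ.ker ⊓ Subgroup.centralizer ({w} : Set C)) → ℂ
  πw_char : IsCharacter ↥(σ.ker ⊓ Subgroup.centralizer ({w} : Set C)) πw
  πu_char : IsCharacter ↥(σ.ker ⊓ Subgroup.centralizer ({w} : Set C)) πu
  πw_one : πw 1 = (Fintype.card F : ℂ) - 1
  πu_one : πu 1 = (Fintype.card F : ℂ) - 1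
  χ_w : ∀ y : ↥(σ.ker ⊓ Subgroup.centralizer ({w} : Set C)), χ (w * y) = d1 + πw y
  χ_zw : ∀ y : ↥(σ.ker ⊓ Subgroup.centralizer ({w} : Set C)), χ (z * w * y) = d1 + πu y

namespace BData

variable {C : Type u} [Group C] [Fintype C] {X : Type v} [Group X] {F : Type t} [Field F] [Fintype F]
  (B : BData C X F)

/-- The kernel. -/
abbrev O : Subgroup C := B.σ.ker

/-- The fixed points of `w` in the kernel. -/
abbrev R : Subgroup C := B.σ.ker ⊓ Subgroup.centralizer ({B.w} : Set C)

/-- The half with `z = 1`. -/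
noncomputable def χp (g : C) : ℂ := (B.χ g + B.χ (B.z * g)) / 2

/-- The half with `z = -1`. -/
noncomputable def χm (g : C) : ℂ := (B.χ g - B.χ (B.z * g)) / 2

theorem w_comm (y : B.R) : B.w * y = y * B.w :=
  (Subgroup.mem_centralizer_singleton_iff.1 y.2.2).symm

theorem eq_one_of_odd_ker {g : GL (Fin 2) F} (hg : g * g = 1) (h : B.gl g = 1) : g = 1 := by
  have hd : orderOf g ∣ 2 := orderOf_dvd_of_pow_eq_one (by rw [pow_two, hg])
  have ho : orderOf g ∣ Nat.card B.gl.ker := B.gl.ker.orderOf_dvd_natCard h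
  exact orderOf_eq_one_iff.1 (Nat.dvd_one.1 ((Nat.coprime_two_left.2 B.gl_odd) ▸ Nat.dvd_gcd hd ho))

theorem w0_sq : w0 F * w0 F = 1 :=
  Units.ext (by ext i j; fin_cases i <;> fin_cases j <;> simp [w0, Matrix.mul_apply])

theorem w0_ne (h2 : (2 : F) ≠ 0) : w0 F ≠ 1 ∧ w0 F ≠ -1 := by
  constructor <;> intro e
  · have h := congrArg (fun g : GL (Fin 2) F => (g : Matrix (Fin 2) (Fin 2) F) 1 1) e
    simp [w0] at h
    exact h2 (by linear_combination -h)
  · have h := congrArg (fun g : GL (Fin 2) F => (g : Matrix (Fin 2) (Fin 2) F) 0 0) e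
    simp [w0] at h
    exact h2 (by linear_combination h)

theorem σz_ne : B.σ B.z ≠ 1 := fun h => by
  have h1 := B.eq_one_of_odd_ker (g := -1) (by rw [neg_mul_neg, one_mul]) (B.gz.trans h)
  have h2 := congrArg (fun g : GL (Fin 2) F => (g : Matrix (Fin 2) (Fin 2) F) 0 0) h1
  simp at h2
  exact B.char2 (by linear_combination -h2)

theorem σw_ne : B.σ B.w ≠ 1 := fun h =>
  (w0_ne B.char2).1 (B.eq_one_of_odd_ker w0_sq (B.gw.trans h))

theorem z_ne : B.z ≠ 1 := fun h => B.σz_ne (by rw [h, map_one])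

theorem odd_of_ker {o : C} (ho : o ∈ B.O) : Odd (orderOf o) :=
  B.ker_odd.of_dvd_nat (B.O.orderOf_dvd_natCard ho)

/-- An element whose image has odd order has odd order. -/
theorem odd_of_image {g : C} (h : Odd (orderOf (B.σ g))) : Odd (orderOf g) := by
  have h1 : g ^ orderOf (B.σ g) ∈ B.O := by rw [MonoidHom.mem_ker, map_pow, pow_orderOf_eq_one]
  refine (h.mul (B.odd_of_ker h1)).of_dvd_nat (orderOf_dvd_of_pow_eq_one ?_)
  rw [pow_mul, pow_orderOf_eq_one]

theorem isChar_χp : IsCharacter C B.χp := by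
  classical
  haveI : (Subgroup.zpowers B.z).Normal := ⟨fun x hx g => by
    obtain ⟨k, rfl⟩ := Subgroup.mem_zpowers_iff.1 hx
    rw [((Commute.zpow_right (B.z_central g) k)).eq, mul_inv_cancel_right]
    exact hx⟩
  haveI : Fintype (Subgroup.zpowers B.z) := Fintype.ofFinite _
  have ho : orderOf B.z = 2 := orderOf_eq_prime (by rw [pow_two, B.z2]) B.z_ne
  have he : B.χp = Char.avgN (Subgroup.zpowers B.z) B.χ := by
    funext g
    have hu : (Finset.univ : Finset (Subgroup.zpowers B.z)) =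
        {1, ⟨B.z, Subgroup.mem_zpowers B.z⟩} := by
      refine (Finset.eq_univ_of_card _ ?_).symm
      rw [Finset.card_pair fun e => B.z_ne (congrArg Subtype.val e).symm, ← Nat.card_eq_fintype_card,
        Nat.card_zpowers, ho]
    rw [Char.avgN, Nat.card_zpowers, ho, hu, Finset.sum_pair fun e => B.z_ne (congrArg Subtype.val e).symm,
      χp]
    push_cast
    rw [one_mul]
    ring
  rw [he]
  exact IsChar.avgN _ B.isChar

theorem isChar_χm : IsCharacter C B.χm := by
  classical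
  haveI : (Subgroup.zpowers B.z).Normal := ⟨fun x hx g => by
    obtain ⟨k, rfl⟩ := Subgroup.mem_zpowers_iff.1 hx
    rw [((Commute.zpow_right (B.z_central g) k)).eq, mul_inv_cancel_right]
    exact hx⟩
  haveI : Fintype (Subgroup.zpowers B.z) := Fintype.ofFinite _
  have ho : orderOf B.z = 2 := orderOf_eq_prime (by rw [pow_two, B.z2]) B.z_ne
  have he : B.χm = B.χ - Char.avgN (Subgroup.zpowers B.z) B.χ := by
    funext g
    have hu : (Finset.univ : Finset (Subgroup.zpowers B.z)) =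
        {1, ⟨B.z, Subgroup.mem_zpowers B.z⟩} := by
      refine (Finset.eq_univ_of_card _ ?_).symm
      rw [Finset.card_pair fun e => B.z_ne (congrArg Subtype.val e).symm, ← Nat.card_eq_fintype_card,
        Nat.card_zpowers, ho]
    rw [Pi.sub_apply, Char.avgN, Nat.card_zpowers, ho, hu,
      Finset.sum_pair fun e => B.z_ne (congrArg Subtype.val e).symm, χm]
    push_cast
    rw [one_mul]
    ring
  rw [he]
  exact isChar_sub_avgN _ B.isChar

theorem χp_add_χm : B.χp + B.χm = B.χ := funext fun g => by simp only [Pi.add_apply, χp, χm]; ring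

theorem χp_sub_χm (g : C) : B.χp g - B.χm g = B.χ (B.z * g) := by simp only [χp, χm]; ring

theorem χp_z (g : C) : B.χp (B.z * g) = B.χp g := by
  simp only [χp, ← mul_assoc, B.z2, one_mul]; ring

theorem χm_z (g : C) : B.χm (B.z * g) = -B.χm g := by
  simp only [χm, ← mul_assoc, B.z2, one_mul]; ring

theorem χm_one : B.χm 1 = ((Fintype.card F : ℂ) ^ 2 - 1) / 2 := by
  rw [χm, B.degree, B.χ_odd 1 (by simp), map_one, B.κ_one]
  ring

theorem χp_w (y : B.R) : B.χp (B.w * y) = B.d1 + (B.πw y + B.πu y) / 2 := by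
  rw [χp, B.χ_w, ← mul_assoc, B.χ_zw]
  ring

end BData

end Cfsg.Agent.Invol.AbgOrder
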