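import Cfsg.Agent.Lib.Invol.AbgOrder.BudgetEllY
import Cfsg.Agent.Lib.Block.KleinFour
import Cfsg.Agent.Lib.Char.Complete
import Cfsg.Agent.Lib.Char.Constituent

/-!
# The value at an involution without fixed points

The square of its class sum is `q²` less two non-negative averages over root subgroups and Borel subgroups.  So an
irreducible character differs there from its average over the outer elements fixing infinity by at most
`2 / (q - 1)` of the degree.
-/

set_option autoImplicit false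
set_option linter.unusedSectionVars false
set_option linter.style.haveILetI false

namespace Cfsg.Agent.Invol.AbgOrder

open Matrix Cfsg.Agent.Grp.SL2 Cfsg Cfsg.Agent.Char
open scoped ComplexConjugate

universe u v

namespace EllY

variable {Y : Type u} [Group Y] [Fintype Y] {F : Type v} [Field F] [Fintype F] (e : EllY Y F)

local notation "SL₂" => Matrix.SpecialLinearGroup (Fin 2) F
local notation "M₂" => Matrix (Fin 2) (Fin 2) F
local notation "Gm" => (((e.gw : GL (Fin 2) F)) : Matrix (Fin 2) (Fin 2) F)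
local notation "Gi" => (((e.gw⁻¹ : GL (Fin 2) F)) : Matrix (Fin 2) (Fin 2) F)

open _root_.Classical in
/-- The average over the outer elements fixing infinity. -/
noncomputable def outAvg (f : Y → ℂ) : ℂ :=
  ((Finset.univ.filter (fun s : SL₂ => (s : M₂) 1 0 = 0)).card : ℂ)⁻¹ *
    ∑ s ∈ Finset.univ.filter (fun s : SL₂ => ((s : M₂) * Gm) 1 0 = 0), f (e.ι s * e.w)

/-- One outer element fixing infinity. -/
theorem exists_out : ∃ t : SL₂, ((t : M₂) * Gm) 1 0 = 0 := by
  obtain ⟨s, hs⟩ := e.exists_outer e.w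
  rcases e.mem_borel.1 hs with ⟨t, -, h⟩ | ⟨t, ht, -⟩
  · exfalso
    exact e.disj (s * t) (by rw [map_mul, ← h, mul_inv_cancel_left])
  · exact ⟨t, ht⟩

open _root_.Classical in
theorem sum_out (f : Y → ℂ) {t : SL₂} (ht : ((t : M₂) * Gm) 1 0 = 0) :
    ∑ s ∈ Finset.univ.filter (fun s : SL₂ => ((s : M₂) * Gm) 1 0 = 0), f (e.ι s * e.w) =
      ∑ b ∈ Finset.univ.filter (fun s : SL₂ => (s : M₂) 1 0 = 0), f (e.ι b * (e.ι t * e.w)) := by
  have hiff : ∀ b : SL₂, (((b * t : SL₂) : M₂) * Gm) 1 0 = 0 ↔ (b : M₂) 1 0 = 0 := by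
    intro b
    rw [← e.ι_w_mem_borel, map_mul, mul_assoc, Subgroup.mul_mem_cancel_right _ (e.ι_w_mem_borel.2 ht),
      e.ι_mem_borel]
  refine (Finset.sum_bij' (fun (b : SL₂) _ => b * t) (fun (s : SL₂) _ => s * t⁻¹) ?_ ?_ ?_ ?_ ?_).symm
  · intro b hb
    exact Finset.mem_filter.2 ⟨Finset.mem_univ _, (hiff b).2 (Finset.mem_filter.1 hb).2⟩
  · intro s hs
    refine Finset.mem_filter.2 ⟨Finset.mem_univ _, (hiff _).1 ?_⟩
    rw [inv_mul_cancel_right]
    exact (Finset.mem_filter.1 hs).2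
  · intro b _; exact mul_inv_cancel_right b t
  · intro s _; exact inv_mul_cancel_right s t
  · intro b _
    rw [map_mul, mul_assoc]

open _root_.Classical in
theorem sum_borel_split (f : Y → ℂ) :
    ∑ y : e.borel, f y = ∑ s ∈ Finset.univ.filter (fun s : SL₂ => (s : M₂) 1 0 = 0), f (e.ι s) +
      ∑ s ∈ Finset.univ.filter (fun s : SL₂ => ((s : M₂) * Gm) 1 0 = 0), f (e.ι s * e.w) := by
  let φ : {s : SL₂ // (s : M₂) 1 0 = 0} ⊕ {s : SL₂ // ((s : M₂) * Gm) 1 0 = 0} → e.borel :=
    Sum.elim (fun s => ⟨e.ι s.1, e.ι_mem_borel.2 s.2⟩) fun s => ⟨e.ι s.1 * e.w, e.ι_w_mem_borel.2 s.2⟩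
  have hφ : Function.Bijective φ := by
    refine ⟨?_, fun ⟨y, hy⟩ => ?_⟩
    · rintro (a | a) (b | b) h <;> have h' : ((φ _ : e.borel) : Y) = (φ _ : e.borel) := congrArg Subtype.val h <;>
        simp only [φ, Sum.elim_inl, Sum.elim_inr] at h'
      · rw [Subtype.ext (e.ι_inj h')]
      · exact absurd h' (e.ι_ne_ι_w _ _)
      · exact absurd h'.symm (e.ι_ne_ι_w _ _)
      · rw [Subtype.ext (e.ι_inj (mul_right_cancel h'))]
    · rcases e.mem_borel.1 hy with ⟨s, hs, rfl⟩ | ⟨s, hs, rfl⟩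
      · exact ⟨.inl ⟨s, hs⟩, rfl⟩
      · exact ⟨.inr ⟨s, hs⟩, rfl⟩
  rw [← hφ.sum_comp, Fintype.sum_sum_type]
  congr 1
  · exact (Finset.sum_subtype (Finset.univ.filter fun s : SL₂ => (s : M₂) 1 0 = 0) (fun x => by simp)
      fun s => f (e.ι s)).symm
  · exact (Finset.sum_subtype (Finset.univ.filter fun s : SL₂ => ((s : M₂) * Gm) 1 0 = 0) (fun x => by simp)
      fun s => f (e.ι s * e.w)).symm

open _root_.Classical in
theorem card_out : (Finset.univ.filter (fun s : SL₂ => ((s : M₂) * Gm) 1 0 = 0)).card =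
    (Finset.univ.filter (fun s : SL₂ => (s : M₂) 1 0 = 0)).card := by
  obtain ⟨t, ht⟩ := e.exists_out
  have h := e.sum_out (fun _ => (1 : ℂ)) ht
  simp only [Finset.sum_const, nsmul_eq_mul, mul_one] at h
  exact_mod_cast h

theorem card_pos_upper [DecidableEq F] : 0 < (Finset.univ.filter (fun s : SL₂ => (s : M₂) 1 0 = 0)).card :=
  Finset.card_pos.2 ⟨1, Finset.mem_filter.2 ⟨Finset.mem_univ _, by simp⟩⟩

/-- The linear character trivial exactly on `SL(2, q)`. -/
noncomputable def sgn : Y →* ℂˣ := by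
  classical
  refine MonoidHom.mk' (fun y => if y ∈ e.ι.range then 1 else -1) fun a b => ?_
  obtain ⟨s, rfl | rfl⟩ := e.dec a <;> obtain ⟨t, rfl | rfl⟩ := e.dec b
  all_goals
    have h0 : ∀ s : SL₂, e.ι s * e.w ∉ e.ι.range := fun s ⟨r, hr⟩ => e.ι_ne_ι_w r s hr
    have h1 : ∀ s : SL₂, e.ι s ∈ e.ι.range := fun s => ⟨s, rfl⟩
  · rw [← map_mul, if_pos (h1 _), if_pos (h1 _), if_pos (h1 _), mul_one]
  · rw [← mul_assoc, ← map_mul, if_neg (h0 _), if_pos (h1 _), if_neg (h0 _), one_mul]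
  · rw [show e.ι s * e.w * e.ι t = e.ι (s * inn e.gw t) * e.w by rw [mul_assoc, e.conj, ← mul_assoc, map_mul],
      if_neg (h0 _), if_neg (h0 _), if_pos (h1 _), mul_one]
  · rw [e.ι_mul_w, if_pos (h1 _), if_neg (h0 _), if_neg (h0 _), neg_mul_neg, one_mul]

theorem sgn_ι (s : SL₂) : e.sgn (e.ι s) = 1 := by
  classical
  show (if e.ι s ∈ e.ι.range then (1 : ℂˣ) else -1) = 1
  rw [if_pos ⟨s, rfl⟩]

theorem sgn_out (s : SL₂) : e.sgn (e.ι s * e.w) = -1 := by
  classical
  show (if e.ι s * e.w ∈ e.ι.range then (1 : ℂˣ) else -1) = -1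
  rw [if_neg fun ⟨r, hr⟩ => e.ι_ne_ι_w r s hr]

theorem ι_range_normal : e.ι.range.Normal := by
  refine ⟨?_⟩
  rintro _ ⟨t, rfl⟩ y
  obtain ⟨s, rfl | rfl⟩ := e.dec y
  · exact ⟨s * t * s⁻¹, by rw [map_mul, map_mul, map_inv]⟩
  · refine ⟨s * inn e.gw t * s⁻¹, ?_⟩
    rw [map_mul, map_mul, map_inv, ← e.w_ι_w, _root_.mul_inv_rev, e.w_inv]
    group

/-- The central involution. -/
theorem ι_neg_comm (y : Y) : e.ι (-1) * y = y * e.ι (-1) := by
  have hc : ∀ t : SL₂, (-1 : SL₂) * t = t * -1 := fun t => by rw [neg_one_mul, mul_neg_one]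
  have hinn : inn e.gw (-1 : SL₂) = -1 := Subtype.ext (by rw [inn_coe]; simp)
  obtain ⟨t, rfl | rfl⟩ := e.dec y
  · rw [← map_mul, hc, map_mul]
  · rw [mul_assoc, e.conj, hinn, ← mul_assoc, ← mul_assoc, ← map_mul, hc, map_mul]

open _root_.Classical in
theorem sum_perm_out : ∑ s ∈ Finset.univ.filter (fun s : SL₂ => ((s : M₂) * Gm) 1 0 = 0), e.perm (e.ι s * e.w) =
    2 * ((Finset.univ.filter (fun s : SL₂ => (s : M₂) 1 0 = 0)).card : ℂ) := by
  set S := Finset.univ.filter (fun s : SL₂ => (s : M₂) 1 0 = 0) with hS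
  have hSt := e.perm_sub_one_irr
  have h1 : IsIrrCharacter Y (fun _ => (1 : ℂ)) := isIrr_one
  have hne : (fun y => e.perm y - 1) ≠ fun _ => (1 : ℂ) := fun h => by
    have := congrFun h e.w
    simp only [e.perm_w] at this
    norm_num at this
  have hp : e.perm = (fun y => e.perm y - 1) + fun _ => (1 : ℂ) := funext fun y => by simp
  have hn : classInner e.perm e.perm = 2 := by
    rw [hp, classInner_add_left, classInner_add_right, classInner_add_right, classInner_self_irr hSt,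
      classInner_self_irr h1, classInner_irr_ne hSt h1 hne, classInner_irr_ne h1 hSt hne.symm]
    norm_num
  rw [show classInner e.perm e.perm = classInner (indFun e.borel fun _ => (1 : ℂ)) e.perm from rfl,
    classInner_indFun _ _ (show IsClassFunction Y e.perm from indFun_classFun _ _), classInner] at hn
  simp only [one_mul] at hn
  have hcard : (Nat.card e.borel : ℂ) = 2 * (S.card : ℂ) := by
    have h := e.sum_borel_split (fun _ => (1 : ℂ))
    rw [Finset.sum_const, Finset.sum_const, Finset.sum_const, e.card_out, Finset.card_univ,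
      ← Nat.card_eq_fintype_card] at h
    simp only [nsmul_eq_mul, mul_one] at h
    rw [h, two_mul]
  rw [inv_mul_eq_iff_eq_mul₀ (Nat.cast_ne_zero.2 Nat.card_pos.ne'), ← map_sum, hcard] at hn
  have hsum : ∑ y : e.borel, e.perm y = 4 * (S.card : ℂ) := by
    have := congrArg conj hn
    rw [Complex.conj_conj] at this
    rw [this, map_mul, map_mul, map_natCast, map_ofNat]
    ring
  rw [e.sum_borel_split] at hsum
  simp only [e.perm_ι] at hsum
  rw [← Nat.cast_sum, sum_fixN_borel] at hsum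
  push_cast at hsum
  linear_combination hsum

open _root_.Classical in
theorem perm_one : e.perm 1 = (Fintype.card F : ℂ) + 1 := by
  rw [← map_one e.ι, e.perm_ι, fixN_cen ((isCen_iff 1).2 (Or.inl rfl))]
  push_cast
  rfl

open _root_.Classical in
/-- The value of the class sum squared. -/
theorem spec_sq {ψ : Y → ℂ} (hψ : IsIrrCharacter Y ψ) (hz : ∀ y, ψ (e.ι (-1) * y) = ψ y)
    (h0 : ∑ s : SL₂, ψ (e.ι s) = 0) (hB : ∑ s ∈ Finset.univ.filter (fun s : SL₂ => (s : M₂) 1 0 = 0), ψ (e.ι s) = 0) :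
    ∃ n : ℕ, ((Fintype.card F : ℂ) * ((Fintype.card F : ℂ) - 1) * ψ e.w) ^ 2 =
      (4 * (Fintype.card F : ℂ) ^ 2 * ψ 1 -
        2 * (Fintype.card F : ℂ) ^ 2 * ((Fintype.card F : ℂ) + 1) * n) * ψ 1 := by
  set q := Fintype.card F
  haveI : Fintype (Ell e.ν) := Fintype.ofFinite _
  set Kset : Finset Y := Finset.univ.map ⟨e.jOf, e.jOf_injective⟩ with hK
  let f : Y → ℂ := fun y => if y ∈ Kset then 1 else 0
  have hmemK : ∀ y, y ∈ Kset ↔ ∃ A, e.jOf A = y := fun y => by simp [hK]
  have hfc : IsClassFunction Y f := by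
    have key : ∀ x g : Y, x ∈ Kset → g * x * g⁻¹ ∈ Kset := by
      intro x g hx
      obtain ⟨A, rfl⟩ := (hmemK x).1 hx
      obtain ⟨t, ht⟩ := e.exists_conj_jOf A
      obtain ⟨B, hB'⟩ := e.conj_w_mem (g * e.ι t)
      exact (hmemK _).2 ⟨B, by rw [← hB', ← ht]; group⟩
    intro x g
    have hiff : g * x * g⁻¹ ∈ Kset ↔ x ∈ Kset := ⟨fun h => by
      have := key _ g⁻¹ h
      rwa [inv_inv, show g⁻¹ * (g * x * g⁻¹) * g = x by group] at this, key x g⟩
    simp only [f, hiff]
  have hsumf : ∀ φ : Y → ℂ, ∑ y, f y * φ y = ∑ A : Ell e.ν, φ (e.jOf A) := fun φ => by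
    simp only [f, ite_mul, one_mul, zero_mul, Finset.sum_ite_mem, Finset.univ_inter, hK, Finset.sum_map]
    rfl
  have hval : ∀ A : Ell e.ν, ψ (e.jOf A) = ψ e.w := fun A => by
    obtain ⟨t, ht⟩ := e.exists_conj_jOf A
    rw [← ht]
    exact IsIrr.classFun hψ _ _
  have hM : (Fintype.card (Ell e.ν) : ℂ) = (q : ℂ) * ((q : ℂ) - 1) := by
    rw [← Nat.card_eq_fintype_card, card_Ell e.ν_ns, Nat.cast_mul, Nat.cast_sub Fintype.card_pos, Nat.cast_one]
  have h1 : ∑ A : Ell e.ν, ∑ B : Ell e.ν, ψ (e.jOf A * e.jOf B) * ψ 1 =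
      ((q : ℂ) * ((q : ℂ) - 1) * ψ e.w) ^ 2 := by
    rw [Finset.sum_comm]
    have h : ∀ B : Ell e.ν, ∑ A : Ell e.ν, ψ (e.jOf A * e.jOf B) * ψ 1 = (q : ℂ) * ((q : ℂ) - 1) * ψ e.w * ψ e.w := by
      intro B
      rw [← Finset.sum_mul, ← hsumf fun y => ψ (y * e.jOf B), sum_classFun_mul_apply hψ hfc, hsumf, hval B,
        Finset.sum_congr rfl fun A _ => hval A, Finset.sum_const, Finset.card_univ, nsmul_eq_mul, hM]
      field_simp [IsIrr.one_ne_zero hψ]
    rw [Finset.sum_congr rfl fun B _ => h B, Finset.sum_const, Finset.card_univ, nsmul_eq_mul, hM]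
    ring
  have h2 : ∑ A : Ell e.ν, ∑ B : Ell e.ν, ψ (e.jOf A * e.jOf B) = ∑ s : SL₂, (ellN e.ν s : ℂ) * ψ (e.ι s) := by
    have hN : ∀ s : SL₂, (ellN e.ν s : ℂ) * ψ (e.ι s) =
        ∑ A : Ell e.ν, if (A : M₂) * (s : M₂) ∈ Ell e.ν then ψ (e.ι s) else 0 := fun s => by
      rw [← Finset.sum_filter, Finset.sum_const, nsmul_eq_mul]
      congr 2
      rw [ellN, ← Fintype.card_subtype, ← Nat.card_eq_fintype_card]
      exact (Nat.card_congr (Equiv.subtypeSubtypeEquivSubtypeInter (fun A : M₂ => A ∈ Ell e.ν)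
        (fun A : M₂ => A * (s : M₂) ∈ Ell e.ν))).symm
    simp only [hN]
    conv_rhs => rw [Finset.sum_comm]
    refine Finset.sum_congr rfl fun s _ => ?_
    rw [← Finset.sum_filter]
    have hdet : ∀ A B : Ell e.ν, (e.ν⁻¹ • ((A : M₂) * (B : M₂))).det = 1 := fun A B => by
      rw [det_smul, det_mul, A.2.2, B.2.2, Fintype.card_fin]
      have := e.ν_ne
      field_simp
    have hB' : ∀ A B : Ell e.ν, (A : M₂) * ((⟨_, hdet A B⟩ : SL₂) : M₂) = (B : M₂) := fun A B => by
      show (A : M₂) * (e.ν⁻¹ • ((A : M₂) * (B : M₂))) = (B : M₂)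
      rw [Matrix.mul_smul, ← Matrix.mul_assoc, Ell.mul_self A.2, Matrix.smul_mul, Matrix.one_mul, smul_smul,
        inv_mul_cancel₀ e.ν_ne, one_smul]
    refine Finset.sum_bij' (fun (B : Ell e.ν) _ => (⟨_, hdet s B⟩ : SL₂))
      (fun (t : SL₂) ht => (⟨(s : M₂) * (t : M₂), (Finset.mem_filter.1 ht).2⟩ : Ell e.ν)) ?_ ?_ ?_ ?_ ?_
    · intro B _
      refine Finset.mem_filter.2 ⟨Finset.mem_univ _, ?_⟩
      rw [hB']
      exact B.2
    · intro t _
      exact Finset.mem_univ _
    · intro B _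
      exact Subtype.ext (hB' s B)
    · intro t _
      refine Subtype.ext ?_
      show e.ν⁻¹ • ((s : M₂) * ((s : M₂) * (t : M₂))) = (t : M₂)
      rw [← Matrix.mul_assoc, Ell.mul_self s.2, Matrix.smul_mul, Matrix.one_mul, smul_smul,
        inv_mul_cancel₀ e.ν_ne, one_smul]
    · intro B _
      exact congrArg ψ (e.jOf_mul s B _ rfl)
  -- the sums over fixed points
  have hcls : ∀ g s : SL₂, ψ (e.ι (g * s * g⁻¹)) = ψ (e.ι s) := fun g s => by
    rw [map_mul, map_mul, map_inv]; exact IsIrr.classFun hψ _ _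
  have hf1 := sum_fixN_mul (fun s => ψ (e.ι s)) hcls
  have hf2 := sum_fixN_mul (fun s => if tr s ^ 2 = 4 then (q : ℂ) * ψ (e.ι s) else 0) fun g s => by
    simp only [tr_conj, hcls]
  rw [hB, mul_zero] at hf1
  let hom : Multiplicative F →* Y := e.ι.comp (MonoidHom.mk' (fun a => up a.toAdd) fun a b => (up_mul _ _).symm)
  haveI : Fintype (Multiplicative F) := Fintype.ofFinite _
  obtain ⟨n, hn⟩ := IsChar.classInner_nat (IsChar.comp hom (IsIrr.isCharacter hψ))
    (IsIrr.isCharacter (isIrr_one (G := Multiplicative F)))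
  have hU : ∑ a : F, ψ (e.ι (up a)) = (q : ℂ) * n := by
    rw [classInner] at hn
    simp only [map_one, mul_one] at hn
    rw [Nat.card_congr Multiplicative.toAdd, Nat.card_eq_fintype_card,
      inv_mul_eq_iff_eq_mul₀ (Nat.cast_ne_zero.2 Fintype.card_ne_zero)] at hn
    rw [← hn]
    exact Fintype.sum_equiv Multiplicative.ofAdd _ _ fun a => rfl
  have hBU : ∑ s ∈ Finset.univ.filter (fun s : SL₂ => (s : M₂) 1 0 = 0),
      (if tr s ^ 2 = 4 then (q : ℂ) * ψ (e.ι s) else 0) = 2 * (q : ℂ) ^ 2 * n := by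
    rw [← Finset.sum_filter, ← Finset.mul_sum]
    have hbij : ∑ s ∈ (Finset.univ.filter (fun s : SL₂ => (s : M₂) 1 0 = 0)).filter (fun s => tr s ^ 2 = 4),
        ψ (e.ι s) = ∑ a : F × Bool, ψ (e.ι (up a.1)) := by
      have hneg : ∀ a : F, ((-up a : SL₂) : M₂) = !![-1, -a; 0, -1] := fun a => by
        show -(!![1, a; 0, 1] : M₂) = _
        ext i j; fin_cases i <;> fin_cases j <;> simp
      have hpos : ∀ a : F, ((up a : SL₂) : M₂) = !![1, a; 0, 1] := fun a => rfl
      let g : F × Bool → SL₂ := fun a => if a.2 then up a.1 else -up a.1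
      have hg : Function.Injective g := by
        rintro ⟨a, i⟩ ⟨b, j⟩ h
        have h00 := congrArg (fun m : SL₂ => (m : M₂) 0 0) h
        have h01 := congrArg (fun m : SL₂ => (m : M₂) 0 1) h
        cases i <;> cases j <;> simp [g, hpos, hneg] at h00 h01 ⊢
        · exact h01
        · exact e.char2 (by linear_combination -h00)
        · exact e.char2 (by linear_combination h00)
        · exact h01
      have himg : (Finset.univ.filter (fun s : SL₂ => (s : M₂) 1 0 = 0)).filter (fun s => tr s ^ 2 = 4) =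
          Finset.univ.image g := by
        ext s
        simp only [Finset.mem_filter, Finset.mem_univ, true_and, Finset.mem_image]
        constructor
        · rintro ⟨h10, ht⟩
          have hd := det_eq s
          rw [h10, mul_zero, sub_zero] at hd
          rw [tr] at ht
          have heq : (s : M₂) 0 0 = (s : M₂) 1 1 :=
            sub_eq_zero.1 (mul_self_eq_zero.1 (by linear_combination ht - 4 * hd))
          rw [heq] at hd
          rcases mul_self_eq_one_iff.1 hd with h | h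
          · refine ⟨((s : M₂) 0 1, true), ?_⟩
            ext i j; fin_cases i <;> fin_cases j <;> simp [g, hpos, hneg, h10, heq, h]
          · refine ⟨(-(s : M₂) 0 1, false), ?_⟩
            ext i j; fin_cases i <;> fin_cases j <;> simp [g, hpos, hneg, h10, heq, h]
        · rintro ⟨⟨a, i⟩, rfl⟩
          cases i <;> simp [g, hpos, hneg, tr] <;> norm_num
      rw [himg, Finset.sum_image fun a _ b _ h => hg h]
      refine Finset.sum_congr rfl fun a _ => ?_
      obtain ⟨a, i⟩ := a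
      cases i <;> simp only [g, Bool.false_eq_true, if_false, if_true]
      rw [← neg_one_mul (up a), map_mul, hz]
    rw [hbij, Fintype.sum_prod_type, Finset.sum_congr rfl fun (a : F) _ => Fintype.sum_bool _,
      Finset.sum_add_distrib, hU]
    ring
  rw [hBU] at hf2
  have hcen : ∑ s : SL₂, (if IsCen s then 2 * (q : ℂ) ^ 2 else 0) * ψ (e.ι s) = 4 * (q : ℂ) ^ 2 * ψ 1 := by
    have hne : (1 : SL₂) ≠ -1 := fun h => by
      have := congrArg (fun m : SL₂ => (m : M₂) 0 0) h
      simp at this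
      exact e.char2 (by linear_combination this)
    simp only [ite_mul, zero_mul, isCen_iff]
    rw [← Finset.sum_filter, show Finset.univ.filter (fun s : SL₂ => s = 1 ∨ s = -1) = {1, -1} by ext; simp,
      Finset.sum_pair hne, map_one, show ψ (e.ι (-1)) = ψ 1 by have := hz 1; rwa [mul_one] at this]
    ring
  have hkey : ∀ s : SL₂, (ellN e.ν s : ℂ) * ψ (e.ι s) =
      ((q : ℂ) + 1) * ψ (e.ι s) + (if IsCen s then 2 * (q : ℂ) ^ 2 else 0) * ψ (e.ι s) -
        (fixN s : ℂ) * ψ (e.ι s) - (fixN s : ℂ) * (if tr s ^ 2 = 4 then (q : ℂ) * ψ (e.ι s) else 0) := by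
    intro s
    have h := congrArg (Nat.cast (R := ℂ)) (ellN_add e.char2 e.ν_ns s)
    push_cast at h
    split_ifs at h ⊢ <;> linear_combination ψ (e.ι s) * h
  refine ⟨n, ?_⟩
  rw [← h1]
  simp only [← Finset.sum_mul]
  rw [h2, Finset.sum_congr rfl fun s _ => hkey s]
  simp only [Finset.sum_sub_distrib, Finset.sum_add_distrib, ← Finset.mul_sum, h0, hcen, hf1, hf2]
  ring

open _root_.Classical in
/-- The bound at an irreducible character. -/
theorem bound_irr {ψ : Y → ℂ} (hψ : IsIrrCharacter Y ψ) :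
    ‖ψ e.w - e.outAvg ψ‖ * ((Fintype.card F : ℝ) - 1) ≤ 2 * (ψ 1).re := by
  set q := Fintype.card F with hq
  obtain ⟨d, hd, hd1⟩ := IsIrr.one_eq_pos hψ
  rw [hd1, Complex.natCast_re]
  set S := Finset.univ.filter (fun s : SL₂ => (s : M₂) 1 0 = 0) with hS
  have hS0 : (S.card : ℂ) ≠ 0 := Nat.cast_ne_zero.2 (EllY.card_pos_upper (F := F)).ne'
  obtain ⟨t, ht⟩ := e.exists_out
  have hq1 : (1 : ℝ) ≤ q := by exact_mod_cast Fintype.card_pos
  haveI := e.ι_range_normal
  haveI : Fintype e.ι.range := Fintype.ofFinite _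
  rcases avgN_irr e.ι.range hψ with ⟨h0, -⟩ | ⟨hker, -⟩
  swap
  · -- trivial on `SL(2, q)`
    have hconst : ∀ s : SL₂, ψ (e.ι s * e.w) = ψ e.w := fun s =>
      char_mul_ker (IsIrr.isCharacter hψ) (hker ⟨e.ι s, s, rfl⟩) e.w
    have : e.outAvg ψ = ψ e.w := by
      rw [outAvg, Finset.sum_congr rfl fun s _ => hconst s, Finset.sum_const, e.card_out, nsmul_eq_mul,
        inv_mul_cancel_left₀ hS0]
    rw [this, sub_self, norm_zero, zero_mul]
    positivity
  have hSL : ∑ s : SL₂, ψ (e.ι s) = 0 := by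
    rw [classInner] at h0
    simp only [map_one, mul_one] at h0
    have h0' := (mul_eq_zero.1 h0).resolve_left (inv_ne_zero (Nat.cast_ne_zero.2 Nat.card_pos.ne'))
    rw [← h0']
    exact Fintype.sum_equiv (MonoidHom.ofInjective e.ι_inj).toEquiv _ _ fun s => rfl
  by_cases hB : ∑ s ∈ S, ψ (e.ι s) = 0
  · -- no vector fixed by the Borel subgroup
    let N : Subgroup e.borel := e.ι.range.subgroupOf e.borel
    haveI : N.Normal := Subgroup.Normal.subgroupOf inferInstance _
    haveI : Fintype N := Fintype.ofFinite _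
    let φ : N → {s : SL₂ // (s : M₂) 1 0 = 0} := fun x => ⟨x.2.choose,
      e.ι_mem_borel.1 (x.2.choose_spec.symm ▸ x.1.2)⟩
    have hφv : ∀ x : N, e.ι (φ x).1 = ((x : e.borel) : Y) := fun x => x.2.choose_spec
    have hφ : Function.Bijective φ := by
      refine ⟨fun a b h => Subtype.ext (Subtype.ext (by rw [← hφv a, ← hφv b, h])), fun s => ?_⟩
      refine ⟨⟨⟨e.ι s.1, e.ι_mem_borel.2 s.2⟩, ⟨s.1, rfl⟩⟩, Subtype.ext (e.ι_inj ?_)⟩
      rw [hφv]
    have hsum : ∀ g : Y, ∑ x : N, ψ (((x : e.borel) : Y) * g) = ∑ s ∈ S, ψ (e.ι s * g) := fun g => by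
      rw [hS, Finset.sum_subtype (Finset.univ.filter fun s : SL₂ => (s : M₂) 1 0 = 0) (p := fun s : SL₂ => (s : M₂) 1 0 = 0)
        (fun x => by simp) fun s => ψ (e.ι s * g)]
      exact Fintype.sum_bijective φ hφ _ _ fun x => by rw [hφv]
    have havg : Char.avgN N (fun y : e.borel => ψ y) = 0 := by
      refine IsChar.eq_zero_of_one_eq_zero (IsChar.avgN _ (IsChar.res (IsIrr.isCharacter hψ) e.borel)) ?_
      simp only [Char.avgN, mul_one, mul_eq_zero]
      right
      have := hsum 1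
      simp only [mul_one] at this
      rw [this]
      exact hB
    have hout : e.outAvg ψ = 0 := by
      have h := congrFun havg ⟨e.ι t * e.w, e.ι_w_mem_borel.2 ht⟩
      simp only [Char.avgN, Subgroup.coe_mul, Pi.zero_apply, hsum, mul_eq_zero, inv_eq_zero, Nat.cast_eq_zero,
        Nat.card_pos.ne', false_or] at h
      rw [outAvg, e.sum_out _ ht, h, mul_zero]
    rw [hout, sub_zero]
    obtain ⟨k, hk⟩ := Block.char_involution_int ⟨ψ, hψ⟩ e.w2
    change ψ e.w = k at hk
    rw [hk, Complex.norm_intCast]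
    -- the sign of the central element
    obtain ⟨m, ρ, hρ, hρc, -, -⟩ := IsIrr.exists_rep hψ
    haveI := hρ
    obtain ⟨c, hc⟩ := schur_scalar ρ (ρ (e.ι (-1))) fun g =>
      (map_mul ρ _ g).symm.trans ((congrArg ρ (e.ι_neg_comm g)).trans (map_mul ρ g _))
    have hg : ∀ g, ψ (e.ι (-1) * g) = c * ψ g := fun g => by
      rw [← hρc, Representation.character, Representation.character, map_mul, hc, smul_mul_assoc,
        ← Module.End.one_eq_id, one_mul, map_smul, smul_eq_mul]
    have hc2 : c * c = 1 := by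
      have h := hg (e.ι (-1))
      rw [← map_mul, show (-1 : SL₂) * -1 = 1 by rw [neg_mul_neg, one_mul], map_one,
        show ψ (e.ι (-1)) = ψ (e.ι (-1) * 1) by rw [mul_one], hg 1, ← mul_assoc] at h
      exact mul_right_cancel₀ (IsIrr.one_ne_zero hψ) (h.symm.trans (one_mul _).symm)
    rcases mul_self_eq_one_iff.1 hc2 with rfl | rfl
    · obtain ⟨n, hn⟩ := e.spec_sq hψ (fun y => by rw [hg, one_mul]) hSL hB
      rw [hk, hd1] at hn
      have hn' : ((q : ℝ) * ((q : ℝ) - 1) * k) ^ 2 =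
          (4 * (q : ℝ) ^ 2 * d - 2 * (q : ℝ) ^ 2 * ((q : ℝ) + 1) * n) * d := by
        apply_fun ((↑) : ℝ → ℂ) using Complex.ofReal_injective
        push_cast
        exact hn
      have hle : ((q : ℝ) * (((q : ℝ) - 1) * |(k : ℝ)|)) ^ 2 ≤ ((q : ℝ) * (2 * d)) ^ 2 := by
        rw [show ((q : ℝ) * (((q : ℝ) - 1) * |(k : ℝ)|)) ^ 2 = ((q : ℝ) * ((q : ℝ) - 1) * k) ^ 2 by
          rw [mul_pow, mul_pow, sq_abs]; ring, hn']
        have : (0 : ℝ) ≤ (q : ℝ) ^ 2 * ((q : ℝ) + 1) * n * d := by positivity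
        nlinarith
      have h2 := (pow_le_pow_iff_left₀ (mul_nonneg (by linarith) (mul_nonneg (by linarith) (abs_nonneg _)))
        (by positivity) two_ne_zero).1 hle
      have := le_of_mul_le_mul_left h2 (by linarith)
      linarith
    · have h0 : ψ e.w = 0 := by
        have h := hg e.w
        have hng : -Gm ∈ Ell e.ν := ⟨by
          have := e.gw_mem.1
          simp only [Matrix.neg_apply]
          linear_combination -this, by
          rw [det_neg, e.gw_mem.2]; simp⟩
        obtain ⟨t', ht'⟩ := e.exists_conj_jOf ⟨-Gm, hng⟩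
        have e1 : e.jOf ⟨-Gm, hng⟩ = e.ι (-1) * e.w := by
          rw [jOf]
          congr 2
          refine Subtype.ext ?_
          show -Gm * Gi = _
          rw [Matrix.neg_mul, Units.mul_inv]
          simp
        rw [← e1, ← ht', IsIrr.classFun hψ] at h
        linear_combination h / 2
      have : k = 0 := by exact_mod_cast hk.symm.trans h0
      rw [this]
      simp
  · -- a constituent of the permutation character
    have hcases : ∃ μ : Y →* ℂˣ, (∀ s, μ (e.ι s) = 1) ∧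
        classInner (fun y : e.borel => ψ y) (fun y : e.borel => (μ y : ℂ)) ≠ 0 := by
      by_contra hno
      push Not at hno
      have a1 := hno 1 (fun s => rfl)
      have a2 := hno e.sgn e.sgn_ι
      rw [classInner, mul_eq_zero, or_iff_right (inv_ne_zero (Nat.cast_ne_zero.2 Nat.card_pos.ne'))] at a1 a2
      rw [e.sum_borel_split fun y => ψ y * conj ((1 : Y →* ℂˣ) y : ℂ)] at a1
      rw [e.sum_borel_split fun y => ψ y * conj (e.sgn y : ℂ)] at a2
      simp only [MonoidHom.one_apply, Units.val_one, map_one, mul_one] at a1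
      simp only [e.sgn_ι, e.sgn_out, Units.val_one, map_one, mul_one, Units.val_neg, map_neg, mul_neg,
        Finset.sum_neg_distrib] at a2
      exact hB (by linear_combination (a1 + a2) / 2)
    obtain ⟨μ, hμ, hne⟩ := hcases
    have hμc : ∀ y, (μ⁻¹ y : ℂ) = conj (μ y : ℂ) := fun y => by
      have h1 : μ y * μ y = 1 := by
        obtain ⟨s, rfl | rfl⟩ := e.dec y
        · rw [hμ, one_mul]
        · rw [← map_mul, e.ι_mul_w, hμ]
      have h2 : (μ y : ℂ) * (μ y : ℂ) = 1 := by rw [← Units.val_mul, h1, Units.val_one]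
      rw [MonoidHom.inv_apply, inv_eq_of_mul_eq_one_right h1]
      rcases mul_self_eq_one_iff.1 h2 with h | h <;> rw [h] <;> simp
    set ψ' : Y → ℂ := fun y => (μ⁻¹ y : ℂ) * ψ y with hψ'
    have hψ'i : IsIrrCharacter Y ψ' := IsIrr.mul_linear hψ _
    have hin : classInner ψ' e.perm ≠ 0 := by
      rw [perm, classInner_indFun_right _ _ (IsIrr.classFun hψ'i)]
      convert hne using 1
      simp only [classInner, hψ', hμc, map_one, mul_one]
      congr 1
      exact Finset.sum_congr rfl fun y _ => mul_comm _ _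
    have hψ'ne : ψ' ≠ fun _ => (1 : ℂ) := by
      intro h
      have hk : ∀ s : SL₂, ψ (e.ι s) = 1 := fun s => by
        have := congrFun h (e.ι s)
        simpa [hψ', hμ] using this
      simp only [hk, Finset.sum_const, Finset.card_univ, nsmul_eq_mul, mul_one, Nat.cast_eq_zero] at hSL
      exact Fintype.card_ne_zero hSL
    have hst : ψ' = fun y => e.perm y - 1 := by
      by_contra hne'
      apply hin
      rw [show e.perm = (fun y => e.perm y - 1) + fun _ => (1 : ℂ) from funext fun y => by simp,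
        classInner_add_right, classInner_irr_ne hψ'i e.perm_sub_one_irr hne', classInner_irr_ne hψ'i isIrr_one hψ'ne,
        add_zero]
    have hval : ∀ y, ψ y = (μ y : ℂ) * (e.perm y - 1) := fun y => by
      rw [← congrFun hst y, hψ', ← mul_assoc, ← Units.val_mul, MonoidHom.inv_apply, mul_inv_cancel,
        Units.val_one, one_mul]
    have hμw : ∀ s : SL₂, μ (e.ι s * e.w) = μ e.w := fun s => by rw [map_mul, hμ, one_mul]
    have ha : e.outAvg ψ = (μ e.w : ℂ) := by
      simp only [outAvg, hval, hμw]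
      rw [← Finset.mul_sum, Finset.sum_sub_distrib, e.sum_perm_out, Finset.sum_const, e.card_out, nsmul_eq_mul,
        mul_one, ← hS]
      field_simp
      ring
    have hn : ‖(μ e.w : ℂ)‖ = 1 := by
      have h : (μ e.w : ℂ) * (μ e.w : ℂ) = 1 := by
        rw [← Units.val_mul, ← map_mul, e.w2, map_one, Units.val_one]
      rcases mul_self_eq_one_iff.1 h with h | h <;> rw [h] <;> simp
    rw [ha, hval, e.perm_w, show (μ e.w : ℂ) * (0 - 1) - (μ e.w : ℂ) = (-2 : ℂ) * (μ e.w : ℂ) by ring,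
      norm_mul, hn, mul_one, norm_neg, Complex.norm_ofNat]
    have hdq : (d : ℝ) = q := by
      have h := hval 1
      rw [hd1, map_one, Units.val_one, one_mul, e.perm_one] at h
      have : (d : ℂ) = (q : ℂ) := by linear_combination h
      exact_mod_cast this
    rw [hdq]
    linarith

/-- The bound at a character. -/
theorem bound {τ : Y → ℂ} (hτ : IsCharacter Y τ) :
    ‖τ e.w - e.outAvg τ‖ * ((Fintype.card F : ℝ) - 1) ≤ 2 * (τ 1).re := by
  classical
  obtain ⟨a, rfl⟩ := IsChar.exists_decomp hτ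
  have hq1 : (0 : ℝ) ≤ (Fintype.card F : ℝ) - 1 := by
    have : (1 : ℝ) ≤ (Fintype.card F : ℝ) := by exact_mod_cast Fintype.card_pos
    linarith
  have hlin : (∑ φ : IrrCharacter Y, (a φ : ℂ) • (φ : Y → ℂ)) e.w -
      e.outAvg (∑ φ : IrrCharacter Y, (a φ : ℂ) • (φ : Y → ℂ)) =
        ∑ φ : IrrCharacter Y, (a φ : ℂ) * ((φ : Y → ℂ) e.w - e.outAvg (φ : Y → ℂ)) := by
    simp only [outAvg, Finset.sum_apply, Pi.smul_apply, smul_eq_mul, mul_sub, Finset.sum_sub_distrib]
    congr 1
    rw [Finset.sum_comm, Finset.mul_sum]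
    refine Finset.sum_congr rfl fun φ _ => ?_
    rw [Finset.mul_sum, Finset.mul_sum, Finset.mul_sum]
    exact Finset.sum_congr rfl fun s _ => by ring
  rw [hlin, Finset.sum_apply, Complex.re_sum, Finset.mul_sum]
  refine (mul_le_mul_of_nonneg_right (norm_sum_le _ _) hq1).trans ?_
  rw [Finset.sum_mul]
  refine Finset.sum_le_sum fun φ _ => ?_
  rw [norm_mul, Complex.norm_natCast, Pi.smul_apply, smul_eq_mul, Complex.mul_re, Complex.natCast_re,
    Complex.natCast_im, zero_mul, sub_zero, mul_assoc, ← mul_assoc 2, mul_comm 2, mul_assoc (a φ : ℝ)]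
  exact mul_le_mul_of_nonneg_left (e.bound_irr φ.2) (Nat.cast_nonneg _)

end EllY

end Cfsg.Agent.Invol.AbgOrder
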