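import Mathlib
import Cfsg.Agent.Lib.Classical.DicksonMain

/-!
# Matrices of trace zero and square `ν`, a nonsquare

For `s` in `SL(2, q)` the number of such `A` with `A * s` again one is `q + 1` less the number of fixed points of `s` on
the line, with a correction at the unipotent and scalar elements.  Hence a set of them with all quotients in a
subgroup is small.
-/

set_option autoImplicit false
set_option linter.unusedSectionVars false

namespace Cfsg.Agent.Invol.AbgOrder

open Matrix Cfsg.Agent.Grp.SL2

variable {F : Type*} [Field F] [Fintype F]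

local notation "SL₂" => Matrix.SpecialLinearGroup (Fin 2) F
local notation "M₂" => Matrix (Fin 2) (Fin 2) F

/-- The points of a conic. -/
def conicPts (D ν : F) : Set (F × F) := {p | p.1 * p.1 - D * (p.2 * p.2) = ν}

open _root_.Classical in
/-- A conic with nonsquare value. -/
theorem card_conicPts (h2 : (2 : F) ≠ 0) {ν : F} (hν : ¬ IsSquare ν) (D : F) :
    Nat.card (conicPts D ν) + Nat.card {x : F // x * x = D} * (1 + if D = 0 then Fintype.card F else 0) =
      Fintype.card F + 1 := by
  have hν0 : ν ≠ 0 := fun h => hν (h ▸ IsSquare.zero)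
  by_cases hD : D = 0
  · subst hD
    have e : IsEmpty (conicPts (0 : F) ν) := ⟨fun p => hν ⟨p.1.1, by
      have := p.2
      simp only [conicPts, Set.mem_setOf_eq, zero_mul, sub_zero] at this
      exact this.symm⟩⟩
    have h1 : Nat.card {x : F // x * x = 0} = 1 := by
      rw [Nat.card_eq_one_iff_exists]
      exact ⟨⟨0, mul_zero 0⟩, fun x => Subtype.ext (mul_self_eq_zero.1 x.2)⟩
    rw [Nat.card_of_isEmpty, h1, if_pos rfl]
    ring
  rw [if_neg hD, Nat.add_zero, mul_one]
  by_cases hs : IsSquare D
  · obtain ⟨e, rfl⟩ := hs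
    have he : e ≠ 0 := fun h => hD (by rw [h, mul_zero])
    have h1 : Nat.card {x : F // x * x = e * e} = 2 := by
      rw [Nat.card_eq_two_iff]
      refine ⟨⟨e, rfl⟩, ⟨-e, neg_mul_neg e e⟩, fun h => he ?_, ?_⟩
      · have h' : e = -e := congrArg Subtype.val h
        exact (mul_eq_zero.1 (show (2 : F) * e = 0 by linear_combination h')).resolve_left h2
      · refine Set.eq_univ_of_forall fun x => ?_
        rcases mul_self_eq_mul_self_iff.1 x.2 with h | h
        · exact Or.inl (Subtype.ext h)
        · exact Or.inr (Subtype.ext h)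
    have h2' : Nat.card (conicPts (e * e) ν) = Fintype.card F - 1 := by
      rw [← Nat.card_eq_fintype_card, ← Nat.card_units]
      refine Nat.card_eq_of_bijective (fun p : conicPts (e * e) ν => Units.mk0 (p.1.1 - e * p.1.2) fun h => hν0 ?_) ⟨?_, ?_⟩
      · have := p.2
        simp only [conicPts, Set.mem_setOf_eq] at this
        rw [← this, sub_eq_zero.1 h]
        ring
      · rintro ⟨⟨x, y⟩, hp⟩ ⟨⟨x', y'⟩, hp'⟩ h
        simp only [conicPts, Set.mem_setOf_eq] at hp hp'
        have h' : x - e * y = x' - e * y' := congrArg Units.val h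
        have hne : x - e * y ≠ 0 := fun h => hν0 (by linear_combination -hp + (x + e * y) * h)
        have h'' : x + e * y = x' + e * y' := mul_left_cancel₀ hne (by linear_combination hp - hp' - (x' + e * y') * h')
        have ey : y = y' := mul_left_cancel₀ (mul_ne_zero h2 he) (by linear_combination h'' - h')
        have ex : x = x' := mul_left_cancel₀ h2 (by linear_combination h'' + h')
        simp [ex, ey]
      · intro u
        have hu := u.ne_zero
        refine ⟨⟨(((u : F) + ν / u) / 2, (ν / u - u) / (2 * e)), ?_⟩, Units.ext ?_⟩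
        · simp only [conicPts, Set.mem_setOf_eq]
          field_simp
          ring
        · show ((u : F) + ν / u) / 2 - e * ((ν / u - u) / (2 * e)) = u
          field_simp
          ring
    have := Fintype.card_pos (α := F)
    omega
  · have h1 : Nat.card {x : F // x * x = D} = 0 := by
      haveI : IsEmpty {x : F // x * x = D} := ⟨fun x => hs ⟨x.1, x.2.symm⟩⟩
      exact Nat.card_of_isEmpty
    rw [h1, Nat.add_zero]
    obtain ⟨x₀, y₀, h₀⟩ : ∃ x₀ y₀ : F, x₀ * x₀ - D * (y₀ * y₀) = ν := by
      have hodd : Fintype.card F % 2 = 1 := by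
        refine FiniteField.odd_card_of_char_ne_two ?_
        intro h
        refine h2 ?_
        haveI := ringChar.of_eq h
        exact_mod_cast CharP.cast_eq_zero F 2
      obtain ⟨a, b, hab⟩ := FiniteField.exists_root_sum_quadratic (f := (Polynomial.X ^ 2 : Polynomial F))
        (g := Polynomial.C (-D) * Polynomial.X ^ 2 + Polynomial.C (-ν))
        (by simp) (by
          rw [Polynomial.degree_add_C (by rw [Polynomial.degree_C_mul (neg_ne_zero.2 hD)]; simp),
            Polynomial.degree_C_mul (neg_ne_zero.2 hD)]
          simp) hodd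
      exact ⟨a, b, by simp at hab; linear_combination hab⟩
    -- the unit circle
    have hden : ∀ t : F, 1 - D * (t * t) ≠ 0 := fun t h => by
      by_cases ht : t = 0
      · simp [ht] at h
      · exact hs ⟨1 / t, by field_simp; linear_combination -h⟩
    let par : Option F → conicPts D (1 : F) := fun t => t.elim ⟨(-1, 0), by simp [conicPts]⟩ fun t =>
      ⟨((1 + D * (t * t)) / (1 - D * (t * t)), 2 * t / (1 - D * (t * t))), by
        have := hden t
        simp only [conicPts, Set.mem_setOf_eq]
        rw [div_mul_div_comm, div_mul_div_comm, ← mul_div_assoc, ← sub_div,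
          div_eq_one_iff_eq (mul_ne_zero this this)]
        ring⟩
    have hpar : Function.Bijective par := by
      refine ⟨?_, ?_⟩
      · have hinv : ∀ t : F, (par (some t)).1.1 ≠ -1 := fun t h => by
          have := hden t
          simp only [par, Option.elim] at h
          rw [div_eq_iff this] at h
          exact h2 (by linear_combination h)
        rintro (_ | a) (_ | b) h
        · rfl
        · exact absurd (congrArg (fun p : conicPts D (1 : F) => p.1.1) h).symm (hinv b)
        · exact absurd (congrArg (fun p : conicPts D (1 : F) => p.1.1) h) (hinv a)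
        · have e1 := congrArg (fun p : conicPts D (1 : F) => p.1.1) h
          have e2 := congrArg (fun p : conicPts D (1 : F) => p.1.2) h
          simp only [par, Option.elim] at e1 e2
          have ha := hden a
          have hb := hden b
          rw [div_eq_div_iff ha hb] at e1 e2
          have h3 : (a - b) * (1 + D * (a * b)) = 0 :=
            mul_left_cancel₀ h2 (by linear_combination e2)
          have h4 : D * ((a - b) * (a + b)) = 0 := mul_left_cancel₀ h2 (by linear_combination e1)
          rcases mul_eq_zero.1 h3 with h5 | h5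
          · rw [sub_eq_zero.1 h5]
          · rcases mul_eq_zero.1 ((mul_eq_zero.1 h4).resolve_left hD) with h6 | h6
            · rw [sub_eq_zero.1 h6]
            · exact absurd (by rw [eq_neg_of_add_eq_zero_right h6] at h5; linear_combination h5) ha
      · rintro ⟨⟨x, y⟩, h⟩
        simp only [conicPts, Set.mem_setOf_eq] at h
        by_cases hx : x = -1
        · refine ⟨none, Subtype.ext (Prod.ext hx.symm ?_)⟩
          have : D * (y * y) = 0 := by rw [hx] at h; linear_combination -h
          exact (mul_self_eq_zero.1 ((mul_eq_zero.1 this).resolve_left hD)).symm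
        · have hx1 : 1 + x ≠ 0 := fun h => hx (by linear_combination h)
          refine ⟨some (y / (1 + x)), Subtype.ext (Prod.ext ?_ ?_)⟩
          · have := hden (y / (1 + x))
            show _ / _ = x
            rw [div_eq_iff this]
            field_simp
            linear_combination (-(1 + x)) * h
          · have := hden (y / (1 + x))
            show _ / _ = y
            rw [div_eq_iff this]
            field_simp
            linear_combination (-y) * h
    have hc1 : Nat.card (conicPts D (1 : F)) = Fintype.card F + 1 := by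
      rw [← Nat.card_eq_of_bijective par hpar, Finite.card_option, Nat.card_eq_fintype_card]
    rw [← hc1]
    refine (Nat.card_eq_of_bijective (fun p : conicPts D (1 : F) =>
      (⟨(p.1.1 * x₀ + D * (p.1.2 * y₀), p.1.1 * y₀ + p.1.2 * x₀), ?_⟩ : conicPts D ν)) ⟨?_, ?_⟩).symm
    · have := p.2
      simp only [conicPts, Set.mem_setOf_eq] at this ⊢
      linear_combination ν * this + (p.1.1 * p.1.1 - D * (p.1.2 * p.1.2)) * h₀
    · rintro ⟨⟨x, y⟩, h⟩ ⟨⟨x', y'⟩, h'⟩ e
      have e1 := congrArg (fun p : conicPts D ν => p.1.1) e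
      have e2 := congrArg (fun p : conicPts D ν => p.1.2) e
      simp only at e1 e2
      have ex : x = x' := mul_left_cancel₀ hν0 (by linear_combination x₀ * e1 - D * y₀ * e2 + (x' - x) * h₀)
      have ey : y = y' := mul_left_cancel₀ hν0 (by linear_combination x₀ * e2 - y₀ * e1 + (y' - y) * h₀)
      simp [ex, ey]
    · rintro ⟨⟨X, Y⟩, h⟩
      simp only [conicPts, Set.mem_setOf_eq] at h
      refine ⟨⟨((X * x₀ - D * (Y * y₀)) / ν, (Y * x₀ - X * y₀) / ν), ?_⟩, Subtype.ext (Prod.ext ?_ ?_)⟩
      · simp only [conicPts, Set.mem_setOf_eq]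
        field_simp
        linear_combination (x₀ * x₀ - D * (y₀ * y₀)) * h + ν * h₀
      · show _ + _ = X
        field_simp
        linear_combination X * h₀
      · show _ + _ = Y
        field_simp
        linear_combination Y * h₀

/-- Trace zero and square `ν`. -/
def Ell (ν : F) : Set M₂ := {A | A 0 0 + A 1 1 = 0 ∧ A.det = -ν}

theorem Ell.mul_self {ν : F} {A : M₂} (h : A ∈ Ell ν) : A * A = ν • (1 : M₂) := by
  obtain ⟨h1, h2⟩ := h
  rw [det_fin_two] at h2
  ext i j
  fin_cases i <;> fin_cases j <;>
    simp [Matrix.mul_apply, Fin.sum_univ_two, Matrix.smul_apply] <;>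
    [linear_combination A 0 0 * h1 - h2; linear_combination A 0 1 * h1; linear_combination A 1 0 * h1;
      linear_combination A 1 1 * h1 - h2]

theorem Ell.lower_ne {ν : F} (hν : ¬ IsSquare ν) {A : M₂} (h : A ∈ Ell ν) : A 1 0 ≠ 0 := fun h0 => hν ⟨A 0 0, by
  obtain ⟨h1, h2⟩ := h
  rw [det_fin_two, h0] at h2
  linear_combination h2 - A 0 0 * h1⟩

theorem card_Ell {ν : F} (hν : ¬ IsSquare ν) : Nat.card (Ell ν) = Fintype.card F * (Fintype.card F - 1) := by
  classical
  rw [← Nat.card_eq_fintype_card, ← Nat.card_units, ← Nat.card_prod]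
  refine Nat.card_eq_of_bijective (fun A : Ell ν => (A.1 0 0, Units.mk0 (A.1 1 0) (Ell.lower_ne hν A.2))) ⟨?_, ?_⟩
  · rintro ⟨A, hA⟩ ⟨B, hB⟩ h
    simp only [Prod.mk.injEq, Units.ext_iff, Units.val_mk0] at h
    obtain ⟨ha, hb⟩ := hA.imp id fun h => (det_fin_two A).symm.trans h
    obtain ⟨hc, hd⟩ := hB.imp id fun h => (det_fin_two B).symm.trans h
    have e1 : A 1 1 = B 1 1 := by linear_combination ha - hc - h.1
    have e2 : A 0 1 = B 0 1 := mul_right_cancel₀ (Ell.lower_ne hν hA)
      (by linear_combination -ha * 0 - hb + hd + A 1 1 * h.1 + B 0 0 * e1 - B 0 1 * h.2)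
    refine Subtype.ext ?_
    ext i j
    fin_cases i <;> fin_cases j
    · exact h.1
    · exact e2
    · exact h.2
    · exact e1
  · rintro ⟨a, c⟩
    refine ⟨⟨!![a, (ν - a * a) / c; c, -a], ?_, ?_⟩, ?_⟩
    · simp
    · rw [det_fin_two]; simp; ring
    · simp

/-- How often `A * s` is again in the set. -/
noncomputable def ellN (ν : F) (s : SL₂) : ℕ := Nat.card {A : M₂ // A ∈ Ell ν ∧ A * (s : M₂) ∈ Ell ν}

/-- `s` fixes the point. -/
def FixPt (s : SL₂) : Option F → Prop
  | none => (s : M₂) 1 0 = 0
  | some x => (s : M₂) 1 0 * (x * x) + ((s : M₂) 1 1 - (s : M₂) 0 0) * x - (s : M₂) 0 1 = 0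

/-- The number of fixed points on the line. -/
noncomputable def fixN (s : SL₂) : ℕ := Nat.card {P : Option F // FixPt s P}

/-- The element `±1`. -/
def IsCen (s : SL₂) : Prop := (s : M₂) 0 1 = 0 ∧ (s : M₂) 1 0 = 0 ∧ (s : M₂) 0 0 = (s : M₂) 1 1

theorem fixN_cen {s : SL₂} (h : IsCen s) : fixN s = Fintype.card F + 1 := by
  rw [fixN, Nat.card_congr (Equiv.subtypeUnivEquiv fun P => ?_), Finite.card_option, Nat.card_eq_fintype_card]
  obtain ⟨h1, h2, h3⟩ := h
  cases P
  · exact h2
  · simp [FixPt, h1, h2, h3]

theorem mul_mem_Ell_iff {ν : F} {A : M₂} (hA : A ∈ Ell ν) (s : SL₂) : A * (s : M₂) ∈ Ell ν ↔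
    A 0 0 * ((s : M₂) 0 0 - (s : M₂) 1 1) + A 0 1 * (s : M₂) 1 0 + A 1 0 * (s : M₂) 0 1 = 0 := by
  show _ ∧ _ ↔ _
  rw [det_mul, Matrix.SpecialLinearGroup.det_coe, mul_one, and_iff_left hA.2]
  simp only [Matrix.mul_apply, Fin.sum_univ_two]
  constructor <;> intro h
  · linear_combination h - (s : M₂) 1 1 * hA.1
  · linear_combination h + (s : M₂) 1 1 * hA.1

open _root_.Classical in
/-- The identity. -/
theorem ellN_add (h2 : (2 : F) ≠ 0) {ν : F} (hν : ¬ IsSquare ν) (s : SL₂) :
    ellN ν s + fixN s * (1 + if tr s ^ 2 = 4 then Fintype.card F else 0) =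
      Fintype.card F + 1 + if IsCen s then 2 * Fintype.card F ^ 2 else 0 := by
  have hdet := det_eq s
  set q := Fintype.card F
  set s00 := (s : M₂) 0 0 with e00
  set s01 := (s : M₂) 0 1 with e01
  set s10 := (s : M₂) 1 0 with e10
  set s11 := (s : M₂) 1 1 with e11
  have htr : tr s ^ 2 = 4 ↔ (s00 - s11) * (s00 - s11) + 4 * (s01 * s10) = 0 := by
    rw [tr]
    constructor <;> intro h
    · linear_combination h - 4 * hdet
    · linear_combination h + 4 * hdet
  by_cases hc : IsCen s
  · have hN : ellN ν s = q * (q - 1) := by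
      rw [ellN, ← card_Ell hν]
      exact Nat.card_congr (Equiv.subtypeEquivRight fun A => ⟨fun h => h.1, fun h => ⟨h, (mul_mem_Ell_iff h s).2 (by
        rw [hc.1, hc.2.1, hc.2.2]; ring)⟩⟩)
    rw [hN, fixN_cen hc, if_pos hc, if_pos (htr.2 (by rw [e01, e10, e00, e11, hc.1, hc.2.1, hc.2.2]; ring))]
    have : 1 ≤ q := Fintype.card_pos
    obtain ⟨k, hk⟩ := Nat.exists_eq_add_of_le this
    rw [show (Fintype.card F) = 1 + k from hk, hk, Nat.add_sub_cancel_left]
    ring
  rw [if_neg hc, Nat.add_zero]
  by_cases h10 : s10 = 0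
  · by_cases hd : s00 = s11
    · -- unipotent fixing infinity
      have h01 : s01 ≠ 0 := fun h => hc ⟨h, h10, hd⟩
      haveI : IsEmpty {A : M₂ // A ∈ Ell ν ∧ A * (s : M₂) ∈ Ell ν} := ⟨fun ⟨A, hA, hA'⟩ => by
        rw [mul_mem_Ell_iff hA, ← e00, ← e11, ← e10, ← e01, h10, hd, sub_self, mul_zero, mul_zero, zero_add,
          zero_add] at hA'
        exact Ell.lower_ne hν hA ((mul_eq_zero.1 hA').resolve_right h01)⟩
      have hf : fixN s = 1 := by
        rw [fixN, Nat.card_eq_one_iff_exists]
        refine ⟨⟨none, h10⟩, fun ⟨P, hP⟩ => Subtype.ext ?_⟩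
        cases P with
        | none => rfl
        | some x =>
          exfalso
          rw [FixPt, ← e10, ← e00, ← e11, ← e01, h10, hd] at hP
          exact h01 (by linear_combination -hP)
      rw [ellN, Nat.card_of_isEmpty, hf, if_pos (htr.2 (by rw [h10, hd]; ring))]
      ring
    · have hd' : s00 - s11 ≠ 0 := sub_ne_zero.2 hd
      have hf : fixN s = 2 := by
        rw [fixN, Nat.card_eq_two_iff]
        refine ⟨⟨none, h10⟩, ⟨some (-s01 / (s00 - s11)), ?_⟩, fun h => by simpa using congrArg Subtype.val h, ?_⟩
        · rw [FixPt, ← e10, ← e00, ← e11, ← e01, h10]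
          field_simp
          ring
        · refine Set.eq_univ_of_forall fun ⟨P, hP⟩ => ?_
          cases P with
          | none => exact Or.inl rfl
          | some x =>
            refine Or.inr (Subtype.ext (congrArg some ?_))
            rw [FixPt, ← e10, ← e00, ← e11, ← e01, h10] at hP
            rw [eq_div_iff hd']
            linear_combination -hP
      have hN : ellN ν s = q - 1 := by
        rw [ellN, show q - 1 = Nat.card Fˣ by rw [Nat.card_units, Nat.card_eq_fintype_card]]
        refine Nat.card_eq_of_bijective (fun A => Units.mk0 (A.1 1 0) (Ell.lower_ne hν A.2.1)) ⟨?_, ?_⟩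
        · rintro ⟨A, hA, hA'⟩ ⟨B, hB, hB'⟩ h
          have hcc : A 1 0 = B 1 0 := congrArg Units.val h
          rw [mul_mem_Ell_iff hA, ← e00, ← e11, ← e10, ← e01, h10] at hA'
          rw [mul_mem_Ell_iff hB, ← e00, ← e11, ← e10, ← e01, h10] at hB'
          have haa : A 0 0 = B 0 0 := mul_right_cancel₀ hd' (by linear_combination hA' - hB' - s01 * hcc)
          have e1 : A 1 1 = B 1 1 := by linear_combination hA.1 - hB.1 - haa
          have hA2 := (det_fin_two A).symm.trans hA.2
          have hB2 := (det_fin_two B).symm.trans hB.2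
          have e2 : A 0 1 = B 0 1 := mul_right_cancel₀ (Ell.lower_ne hν hA)
            (by linear_combination - hA2 + hB2 + A 1 1 * haa + B 0 0 * e1 - B 0 1 * hcc)
          refine Subtype.ext ?_
          ext i j
          fin_cases i <;> fin_cases j
          · exact haa
          · exact e2
          · exact hcc
          · exact e1
        · intro c
          set a := -((c : F) * s01) / (s00 - s11)
          have hmem : (!![a, (ν - a * a) / c; (c : F), -a] : M₂) ∈ Ell ν := by
            refine ⟨by simp, ?_⟩
            rw [det_fin_two]; simp; ring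
          refine ⟨⟨_, hmem, (mul_mem_Ell_iff hmem s).2 ?_⟩, Units.ext (by simp)⟩
          rw [← e00, ← e11, ← e10, ← e01, h10]
          simp [a]
          field_simp
          ring
      have : 1 ≤ q := Fintype.card_pos
      rw [hN, hf, if_neg (fun h => hd' (mul_self_eq_zero.1 (by have := htr.1 h; rw [h10] at this; linear_combination this)))]
      omega
  · -- a quadratic
    set d := s00 - s11 with hd
    set D := d * d + 4 * (s01 * s10) with hD
    have key := card_conicPts h2 hν D
    have hN : ellN ν s = Nat.card (conicPts D ν) := by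
      have h20 : 2 * s10 ≠ 0 := mul_ne_zero h2 h10
      refine Nat.card_eq_of_bijective (fun A => (⟨(A.1 0 0 - d * (A.1 1 0 / (2 * s10)), A.1 1 0 / (2 * s10)), ?_⟩ :
        conicPts D ν)) ⟨?_, ?_⟩
      · obtain ⟨hA, hA'⟩ := A.2
        rw [mul_mem_Ell_iff hA, ← e00, ← e11, ← e10, ← e01, ← hd] at hA'
        have hA2 := (det_fin_two A.1).symm.trans hA.2
        simp only [conicPts, Set.mem_setOf_eq, D]
        field_simp
        linear_combination (4 * s10 * s10) * (A.1 0 0 * hA.1 - hA2) - 4 * s10 * A.1 1 0 * hA'
      · rintro ⟨A, hA, hA'⟩ ⟨B, hB, hB'⟩ h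
        simp only [Subtype.mk.injEq, Prod.mk.injEq] at h
        have hcc : A 1 0 = B 1 0 := (div_left_inj' h20).1 h.2
        have haa : A 0 0 = B 0 0 := by linear_combination h.1 + d * h.2
        rw [mul_mem_Ell_iff hA, ← e00, ← e11, ← e10, ← e01, ← hd] at hA'
        rw [mul_mem_Ell_iff hB, ← e00, ← e11, ← e10, ← e01, ← hd] at hB'
        have e2 : A 0 1 = B 0 1 := mul_right_cancel₀ h10 (by linear_combination hA' - hB' - d * haa - s01 * hcc)
        have e1 : A 1 1 = B 1 1 := by linear_combination hA.1 - hB.1 - haa
        refine Subtype.ext ?_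
        ext i j
        fin_cases i <;> fin_cases j
        · exact haa
        · exact e2
        · exact hcc
        · exact e1
      · rintro ⟨⟨x, y⟩, h⟩
        simp only [conicPts, Set.mem_setOf_eq, D] at h
        set c := 2 * s10 * y with hc'
        set a := x + d * y with ha'
        set b := -(a * d + c * s01) / s10 with hb'
        have hmem : (!![a, b; c, -a] : M₂) ∈ Ell ν := by
          refine ⟨by simp, ?_⟩
          rw [det_fin_two]
          simp [hb', hc', ha']
          field_simp
          linear_combination -h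
        refine ⟨⟨_, hmem, (mul_mem_Ell_iff hmem s).2 ?_⟩, Subtype.ext (Prod.ext ?_ ?_)⟩
        · rw [← e00, ← e11, ← e10, ← e01, ← hd]
          simp [hb']
          field_simp
          ring
        · show a - d * (c / (2 * s10)) = x
          rw [hc', ha', mul_div_cancel_left₀ _ h20]
          ring
        · show c / (2 * s10) = y
          rw [hc', mul_div_cancel_left₀ _ h20]
    have hf : fixN s = Nat.card {x : F // x * x = D} := by
      have h20 : 2 * s10 ≠ 0 := mul_ne_zero h2 h10
      let g : {x : F // x * x = D} → {P : Option F // FixPt s P} := fun x => ⟨some ((x.1 + d) / (2 * s10)), by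
        have hx : x.1 * x.1 = d * d + 4 * (s01 * s10) := x.2
        rw [FixPt, ← e10, ← e00, ← e11, ← e01, hd]
        field_simp
        linear_combination hx⟩
      refine (Nat.card_eq_of_bijective g ⟨fun x y h => ?_, ?_⟩).symm
      · simp only [g, Subtype.mk.injEq, Option.some.injEq] at h
        exact Subtype.ext (by linear_combination (div_left_inj' h20).1 h)
      · rintro ⟨P, hP⟩
        cases P with
        | none => exact absurd hP h10
        | some x =>
          rw [FixPt, ← e10, ← e00, ← e11, ← e01] at hP
          refine ⟨⟨2 * s10 * x - d, ?_⟩, Subtype.ext (congrArg some ?_)⟩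
          · show _ = d * d + 4 * (s01 * s10)
            rw [hd]
            linear_combination 4 * s10 * hP
          · rw [sub_add_cancel, mul_div_cancel_left₀ _ h20]
    rw [hN, hf, ← key]
    by_cases h : tr s ^ 2 = 4
    · rw [if_pos h, if_pos (show D = 0 from htr.1 h)]
    · rw [if_neg h, if_neg fun e : D = 0 => h (htr.2 e)]

end Cfsg.Agent.Invol.AbgOrder
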