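import Cfsg.Agent.Lib.Invol.AbgOrder.BudgetEllCount

/-!
# A set of trace zero matrices with quotients in a subgroup, and the sums over fixed points

The second moment of the cosets bounds such a set.
-/

set_option autoImplicit false
set_option linter.unusedSectionVars false

namespace Cfsg.Agent.Invol.AbgOrder

open Matrix Cfsg.Agent.Grp.SL2

variable {F : Type*} [Field F] [Fintype F]

local notation "SL₂" => Matrix.SpecialLinearGroup (Fin 2) F
local notation "M₂" => Matrix (Fin 2) (Fin 2) F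

/-- An element moving infinity to the point. -/
def ptRep : Option F → SL₂
  | none => 1
  | some x => ⟨!![x, -1; 1, 0], by rw [det_fin_two]; simp⟩

theorem fixPt_iff (s : SL₂) (P : Option F) :
    FixPt s P ↔ (((ptRep P)⁻¹ * s * ptRep P : SL₂) : M₂) 1 0 = 0 := by
  cases P with
  | none => simp [FixPt, ptRep]
  | some x =>
    have e : (((ptRep (some x))⁻¹ * s * ptRep (some x) : SL₂) : M₂) 1 0 =
        (s : M₂) 1 0 * (x * x) + ((s : M₂) 1 1 - (s : M₂) 0 0) * x - (s : M₂) 0 1 := by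
      simp only [Matrix.SpecialLinearGroup.coe_mul, Matrix.SpecialLinearGroup.coe_inv]
      simp [ptRep, Matrix.adjugate_fin_two, Matrix.mul_apply, Fin.sum_univ_two, Matrix.vecMul, dotProduct]
      ring
    rw [e]
    rfl

theorem pt_ptRep (P : Option F) : Dickson.pt (ptRep P) = P := by
  cases P with
  | none => exact Dickson.pt_eq_none.2 (by simp [ptRep])
  | some x => exact Dickson.pt_eq_some.2 ⟨by simp [ptRep], by simp [ptRep]⟩

theorem fixPt_conj {k : SL₂} (s : SL₂) :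
    FixPt s (Dickson.pt k) ↔ ((k⁻¹ * s * k : SL₂) : M₂) 1 0 = 0 := by
  rw [fixPt_iff]
  set g := ptRep (Dickson.pt k)
  have h : ((g⁻¹ * k : SL₂) : M₂) 1 0 = 0 := Dickson.pt_eq_pt.1 (pt_ptRep _)
  set u := g⁻¹ * k with hu
  have e : k⁻¹ * s * k = u⁻¹ * (g⁻¹ * s * g) * u := by rw [hu]; group
  rw [e]
  have hd := det_eq u
  rw [h, mul_zero, sub_zero] at hd
  have h11 : (u : M₂) 1 1 ≠ 0 := right_ne_zero_of_mul_eq_one hd
  have h00 : (u : M₂) 0 0 ≠ 0 := left_ne_zero_of_mul_eq_one hd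
  generalize g⁻¹ * s * g = m
  have key : ((u⁻¹ * m * u : SL₂) : M₂) 1 0 = (u : M₂) 0 0 * ((u : M₂) 0 0) * (m : M₂) 1 0 := by
    simp only [Matrix.SpecialLinearGroup.coe_mul, Matrix.SpecialLinearGroup.coe_inv]
    simp [Matrix.adjugate_fin_two, Matrix.mul_apply, Fin.sum_univ_two, Matrix.vecMul, dotProduct, h]
    ring
  rw [key]
  simp [h00]

open _root_.Classical in
/-- A class function summed against the fixed points. -/
theorem sum_fixN_mul [Fintype SL₂] (f : SL₂ → ℂ) (hf : ∀ g s, f (g * s * g⁻¹) = f s) :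
    ∑ s : SL₂, (fixN s : ℂ) * f s =
      ((Fintype.card F : ℂ) + 1) * ∑ s ∈ Finset.univ.filter (fun s : SL₂ => (s : M₂) 1 0 = 0), f s := by
  have h : ∀ s : SL₂, (fixN s : ℂ) * f s = ∑ P : Option F, if FixPt s P then f s else 0 := fun s => by
    rw [fixN, Nat.card_eq_fintype_card, Fintype.card_subtype, ← Finset.sum_filter, Finset.sum_const, nsmul_eq_mul]
  simp only [h]
  rw [Finset.sum_comm]
  have h1 : ∀ P : Option F, (∑ s : SL₂, if FixPt s P then f s else 0) = ∑ s ∈ Finset.univ.filter (fun s : SL₂ => (s : M₂) 1 0 = 0), f s := by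
    intro P
    rw [← Finset.sum_filter]
    refine Finset.sum_bij' (fun (s : SL₂) _ => (ptRep P)⁻¹ * s * ptRep P)
      (fun (s : SL₂) _ => ptRep P * s * (ptRep P)⁻¹) ?_ ?_ ?_ ?_ ?_
    · intro s hs
      exact Finset.mem_filter.2 ⟨Finset.mem_univ _, (fixPt_iff s P).1 (Finset.mem_filter.1 hs).2⟩
    · intro s hs
      refine Finset.mem_filter.2 ⟨Finset.mem_univ _, (fixPt_iff _ P).2 ?_⟩
      rw [show (ptRep P)⁻¹ * (ptRep P * s * (ptRep P)⁻¹) * ptRep P = s by group]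
      exact (Finset.mem_filter.1 hs).2
    · intro s _; group
    · intro s _; group
    · intro s _
      rw [← hf (ptRep P) ((ptRep P)⁻¹ * s * ptRep P)]
      congr 1
      group
  rw [Finset.sum_congr rfl fun P _ => h1 P, Finset.sum_const, Finset.card_univ, Fintype.card_option, nsmul_eq_mul]
  push_cast
  ring

open _root_.Classical in
/-- One orbit. -/
theorem card_le_sum_fixN [Fintype SL₂] (K₀ : Subgroup SL₂) :
    Nat.card K₀ ≤ ∑ s : SL₂ with s ∈ K₀, fixN s := by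
  let c : Option F → SL₂ := fun P => if h : ∃ k ∈ K₀, Dickson.pt k = P then h.choose else 1
  have hc : ∀ k ∈ K₀, c (Dickson.pt k) ∈ K₀ ∧ Dickson.pt (c (Dickson.pt k)) = Dickson.pt k := fun k hk => by
    have h : ∃ k' ∈ K₀, Dickson.pt k' = Dickson.pt k := ⟨k, hk, rfl⟩
    simp only [c, dif_pos h]
    exact h.choose_spec
  let φ : K₀ → Σ s : {s : SL₂ // s ∈ K₀}, {P : Option F // FixPt (s : SL₂) P} := fun k =>
    ⟨⟨(k : SL₂) * (c (Dickson.pt (k : SL₂)))⁻¹, K₀.mul_mem k.2 (K₀.inv_mem (hc k k.2).1)⟩,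
      ⟨Dickson.pt (k : SL₂), by
        rw [fixPt_conj]
        have h := Dickson.pt_eq_pt.1 (hc k k.2).2
        rw [show (k : SL₂)⁻¹ * ((k : SL₂) * (c (Dickson.pt (k : SL₂)))⁻¹) * (k : SL₂) =
          (c (Dickson.pt (k : SL₂)))⁻¹ * (k : SL₂) by group]
        exact h⟩⟩
  have hφ : Function.Injective φ := fun a b h => by
    have e2 : Dickson.pt (a : SL₂) = Dickson.pt (b : SL₂) :=
      congrArg (fun x : Σ s : {s : SL₂ // s ∈ K₀}, {P : Option F // FixPt (s : SL₂) P} => x.2.1) h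
    have e1 : (a : SL₂) * (c (Dickson.pt (a : SL₂)))⁻¹ = (b : SL₂) * (c (Dickson.pt (b : SL₂)))⁻¹ :=
      congrArg (fun x : Σ s : {s : SL₂ // s ∈ K₀}, {P : Option F // FixPt (s : SL₂) P} => x.1.1) h
    rw [e2] at e1
    exact Subtype.ext (mul_right_cancel e1)
  have h := Nat.card_le_card_of_injective φ hφ
  rw [Nat.card_sigma] at h
  refine h.trans_eq ?_
  exact (Finset.sum_subtype (Finset.univ.filter fun s : SL₂ => s ∈ K₀) (fun x => by simp) fixN).symm

theorem isCen_iff (h : SL₂) : IsCen h ↔ h = 1 ∨ h = -1 := by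
  constructor
  · rintro ⟨h1, h2, h3⟩
    have hd := det_eq h
    rw [h1, h2, h3, mul_zero, sub_zero] at hd
    rcases mul_self_eq_one_iff.1 hd with e | e
    · left; ext i j; fin_cases i <;> fin_cases j <;> simp [h1, h2, h3, e]
    · right; ext i j; fin_cases i <;> fin_cases j <;> simp [h1, h2, h3, e]
  · rintro (rfl | rfl) <;> simp [IsCen]

theorem one_le_fixN (h2 : (2 : F) ≠ 0) {s : SL₂} (h : tr s ^ 2 = 4) : 1 ≤ fixN s := by
  have hd := det_eq s
  rw [tr] at h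
  refine Nat.card_pos_iff.2 ⟨?_, inferInstance⟩
  by_cases h10 : (s : M₂) 1 0 = 0
  · exact ⟨⟨none, h10⟩⟩
  · refine ⟨⟨some (((s : M₂) 0 0 - (s : M₂) 1 1) / (2 * (s : M₂) 1 0)), ?_⟩⟩
    rw [FixPt]
    field_simp
    linear_combination -h + 4 * hd

open _root_.Classical in
/-- The set of pairs in one coset. -/
theorem sum_ellN {ν : F} [Fintype SL₂] (K₀ : Subgroup SL₂) {α : Type*} [Fintype α] (f : Ell ν → α)
    (hf : ∀ A B : Ell ν, f A = f B ↔ ∃ s ∈ K₀, (B : M₂) = (A : M₂) * (s : M₂)) (hν : ν ≠ 0) :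
    ∑ a : α, Nat.card {A : Ell ν // f A = a} ^ 2 = ∑ s : SL₂ with s ∈ K₀, ellN ν s := by
  have hL : ∑ a : α, Nat.card {A : Ell ν // f A = a} ^ 2 = Nat.card {p : Ell ν × Ell ν // f p.1 = f p.2} := by
    have hs : ∀ a : α, Nat.card {A : Ell ν // f A = a} ^ 2 =
        Nat.card ({A : Ell ν // f A = a} × {A : Ell ν // f A = a}) := fun a => by
      rw [Nat.card_prod, sq]
    simp only [hs]
    rw [← Nat.card_sigma]
    exact Nat.card_congr
      { toFun := fun x => ⟨(x.2.1.1, x.2.2.1), x.2.1.2.trans x.2.2.2.symm⟩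
        invFun := fun p => ⟨f p.1.1, ⟨p.1.1, rfl⟩, ⟨p.1.2, p.2.symm⟩⟩
        left_inv := fun ⟨a, ⟨A, hA⟩, ⟨B, hB⟩⟩ => by subst hA; rfl
        right_inv := fun p => rfl }
  have hR : ∑ s : SL₂ with s ∈ K₀, ellN ν s =
      Nat.card (Σ s : {s : SL₂ // s ∈ K₀}, {A : M₂ // A ∈ Ell ν ∧ A * ((s : SL₂) : M₂) ∈ Ell ν}) := by
    rw [Nat.card_sigma]
    exact Finset.sum_subtype (Finset.univ.filter fun s : SL₂ => s ∈ K₀) (fun x => by simp) (ellN ν)
  rw [hL, hR]
  refine (Nat.card_eq_of_bijective (fun x => ⟨(⟨x.2.1, x.2.2.1⟩, ⟨x.2.1 * ((x.1 : SL₂) : M₂), x.2.2.2⟩),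
    (hf _ _).2 ⟨x.1, x.1.2, rfl⟩⟩) ⟨?_, ?_⟩).symm
  · rintro ⟨⟨s, hs⟩, ⟨A, hA⟩⟩ ⟨⟨t, ht⟩, ⟨B, hB⟩⟩ h
    simp only [Subtype.mk.injEq, Prod.mk.injEq] at h
    obtain ⟨rfl, h⟩ := h
    have h' := congrArg (A * ·) h
    simp only [← Matrix.mul_assoc, Ell.mul_self hA.1, Matrix.smul_mul, Matrix.one_mul] at h'
    obtain rfl : s = t := Subtype.ext (smul_right_injective M₂ hν h')
    rfl
  · rintro ⟨⟨⟨A, hA⟩, ⟨B, hB⟩⟩, h⟩
    obtain ⟨s, hs, e⟩ := (hf _ _).1 h
    change B = A * (s : M₂) at e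
    subst e
    exact ⟨⟨⟨s, hs⟩, ⟨A, hA, hB⟩⟩, rfl⟩

open _root_.Classical in
/-- The sum of `ellN` over a subgroup containing `-1`. -/
theorem sum_ellN_le [Fintype SL₂] (h2 : (2 : F) ≠ 0) {ν : F} (hν : ¬ IsSquare ν) (K₀ : Subgroup SL₂)
    (hneg : (-1 : SL₂) ∈ K₀) {u₀ : ℕ}
    (hu : u₀ ≤ Nat.card {s : SL₂ // s ∈ K₀ ∧ ¬ IsCen s ∧ tr s ^ 2 = 4}) :
    (∑ s : SL₂ with s ∈ K₀, (ellN ν s : ℤ)) ≤
      (Fintype.card F : ℤ) * Nat.card K₀ + 2 * (Fintype.card F : ℤ) ^ 2 - 2 * Fintype.card F -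
        Fintype.card F * u₀ := by
  set q := Fintype.card F
  set S := Finset.univ.filter fun s : SL₂ => s ∈ K₀ with hS
  have h1 := Finset.sum_congr rfl fun s (_ : s ∈ S) => ellN_add h2 hν s
  rw [Finset.sum_add_distrib] at h1
  simp only [mul_add, mul_one] at h1
  rw [Finset.sum_add_distrib, Finset.sum_add_distrib, Finset.sum_const, smul_eq_mul,
    ← Finset.sum_filter (fun s => IsCen s)] at h1
  have hcard : S.card = Nat.card K₀ := by
    rw [hS, Nat.card_eq_fintype_card, Fintype.card_subtype]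
  have hC : S.filter IsCen = {1, -1} := by
    ext s
    simp only [hS, Finset.mem_filter, Finset.mem_univ, true_and, isCen_iff, Finset.mem_insert,
      Finset.mem_singleton, and_iff_right_iff_imp]
    rintro (rfl | rfl)
    · exact K₀.one_mem
    · exact hneg
  have hne : (1 : SL₂) ≠ -1 := fun h => by
    have := congrArg (fun m : SL₂ => (m : M₂) 0 0) h
    simp at this
    exact h2 (by linear_combination this)
  rw [hC, Finset.sum_pair hne, hcard] at h1
  have hfix := card_le_sum_fixN K₀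
  have hT : (2 * (q + 1) + u₀) * q ≤ ∑ s ∈ S, fixN s * if tr s ^ 2 = 4 then q else 0 := by
    have hcen : ∀ s ∈ S.filter IsCen, (fixN s * if tr s ^ 2 = 4 then q else 0) = (q + 1) * q := fun s hs => by
      obtain ⟨h01, h10, h00⟩ := (Finset.mem_filter.1 hs).2
      rw [fixN_cen ⟨h01, h10, h00⟩, if_pos]
      have hd := det_eq s
      rw [h01, h10, h00, mul_zero, sub_zero] at hd
      rw [tr, h00]
      linear_combination 4 * hd
    rw [← Finset.sum_filter_add_sum_filter_not S IsCen, Finset.sum_congr rfl hcen, hC, Finset.sum_pair hne,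
      add_mul]
    refine add_le_add (le_of_eq (by ring)) ?_
    calc u₀ * q ≤ ((S.filter fun s => ¬ IsCen s).filter fun s => tr s ^ 2 = 4).card * q := by
          refine Nat.mul_le_mul_right _ (hu.trans (le_of_eq ?_))
          rw [hS, Finset.filter_filter, Finset.filter_filter, Nat.card_eq_fintype_card, Fintype.card_subtype]
      _ ≤ ∑ s ∈ S.filter (fun s => ¬ IsCen s), fixN s * if tr s ^ 2 = 4 then q else 0 := by
          rw [← smul_eq_mul, ← Finset.sum_const, Finset.sum_filter]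
          refine Finset.sum_le_sum fun s _ => ?_
          split_ifs with h
          · exact Nat.le_mul_of_pos_left _ (one_le_fixN h2 h)
          · exact Nat.zero_le _
  zify at h1 hfix hT
  simp only [q] at *
  linarith

/-- The bound: a set with quotients in `K₀` has fewer than `b` elements. -/
theorem ell_set_lt [Fintype SL₂] (h2 : (2 : F) ≠ 0) {ν : F} (hν : ¬ IsSquare ν) (K₀ : Subgroup SL₂)
    (hneg : (-1 : SL₂) ∈ K₀) {u₀ : ℕ} (hu : u₀ ≤ Nat.card {s : SL₂ // s ∈ K₀ ∧ ¬ IsCen s ∧ tr s ^ 2 = 4})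
    (S : Set M₂) (hS : S ⊆ Ell ν) (hrel : ∀ A ∈ S, ∀ B ∈ S, ∃ s ∈ K₀, B = A * (s : M₂)) {b : ℕ}
    (hb : Fintype.card F * (Fintype.card F - 1) ≤ K₀.index * b)
    (hnum : ((K₀.index : ℤ) - 1) * ((Fintype.card F : ℤ) * Nat.card K₀ + 2 * (Fintype.card F : ℤ) ^ 2 -
        2 * Fintype.card F - Fintype.card F * u₀) <
      (K₀.index : ℤ) * b ^ 2 - 2 * ((Fintype.card F : ℤ) * ((Fintype.card F : ℤ) - 1)) * b +
        ((Fintype.card F : ℤ) * ((Fintype.card F : ℤ) - 1)) ^ 2) :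
    Nat.card S < b := by
  classical
  by_contra hlt
  push Not at hlt
  set q := Fintype.card F with hq
  have hν0 : ν ≠ 0 := fun h => hν (h ▸ IsSquare.zero)
  have hEpos : 0 < Nat.card (Ell ν) := by
    rw [card_Ell hν]
    have := Fintype.one_lt_card (α := F)
    exact Nat.mul_pos (by omega) (by omega)
  obtain ⟨⟨A₀, hA₀⟩⟩ := (Nat.card_pos_iff.1 hEpos).1
  let toS : Ell ν → SL₂ := fun A => ⟨ν⁻¹ • (A₀ * (A : M₂)), by
    rw [det_smul, det_mul, hA₀.2, A.2.2, Fintype.card_fin]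
    field_simp⟩
  let f : Ell ν → SL₂ ⧸ K₀ := fun A => QuotientGroup.mk (toS A)
  have hinj : ∀ B C : M₂, A₀ * B = A₀ * C → B = C := fun B C h => by
    have h' := congrArg (A₀ * ·) h
    simp only [← Matrix.mul_assoc, Ell.mul_self hA₀, Matrix.smul_mul, Matrix.one_mul] at h'
    exact smul_right_injective M₂ hν0 h'
  have hf : ∀ A B : Ell ν, f A = f B ↔ ∃ s ∈ K₀, (B : M₂) = (A : M₂) * (s : M₂) := by
    intro A B
    rw [QuotientGroup.eq]
    constructor
    · intro h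
      refine ⟨_, h, hinj _ _ (smul_right_injective M₂ (inv_ne_zero hν0) ?_)⟩
      show (toS B : M₂) = ν⁻¹ • (A₀ * ((A : M₂) * (((toS A)⁻¹ * toS B : SL₂) : M₂)))
      rw [← Matrix.mul_assoc, ← Matrix.smul_mul]
      show _ = ((toS A : SL₂) : M₂) * _
      rw [← Matrix.SpecialLinearGroup.coe_mul, mul_inv_cancel_left]
    · rintro ⟨s, hs, e⟩
      have e' : toS B = toS A * s := Subtype.ext (by
        show ν⁻¹ • (A₀ * (B : M₂)) = ν⁻¹ • (A₀ * (A : M₂)) * (s : M₂)
        rw [e, Matrix.smul_mul, Matrix.mul_assoc])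
      rwa [e', inv_mul_cancel_left]
  haveI : Fintype (SL₂ ⧸ K₀) := Fintype.ofFinite _
  set c : SL₂ ⧸ K₀ → ℤ := fun a => (Nat.card {A : Ell ν // f A = a} : ℤ) with hc
  have hsq : ∑ a, c a ^ 2 ≤ (q : ℤ) * Nat.card K₀ + 2 * (q : ℤ) ^ 2 - 2 * q - q * u₀ := by
    refine le_trans (le_of_eq ?_) (sum_ellN_le h2 hν K₀ hneg hu)
    have := sum_ellN K₀ f hf hν0
    simp only [hc]
    exact_mod_cast this
  have htot : ∑ a, c a = (q : ℤ) * ((q : ℤ) - 1) := by
    have : ∑ a : SL₂ ⧸ K₀, Nat.card {A : Ell ν // f A = a} = Nat.card (Ell ν) := by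
      rw [← Nat.card_sigma]
      exact Nat.card_congr (Equiv.sigmaFiberEquiv f)
    rw [card_Ell hν] at this
    have h1 : 1 ≤ q := Fintype.card_pos
    simp only [hc]
    rw [← Nat.cast_sum, this, Nat.cast_mul, Nat.cast_sub h1, Nat.cast_one]
  rcases S.eq_empty_or_nonempty with rfl | ⟨A₁, hA₁⟩
  · simp only [Nat.card_of_isEmpty, Nat.le_zero] at hlt
    subst hlt
    rw [mul_zero, Nat.le_zero] at hb
    have := card_Ell hν
    rw [hb] at this
    omega
  set a₁ := f ⟨A₁, hS hA₁⟩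
  have hbig : (b : ℤ) ≤ c a₁ := by
    simp only [hc]
    have h := Nat.card_le_card_of_injective
      (fun A : S => (⟨⟨A.1, hS A.2⟩, (hf _ _).2 (hrel _ A.2 _ hA₁)⟩ : {A : Ell ν // f A = a₁}))
      fun a b h => Subtype.ext (congrArg (fun x : {A : Ell ν // f A = a₁} => (x.1 : M₂)) h)
    exact_mod_cast hlt.trans h
  -- variance
  have hr : (Fintype.card (SL₂ ⧸ K₀) : ℤ) = K₀.index := by
    rw [Subgroup.index, Nat.card_eq_fintype_card]
  set r : ℤ := (K₀.index : ℤ)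
  set M : ℤ := (q : ℤ) * ((q : ℤ) - 1)
  have hsplit1 := Finset.add_sum_erase Finset.univ c (Finset.mem_univ a₁)
  have hsplit2 := Finset.add_sum_erase Finset.univ (fun a => c a ^ 2) (Finset.mem_univ a₁)
  have hcs := sq_sum_le_card_mul_sum_sq (s := Finset.univ.erase a₁) (f := c)
  rw [Finset.card_erase_of_mem (Finset.mem_univ _), Finset.card_univ] at hcs
  have h1r : 1 ≤ Fintype.card (SL₂ ⧸ K₀) := Fintype.card_pos
  rw [Nat.cast_sub h1r, hr, Nat.cast_one] at hcs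
  have hr1 : 0 ≤ r - 1 := by rw [← hr]; omega
  set x := c a₁
  set T := ∑ a ∈ Finset.univ.erase a₁, c a ^ 2
  have e1 : ∑ a ∈ Finset.univ.erase a₁, c a = M - x := by linarith
  rw [e1] at hcs
  have hb' : M ≤ r * b := by
    have h1 : 1 ≤ q := Fintype.card_pos
    have : ((q * (q - 1) : ℕ) : ℤ) ≤ ((K₀.index * b : ℕ) : ℤ) := by exact_mod_cast hb
    rw [Nat.cast_mul, Nat.cast_mul, Nat.cast_sub h1, Nat.cast_one] at this
    exact this
  nlinarith [mul_le_mul_of_nonneg_left (le_trans (le_of_eq hsplit2) hsq) hr1,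
    mul_nonneg (sub_nonneg.2 hbig) (sub_nonneg.2 hb'), mul_nonneg (sub_nonneg.2 hbig) (sub_nonneg.2 hbig),
    mul_nonneg (sub_nonneg.2 hbig) (mul_nonneg (le_trans zero_le_one (by omega : (1:ℤ) ≤ r)) (sub_nonneg.2 hbig))]

end Cfsg.Agent.Invol.AbgOrder
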