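import Cfsg.Agent.Lib.Classical.PSLFieldAut
import Cfsg.Agent.Lib.Classical.SLGroup
import Cfsg.Agent.Lib.Classical.SLNormal

/-!
# Automorphisms of `SL(2, q)`: inner-diagonal part and field part

Also the element of `2`-power order whose trace is moved by every involutory field automorphism.
-/

set_option autoImplicit false

namespace Cfsg.Agent.Invol.AbgOrder

open Matrix Cfsg.Agent.Classical Cfsg.Agent.Classical.PSLAut Cfsg.Agent.Classical.Descent

universe u

variable {F : Type u} [Field F] [Fintype F]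

local notation "SL₂" => Matrix.SpecialLinearGroup (Fin 2) F
local notation "GL₂" => GL (Fin 2) F
local notation "M₂" => Matrix (Fin 2) (Fin 2) F

/-- `A ↦ g σ(A) g⁻¹`. -/
def smi (g : GL₂) (σ : RingAut F) : MulAut SL₂ := slSemi g σ

theorem smi_coe (g : GL₂) (σ : RingAut F) (A : SL₂) :
    ((smi g σ A : SL₂) : M₂) = (g : M₂) * (A : M₂).map (⇑σ) * ((g⁻¹ : GL₂) : M₂) := rfl

theorem smi_mul (g h : GL₂) (σ τ : RingAut F) : smi g σ * smi h τ = smi (g * gmap σ h) (σ * τ) := by
  refine MulEquiv.ext fun A => Subtype.ext ?_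
  simp only [MulAut.mul_apply, smi_coe, Matrix.map_mul, Matrix.map_map, _root_.mul_inv_rev, Units.val_mul,
    Matrix.mul_assoc, ← map_inv]
  rfl

theorem smi_one : smi (1 : GL₂) (1 : RingAut F) = 1 :=
  MulEquiv.ext fun A => Subtype.ext (by
    rw [smi_coe, inv_one, Units.val_one, Matrix.one_mul, Matrix.mul_one]
    exact Matrix.map_id _)

theorem smi_unique {g h : GL₂} {σ τ : RingAut F} (e : smi g σ = smi h τ) :
    σ = τ ∧ ∃ c : Fˣ, g = h * Matrix.GeneralLinearGroup.scalar (Fin 2) c := by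
  have e' : (pslSemi g σ : MulAut (Matrix.ProjectiveSpecialLinearGroup (Fin 2) F)) = pslSemi h τ := by
    refine MulEquiv.ext fun x => ?_
    obtain ⟨s, rfl⟩ := slToPSL_surjective x
    rw [pslSemi_mk, pslSemi_mk]
    exact congrArg _ (DFunLike.congr_fun e s)
  obtain ⟨h1, -, h2⟩ := Rep.unique le_rfl (β := pslSemi g σ) (g := g) (h := h) (σ := σ) (τ := τ) (ε := 0) (η := 0)
    ⟨zero_le_one, fun _ => rfl, by simp⟩ ⟨zero_le_one, fun _ => rfl, by simpa using e'⟩
  exact ⟨h1, h2⟩

/-- Every automorphism is semilinear. -/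
theorem exists_smi (θ : MulAut SL₂) : ∃ g σ, θ = smi g σ := by
  obtain ⟨p, hp⟩ := CharP.exists F
  haveI : Fact p.Prime := ⟨CharP.char_is_prime F p⟩
  let Z := Subgroup.center SL₂
  obtain ⟨g, σ, ε, -, hε, hβ⟩ := exists_param (p := p) (F := F) le_rfl
    (QuotientGroup.congr Z Z θ (Subgroup.characteristic_iff_map_eq.1 inferInstance _))
  rw [hε rfl, pow_zero, mul_one] at hβ
  refine ⟨g, σ, ?_⟩
  set β := θ.trans (slSemi g σ).symm with hβ'
  have hc : ∀ A, A⁻¹ * β A ∈ Z := by
    intro A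
    have h1 := DFunLike.congr_fun hβ (QuotientGroup.mk A)
    change (QuotientGroup.mk (θ A) : _ ⧸ Z) = QuotientGroup.mk (slSemi g σ A) at h1
    obtain ⟨z, hz, hz'⟩ : ∃ z ∈ Z, θ A = slSemi g σ A * z :=
      ⟨(slSemi g σ A)⁻¹ * θ A, QuotientGroup.eq.1 h1.symm, by rw [mul_inv_cancel_left]⟩
    rw [hβ', MulEquiv.trans_apply, hz', map_mul, MulEquiv.symm_apply_apply, inv_mul_cancel_left]
    have hmap := Subgroup.characteristic_iff_map_eq.1 (inferInstance : Z.Characteristic) (slSemi g σ).symm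
    rw [← hmap]
    exact ⟨z, hz, rfl⟩
  let χ : SL₂ →* Z :=
    { toFun := fun A => ⟨A⁻¹ * β A, hc A⟩
      map_one' := Subtype.ext (by simp)
      map_mul' := fun A B => Subtype.ext (by
        have hA := Subgroup.mem_center_iff.1 (hc A) B⁻¹
        show (A * B)⁻¹ * β (A * B) = A⁻¹ * β A * (B⁻¹ * β B)
        rw [_root_.mul_inv_rev, map_mul, ← mul_assoc, ← mul_assoc, ← hA]
        simp only [mul_assoc]) }
  refine MulEquiv.ext fun A => ?_
  have h1 : A ∈ χ.ker := by
    rcases Nat.lt_or_ge (Fintype.card F) 4 with hq3 | hq4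
    · have hF : (3 : F) = 0 ∨ (2 : F) = 0 := by
        have h0 := FiniteField.cast_card_eq_zero F
        have := Fintype.one_lt_card (α := F)
        interval_cases h : Fintype.card F
        · exact Or.inr (by exact_mod_cast h0)
        · exact Or.inl (by exact_mod_cast h0)
      rcases hF with h3 | h2
      · have hgen : Subgroup.closure (Set.range (Matrix.TransvectionStruct.toSpecialLinearGroup :
            Matrix.TransvectionStruct (Fin 2) F → _)) ≤ χ.ker := by
          refine (Subgroup.closure_le _).2 ?_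
          rintro _ ⟨T, rfl⟩
          obtain ⟨i, j, hij, c⟩ := T
          set u := Matrix.TransvectionStruct.toSpecialLinearGroup (⟨i, j, hij, c⟩ : TransvectionStruct (Fin 2) F) with hu
          have hu3 : u ^ 3 = 1 := by
            refine Subtype.ext ?_
            rw [pow_three, hu]
            show transvection i j c * (transvection i j c * transvection i j c) = 1
            rw [transvection_mul_transvection_same i j hij, transvection_mul_transvection_same i j hij,
              show c + (c + c) = 0 by linear_combination c * h3, transvection_zero]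
          have hz2 : χ u ^ 2 = 1 := Subtype.ext (by
            rw [Subgroup.coe_pow, Subgroup.coe_one]
            obtain ⟨r, hr, hM⟩ := Matrix.SpecialLinearGroup.mem_center_iff.1 (χ u).2
            rw [Fintype.card_fin] at hr
            refine Subtype.ext ?_
            rw [Matrix.SpecialLinearGroup.coe_pow, Matrix.SpecialLinearGroup.coe_one, ← hM, ← map_pow, hr, map_one])
          have hz3 : χ u ^ 3 = 1 := by rw [← map_pow, hu3, map_one]
          show χ u = 1
          rw [pow_succ, hz2, one_mul] at hz3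
          exact hz3
        rw [SL_closure_transvections] at hgen
        exact hgen (Subgroup.mem_top A)
      · refine MonoidHom.mem_ker.2 (Subtype.ext ?_)
        obtain ⟨r, hr, hM⟩ := Matrix.SpecialLinearGroup.mem_center_iff.1 (χ A).2
        rw [Fintype.card_fin] at hr
        refine Subtype.ext ?_
        rw [Subgroup.coe_one, Matrix.SpecialLinearGroup.coe_one, ← hM]
        have hr1 : (r - 1) * (r - 1) = 0 := by linear_combination hr + (1 - r) * h2
        rw [sub_eq_zero.1 (mul_self_eq_zero.1 hr1), map_one]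
    · have hperf : commutator SL₂ = ⊤ := SL_commutator_eq_top fun _ => exists_sq_ne_one_field hq4
      have : commutator _ ≤ χ.ker := by
        rw [_root_.commutator_def, Subgroup.commutator_le]
        intro a _ b _
        rw [MonoidHom.mem_ker, map_commutatorElement, commutatorElement_eq_one_iff_mul_comm]
        exact Subtype.ext ((Subgroup.mem_center_iff.1 (χ b).2 _))
      exact this (by rw [hperf]; exact Subgroup.mem_top A)
  have h2 : A⁻¹ * β A = 1 := congrArg Subtype.val (MonoidHom.mem_ker.1 h1)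
  rw [inv_mul_eq_one] at h2
  show θ A = slSemi g σ A
  calc θ A = slSemi g σ (β A) := ((slSemi g σ).apply_symm_apply (θ A)).symm
    _ = slSemi g σ A := by rw [← h2]

/-- The field part. -/
noncomputable def fld : MulAut SL₂ →* RingAut F :=
  MonoidHom.mk' (fun θ => (exists_smi θ).choose_spec.choose) fun θ φ => by
    have h1 := (exists_smi θ).choose_spec.choose_spec
    have h2 := (exists_smi φ).choose_spec.choose_spec
    have h3 := (exists_smi (θ * φ)).choose_spec.choose_spec
    exact (smi_unique (h3.symm.trans ((congrArg₂ (· * ·) h1 h2).trans (smi_mul _ _ _ _)))).1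

theorem fld_smi (g : GL₂) (σ : RingAut F) : fld (smi g σ) = σ :=
  ((smi_unique (exists_smi (smi g σ)).choose_spec.choose_spec).1).symm

theorem exists_eq (θ : MulAut SL₂) : ∃ g, θ = smi g (fld θ) := by
  obtain ⟨g, σ, rfl⟩ := exists_smi θ
  exact ⟨g, by rw [fld_smi]⟩

/-- Inner-diagonal automorphisms. -/
def inn : GL₂ →* MulAut SL₂ where
  toFun g := smi g 1
  map_one' := smi_one
  map_mul' g h := by rw [smi_mul, gmap_one, one_mul]

theorem inn_coe (g : GL₂) (A : SL₂) : ((inn g A : SL₂) : M₂) = (g : M₂) * (A : M₂) * ((g⁻¹ : GL₂) : M₂) := by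
  show ((smi g 1 A : SL₂) : M₂) = _
  rw [smi_coe]
  exact congrArg (fun M => (g : M₂) * M * ((g⁻¹ : GL₂) : M₂)) (Matrix.map_id _)

theorem mem_range_inn {θ : MulAut SL₂} : θ ∈ (inn (F := F)).range ↔ fld θ = 1 := by
  constructor
  · rintro ⟨g, rfl⟩
    exact fld_smi g 1
  · intro h
    obtain ⟨g, hg⟩ := exists_eq θ
    exact ⟨g, (hg.trans (by rw [h]; rfl)).symm⟩

theorem ker_fld : (fld (F := F)).ker = (inn (F := F)).range :=
  Subgroup.ext fun θ => (MonoidHom.mem_ker).trans mem_range_inn.symm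

theorem ker_inn : (inn (F := F)).ker = Subgroup.center GL₂ := by
  rw [Matrix.GeneralLinearGroup.center_eq_range_scalar]
  ext g
  rw [MonoidHom.mem_ker, MonoidHom.mem_range]
  constructor
  · intro h
    obtain ⟨-, c, hc⟩ := smi_unique (h.trans smi_one.symm)
    exact ⟨c, (hc.trans (one_mul _)).symm⟩
  · rintro ⟨c, rfl⟩
    refine MulEquiv.ext fun A => Subtype.ext ?_
    rw [inn_coe, Matrix.GeneralLinearGroup.coe_scalar,
      (Matrix.scalar_commute (c : F) (fun r => Commute.all _ r) (A : M₂)).eq,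
      ← Matrix.GeneralLinearGroup.coe_scalar, Units.mul_inv_cancel_right]
    rfl

theorem inn_toGL (s : SL₂) : inn (Matrix.SpecialLinearGroup.toGL s) = MulAut.conj s :=
  MulEquiv.ext fun A => Subtype.ext (by
    rw [inn_coe, MulAut.conj_apply, Matrix.SpecialLinearGroup.coe_mul, Matrix.SpecialLinearGroup.coe_mul]
    rfl)

theorem sq_inn_mem (g : GL₂) : inn g * inn g ∈ (MulAut.conj (G := SL₂)).range := by
  let d : Fˣ := Matrix.GeneralLinearGroup.det g
  let e : SL₂ := ⟨((d⁻¹ : Fˣ) : F) • ((g * g : GL₂) : M₂), by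
    have hd : (d : F) = (g : M₂).det := rfl
    rw [Matrix.det_smul, Fintype.card_fin, Units.val_mul, Matrix.det_mul, ← hd, Units.val_inv_eq_inv_val]
    field_simp⟩
  refine ⟨e, ?_⟩
  have he : Matrix.SpecialLinearGroup.toGL e = Matrix.GeneralLinearGroup.scalar (Fin 2) d⁻¹ * (g * g) := by
    refine Units.ext ?_
    rw [Units.val_mul (Matrix.GeneralLinearGroup.scalar (Fin 2) d⁻¹), Matrix.GeneralLinearGroup.coe_scalar]
    show ((d⁻¹ : Fˣ) : F) • _ = _
    rw [Matrix.smul_eq_diagonal_mul]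
    rfl
  have hs : Matrix.GeneralLinearGroup.scalar (Fin 2) d⁻¹ ∈ (inn (F := F)).ker := by
    rw [ker_inn, Matrix.GeneralLinearGroup.center_eq_range_scalar]; exact ⟨_, rfl⟩
  rw [← inn_toGL, he, map_mul, MonoidHom.mem_ker.1 hs, one_mul, map_mul]

theorem card_GL_two : Nat.card GL₂ = Nat.card Fˣ * Nat.card SL₂ := by
  let d : GL₂ →* Fˣ := Matrix.GeneralLinearGroup.det
  have hsurj : Function.Surjective d := fun a => ⟨⟨!![(a : F), 0; 0, 1], !![((a⁻¹ : Fˣ) : F), 0; 0, 1],
    by ext i j; fin_cases i <;> fin_cases j <;> simp, by ext i j; fin_cases i <;> fin_cases j <;> simp⟩,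
    Units.ext (by simp [d, Matrix.det_fin_two])⟩
  have hker : d.ker = (Matrix.SpecialLinearGroup.toGL : SL₂ →* GL₂).range := by
    ext g
    constructor
    · intro h
      exact ⟨⟨(g : M₂), congrArg Units.val (MonoidHom.mem_ker.1 h)⟩, Units.ext rfl⟩
    · rintro ⟨s, rfl⟩
      exact MonoidHom.mem_ker.2 (Units.ext s.2)
  have h := d.ker.index_mul_card
  rw [Subgroup.index_ker, MonoidHom.range_eq_top.2 hsurj, Subgroup.card_top, hker,
    ← Nat.card_congr (MonoidHom.ofInjective Matrix.SpecialLinearGroup.toGL_injective).toEquiv] at h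
  exact h.symm

theorem card_center_GL : Nat.card (Subgroup.center GL₂) = Nat.card Fˣ := by
  have hinj : Function.Injective (Matrix.GeneralLinearGroup.scalar (Fin 2) : Fˣ →* GL₂) := fun a b h => by
    have := congrArg (fun g : GL₂ => (g : M₂) 0 0) h
    simpa [Units.ext_iff] using this
  rw [Matrix.GeneralLinearGroup.center_eq_range_scalar, ← Nat.card_congr (MonoidHom.ofInjective hinj).toEquiv]

theorem card_range_inn : Nat.card (inn (F := F)).range = Nat.card SL₂ := by
  have h := (inn (F := F)).ker.index_mul_card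
  rw [Subgroup.index_ker, ker_inn, card_center_GL, card_GL_two, mul_comm] at h
  exact Nat.eq_of_mul_eq_mul_left Nat.card_pos h

/-- A matrix commuting with two non-commuting elements is scalar. -/
theorem inn_eq_one_of_fix {g : GL₂} {a b : SL₂} (hab : a * b ≠ b * a) (ha : inn g a = a) (hb : inn g b = b) :
    inn g = 1 := by
  have hcomm : ∀ c : SL₂, inn g c = c → (g : M₂) * (c : M₂) = (c : M₂) * (g : M₂) := fun c hc => by
    have h := congrArg (fun s : SL₂ => (s : M₂) * (g : M₂)) hc
    simpa [inn_coe, Matrix.mul_assoc] using h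
  have e1 := hcomm a ha
  have e2 := hcomm b hb
  simp only [← Matrix.ext_iff, Fin.forall_fin_two, Matrix.mul_apply, Fin.sum_univ_two] at e1 e2
  obtain ⟨⟨a00, a01⟩, ⟨a10, a11⟩⟩ := e1
  obtain ⟨⟨b00, b01⟩, ⟨b10, b11⟩⟩ := e2
  set A := (a : M₂) with hA
  set B := (b : M₂) with hB
  set G := (g : M₂) with hG
  have key : ∀ t : F, t ≠ 0 → t * (A 0 1 * B 1 0 - A 1 0 * B 0 1) = 0 → t * (A 0 1 * (B 0 0 - B 1 1) - B 0 1 * (A 0 0 - A 1 1)) = 0 →
      t * (A 1 0 * (B 0 0 - B 1 1) - B 1 0 * (A 0 0 - A 1 1)) = 0 → False := by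
    intro t ht h1 h2 h3
    rw [mul_eq_zero] at h1 h2 h3
    have h1 := h1.resolve_left ht
    have h2 := h2.resolve_left ht
    have h3 := h3.resolve_left ht
    refine hab (Subtype.ext (Matrix.ext fun i j => ?_))
    rw [Matrix.SpecialLinearGroup.coe_mul, Matrix.SpecialLinearGroup.coe_mul, ← hA, ← hB]
    fin_cases i <;> fin_cases j <;> simp [Matrix.mul_apply, Fin.sum_univ_two] <;>
      first
        | linear_combination h1
        | linear_combination -h1
        | linear_combination h2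
        | linear_combination -h2
        | linear_combination h3
        | linear_combination -h3
  have g01 : G 0 1 = 0 := by
    by_contra hne
    have h1 : G 0 1 * (A 0 1 * B 1 0 - A 1 0 * B 0 1) = 0 := by linear_combination A 0 1 * b00 - B 0 1 * a00
    have h1' := (mul_eq_zero.1 h1).resolve_left hne
    refine key _ hne h1 ?_ ?_
    · linear_combination B 0 1 * a01 - A 0 1 * b01
    · linear_combination B 1 0 * a01 - A 1 0 * b01 - (G 0 0 - G 1 1) * h1'
  have g10 : G 1 0 = 0 := by
    by_contra hne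
    have h1 : G 1 0 * (A 0 1 * B 1 0 - A 1 0 * B 0 1) = 0 := by linear_combination A 1 0 * b00 - B 1 0 * a00
    have h1' := (mul_eq_zero.1 h1).resolve_left hne
    refine key _ hne h1 ?_ ?_
    · linear_combination A 0 1 * b10 - B 0 1 * a10 + (G 0 0 - G 1 1) * h1'
    · linear_combination A 1 0 * b10 - B 1 0 * a10
  have g00 : G 0 0 = G 1 1 := by
    by_contra hne
    refine key _ (sub_ne_zero.2 hne) ?_ ?_ ?_
    · linear_combination (A 0 0 - A 1 1) * b00 + B 1 0 * a01 + B 0 1 * a10
    · linear_combination (B 0 0 - B 1 1) * a01 - (A 0 0 - A 1 1) * b01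
    · linear_combination (A 0 0 - A 1 1) * b10 - (B 0 0 - B 1 1) * a10
  have hg : g ∈ Subgroup.center GL₂ := Subgroup.mem_center_iff.2 fun h => Units.ext (Matrix.ext fun i j => by
    rw [Units.val_mul, Units.val_mul, ← hG]
    fin_cases i <;> fin_cases j <;> simp [Matrix.mul_apply, Fin.sum_univ_two, g01, g10, g00] <;> ring)
  rw [← ker_inn] at hg
  exact hg

/-- The centraliser of two non-commuting elements is `±1`. -/
theorem central_of_commute_pair {a b c : SL₂} (hab : a * b ≠ b * a) (ha : c * a = a * c) (hb : c * b = b * c) :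
    c ∈ Subgroup.center SL₂ := by
  have h := inn_eq_one_of_fix (g := Matrix.SpecialLinearGroup.toGL c) hab
    (by rw [inn_toGL, MulAut.conj_apply, ha, mul_inv_cancel_right])
    (by rw [inn_toGL, MulAut.conj_apply, hb, mul_inv_cancel_right])
  rw [inn_toGL] at h
  refine Subgroup.mem_center_iff.2 fun x => ?_
  have hx := DFunLike.congr_fun h x
  rw [MulAut.conj_apply, MulAut.one_apply, mul_inv_eq_iff_eq_mul] at hx
  exact hx.symm

theorem eq_one_or_neg_one (hodd : Odd (Fintype.card F)) {c : SL₂} (h : c * c = 1) : c = 1 ∨ c = -1 := by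
  have h2 : (2 : F) ≠ 0 := fun e => by
    obtain ⟨p, hp⟩ := CharP.exists F
    obtain ⟨n, hpp, hn⟩ := FiniteField.card F p
    have hd : p ∣ 2 := (CharP.cast_eq_zero_iff F p 2).1 (by exact_mod_cast e)
    rw [(Nat.prime_dvd_prime_iff_eq hpp Nat.prime_two).1 hd] at hn
    rw [hn, Nat.odd_pow_iff n.ne_zero] at hodd
    exact absurd hodd (by decide)
  have hinv : c⁻¹ = c := inv_eq_of_mul_eq_one_right h
  have e := congrArg (fun s : SL₂ => (s : M₂)) hinv
  simp only [Matrix.SpecialLinearGroup.coe_inv, Matrix.adjugate_fin_two, ← Matrix.ext_iff, Fin.forall_fin_two,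
    Matrix.of_apply, Matrix.cons_val', Matrix.cons_val_zero, Matrix.cons_val_one, Matrix.cons_val_fin_one,
    Matrix.empty_val'] at e
  obtain ⟨⟨e00, e01⟩, ⟨e10, -⟩⟩ := e
  set C := (c : M₂) with hC
  have c01 : C 0 1 = 0 := by
    refine (mul_eq_zero.1 (show (2 : F) * C 0 1 = 0 by linear_combination (-1 : F) * e01)).resolve_left h2
  have c10 : C 1 0 = 0 := by
    refine (mul_eq_zero.1 (show (2 : F) * C 1 0 = 0 by linear_combination (-1 : F) * e10)).resolve_left h2
  have hd := c.2
  rw [Matrix.det_fin_two, ← hC, c01, c10, zero_mul, sub_zero, e00] at hd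
  rcases mul_self_eq_one_iff.1 hd with h1 | h1
  · refine Or.inl (Subtype.ext (Matrix.ext fun i j => ?_))
    rw [← hC, Matrix.SpecialLinearGroup.coe_one]
    fin_cases i <;> fin_cases j <;> simp [c01, c10, h1, e00 ▸ h1]
  · refine Or.inr (Subtype.ext (Matrix.ext fun i j => ?_))
    rw [← hC, Matrix.SpecialLinearGroup.coe_neg, Matrix.SpecialLinearGroup.coe_one]
    fin_cases i <;> fin_cases j <;> simp [c01, c10, h1, e00 ▸ h1]

/-- The diagonal torus. -/
def dS : Fˣ →* SL₂ where
  toFun x := ⟨!![(x : F), 0; 0, ((x⁻¹ : Fˣ) : F)], by simp [Matrix.det_fin_two]⟩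
  map_one' := Subtype.ext (show !![((1 : Fˣ) : F), 0; 0, (((1 : Fˣ)⁻¹ : Fˣ) : F)] = (1 : M₂) by
    simp [Matrix.one_fin_two])
  map_mul' x y := Subtype.ext (show !![((x * y : Fˣ) : F), 0; 0, (((x * y)⁻¹ : Fˣ) : F)] =
      (!![(x : F), 0; 0, ((x⁻¹ : Fˣ) : F)] : M₂) * !![(y : F), 0; 0, ((y⁻¹ : Fˣ) : F)] by
    simp [Matrix.mul_fin_two, mul_comm])

theorem dS_coe (x : Fˣ) : ((dS x : SL₂) : M₂) = !![(x : F), 0; 0, ((x⁻¹ : Fˣ) : F)] := rfl

theorem dS_injective : Function.Injective (dS (F := F)) := fun x y h => Units.ext (by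
  simpa [dS_coe] using congrArg (fun s : SL₂ => (s : M₂) 0 0) h)

theorem trace_inv (A : SL₂) : Matrix.trace ((A⁻¹ : SL₂) : M₂) = Matrix.trace (A : M₂) := by
  rw [Matrix.SpecialLinearGroup.coe_inv, Matrix.adjugate_fin_two, Matrix.trace_fin_two, Matrix.trace_fin_two]
  simp [add_comm]

theorem trace_smi (g : GL₂) (σ : RingAut F) (A : SL₂) :
    Matrix.trace ((smi g σ A : SL₂) : M₂) = σ (Matrix.trace (A : M₂)) := by
  rw [smi_coe, Matrix.trace_units_conj, Matrix.trace_fin_two, Matrix.trace_fin_two, map_add]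
  rfl

theorem ringAut_exists_pow (σ : RingAut F) {p n : ℕ} [Fact p.Prime] (hF : Fintype.card F = p ^ n) :
    ∃ j < n, ∀ x, σ x = x ^ p ^ j := by
  haveI : CharP F p := charP_of_card_eq_prime_pow hF
  letI : Algebra (ZMod p) F := ZMod.algebra F p
  have hfin : Module.finrank (ZMod p) F = n := by
    have h := Module.card_eq_pow_finrank (K := ZMod p) (V := F)
    rw [hF, ZMod.card] at h
    exact (Nat.pow_right_injective (Fact.out : p.Prime).two_le h).symm
  let χ : F ≃ₐ[ZMod p] F := AlgEquiv.ofRingEquiv (f := σ) fun x => by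
    show σ.toRingHom.comp (algebraMap (ZMod p) F) x = algebraMap (ZMod p) F x
    rw [RingHom.ext_zmod (σ.toRingHom.comp (algebraMap (ZMod p) F)) (algebraMap (ZMod p) F)]
  obtain ⟨j, hj⟩ := (FiniteField.bijective_frobeniusAlgEquivOfAlgebraic_pow (ZMod p) F).2 χ
  refine ⟨j.1, hfin ▸ j.2, fun x => ?_⟩
  have hx : (FiniteField.frobeniusAlgEquivOfAlgebraic (ZMod p) F)^[j.1] x = σ x := by
    rw [← AlgEquiv.coe_pow]
    exact DFunLike.congr_fun hj x
  rw [FiniteField.coe_frobeniusAlgEquivOfAlgebraic_iterate, ZMod.card] at hx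
  exact hx.symm

/-- An element of `2`-power order, at least `8`, whose trace an involutory field automorphism moves. -/
theorem exists_trace_moved (hodd : Odd (Fintype.card F)) {σ : RingAut F} (hσ : orderOf σ = 2) :
    ∃ (u : SL₂) (a : ℕ), 3 ≤ a ∧ orderOf u = 2 ^ a ∧ σ (Matrix.trace (u : M₂)) ≠ Matrix.trace (u : M₂) := by
  classical
  obtain ⟨p, hp⟩ := CharP.exists F
  obtain ⟨n, hpp, hn⟩ := FiniteField.card F p
  haveI : Fact p.Prime := ⟨hpp⟩
  obtain ⟨j, hj, hσx⟩ := ringAut_exists_pow σ hn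
  set q₀ := p ^ j with hq₀
  have hσσ : ∀ x : F, x ^ (q₀ * q₀) = x := fun x => by
    have h := DFunLike.congr_fun (show σ * σ = 1 by rw [← sq, ← hσ, pow_orderOf_eq_one]) x
    change σ (σ x) = x at h
    rw [hσx, hσx, ← pow_mul] at h
    exact h
  have hj0 : j ≠ 0 := fun h => by
    have h1 : σ = 1 := RingEquiv.ext fun x => by rw [hσx, hq₀, h, pow_zero, pow_one]; rfl
    rw [h1, orderOf_one] at hσ
    exact absurd hσ (by norm_num)
  have hp2 : p ≠ 2 := fun h => by
    rw [hn, h, Nat.odd_pow_iff n.ne_zero] at hodd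
    exact absurd hodd (by decide)
  have hpodd : Odd p := hpp.odd_of_ne_two hp2
  have hq₀odd : Odd q₀ := hpodd.pow
  have hq₀2 : 2 ≤ q₀ := le_trans hpp.two_le (Nat.le_self_pow hj0 p)
  -- the field has `q₀²` elements
  obtain ⟨g, hg⟩ := IsCyclic.exists_ofOrder_eq_natCard (α := Fˣ)
  have hdvd : Fintype.card F - 1 ∣ q₀ * q₀ - 1 := by
    rw [← Fintype.card_units, ← Nat.card_eq_fintype_card, ← hg, orderOf_dvd_iff_pow_eq_one]
    refine Units.ext ?_
    have h := hσσ (g : F)
    rw [show q₀ * q₀ = q₀ * q₀ - 1 + 1 from (Nat.sub_add_cancel (by nlinarith)).symm, pow_succ] at h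
    rw [Units.val_pow_eq_pow_val, Units.val_one]
    exact mul_right_cancel₀ g.ne_zero (h.trans (one_mul _).symm)
  have hcard : Fintype.card F = q₀ * q₀ := by
    rw [hn, hq₀, ← pow_add] at hdvd ⊢
    rcases lt_trichotomy (j + j) n with h | h | h
    · exfalso
      have h1 : 1 < p ^ (j + j) := Nat.one_lt_pow (by omega) hpp.one_lt
      have h2 : p ^ (j + j) < p ^ (n : ℕ) := Nat.pow_lt_pow_right hpp.one_lt h
      have h3 := Nat.le_of_dvd (by omega) hdvd
      omega
    · rw [h]
    · exfalso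
      obtain ⟨e, he⟩ : ∃ e, j + j = n + e := ⟨j + j - n, by omega⟩
      have h1 : 1 < p ^ e := Nat.one_lt_pow (by omega) hpp.one_lt
      have h2 : p ^ e < p ^ (n : ℕ) := Nat.pow_lt_pow_right hpp.one_lt (by omega)
      have h4 : p ^ (j + j) - 1 = p ^ e * (p ^ (n : ℕ) - 1) + (p ^ e - 1) := by
        rw [he, pow_add, Nat.mul_sub, mul_comm (p ^ (n : ℕ)), mul_one]
        have : p ^ e ≤ p ^ e * p ^ (n : ℕ) := Nat.le_mul_of_pos_right _ (by omega)
        omega
      rw [h4, Nat.dvd_add_right (dvd_mul_left _ _)] at hdvd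
      have h3 := Nat.le_of_dvd (by omega) hdvd
      omega
  obtain ⟨a, b, hb, hab⟩ := Nat.exists_eq_pow_mul_and_not_dvd
    (show q₀ * q₀ - 1 ≠ 0 by have : 4 ≤ q₀ * q₀ := by nlinarith
                             omega) 2 (by norm_num)
  obtain ⟨r, hr⟩ := hq₀odd
  have hprod : q₀ * q₀ - 1 = (q₀ - 1) * (q₀ + 1) := by
    rw [hr, Nat.add_sub_cancel]
    have : (2 * r + 1) * (2 * r + 1) = 2 * r * (2 * r + 1 + 1) + 1 := by ring
    rw [this, Nat.add_sub_cancel]
  have hno : ∀ c, c = q₀ - 1 ∨ c = q₀ + 1 → ¬ 2 ^ a ∣ c := by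
    intro c hc hd
    have h1 : 2 ^ a * 2 ∣ (q₀ - 1) * (q₀ + 1) := by
      rcases hc with rfl | rfl
      · exact mul_dvd_mul hd ⟨r + 1, by omega⟩
      · rw [mul_comm (q₀ - 1)]; exact mul_dvd_mul hd ⟨r, by omega⟩
    rw [← hprod, hab] at h1
    exact hb (Nat.dvd_of_mul_dvd_mul_left (Nat.two_pow_pos a) h1)
  have ha : 3 ≤ a := by
    by_contra hlt
    have h8 : 8 ∣ q₀ * q₀ - 1 := by
      rw [hprod, hr, Nat.add_sub_cancel]
      obtain ⟨s, hs⟩ : 2 ∣ r * (r + 1) := (Nat.even_mul_succ_self r).two_dvd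
      exact ⟨s, by rw [show 2 * r * (2 * r + 1 + 1) = 4 * (r * (r + 1)) by ring, hs]; ring⟩
    rw [hab] at h8
    obtain ⟨c, hc⟩ : ∃ c, 2 ^ a * 2 * c = 2 ^ a * b := by
      obtain ⟨d, hd⟩ := h8
      interval_cases a
      · exact ⟨4 * d, by simp at hd ⊢; omega⟩
      · exact ⟨2 * d, by simp at hd ⊢; omega⟩
      · exact ⟨d, by simp at hd ⊢; omega⟩
    exact hb ⟨c, (Nat.eq_of_mul_eq_mul_left (Nat.two_pow_pos a) (by rw [← hc]; ring)).symm⟩
  let t : Fˣ := g ^ b
  have hgord : orderOf g = 2 ^ a * b := by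
    rw [hg, Nat.card_eq_fintype_card, Fintype.card_units, hcard, hab]
  have hb0 : 0 < b := Nat.pos_of_ne_zero fun h => hb (h ▸ dvd_zero 2)
  have htord : orderOf t = 2 ^ a := by
    rw [orderOf_pow_of_dvd hb0.ne' (hgord ▸ dvd_mul_left b _), hgord, Nat.mul_div_cancel _ hb0]
  refine ⟨dS t, a, ha, by rw [orderOf_injective dS dS_injective, htord], fun h => ?_⟩
  have h1 : ((t : F) ^ q₀ - t) * ((t : F) ^ q₀ * t - 1) = 0 := by
    simp only [dS_coe, Matrix.trace_fin_two, Matrix.of_apply, Matrix.cons_val', Matrix.cons_val_zero, Matrix.cons_val_one, Matrix.cons_val_fin_one, Matrix.empty_val'] at h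
    rw [map_add, hσx, hσx, Units.val_inv_eq_inv_val, inv_pow] at h
    have h0 : (t : F) ≠ 0 := t.ne_zero
    field_simp at h
    linear_combination h
  rcases mul_eq_zero.1 h1 with h2 | h2
  · refine hno _ (Or.inl rfl) ?_
    rw [← htord, orderOf_dvd_iff_pow_eq_one]
    refine mul_right_cancel (b := t) ?_
    rw [← pow_succ, Nat.sub_add_cancel (by omega), one_mul]
    exact Units.ext (by rw [Units.val_pow_eq_pow_val]; exact sub_eq_zero.1 h2)
  · refine hno _ (Or.inr rfl) ?_
    rw [← htord, orderOf_dvd_iff_pow_eq_one]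
    exact Units.ext (by rw [Units.val_pow_eq_pow_val, pow_succ, Units.val_one]; exact sub_eq_zero.1 h2)

end Cfsg.Agent.Invol.AbgOrder
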