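import Cfsg.Agent.Lib.Invol.AbgOrder.BudgetEllSet
import Cfsg.Agent.Lib.Invol.AbgOrder.Shape0Aut
import Cfsg.Agent.Lib.Invol.AbgOrder.ColOdd
import Cfsg.Agent.Lib.Char.AlperinBlocks
import Cfsg.Agent.Lib.Char.Average
import Cfsg.Agent.Lib.Invol.AbgOrder.BudgetAct

/-!
# `SL(2, q)` extended by an involution without fixed points on the line

The permutation character on the line less one is irreducible.
-/

set_option autoImplicit false
set_option linter.unusedSectionVars false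
set_option linter.style.haveILetI false

namespace Cfsg.Agent.Invol.AbgOrder

open Matrix Cfsg.Agent.Grp.SL2 Cfsg Cfsg.Agent.Char

universe u v

/-- The data. -/
structure EllY (Y : Type u) [Group Y] (F : Type v) [Field F] [Fintype F] where
  ι : Matrix.SpecialLinearGroup (Fin 2) F →* Y
  ι_inj : Function.Injective ι
  w : Y
  ν : F
  ν_ns : ¬ IsSquare ν
  char2 : (2 : F) ≠ 0
  gw : GL (Fin 2) F
  gw_mem : (gw : Matrix (Fin 2) (Fin 2) F) ∈ Ell ν
  w2 : w * w = 1
  conj : ∀ s, w * ι s = ι (inn gw s) * w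
  dec : ∀ y, ∃ s, y = ι s ∨ y = ι s * w
  disj : ∀ s, ι s ≠ w

/-- A conic with any value has a point. -/
theorem exists_conic_pt {F : Type*} [Field F] [Fintype F] (h2 : (2 : F) ≠ 0) {D : F} (hD : D ≠ 0) (c : F) :
    ∃ x y : F, x * x - D * (y * y) = c := by
  have hodd : Fintype.card F % 2 = 1 := by
    refine FiniteField.odd_card_of_char_ne_two ?_
    intro h
    refine h2 ?_
    haveI := ringChar.of_eq h
    exact_mod_cast CharP.cast_eq_zero F 2
  obtain ⟨a, b, hab⟩ := FiniteField.exists_root_sum_quadratic (f := (Polynomial.X ^ 2 : Polynomial F))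
    (g := Polynomial.C (-D) * Polynomial.X ^ 2 + Polynomial.C (-c))
    (by simp) (by
      rw [Polynomial.degree_add_C (by rw [Polynomial.degree_C_mul (neg_ne_zero.2 hD)]; simp),
        Polynomial.degree_C_mul (neg_ne_zero.2 hD)]
      simp) hodd
  exact ⟨a, b, by simp at hab; linear_combination hab⟩

namespace EllY

variable {Y : Type u} [Group Y] {F : Type v} [Field F] [Fintype F] (e : EllY Y F)

local notation "SL₂" => Matrix.SpecialLinearGroup (Fin 2) F
local notation "M₂" => Matrix (Fin 2) (Fin 2) F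
local notation "G" => (((e.gw : GL (Fin 2) F)) : Matrix (Fin 2) (Fin 2) F)
local notation "G'" => (((e.gw⁻¹ : GL (Fin 2) F)) : Matrix (Fin 2) (Fin 2) F)

theorem ν_ne : e.ν ≠ 0 := fun h => e.ν_ns (h ▸ IsSquare.zero)

theorem gw_inv : G' = e.ν⁻¹ • G := by
  have h : e.ν⁻¹ • G * G = 1 := by
    rw [Matrix.smul_mul, Ell.mul_self e.gw_mem, smul_smul, inv_mul_cancel₀ e.ν_ne, one_smul]
  calc G' = (e.ν⁻¹ • G * G) * G' := by rw [h, Matrix.one_mul]
    _ = e.ν⁻¹ • G * (G * G') := Matrix.mul_assoc _ _ _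
    _ = e.ν⁻¹ • G := by rw [Units.mul_inv, Matrix.mul_one]

theorem mul_inn (s t : SL₂) : ((s * inn e.gw t : SL₂) : M₂) = e.ν⁻¹ • (((s : M₂) * G) * ((t : M₂) * G)) := by
  rw [Matrix.SpecialLinearGroup.coe_mul, inn_coe, gw_inv]
  simp [Matrix.mul_assoc]

theorem ι_mul_w (s t : SL₂) : e.ι s * e.w * (e.ι t * e.w) = e.ι (s * inn e.gw t) := by
  rw [show e.ι s * e.w * (e.ι t * e.w) = e.ι s * (e.w * e.ι t) * e.w by group, e.conj, map_mul]
  rw [show e.ι s * (e.ι (inn e.gw t) * e.w) * e.w = e.ι s * e.ι (inn e.gw t) * (e.w * e.w) by group, e.w2, mul_one]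

theorem w_ι_w (t : SL₂) : e.w * e.ι t * e.w = e.ι (inn e.gw t) := by
  rw [e.conj, mul_assoc, e.w2, mul_one]

theorem w_inv : e.w⁻¹ = e.w := inv_eq_of_mul_eq_one_right e.w2

/-- The element of the class over a matrix. -/
theorem det_toS {A : M₂} (h : A ∈ Ell e.ν) : (A * G').det = 1 := by
  rw [det_mul, h.2, gw_inv, det_smul, e.gw_mem.2, Fintype.card_fin]
  have := e.ν_ne
  field_simp

/-- The element of `SL(2, q)` over a matrix. -/
noncomputable def toS (A : Ell e.ν) : SL₂ := ⟨(A : M₂) * G', e.det_toS A.2⟩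

/-- The element of the class over a matrix. -/
noncomputable def jOf (A : Ell e.ν) : Y := e.ι (e.toS A) * e.w

theorem toS_mul (A : Ell e.ν) : (e.toS A : M₂) * G = (A : M₂) := by
  show (A : M₂) * G' * G = _
  rw [Matrix.mul_assoc, Units.inv_mul, Matrix.mul_one]

theorem jOf_injective : Function.Injective e.jOf := fun A B h => by
  have h' := e.ι_inj (mul_right_cancel h)
  exact Subtype.ext (by rw [← e.toS_mul A, ← e.toS_mul B, h'])

theorem jOf_gw : e.jOf ⟨G, e.gw_mem⟩ = e.w := by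
  have : e.toS ⟨G, e.gw_mem⟩ = 1 := Subtype.ext (by show G * G' = _; rw [Units.mul_inv]; rfl)
  rw [jOf, this, map_one, one_mul]

theorem jOf_mul (A B : Ell e.ν) (s : SL₂) (h : (s : M₂) = e.ν⁻¹ • ((A : M₂) * (B : M₂))) :
    e.jOf A * e.jOf B = e.ι s := by
  rw [jOf, jOf, e.ι_mul_w]
  congr 1
  refine Subtype.ext ?_
  rw [e.mul_inn, e.toS_mul, e.toS_mul, h]

/-- Conjugation of the class by `SL(2, q)`. -/
theorem conj_jOf (t : SL₂) (A B : Ell e.ν) (h : (B : M₂) * (t : M₂) = (t : M₂) * (A : M₂)) :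
    e.ι t * e.jOf A * (e.ι t)⁻¹ = e.jOf B := by
  rw [mul_inv_eq_iff_eq_mul, jOf, jOf]
  rw [show e.ι (e.toS B) * e.w * e.ι t = e.ι (e.toS B) * (e.w * e.ι t) by group, e.conj, ← mul_assoc, ← map_mul,
    ← mul_assoc, ← map_mul]
  congr 2
  refine Subtype.ext ?_
  rw [Matrix.SpecialLinearGroup.coe_mul, Matrix.SpecialLinearGroup.coe_mul, inn_coe]
  show (t : M₂) * ((A : M₂) * G') = (B : M₂) * G' * (G * (t : M₂) * G')
  rw [← Matrix.mul_assoc, ← h]
  calc (B : M₂) * (t : M₂) * G' = (B : M₂) * (G' * G) * (t : M₂) * G' := by rw [Units.inv_mul, Matrix.mul_one]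
    _ = _ := by simp only [Matrix.mul_assoc]

/-- Transitivity. -/
theorem exists_move (A : Ell e.ν) : ∃ t : SL₂, (A : M₂) * (t : M₂) = (t : M₂) * G := by
  obtain ⟨hA0, hA1⟩ := A.2
  have hA1' := (det_fin_two A.1).symm.trans hA1
  have hG0 := e.gw_mem.1
  have hG1 := (det_fin_two G).symm.trans e.gw_mem.2
  set a := (A : M₂) 0 0
  set c := (A : M₂) 1 0
  have hc : c ≠ 0 := Ell.lower_ne e.ν_ns A.2
  set g := G 1 0
  have hg : g ≠ 0 := Ell.lower_ne e.ν_ns e.gw_mem
  obtain ⟨X, y, hXy⟩ := exists_conic_pt e.char2 e.ν_ne (g * c)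
  set x := (X + a * y) / c
  have hb : (A : M₂) 0 1 = (e.ν - a * a) / c := by
    rw [eq_div_iff hc]; linear_combination a * hA0 - hA1'
  have hd : (A : M₂) 1 1 = -a := by linear_combination hA0
  set N : M₂ := !![x, a * x + (A : M₂) 0 1 * y; y, c * x + (A : M₂) 1 1 * y]
  set P : M₂ := !![1, G 0 0; 0, g]
  set P' : M₂ := !![1, -G 0 0 / g; 0, 1 / g]
  have hPP : P' * P = 1 := by
    ext i j
    fin_cases i <;> fin_cases j <;> simp [P, P', Matrix.mul_apply, Fin.sum_univ_two] <;> field_simp <;> ring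
  have hdetN : N.det = g := by
    rw [det_fin_two]
    simp [N, hb, hd, x]
    field_simp
    linear_combination hXy
  have hdet : (N * P').det = 1 := by
    rw [det_mul, hdetN, det_fin_two]
    simp [P']
    field_simp
  refine ⟨⟨N * P', hdet⟩, ?_⟩
  show (A : M₂) * (N * P') = N * P' * G
  set C0 : M₂ := !![0, e.ν; 1, 0]
  have h1 : (A : M₂) * N = N * C0 := by
    ext i j
    fin_cases i <;> fin_cases j <;> simp [N, C0, Matrix.mul_apply, Fin.sum_univ_two, hb, hd] <;>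
      simp only [show (A : M₂) 0 0 = a from rfl, show (A : M₂) 1 0 = c from rfl] <;> (try field_simp) <;> first | ring1 | simp
  have h2 : G * P = P * C0 := by
    ext i j
    fin_cases i <;> fin_cases j <;> simp [P, C0, Matrix.mul_apply, Fin.sum_univ_two]
    · linear_combination G 0 0 * hG0 - hG1
    · rfl
    · linear_combination g * hG0
  have h3 : P' * G = C0 * P' := by
    have hPP' : P * P' = 1 := mul_eq_one_comm.1 hPP
    calc P' * G = P' * (G * P) * P' := by rw [Matrix.mul_assoc, Matrix.mul_assoc, hPP', Matrix.mul_one]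
      _ = _ := by rw [h2, ← Matrix.mul_assoc, hPP, Matrix.one_mul]
  rw [← Matrix.mul_assoc, h1, Matrix.mul_assoc, Matrix.mul_assoc, h3]

theorem exists_conj_jOf (A : Ell e.ν) : ∃ t : SL₂, e.ι t * e.w * (e.ι t)⁻¹ = e.jOf A := by
  obtain ⟨t, ht⟩ := e.exists_move A
  refine ⟨t, ?_⟩
  rw [← e.jOf_gw]
  exact e.conj_jOf t _ _ ht

theorem conj_w_mem (y : Y) : ∃ A : Ell e.ν, y * e.w * y⁻¹ = e.jOf A := by
  have key : ∀ t : SL₂, ∃ A : Ell e.ν, e.ι t * e.w * (e.ι t)⁻¹ = e.jOf A := fun t => by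
    refine ⟨⟨(t : M₂) * G * ((t⁻¹ : SL₂) : M₂), ?_, ?_⟩, ?_⟩
    · rw [← Matrix.trace_fin_two, Matrix.trace_mul_cycle, ← Matrix.SpecialLinearGroup.coe_mul, inv_mul_cancel,
        Matrix.SpecialLinearGroup.coe_one, Matrix.one_mul, Matrix.trace_fin_two]
      exact e.gw_mem.1
    · rw [det_mul, det_mul, Matrix.SpecialLinearGroup.det_coe, Matrix.SpecialLinearGroup.det_coe, e.gw_mem.2,
        one_mul, mul_one]
    · rw [← e.jOf_gw]
      refine e.conj_jOf t _ _ ?_
      show (t : M₂) * G * ((t⁻¹ : SL₂) : M₂) * (t : M₂) = (t : M₂) * G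
      rw [Matrix.mul_assoc, ← Matrix.SpecialLinearGroup.coe_mul, inv_mul_cancel,
        Matrix.SpecialLinearGroup.coe_one, Matrix.mul_one]
  obtain ⟨s, rfl | rfl⟩ := e.dec y
  · exact key s
  · rw [show e.ι s * e.w * e.w * (e.ι s * e.w)⁻¹ = e.ι s * (e.w * e.w * e.w⁻¹) * (e.ι s)⁻¹ by group,
      mul_inv_cancel_right]
    exact key s

/-- The stabiliser of infinity. -/
def borel [Finite Y] : Subgroup Y :=
  let S : Submonoid Y :=
    { carrier := {y | (∃ s : SL₂, (s : M₂) 1 0 = 0 ∧ y = e.ι s) ∨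
        ∃ s : SL₂, ((s : M₂) * G) 1 0 = 0 ∧ y = e.ι s * e.w}
      one_mem' := Or.inl ⟨1, by simp, (map_one e.ι).symm⟩
      mul_mem' := by
        rintro _ _ (⟨s, hs, rfl⟩ | ⟨s, hs, rfl⟩) (⟨t, ht, rfl⟩ | ⟨t, ht, rfl⟩)
        · exact Or.inl ⟨s * t, by simp [Matrix.mul_apply, Fin.sum_univ_two, hs, ht], (map_mul _ _ _).symm⟩
        · refine Or.inr ⟨s * t, ?_, by rw [map_mul, mul_assoc]⟩
          rw [Matrix.SpecialLinearGroup.coe_mul, Matrix.mul_assoc, Matrix.mul_apply, Fin.sum_univ_two, hs, ht]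
          ring
        · refine Or.inr ⟨s * inn e.gw t, ?_, by rw [map_mul, mul_assoc, mul_assoc, e.conj]⟩
          rw [Matrix.SpecialLinearGroup.coe_mul, inn_coe]
          rw [show (s : M₂) * (G * (t : M₂) * G') * G = ((s : M₂) * G) * ((t : M₂) * (G' * G)) by
            simp only [Matrix.mul_assoc], Units.inv_mul, Matrix.mul_one, Matrix.mul_apply, Fin.sum_univ_two, hs, ht]
          ring
        · refine Or.inl ⟨s * inn e.gw t, ?_, e.ι_mul_w s t⟩
          rw [e.mul_inn, Matrix.smul_apply, Matrix.mul_apply, Fin.sum_univ_two, hs, ht]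
          simp }
  { S with
    inv_mem' := fun {y} hy => by
      have h1 : y⁻¹ = y ^ (orderOf y - 1) := inv_eq_of_mul_eq_one_right (by
        rw [← pow_succ', Nat.sub_add_cancel (orderOf_pos y), pow_orderOf_eq_one])
      rw [h1]
      exact S.pow_mem hy _ }

theorem mem_borel [Finite Y] {y : Y} : y ∈ e.borel ↔ (∃ s : SL₂, (s : M₂) 1 0 = 0 ∧ y = e.ι s) ∨
    ∃ s : SL₂, ((s : M₂) * G) 1 0 = 0 ∧ y = e.ι s * e.w := Iff.rfl

theorem ι_ne_ι_w (s t : SL₂) : e.ι s ≠ e.ι t * e.w := fun h =>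
  e.disj (t⁻¹ * s) (by rw [map_mul, map_inv, h, inv_mul_cancel_left])

theorem ι_mem_borel [Finite Y] {s : SL₂} : e.ι s ∈ e.borel ↔ (s : M₂) 1 0 = 0 := by
  rw [mem_borel]
  refine ⟨?_, fun h => Or.inl ⟨s, h, rfl⟩⟩
  rintro (⟨t, ht, h⟩ | ⟨t, -, h⟩)
  · rwa [e.ι_inj h]
  · exact absurd h (e.ι_ne_ι_w s t)

theorem ι_w_mem_borel [Finite Y] {s : SL₂} : e.ι s * e.w ∈ e.borel ↔ ((s : M₂) * G) 1 0 = 0 := by
  rw [mem_borel]
  refine ⟨?_, fun h => Or.inr ⟨s, h, rfl⟩⟩
  rintro (⟨t, -, h⟩ | ⟨t, ht, h⟩)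
  · exact absurd h.symm (e.ι_ne_ι_w t s)
  · rwa [e.ι_inj (mul_right_cancel h)]

theorem w_conj_notin [Finite Y] (y : Y) : y * e.w * y⁻¹ ∉ e.borel := by
  obtain ⟨A, hA⟩ := e.conj_w_mem y
  rw [hA, jOf, ι_w_mem_borel, e.toS_mul]
  exact Ell.lower_ne e.ν_ns A.2

/-- An element of the outer coset moving infinity to any given point. -/
theorem exists_outer [Finite Y] (y : Y) : ∃ s : SL₂, (e.ι s)⁻¹ * y ∈ e.borel := by
  obtain ⟨s, rfl | rfl⟩ := e.dec y
  · exact ⟨s, by rw [inv_mul_cancel]; exact one_mem _⟩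
  · -- an outer element fixing infinity
    set r := G 0 0 / G 1 0
    have hg : G 1 0 ≠ 0 := Ell.lower_ne e.ν_ns e.gw_mem
    set t : SL₂ := ⟨!![r, -1; 1, 0], by rw [det_fin_two]; simp⟩
    refine ⟨s * t, e.mem_borel.2 (Or.inr ⟨t⁻¹, ?_, ?_⟩)⟩
    · rw [Matrix.SpecialLinearGroup.coe_inv]
      simp [t, Matrix.adjugate_fin_two, Matrix.mul_apply, Fin.sum_univ_two, r, div_mul_cancel₀ _ hg]
    · rw [map_mul, map_inv, ← mul_assoc, _root_.mul_inv_rev, mul_assoc _ (e.ι s)⁻¹, inv_mul_cancel, mul_one]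

variable [Fintype Y]

/-- The permutation character on the line. -/
noncomputable def perm : Y → ℂ := indFun e.borel (fun _ => (1 : ℂ))

theorem perm_ι (s : SL₂) : e.perm (e.ι s) = (fixN s : ℂ) := by
  rw [perm, Contrib.indFun_one_apply]
  congr 1
  let Φ : Option F → Y ⧸ e.borel := fun P => QuotientGroup.mk (e.ι (ptRep P))
  have hΦ : Function.Bijective Φ := by
    refine ⟨fun P Q h => ?_, fun y => ?_⟩
    · rw [QuotientGroup.eq, ← map_inv, ← map_mul, ι_mem_borel] at h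
      rw [← pt_ptRep P, ← pt_ptRep Q]
      exact Dickson.pt_eq_pt.2 h
    · obtain ⟨y, rfl⟩ := QuotientGroup.mk_surjective y
      obtain ⟨t, ht⟩ := e.exists_outer y
      refine ⟨Dickson.pt t, QuotientGroup.eq.2 ?_⟩
      have h1 : e.ι ((ptRep (Dickson.pt t))⁻¹ * t) ∈ e.borel :=
        e.ι_mem_borel.2 (Dickson.pt_eq_pt.1 (pt_ptRep _))
      have h2 := e.borel.mul_mem h1 ht
      rwa [map_mul, map_inv, mul_assoc, mul_inv_cancel_left] at h2
  refine (Nat.card_congr ((Equiv.ofBijective Φ hΦ).subtypeEquiv fun P => ?_)).symm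
  rw [Equiv.ofBijective_apply, fixPt_iff, ← e.ι_mem_borel]
  show _ ↔ e.ι s • Φ P = Φ P
  rw [show e.ι s • Φ P = QuotientGroup.mk (e.ι s * e.ι (ptRep P)) from rfl, eq_comm, QuotientGroup.eq]
  rw [map_mul, map_mul, map_inv, mul_assoc]

theorem perm_w : e.perm e.w = 0 := by
  rw [perm, Contrib.indFun_one_apply, Nat.cast_eq_zero]
  haveI : IsEmpty {t : Y ⧸ e.borel // e.w • t = t} := ⟨fun ⟨t, ht⟩ => by
    obtain ⟨y, rfl⟩ := QuotientGroup.mk_surjective t
    rw [show e.w • (QuotientGroup.mk y : Y ⧸ e.borel) = QuotientGroup.mk (e.w * y) from rfl, eq_comm,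
      QuotientGroup.eq] at ht
    refine e.w_conj_notin y⁻¹ ?_
    rwa [inv_inv, mul_assoc]⟩
  exact Nat.card_of_isEmpty

open _root_.Classical in
theorem card_sl2_eq : Nat.card SL₂ =
    (Fintype.card F + 1) * (Finset.univ.filter (fun s : SL₂ => (s : M₂) 1 0 = 0)).card := by
  have h := sum_fixN_mul (F := F) (fun s => if s = 1 then (1 : ℂ) else 0) fun g s => by simp
  have h0 : ∀ P : Option F, FixPt (1 : SL₂) P := fun P => by cases P <;> simp [FixPt]
  have hf : fixN (1 : SL₂) = Fintype.card F + 1 := fixN_cen ((isCen_iff 1).2 (Or.inl rfl))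
  let φ : Option F × {s : SL₂ // (s : M₂) 1 0 = 0} → SL₂ := fun p => ptRep p.1 * p.2
  have hφ : Function.Bijective φ := by
    refine ⟨fun p q h => ?_, fun s => ?_⟩
    · have hp : ∀ p : Option F × {s : SL₂ // (s : M₂) 1 0 = 0}, Dickson.pt (φ p) = p.1 := fun p => by
        conv_rhs => rw [← pt_ptRep p.1]
        rw [eq_comm, Dickson.pt_eq_pt]
        simp only [φ, inv_mul_cancel_left]
        exact p.2.2
      have h1 : p.1 = q.1 := by rw [← hp p, ← hp q, h]
      refine Prod.ext h1 (Subtype.ext ?_)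
      simp only [φ, h1] at h
      exact mul_left_cancel h
    · exact ⟨(Dickson.pt s, ⟨(ptRep (Dickson.pt s))⁻¹ * s, Dickson.pt_eq_pt.1 (pt_ptRep _)⟩),
        mul_inv_cancel_left _ _⟩
  rw [← Nat.card_eq_of_bijective φ hφ, Nat.card_prod, Finite.card_option, Nat.card_eq_fintype_card,
    Nat.card_eq_fintype_card, Fintype.card_subtype]

open _root_.Classical in
theorem sum_fixN_borel : ∑ s ∈ Finset.univ.filter (fun s : SL₂ => (s : M₂) 1 0 = 0), fixN s =
    2 * (Finset.univ.filter (fun s : SL₂ => (s : M₂) 1 0 = 0)).card := by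
  set S := Finset.univ.filter (fun s : SL₂ => (s : M₂) 1 0 = 0) with hS
  have h : ∀ s ∈ S, fixN s = ∑ P : Option F, if FixPt s P then 1 else 0 := fun s _ => by
    rw [fixN, Nat.card_eq_fintype_card, Fintype.card_subtype, Finset.sum_boole]
    rfl
  rw [Finset.sum_congr rfl h, Finset.sum_comm, Fintype.sum_option]
  have h1 : (∑ s ∈ S, if FixPt s none then 1 else 0 : ℕ) = S.card := by
    rw [Finset.sum_boole]
    refine congrArg Finset.card (Finset.filter_true_of_mem fun s hs => ?_)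
    exact (Finset.mem_filter.1 hs).2
  have h2 : ∀ x : F, (∑ s ∈ S, if FixPt s (some x) then 1 else 0 : ℕ) = Fintype.card F - 1 := by
    intro x
    rw [Finset.sum_boole]
    show (S.filter _).card = _
    rw [← Nat.card_eq_fintype_card, ← Nat.card_units, Nat.card_eq_fintype_card, ← Finset.card_univ]
    symm
    refine Finset.card_bij' (fun (u : Fˣ) _ => (⟨!![(u : F), (((u⁻¹ : Fˣ) : F) - u) * x; 0, ((u⁻¹ : Fˣ) : F)],
      by rw [det_fin_two]; simp⟩ : SL₂)) (fun (s : SL₂) hs => Units.mk0 ((s : M₂) 0 0) ?_) ?_ ?_ ?_ ?_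
    · intro h0
      have hd := det_eq s
      rw [h0, (Finset.mem_filter.1 (Finset.mem_filter.1 hs).1).2] at hd
      simp at hd
    · intro u _
      refine Finset.mem_filter.2 ⟨Finset.mem_filter.2 ⟨Finset.mem_univ _, ?_⟩, ?_⟩ <;> simp [FixPt]
    · intro s _; exact Finset.mem_univ _
    · intro u _; exact Units.ext (by simp)
    · intro s hs
      obtain ⟨hs1, hs2⟩ := Finset.mem_filter.1 hs
      have h10 := (Finset.mem_filter.1 hs1).2
      have hd := det_eq s
      rw [h10, mul_zero, sub_zero] at hd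
      rw [FixPt, h10] at hs2
      have h00 : (s : M₂) 0 0 ≠ 0 := left_ne_zero_of_mul_eq_one hd
      have h11 : (s : M₂) 1 1 = ((s : M₂) 0 0)⁻¹ := eq_inv_of_mul_eq_one_right hd
      ext i j
      fin_cases i <;> fin_cases j <;> simp [h10, h11]
      rw [← h11]
      linear_combination hs2
  have hc : Fintype.card F * (Fintype.card F - 1) = S.card := by
    have h := card_sl2_eq (F := F)
    rw [Cfsg.Agent.Invol.AbgOrder.card_sl2_bruhat] at h
    refine Nat.eq_of_mul_eq_mul_left (Nat.succ_pos (Fintype.card F)) ?_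
    rw [Nat.succ_eq_add_one, ← h]
    ring
  rw [h1, Finset.sum_congr rfl fun x _ => h2 x, Finset.sum_const, Finset.card_univ, smul_eq_mul, hc]
  ring

open _root_.Classical in
theorem perm_sub_one_irr : IsIrrCharacter Y (fun y => e.perm y - 1) := by
  refine Alperin.isIrr_of_res (isCharacter_ind_sub_one e.borel) e.ι ?_
  refine IsChar.irr_of_norm_one (IsChar.comp e.ι (isCharacter_ind_sub_one e.borel)) ?_
  have hp : ∀ y, indFun e.borel (fun _ => (1 : ℂ)) y = e.perm y := fun _ => rfl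
  simp only [hp, e.perm_ι]
  set S := Finset.univ.filter (fun s : SL₂ => (s : M₂) 1 0 = 0)
  have hcls : ∀ g s : SL₂, (fixN (g * s * g⁻¹) : ℂ) = fixN s := fun g s => by
    rw [← e.perm_ι, ← e.perm_ι, map_mul, map_mul, map_inv]
    exact indFun_classFun e.borel _ (e.ι s) (e.ι g)
  have h1 := sum_fixN_mul (fun _ : SL₂ => (1 : ℂ)) (fun _ _ => rfl)
  have h2 := sum_fixN_mul (fun s : SL₂ => (fixN s : ℂ)) hcls
  have hb : (∑ s ∈ S, (fixN s : ℂ)) = 2 * (S.card : ℂ) := by
    rw [← Nat.cast_sum]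
    rw [sum_fixN_borel]
    push_cast
    rfl
  rw [hb] at h2
  simp only [mul_one, Finset.sum_const, nsmul_eq_mul] at h1
  have h3 : (Nat.card SL₂ : ℂ) = ((Fintype.card F : ℂ) + 1) * (S.card : ℂ) := by
    rw [card_sl2_eq]; push_cast; rfl
  rw [classInner]
  have h0 : (Nat.card SL₂ : ℂ) ≠ 0 := Nat.cast_ne_zero.2 Nat.card_pos.ne'
  rw [inv_mul_eq_iff_eq_mul₀ h0, mul_one]
  simp only [map_sub, map_one, Complex.conj_natCast, sub_mul, mul_sub, one_mul, mul_one,
    Finset.sum_sub_distrib, Finset.sum_const, Finset.card_univ, nsmul_eq_mul, ← Nat.card_eq_fintype_card]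
  rw [h1, h2]
  push_cast
  linear_combination (Nat.card SL₂ : ℂ) * 0

end EllY

end Cfsg.Agent.Invol.AbgOrder
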