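import Cfsg.Agent.Lib.Char.ExtendMain
import Cfsg.Agent.Lib.Lie.SLTwoMult

/-!
# Invariant characters extend over a quotient `SL(2, q)`, `q ≥ 5`, `q ≠ 4, 9`

The cover modulo the normal subgroup is a central extension of `SL(2, q)`, hence splits.
-/

set_option autoImplicit false
set_option linter.unusedSectionVars false

namespace Cfsg.Agent.Invol.AbgOrder

open Cfsg Cfsg.Agent.Char
open scoped commutatorElement

universe u v

variable {F : Type v} [Field F] [Fintype F]

local notation "SL₂" => Matrix.SpecialLinearGroup (Fin 2) F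

theorem commutator_sl2_eq_top (h5 : 5 ≤ Fintype.card F) : commutator SL₂ = ⊤ := by
  classical
  obtain ⟨a, ha⟩ : ∃ a : F, a ≠ 0 ∧ a ^ 2 ≠ 1 := by
    by_contra hne
    push Not at hne
    have hsub : (Finset.univ : Finset F) ⊆ {0, 1, -1} := fun x _ => by
      simp only [Finset.mem_insert, Finset.mem_singleton]
      exact (em (x = 0)).imp id fun hx => sq_eq_one_iff.1 (hne x hx)
    have := (Finset.card_le_card hsub).trans Finset.card_le_three
    rw [Finset.card_univ] at this
    omega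
  exact Matrix.SL2.commutator_eq_top ha.1 ha.2

/-- A central extension of `SL(2, q)` has a retraction onto its kernel, if its derived group is no stem extension. -/
theorem exists_retraction_of {E : Type*} [Group E] (σ : E →* SL₂) (hσ : Function.Surjective σ)
    (hc : σ.ker ≤ Subgroup.center E) (h5 : 5 ≤ Fintype.card F)
    (hbot : ∀ D : Subgroup E, IsStemExtension (σ.comp D.subtype) → (σ.comp D.subtype).ker = ⊥) :
    ∃ r : E →* σ.ker, ∀ k : σ.ker, r k = k := by
  classical
  set D := commutator E with hD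
  have hmap : D.map σ = ⊤ := by
    rw [hD, commutator_def, Subgroup.map_commutator, ← MonoidHom.range_eq_map, MonoidHom.range_eq_top.2 hσ,
      ← commutator_def, commutator_sl2_eq_top h5]
  have hdec : ∀ e : E, ∃ d ∈ D, ∃ k ∈ σ.ker, e = d * k := by
    intro e
    obtain ⟨d, hd, hde⟩ : σ e ∈ D.map σ := hmap ▸ Subgroup.mem_top _
    exact ⟨d, hd, d⁻¹ * e, by rw [MonoidHom.mem_ker, map_mul, map_inv, hde, inv_mul_cancel], by group⟩
  have hperf : commutator D = ⊤ := by
    apply Subgroup.map_injective (D.subtype_injective)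
    rw [Subgroup.map_subtype_commutator, ← MonoidHom.range_eq_map, Subgroup.range_subtype]
    refine le_antisymm (Subgroup.commutator_le.2 fun x hx y hy => D.mul_mem
      (D.mul_mem (D.mul_mem hx hy) (D.inv_mem hx)) (D.inv_mem hy)) ?_
    rw [hD, commutator_def, Subgroup.commutator_le]
    intro x _ y _
    obtain ⟨a, ha, k, hk, rfl⟩ := hdec x
    obtain ⟨b, hb, l, hl, rfl⟩ := hdec y
    have ck := fun g => (Subgroup.mem_center_iff.1 (hc hk) g)
    have cl := fun g => (Subgroup.mem_center_iff.1 (hc hl) g)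
    have e : ⁅a * k, b * l⁆ = ⁅a, b⁆ := by
      simp only [commutatorElement_def]
      calc a * k * (b * l) * (a * k)⁻¹ * (b * l)⁻¹
          = a * (k * (b * l)) * k⁻¹ * a⁻¹ * l⁻¹ * b⁻¹ := by group
        _ = a * b * (l * a⁻¹) * l⁻¹ * b⁻¹ := by rw [← ck]; group
        _ = _ := by rw [← cl]; group
    rw [e]
    exact Subgroup.commutator_mem_commutator ha hb
  let σD : D →* SL₂ := σ.comp D.subtype
  have hDs : Function.Surjective σD := fun x => by
    obtain ⟨d, hd, hdx⟩ : x ∈ D.map σ := hmap ▸ Subgroup.mem_top _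
    exact ⟨⟨d, hd⟩, hdx⟩
  have hinj : Function.Injective σD := by
    rw [← MonoidHom.ker_eq_bot_iff]
    refine hbot D ⟨hDs, fun d hd => Subgroup.mem_center_iff.2 fun g => Subtype.ext ?_, hperf ▸ le_top⟩
    exact Subgroup.mem_center_iff.1 (hc (show (d : E) ∈ σ.ker from hd)) g
  let s : SL₂ →* E := D.subtype.comp (MulEquiv.ofBijective σD ⟨hinj, hDs⟩).symm.toMonoidHom
  have hs : ∀ x, σ (s x) = x := fun x => (MulEquiv.ofBijective σD ⟨hinj, hDs⟩).apply_symm_apply x
  have hmem : ∀ e, e * (s (σ e))⁻¹ ∈ σ.ker := fun e => by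
    rw [MonoidHom.mem_ker, map_mul, map_inv, hs, mul_inv_cancel]
  refine ⟨MonoidHom.mk' (fun e => ⟨e * (s (σ e))⁻¹, hmem e⟩) fun a b => Subtype.ext ?_,
    fun k => Subtype.ext ?_⟩
  · show a * b * (s (σ (a * b)))⁻¹ = a * (s (σ a))⁻¹ * (b * (s (σ b))⁻¹)
    rw [map_mul σ, map_mul s, _root_.mul_inv_rev]
    calc a * b * ((s (σ b))⁻¹ * (s (σ a))⁻¹) = a * (b * (s (σ b))⁻¹ * (s (σ a))⁻¹) := by group
      _ = a * ((s (σ a))⁻¹ * (b * (s (σ b))⁻¹)) := by rw [Subgroup.mem_center_iff.1 (hc (hmem b)) (s (σ a))⁻¹]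
      _ = _ := by group
  · show (k : E) * (s (σ k))⁻¹ = k
    rw [MonoidHom.mem_ker.1 k.2, map_one, inv_one, mul_one]

/-- A central extension of `SL(2, q)` has a retraction onto its kernel. -/
theorem exists_retraction {E : Type*} [Group E] (σ : E →* SL₂) (hσ : Function.Surjective σ)
    (hc : σ.ker ≤ Subgroup.center E) (h5 : 5 ≤ Fintype.card F) (h4 : Fintype.card F ≠ 4)
    (h9 : Fintype.card F ≠ 9) : ∃ r : E →* σ.ker, ∀ k : σ.ker, r k = k :=
  exists_retraction_of σ hσ hc h5 fun D h => Lie.SLMult.ker_eq_bot_two _ h.1 h.2.1 h4 h9 h5 h.2.2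

variable {G : Type u} [Group G] [Finite G] {N : Subgroup G} [hN : N.Normal]

/-- An invariant irreducible character extends over a quotient `SL(2, q)`. -/
theorem exists_ext_sl2 (σ : G →* SL₂) (hσ : Function.Surjective σ) (hker : σ.ker = N) (h5 : 5 ≤ Fintype.card F)
    (h4 : Fintype.card F ≠ 4) (h9 : Fintype.card F ≠ 9) {θ : N → ℂ} (hθ : IsIrrCharacter N θ)
    (hinv : ∀ (g : G) (n : N), θ ⟨g * n * g⁻¹, hN.conj_mem (n : G) n.2 g⟩ = θ n) :
    ∃ χ : G → ℂ, IsIrrCharacter G χ ∧ ∀ m : N, χ m = θ m := by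
  classical
  obtain ⟨k, ρ, hρ, rfl, -, -⟩ := IsIrr.exists_rep hθ
  haveI := hρ
  have hinv' : ∀ (g : G) (m : N), ρ.character (conjEquivN N g m) = ρ.character m := fun g m => by
    rw [conjEquivN_apply]
    exact hinv g m
  refine Ext.exists_extension N ρ hinv' ?_
  let L := (Ext.coverEmb N ρ).range
  let f : Ext.cover N ρ ⧸ L →* G ⧸ N := QuotientGroup.lift L
    ((QuotientGroup.mk' N).comp (Ext.coverFst N ρ)) (by
      rintro _ ⟨m, rfl⟩
      exact (QuotientGroup.eq_one_iff _).mpr m.2)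
  have hfc : f.ker ≤ Subgroup.center (Ext.cover N ρ ⧸ L) := Ext.ker_lift_central N ρ f fun _ => rfl
  let e : G ⧸ N →* SL₂ := QuotientGroup.lift N σ hker.ge
  have hei : Function.Injective e := by
    rw [injective_iff_map_eq_one]
    intro x
    induction x using QuotientGroup.induction_on with
    | _ g => exact fun h => (QuotientGroup.eq_one_iff g).2 (hker ▸ (MonoidHom.mem_ker.2 h))
  let σE : Ext.cover N ρ ⧸ L →* SL₂ := e.comp f
  have hkerE : σE.ker = f.ker := MonoidHom.ker_comp_of_injective f e hei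
  have hsurj : Function.Surjective σE := by
    intro x
    obtain ⟨g, rfl⟩ := hσ x
    obtain ⟨c, rfl⟩ := Ext.coverFst_surjective N ρ hinv' g
    exact ⟨(c : Ext.cover N ρ ⧸ L), rfl⟩
  obtain ⟨r, hr⟩ := exists_retraction σE hsurj (hkerE ▸ hfc) h5 h4 h9
  have hmem : ∀ z : (Ext.coverFst N ρ).ker, ((z : Ext.cover N ρ) : Ext.cover N ρ ⧸ L) ∈ σE.ker := fun z => by
    rw [MonoidHom.mem_ker]
    show e ((Ext.coverFst N ρ z : G) : G ⧸ N) = 1
    rw [MonoidHom.mem_ker.1 z.2, QuotientGroup.mk_one, map_one]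
  let i : (Ext.coverFst N ρ).ker →* σE.ker :=
    ((QuotientGroup.mk' L).comp (Ext.coverFst N ρ).ker.subtype).codRestrict _ hmem
  have hi : Function.Bijective i := by
    refine ⟨?_, fun y => ?_⟩
    · rw [injective_iff_map_eq_one]
      intro z hz
      obtain ⟨m, hm⟩ := (QuotientGroup.eq_one_iff _).mp (congrArg Subtype.val hz)
      have h1 : (m : G) = 1 := by
        rw [← Ext.coverFst_emb N ρ m, hm]
        exact MonoidHom.mem_ker.mp z.2
      refine Subtype.ext (hm.symm.trans ?_)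
      rw [show m = 1 from Subtype.ext h1, map_one]
      rfl
    · obtain ⟨y, hy⟩ := y
      revert hy
      induction y using QuotientGroup.induction_on with
      | _ x =>
        intro hy
        have hxN : Ext.coverFst N ρ x ∈ N := (QuotientGroup.eq_one_iff _).1 (hkerE ▸ hy : (x : _ ⧸ L) ∈ f.ker)
        refine ⟨⟨x * (Ext.coverEmb N ρ ⟨_, hxN⟩)⁻¹, by simp [MonoidHom.mem_ker]⟩, Subtype.ext ?_⟩
        show ((x * (Ext.coverEmb N ρ ⟨_, hxN⟩)⁻¹ : Ext.cover N ρ) : Ext.cover N ρ ⧸ L) = x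
        exact QuotientGroup.eq.mpr ⟨⟨_, hxN⟩, by group⟩
  refine ⟨(Ext.scalar N ρ).comp ((MulEquiv.ofBijective i hi).symm.toMonoidHom.comp
    (r.comp (QuotientGroup.mk' L))), fun m => ?_, fun z => ?_⟩
  · simp only [MonoidHom.comp_apply, QuotientGroup.mk'_apply,
      (QuotientGroup.eq_one_iff (N := L) _).mpr (MonoidHom.mem_range.mpr ⟨m, rfl⟩), map_one]
  · rw [zpow_one]
    show Ext.scalar N ρ ((MulEquiv.ofBijective i hi).symm (r ((i z : σE.ker) : Ext.cover N ρ ⧸ L))) = _
    rw [hr]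
    congr 1
    exact (MulEquiv.ofBijective i hi).symm_apply_apply z

end Cfsg.Agent.Invol.AbgOrder
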