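import Cfsg.Agent.Lib.Invol.AbgOrder.BudgetW
import Cfsg.Agent.Lib.Invol.AbgOrder.BudgetExtend

/-!
# A character fixed by the linear group: the coefficient is at most `2 / (q + 1)` of the multiplicity

It extends to the linear group with `w`; the twisted averages of the two halves are characters of the quotient, one
of them negating at `-1`, and `w` inverts a root subgroup.
-/

set_option autoImplicit false
set_option linter.unusedSectionVars false
set_option linter.style.haveILetI false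

namespace Cfsg.Agent.Invol.AbgOrder

open Cfsg Cfsg.Agent.Char Cfsg.Agent.Char.CycGlaub Matrix Cfsg.Agent.Grp Module
open scoped ComplexConjugate

universe u v t

/-- A character taking minus the degree at an involution: the operator is `-1`. -/
theorem op_eq_neg_one {Y V : Type*} [Group Y] [AddCommGroup V] [Module ℂ V] [FiniteDimensional ℂ V]
    (ρ : Representation ℂ Y V) {z : Y} (hz : z * z = 1) (h : ρ.character z = -ρ.character 1) : ρ z = -1 := by
  have hi : ((2⁻¹ : ℂ) • (1 + ρ z)) * ((2⁻¹ : ℂ) • (1 + ρ z)) = (2⁻¹ : ℂ) • (1 + ρ z) := by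
    rw [smul_mul_assoc, mul_smul_comm, smul_smul, add_mul, mul_add, one_mul, mul_add, mul_one, ← map_mul, hz,
      map_one, one_mul]
    module
  obtain ⟨n, hn, hr⟩ := exists_trace_of_idem hi
  have h0 : LinearMap.trace ℂ V ((2⁻¹ : ℂ) • (1 + ρ z)) = 0 := by
    rw [map_smul, map_add, smul_eq_mul]
    have e1 : LinearMap.trace ℂ V (1 : Module.End ℂ V) = ρ.character 1 := by
      rw [LinearMap.trace_one, Representation.char_one]
    rw [e1, show LinearMap.trace ℂ V (ρ z) = ρ.character z from rfl, h, add_neg_cancel, mul_zero]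
  rw [h0] at hn
  have hn0 : n = 0 := by exact_mod_cast hn.symm
  have hbot : LinearMap.range ((2⁻¹ : ℂ) • (1 + ρ z)) = ⊥ := Submodule.finrank_eq_zero.1 (by omega)
  rw [LinearMap.range_eq_bot, smul_eq_zero] at hbot
  exact eq_neg_of_add_eq_zero_right (hbot.resolve_left (by norm_num))

namespace BData

variable {C : Type u} [Group C] [Fintype C] {X : Type v} [Group X] {F : Type t} [Field F] [Fintype F]
  (B : BData C X F)

local notation "SL₂" => Matrix.SpecialLinearGroup (Fin 2) F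
local notation "tgl" => (Matrix.SpecialLinearGroup.toGL (n := Fin 2) (R := F))

/-- The image of `SL(2, q)`. -/
def Ys : Subgroup X := (Matrix.SpecialLinearGroup.toGL (n := Fin 2) (R := F)).range.map B.gl

/-- The image of `SL(2, q)` with `w`. -/
def Yw : Subgroup X := B.Ys ⊔ Subgroup.zpowers (B.σ B.w)

/-- The preimage of `SL(2, q)`. -/
def L : Subgroup C := B.Ys.comap B.σ

/-- The preimage of `SL(2, q)` with `w`. -/
def Lw : Subgroup C := B.Yw.comap B.σ

theorem O_le_L : B.O ≤ B.L := fun o ho => by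
  show B.σ o ∈ B.Ys
  rw [MonoidHom.mem_ker.1 ho]
  exact one_mem _

theorem L_le_Lw : B.L ≤ B.Lw := Subgroup.comap_mono le_sup_left

theorem O_le_Lw : B.O ≤ B.Lw := B.O_le_L.trans B.L_le_Lw

theorem w_mem_Lw : B.w ∈ B.Lw := Subgroup.mem_sup_right (Subgroup.mem_zpowers _)

theorem Gw_le_Lw : B.Gw ≤ B.Lw := Subgroup.comap_mono le_sup_right

theorem toGL_neg_one : (tgl (-1) : GL (Fin 2) F) = -1 :=
  Units.ext (by simp)

theorem z_mem_L : B.z ∈ B.L :=
  ⟨-1, ⟨-1, toGL_neg_one⟩, B.gz⟩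

theorem gl_tgl_injective : Function.Injective fun s : SL₂ => B.gl (tgl s) := by
  refine (injective_iff_map_eq_one (B.gl.comp tgl)).2 fun s hs => ?_
  have hc := B.gl_central (show tgl s ∈ B.gl.ker from hs)
  have hcs : s ∈ Subgroup.center SL₂ := Subgroup.mem_center_iff.2 fun g =>
    Matrix.SpecialLinearGroup.toGL_injective (by rw [map_mul, map_mul]; exact Subgroup.mem_center_iff.1 hc _)
  obtain ⟨r, hr, hrs⟩ := Matrix.SpecialLinearGroup.mem_center_iff.1 hcs
  have hr2 : r = 1 ∨ r = -1 := sq_eq_one_iff.1 (by simpa using hr)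
  refine Matrix.SpecialLinearGroup.toGL_injective ((B.eq_one_of_odd_ker ?_ hs).trans (map_one _).symm)
  refine Units.ext ?_
  show (s : Matrix (Fin 2) (Fin 2) F) * (s : Matrix (Fin 2) (Fin 2) F) = 1
  rw [← hrs, ← map_mul]
  rcases hr2 with rfl | rfl <;> simp

variable [Fintype B.O] [Fintype B.R] [Fintype B.Gw]

theorem core_bound (W : B.WExp) {θ : IrrCharacter B.O}
    (hfix : Char.conjN B.O B.w (θ : B.O → ℂ) = (θ : B.O → ℂ)) (μ : ℕ) (η : B.Lw → ℂ)
    (hη : IsIrrCharacter B.Lw η) (hres : ∀ o : B.O, η ⟨o, B.O_le_Lw o.2⟩ = (θ : B.O → ℂ) o)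
    (hμ : ∀ g : B.Lw, (Nat.card B.O : ℂ)⁻¹ * ∑ o : B.O, η (⟨o, B.O_le_Lw o.2⟩ * g) = (μ : ℂ))
    (hμz : μ ≠ 0 → η ⟨B.z, B.L_le_Lw B.z_mem_L⟩ = η 1) :
    (Fintype.card F + 1 : ℤ) * |W.a θ| ≤ 2 * B.m θ + (Fintype.card F + 1 : ℤ) * μ * B.d1 := by
  classical
  haveI : Fintype B.Lw := Fintype.ofFinite _
  haveI : (B.O.subgroupOf B.Lw).Normal := Subgroup.Normal.subgroupOf inferInstance _
  haveI : Fintype (B.O.subgroupOf B.Lw) := Fintype.ofFinite _
  set eO := Subgroup.subgroupOfEquivOfLe B.O_le_Lw with heO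
  -- `z` acts by a scalar
  set zL : B.Lw := ⟨B.z, B.L_le_Lw B.z_mem_L⟩ with hzL
  obtain ⟨ζ, hζ, hζη⟩ : ∃ ζ : ℂ, (ζ = 1 ∨ ζ = -1) ∧ ∀ g, η (zL * g) = ζ * η g := by
    obtain ⟨k, ρ, hρ, hρc, -, -⟩ := IsIrr.exists_rep hη
    haveI := hρ
    obtain ⟨c, hc⟩ := schur_scalar ρ (ρ zL) fun g =>
      (map_mul ρ zL g).symm.trans
        ((congrArg ρ (Subtype.ext (B.z_central (g : C)).symm : zL * g = g * zL)).trans (map_mul ρ g zL))
    have hg : ∀ g, η (zL * g) = c * η g := fun g => by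
      rw [← hρc, Representation.character, Representation.character, map_mul, hc, smul_mul_assoc,
        ← Module.End.one_eq_id, one_mul, map_smul, smul_eq_mul]
    refine ⟨c, mul_self_eq_one_iff.1 ?_, hg⟩
    have h := hg zL
    rw [show zL * zL = (1 : B.Lw) from Subtype.ext B.z2, show η zL = η (zL * 1) by rw [mul_one], hg 1,
      ← mul_assoc] at h
    exact mul_right_cancel₀ (IsIrr.one_ne_zero hη) (h.symm.trans (one_mul _).symm)
  -- the twisted averages
  let τ : (C → ℂ) → B.Lw → ℂ := fun φ =>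
    Char.avgN (B.O.subgroupOf B.Lw) ((fun g : B.Lw => φ g) * fun g => conj (η g))
  have hτc : ∀ φ, IsCharacter C φ → IsCharacter B.Lw (τ φ) := fun φ hφ =>
    IsChar.avgN _ (IsChar.mul (IsChar.res hφ B.Lw) (IsChar.conj (IsIrr.isCharacter hη)))
  have hτe : ∀ φ (g : B.Lw), τ φ g = (Nat.card B.O : ℂ)⁻¹ *
      ∑ o : B.O, φ ((o : C) * g) * conj (η (⟨o, B.O_le_Lw o.2⟩ * g)) := by
    intro φ g
    show (Nat.card (B.O.subgroupOf B.Lw) : ℂ)⁻¹ * _ = _
    rw [Nat.card_congr eO.toEquiv]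
    congr 1
    exact Fintype.sum_equiv eO.toEquiv _ _ fun o => rfl
  let π : B.Lw →* B.Yw := (B.σ.comp B.Lw.subtype).codRestrict B.Yw fun g => g.2
  have hπ : Function.Surjective π := fun y => by
    obtain ⟨c, hc⟩ := B.surj (y : X)
    exact ⟨⟨c, show B.σ c ∈ B.Yw from hc ▸ y.2⟩, Subtype.ext hc⟩
  have hfac : ∀ φ, IsCharacter C φ → ∃ T : B.Yw → ℂ, IsCharacter B.Yw T ∧ ∀ g, T (π g) = τ φ g := fun φ hφ =>
    IsChar.exists_factor (hτc φ hφ) π hπ fun k hk => by
      have hk' : k ∈ B.O.subgroupOf B.Lw := congrArg Subtype.val (MonoidHom.mem_ker.1 hk)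
      conv_lhs => rw [show k = ((⟨k, hk'⟩ : B.O.subgroupOf B.Lw) : B.Lw) * 1 from (mul_one k).symm]
      exact avgN_mul_left _ _ _ _
  obtain ⟨Tp, hTp, hTp'⟩ := hfac B.χp B.isChar_χp
  obtain ⟨Tm, hTm, hTm'⟩ := hfac B.χm B.isChar_χm
  obtain ⟨np, ρp, rfl⟩ := hTp
  obtain ⟨nm, ρm, rfl⟩ := hTm
  -- values at `z` times elements
  have hτz : ∀ (φ : C → ℂ) (s : ℂ), (∀ g, φ (B.z * g) = s * φ g) → ∀ g, τ φ (zL * g) = s * conj ζ * τ φ g := by
    intro φ s hs g
    rw [hτe, hτe, Finset.mul_sum, Finset.mul_sum, Finset.mul_sum]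
    refine Finset.sum_congr rfl fun o _ => ?_
    have e1 : (o : C) * ((zL * g : B.Lw) : C) = B.z * ((o : C) * g) := by
      show (o : C) * (B.z * (g : C)) = _
      rw [← mul_assoc, B.z_central, mul_assoc]
    have e2 : (⟨o, B.O_le_Lw o.2⟩ : B.Lw) * (zL * g) = zL * (⟨o, B.O_le_Lw o.2⟩ * g) := Subtype.ext e1
    rw [e1, hs, e2, hζη, map_mul]
    ring
  have hzp : ∀ g, τ B.χp (zL * g) = conj ζ * τ B.χp g := fun g => by
    rw [hτz B.χp 1 (fun g => by rw [one_mul, B.χp_z]) g, one_mul]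
  have hzm : ∀ g, τ B.χm (zL * g) = -conj ζ * τ B.χm g := fun g => by
    rw [hτz B.χm (-1) (fun g => by rw [neg_one_mul, B.χm_z]) g, neg_one_mul]
  -- dimensions
  have hdim : ∀ φ, τ φ 1 = classInner (fun o : B.O => φ o) (θ : B.O → ℂ) := fun φ => by
    rw [hτe, classInner]
    congr 1
    refine Finset.sum_congr rfl fun o _ => ?_
    rw [mul_one, Subgroup.coe_one, mul_one, hres]
  -- elements of the image
  let i : SL₂ →* B.Yw := (B.gl.comp tgl).codRestrict B.Yw fun s =>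
    Subgroup.mem_sup_left ⟨_, ⟨s, rfl⟩, rfl⟩
  let wY : B.Yw := ⟨B.σ B.w, Subgroup.mem_sup_right (Subgroup.mem_zpowers _)⟩
  have hiz : i (-1) = π zL := Subtype.ext (by
    show B.gl (tgl (-1)) = B.σ B.z
    rw [toGL_neg_one, B.gz])
  set e : F → B.Yw := fun a => i (SL2.up a) with he
  have hadd : ∀ a b : F, e (a + b) = e a * e b := fun a b => by simp only [he]; rw [← map_mul, SL2.up_mul]
  have hwe : ∀ a, wY * e a = e (-a) * wY := fun a => Subtype.ext (by
    show B.σ B.w * B.gl (tgl (SL2.up a)) = B.gl (tgl (SL2.up (-a))) * B.σ B.w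
    rw [← B.gw, ← map_mul, ← map_mul]
    refine congrArg B.gl (Units.ext ?_)
    show !![1, 0; 0, -1] * (SL2.up a : Matrix (Fin 2) (Fin 2) F) =
      (SL2.up (-a) : Matrix (Fin 2) (Fin 2) F) * !![1, 0; 0, -1]
    ext r c; fin_cases r <;> fin_cases c <;> simp [SL2.up, Matrix.mul_apply, Fin.sum_univ_two])
  have hodd : Odd (Fintype.card F) := by
    obtain ⟨p, hp⟩ := CharP.exists F
    obtain ⟨n, hpp, hn⟩ := FiniteField.card F p
    rw [hn]
    refine (hpp.odd_of_ne_two fun h2 => B.char2 ?_).pow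
    subst h2
    exact_mod_cast CharP.cast_eq_zero F 2
  -- fixed spaces
  set Fp := finrank ℂ (fixSp ρp e) with hFp
  set Fm := finrank ℂ (fixSp ρm e) with hFm
  have hF : Fp = Fm + μ * B.d1 := by
    have hdiff : ∀ a : F, ρp.character (e a) - ρm.character (e a) =
        B.κ (B.gl (tgl (SL2.up a))) * μ := by
      intro a
      obtain ⟨g, hg⟩ := hπ (e a)
      have hσg : B.σ (g : C) = B.gl (tgl (SL2.up a)) := congrArg Subtype.val hg
      have hord : Odd (orderOf (B.σ (g : C))) := by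
        refine hodd.of_dvd_nat (orderOf_dvd_of_pow_eq_one ?_)
        rw [hσg, ← map_pow, ← map_pow, SL2.up_pow, Nat.cast_card_eq_zero, zero_mul, SL2.up_zero, map_one, map_one]
      have hkey : ∀ o : B.O, B.χp ((o : C) * g) - B.χm ((o : C) * g) = B.κ (B.σ (g : C)) := fun o => by
        have ho : B.σ ((o : C) * g) = B.σ (g : C) := by rw [map_mul, MonoidHom.mem_ker.1 o.2, one_mul]
        rw [B.χp_sub_χm, B.χ_odd _ (B.odd_of_image (by rw [ho]; exact hord)), ho]
      rw [← hg, hTp', hTm', hτe, hτe, ← mul_sub, ← Finset.sum_sub_distrib]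
      simp only [← sub_mul, hkey]
      rw [← Finset.mul_sum, ← map_sum, mul_left_comm, hσg]
      congr 1
      rw [← Complex.conj_natCast μ, ← hμ g, map_mul, map_inv₀, map_natCast]
    have hsum : ∑ a : F, B.κ (B.gl (tgl (SL2.up a))) = (Fintype.card F : ℂ) * B.d1 := by
      rw [← Finset.add_sum_erase _ _ (Finset.mem_univ (0 : F)),
        Finset.sum_congr rfl fun a ha => B.κ_up a (Finset.mem_erase.1 ha).1, Finset.sum_const,
        Finset.card_erase_of_mem (Finset.mem_univ _), Finset.card_univ, nsmul_eq_mul, SL2.up_zero, map_one,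
        map_one, B.κ_one, Nat.cast_sub Fintype.card_pos]
      push_cast
      ring
    have h : (Fintype.card F : ℂ) * (Fp : ℂ) = (Fintype.card F : ℂ) * ((Fm + μ * B.d1 : ℕ) : ℂ) := by
      rw [hFp, card_mul_finrank_fixSp hadd, Nat.cast_add, mul_add, hFm, card_mul_finrank_fixSp hadd,
        Nat.cast_mul, ← mul_assoc, mul_comm (Fintype.card F : ℂ) (μ : ℂ), mul_assoc (μ : ℂ), ← hsum, Finset.mul_sum,
        ← Finset.sum_add_distrib]
      exact Finset.sum_congr rfl fun a _ => by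
        have := hdiff a
        simp only [Representation.character] at this
        linear_combination this
    exact_mod_cast mul_left_cancel₀ (Nat.cast_ne_zero.2 Fintype.card_ne_zero) h
  have hLE : ∀ (n : ℕ) (ρ : Representation ℂ B.Yw (Fin n → ℂ)), ρ.character (π zL) = -ρ.character 1 →
      ((Fintype.card F + 1 : ℕ) * finrank ℂ (fixSp ρ e) ≤ 2 * n) := by
    intro n ρ hneg
    have h1 : ρ (i (-1)) = -1 := by
      rw [hiz]
      exact op_eq_neg_one ρ (by rw [← map_mul, show zL * zL = (1 : B.Lw) from Subtype.ext B.z2, map_one]) hneg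
    have h := finrank_fix_le (MonoidHom.comp ρ i : Representation ℂ SL₂ (Fin n → ℂ)) h1
    rw [finrank_fin_fun] at h
    exact h
  -- the coefficient
  have ha : |W.a θ| ≤ Fp := by
    obtain ⟨k, hk, hkle⟩ := exists_int_trace_inverting (ρ := ρp) (w := wY) hadd hodd
      (Subtype.ext (by show B.σ B.w * B.σ B.w = 1; rw [← map_mul, B.w2, map_one])) hwe
    have hval : τ B.χp ⟨B.w, B.w_mem_Lw⟩ = (k : ℂ) := by
      rw [← hTp', ← hk]
      rfl
    haveI : (B.O.subgroupOf B.Gw).Normal := Subgroup.Normal.subgroupOf inferInstance _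
    haveI : Fintype (B.O.subgroupOf B.Gw) := Fintype.ofFinite _
    haveI : Fintype (B.R.subgroupOf B.Gw) := Fintype.ofFinite _
    set ψ : B.Gw → ℂ := fun g => η ⟨g, B.Gw_le_Lw g.2⟩ with hψ
    have hψc : IsCharacter B.Gw ψ := IsChar.comp (Subgroup.inclusion B.Gw_le_Lw) (IsIrr.isCharacter hη)
    have hψi : IsIrrCharacter B.Gw ψ := by
      obtain ⟨φ, hφ⟩ := IsChar.exists_constituent' hψc
        (show η 1 ≠ 0 from IsIrr.one_ne_zero hη)
      have hψO : (fun g : B.O.subgroupOf B.Gw => ψ g) =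
          fun g => (θ : B.O → ℂ) (Subgroup.subgroupOfEquivOfLe B.O_le_Gw g) :=
        funext fun g => hres (Subgroup.subgroupOfEquivOfLe B.O_le_Gw g)
      have hθi : IsIrrCharacter (B.O.subgroupOf B.Gw) (fun g : B.O.subgroupOf B.Gw => ψ g) :=
        hψO ▸ IsIrr.comp_mulEquiv (Subgroup.subgroupOfEquivOfLe B.O_le_Gw) θ.2
      obtain ⟨γ, hγ⟩ := IsChar.exists_constituent' (IsChar.res (IsIrr.isCharacter φ.2) (B.O.subgroupOf B.Gw))
        (show (φ : B.Gw → ℂ) ((1 : B.O.subgroupOf B.Gw) : B.Gw) ≠ 0 from IsIrr.one_ne_zero φ.2)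
      have hγψ := NearConst.constituent_res hψc hφ γ.2 hγ
      obtain ⟨d, hd⟩ := IsChar.one_eq_nat hψc
      obtain ⟨d', hd'⟩ := IsChar.one_eq_nat (IsIrr.isCharacter φ.2)
      have hψγ := eq_of_constituent_irr hθi γ.2 hγψ
      have h1 : d' ≤ d := degree_le_of_constituent hψc φ.2 hφ hd hd'
      have h2 : d ≤ d' := degree_le_of_constituent (IsChar.res (IsIrr.isCharacter φ.2) (B.O.subgroupOf B.Gw))
        γ.2 hγ hd' (by rw [← hψγ]; exact hd)
      rw [eq_of_constituent_degree hψc φ.2 hφ (by rw [hd, hd', le_antisymm h2 h1])]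
      exact φ.2
    obtain ⟨ε, hε, hv⟩ := W.ext θ ψ hψi fun o => hres o
    have hFc : IsClassFunction B.Gw (fun g : B.Gw => B.χp g * conj (ψ g)) := fun a b => by
      show B.χp ((b * a * b⁻¹ : B.Gw) : C) * conj (ψ (b * a * b⁻¹)) = _
      rw [IsIrr.classFun hψi a b, Subgroup.coe_mul, Subgroup.coe_mul, Subgroup.coe_inv,
        IsChar.classFun B.isChar_χp (a : C) (b : C)]
    have hsum := B.setup_w.sum_coset hFc
    have hGeq : ∑ g : B.O.subgroupOf B.Gw,
        B.χp (((g : B.Gw) * ⟨B.w, B.w_mem_Gw⟩ : B.Gw) : C) * conj (ψ ((g : B.Gw) * ⟨B.w, B.w_mem_Gw⟩)) =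
        (Nat.card B.O : ℂ) * τ B.χp ⟨B.w, B.w_mem_Lw⟩ := by
      rw [hτe, mul_inv_cancel_left₀ (Nat.cast_ne_zero.2 Nat.card_pos.ne')]
      exact Fintype.sum_equiv (Subgroup.subgroupOfEquivOfLe B.O_le_Gw).toEquiv _ _ fun g => rfl
    have hCeq : ∑ c : B.R.subgroupOf B.Gw,
        B.χp (((c : B.Gw) * ⟨B.w, B.w_mem_Gw⟩ : B.Gw) : C) * conj (ψ ((c : B.Gw) * ⟨B.w, B.w_mem_Gw⟩)) =
        (Nat.card B.R : ℂ) * ((ε : ℂ) * (W.a θ : ℂ)) := by
      rw [← W.coef θ hfix, classInner, ← mul_assoc (ε : ℂ), ← mul_assoc, mul_left_comm _ (ε : ℂ),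
        mul_inv_cancel₀ (Nat.cast_ne_zero.2 Nat.card_pos.ne'), mul_one, Finset.mul_sum]
      refine Fintype.sum_equiv
        (Subgroup.subgroupOfEquivOfLe (show B.R ≤ B.Gw from fun y hy => B.O_le_Gw hy.1)).toEquiv _ _ fun c => ?_
      set y : B.R := Subgroup.subgroupOfEquivOfLe (show B.R ≤ B.Gw from fun y hy => B.O_le_Gw hy.1) c with hy
      show B.χp ((y : C) * B.w) * conj (ψ ⟨(y : C) * B.w, _⟩) = (ε : ℂ) * (B.χp (B.w * y) * conj (W.β θ y))
      rw [hv y, map_mul, B.w_comm y, map_intCast]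
      ring
    rw [hGeq, hCeq, hval, Nat.card_congr (Subgroup.subgroupOfEquivOfLe B.O_le_Gw).toEquiv,
      Nat.card_congr (Subgroup.subgroupOfEquivOfLe (show B.R ≤ B.Gw from fun y hy => B.O_le_Gw hy.1)).toEquiv]
      at hsum
    have hR0 : (Nat.card B.R : ℂ) ≠ 0 := Nat.cast_ne_zero.2 Nat.card_pos.ne'
    have hO0 : (Nat.card B.O : ℂ) ≠ 0 := Nat.cast_ne_zero.2 Nat.card_pos.ne'
    have hka : (k : ℂ) = ((ε * W.a θ : ℤ) : ℂ) := by
      refine mul_left_cancel₀ (mul_ne_zero hR0 hO0) ?_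
      push_cast
      linear_combination hsum
    rw [Int.cast_inj] at hka
    rw [hka, abs_mul, show |ε| = 1 by rcases hε with rfl | rfl <;> simp, one_mul] at hkle
    exact hkle
  have hnm : nm = B.m θ := by
    have h := hTm' 1
    rw [map_one, Representation.char_one, finrank_fin_fun, hdim, B.m_spec] at h
    exact_mod_cast h
  have hq : (0 : ℤ) < Fintype.card F + 1 := by positivity
  rcases hζ with rfl | rfl
  · have h := hLE nm ρm (by rw [← mul_one zL, hTm', hzm 1, ← hTm', map_one, map_one, neg_one_mul])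
    have h' : (Fintype.card F + 1 : ℤ) * Fm ≤ 2 * B.m θ := by rw [← hnm]; exact_mod_cast h
    calc (Fintype.card F + 1 : ℤ) * |W.a θ| ≤ (Fintype.card F + 1 : ℤ) * ((Fm + μ * B.d1 : ℕ) : ℤ) :=
          mul_le_mul_of_nonneg_left (hF ▸ ha) hq.le
      _ ≤ _ := by push_cast; linarith
  · have hμ0 : μ = 0 := by
      by_contra hne
      have h1 := hμz hne
      rw [← mul_one zL] at h1
      change η (zL * 1) = η 1 at h1
      rw [hζη, neg_one_mul] at h1
      exact IsIrr.one_ne_zero hη (by linear_combination (-1/2 : ℂ) * h1)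
    have hnp : np = B.m θ := by
      have hp := hTp' 1
      have hne : (θ : B.O → ℂ) ≠ fun _ => 1 := fun h1 => by
        have h := hμ 1
        rw [hμ0, Nat.cast_zero] at h
        simp only [mul_one, hres, h1, Finset.sum_const, Finset.card_univ, nsmul_eq_mul, mul_one,
          ← Nat.card_eq_fintype_card] at h
        exact one_ne_zero ((inv_mul_cancel₀ (Nat.cast_ne_zero.2 Nat.card_pos.ne' : (Nat.card B.O : ℂ) ≠ 0)).symm.trans h)
      rw [map_one, Representation.char_one, finrank_fin_fun, hdim, B.χp_inner_ne hne] at hp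
      exact_mod_cast hp
    have h := hLE np ρp (by
      rw [← mul_one zL, hTp', hzp 1, ← hTp', map_one, map_neg, map_one, neg_one_mul])
    have h' : (Fintype.card F + 1 : ℤ) * Fp ≤ 2 * B.m θ := by rw [← hnp]; exact_mod_cast h
    rw [hμ0, Nat.cast_zero, mul_zero, zero_mul, add_zero]
    exact (mul_le_mul_of_nonneg_left ha hq.le).trans h'

/-- Extension to the linear group with `w`. -/
theorem exists_eta {θ : IrrCharacter B.O} (hfix : Char.conjN B.O B.w (θ : B.O → ℂ) = (θ : B.O → ℂ))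
    (hL : B.Lfix (θ : B.O → ℂ)) (h5 : 5 ≤ Fintype.card F) (h9 : Fintype.card F ≠ 9) :
    ∃ η : B.Lw → ℂ, IsIrrCharacter B.Lw η ∧ ∀ o : B.O, η ⟨o, B.O_le_Lw o.2⟩ = (θ : B.O → ℂ) o := by
  classical
  haveI : Fintype B.Lw := Fintype.ofFinite _
  haveI : (B.O.subgroupOf B.L).Normal := Subgroup.Normal.subgroupOf inferInstance _
  haveI : Fintype B.L := Fintype.ofFinite _
  haveI : Fintype (B.O.subgroupOf B.L) := Fintype.ofFinite _
  set eO := Subgroup.subgroupOfEquivOfLe B.O_le_L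
  let θ' : B.O.subgroupOf B.L → ℂ := fun x => (θ : B.O → ℂ) (eO x)
  have hθ' : IsIrrCharacter (B.O.subgroupOf B.L) θ' := IsIrr.comp_mulEquiv eO θ.2
  have hinvL : ∀ g : B.L, Char.conjN B.O (g : C) (θ : B.O → ℂ) = (θ : B.O → ℂ) := fun g =>
    (B.lfix_iff (IsIrr.classFun θ.2)).1 hL _ g.2
  -- onto `SL(2, q)`
  let e : SL₂ ≃* B.Ys := MulEquiv.ofBijective
    ((B.gl.comp tgl).codRestrict B.Ys fun s => ⟨_, ⟨s, rfl⟩, rfl⟩)
    ⟨fun a b h => B.gl_tgl_injective (congrArg Subtype.val h), fun y => by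
      obtain ⟨_, ⟨s, rfl⟩, hs⟩ := y.2
      exact ⟨s, Subtype.ext hs⟩⟩
  let σL : B.L →* SL₂ := e.symm.toMonoidHom.comp ((B.σ.comp B.L.subtype).codRestrict B.Ys fun g => g.2)
  have hσs : Function.Surjective σL := fun s => by
    obtain ⟨c, hc⟩ := B.surj ((e s : B.Ys) : X)
    refine ⟨⟨c, show B.σ c ∈ B.Ys from hc ▸ (e s).2⟩, ?_⟩
    show e.symm ⟨B.σ c, _⟩ = s
    rw [MulEquiv.symm_apply_eq]
    exact Subtype.ext hc
  have hσk : σL.ker = B.O.subgroupOf B.L := by
    ext g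
    rw [MonoidHom.mem_ker, Subgroup.mem_subgroupOf, MonoidHom.mem_ker]
    show e.symm _ = 1 ↔ _
    rw [map_eq_one_iff _ e.symm.injective, Subtype.ext_iff]
    rfl
  have h4 : Fintype.card F ≠ 4 := fun h => by
    obtain ⟨p, hp⟩ := CharP.exists F
    obtain ⟨n, hpp, hn⟩ := FiniteField.card F p
    rw [h] at hn
    have hp2 : p = 2 := (Nat.prime_dvd_prime_iff_eq hpp Nat.prime_two).1
      (hpp.dvd_of_dvd_pow (n := 2) (show p ∣ 2 ^ 2 by rw [show (2 : ℕ) ^ 2 = 4 from rfl, hn]; exact dvd_pow_self p n.ne_zero))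
    subst hp2
    exact B.char2 (by exact_mod_cast CharP.cast_eq_zero F 2)
  obtain ⟨η₀, hη₀, hη₀r⟩ := exists_ext_sl2 σL hσs hσk h5 h4 h9 hθ' fun g n => congrFun (hinvL g) (eO n)
  -- unique, hence invariant under `w`
  have huniq : ∀ η' : B.L → ℂ, IsIrrCharacter B.L η' → (∀ n : B.O.subgroupOf B.L, η' n = θ' n) → η' = η₀ := by
    intro η' hη' hr
    have h1 : (fun n : B.O.subgroupOf B.L => η₀ n) = θ' := funext hη₀r
    have h2 : (fun n : B.O.subgroupOf B.L => η' n) = θ' := funext hr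
    obtain ⟨hLi, hmul⟩ := gallagher (N := B.O.subgroupOf B.L) hη₀ hη' (h1 ▸ hθ')
      (by rw [h1, h2, classInner_self_irr hθ']; exact one_ne_zero)
    set Lc := Char.avgN (B.O.subgroupOf B.L) (η' * fun g => conj (η₀ g)) with hLc
    have e1 := congrFun hmul 1
    simp only [Pi.mul_apply] at e1
    have hL1 : Lc 1 = 1 := by
      refine mul_left_cancel₀ (IsIrr.one_ne_zero hη₀) ?_
      rw [e1, mul_one]
      exact ((hr 1).trans (hη₀r 1).symm)
    obtain ⟨l, hl⟩ := linearHom_of_isCharacter (IsIrr.isCharacter hLi) hL1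
    have hlk : σL.ker ≤ l.ker := fun k hk => by
      rw [hσk] at hk
      rw [MonoidHom.mem_ker]
      refine Units.ext ?_
      rw [← congrFun hl k, Units.val_one, ← hL1, ← mul_one k]
      exact avgN_mul_left _ _ ⟨k, hk⟩ 1
    have hl1 : l = 1 := by
      set l' : SL₂ →* ℂˣ := σL.liftOfSurjective hσs ⟨l, hlk⟩
      have hl' : ∀ g, l' (σL g) = l g := fun g =>
        MonoidHom.liftOfRightInverse_comp_apply σL _ _ ⟨l, hlk⟩ g
      have htop : commutator SL₂ ≤ l'.ker := Abelianization.commutator_subset_ker l'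
      rw [commutator_sl2_eq_top h5] at htop
      refine MonoidHom.ext fun g => ?_
      rw [← hl' g]
      exact htop (Subgroup.mem_top _)
    rw [← hmul, show Lc = fun g => (l g : ℂ) from hl, hl1]
    funext g
    simp
  haveI hLn : (B.L.subgroupOf B.Lw).Normal := by
    haveI : B.L.Normal := by
      haveI : B.Ys.Normal := B.sl_normal
      exact Subgroup.Normal.comap inferInstance B.σ
    exact Subgroup.Normal.subgroupOf inferInstance _
  haveI : Fintype (B.L.subgroupOf B.Lw) := Fintype.ofFinite _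
  set eL := Subgroup.subgroupOfEquivOfLe B.L_le_Lw
  have hdec : ∀ x : B.Lw, ∃ k : ℤ, x * ((⟨B.w, B.w_mem_Lw⟩ : B.Lw) ^ k)⁻¹ ∈ B.L.subgroupOf B.Lw := by
    intro x
    haveI : B.Ys.Normal := B.sl_normal
    obtain ⟨y, hy, v, hv, hyv⟩ := Subgroup.mem_sup_of_normal_left.1 (show B.σ x ∈ B.Yw from x.2)
    obtain ⟨k, rfl⟩ := Subgroup.mem_zpowers_iff.1 hv
    refine ⟨k, ?_⟩
    show B.σ ((x : C) * ((((⟨B.w, B.w_mem_Lw⟩ : B.Lw) ^ k : B.Lw)⁻¹ : B.Lw) : C)) ∈ B.Ys
    rw [Subgroup.coe_inv, Subgroup.coe_zpow, map_mul, map_inv, map_zpow, ← hyv, mul_inv_cancel_right]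
    exact hy
  have hcyc : IsCyclic (B.Lw ⧸ B.L.subgroupOf B.Lw) := by
    refine ⟨⟨((⟨B.w, B.w_mem_Lw⟩ : B.Lw) : B.Lw ⧸ B.L.subgroupOf B.Lw), fun q => ?_⟩⟩
    obtain ⟨x, rfl⟩ := QuotientGroup.mk_surjective q
    obtain ⟨k, hk⟩ := hdec x
    refine Subgroup.mem_zpowers_iff.2 ⟨k, ?_⟩
    rw [← QuotientGroup.mk_zpow, eq_comm, QuotientGroup.eq_iff_div_mem, div_eq_mul_inv]
    exact hk
  let η₁ : B.L.subgroupOf B.Lw → ℂ := fun x => η₀ (eL x)
  have hinvw : ∀ (x : B.Lw) (g : B.L.subgroupOf B.Lw),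
      η₁ ⟨x * g * x⁻¹, hLn.conj_mem g g.2 x⟩ = η₁ g := by
    intro x g
    haveI : B.L.Normal := by
      haveI : B.Ys.Normal := B.sl_normal
      exact Subgroup.Normal.comap inferInstance B.σ
    have hxθ : Char.conjN B.O (x : C) (θ : B.O → ℂ) = (θ : B.O → ℂ) := by
      obtain ⟨k, hk⟩ := hdec x
      rw [← mem_inertia]
      rw [show (x : C) = ((x * ((⟨B.w, B.w_mem_Lw⟩ : B.Lw) ^ k)⁻¹ : B.Lw) : C) * B.w ^ k by
        simp [Subgroup.coe_zpow]]
      exact (inertia B.O _).mul_mem ((mem_inertia B.O).2 (hinvL ⟨_, hk⟩))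
        ((inertia B.O _).zpow_mem ((mem_inertia B.O).2 hfix) k)
    have h := huniq (fun y => η₀ (conjEquivN B.L (x : C) y)) (IsIrr.comp_mulEquiv (conjEquivN B.L (x : C)) hη₀)
      fun n => by
        show _ = (θ : B.O → ℂ) (eO n)
        rw [← congrFun hxθ (eO n)]
        show η₀ _ = _
        have e' : conjEquivN B.L (x : C) (n : B.L) =
            ((eO.symm ⟨(x : C) * (eO n : C) * (x : C)⁻¹, (inferInstance : B.O.Normal).conj_mem _ (eO n).2 _⟩ :
              B.O.subgroupOf B.L) : B.L) := by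
          rw [conjEquivN_apply]
          rfl
        rw [e', hη₀r]
        rfl
    show η₀ (eL ⟨x * g * x⁻¹, _⟩) = η₀ (eL g)
    conv_rhs => rw [← h]
    show η₀ _ = η₀ (conjEquivN B.L (x : C) (eL g))
    rw [conjEquivN_apply]
    rfl
  obtain ⟨η, hη, hηr⟩ := NearConst.exists_ext hcyc (IsIrr.comp_mulEquiv eL hη₀) hinvw
  exact ⟨η, hη, fun o => (hηr ⟨⟨o, B.O_le_Lw o.2⟩, B.O_le_L o.2⟩).trans (hη₀r ⟨⟨o, B.O_le_L o.2⟩, o.2⟩)⟩

/-- The bound at a non-trivial fixed character. -/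
theorem lfix_bound (W : B.WExp) {θ : IrrCharacter B.O} (hne : (θ : B.O → ℂ) ≠ fun _ => 1)
    (hfix : Char.conjN B.O B.w (θ : B.O → ℂ) = (θ : B.O → ℂ)) (hL : B.Lfix (θ : B.O → ℂ))
    (h5 : 5 ≤ Fintype.card F) (h9 : Fintype.card F ≠ 9) :
    (Fintype.card F + 1 : ℤ) * |W.a θ| ≤ 2 * B.m θ := by
  classical
  haveI : Fintype B.Lw := Fintype.ofFinite _
  haveI : (B.O.subgroupOf B.Lw).Normal := Subgroup.Normal.subgroupOf inferInstance _
  haveI : Fintype (B.O.subgroupOf B.Lw) := Fintype.ofFinite _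
  obtain ⟨η, hη, hres⟩ := B.exists_eta hfix hL h5 h9
  have h := B.core_bound W hfix 0 η hη hres (fun g => ?_) (fun h => absurd rfl h)
  · simpa using h
  have havg : Char.avgN (B.O.subgroupOf B.Lw) η g = (Nat.card B.O : ℂ)⁻¹ * ∑ o : B.O, η (⟨o, B.O_le_Lw o.2⟩ * g) := by
    show (Nat.card (B.O.subgroupOf B.Lw) : ℂ)⁻¹ * _ = _
    rw [Nat.card_congr (Subgroup.subgroupOfEquivOfLe B.O_le_Lw).toEquiv]
    congr 1
    exact Fintype.sum_equiv (Subgroup.subgroupOfEquivOfLe B.O_le_Lw).toEquiv _ _ fun o => rfl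
  rw [← havg, Nat.cast_zero]
  rcases avgN_irr (B.O.subgroupOf B.Lw) hη with ⟨-, e⟩ | ⟨hk, -⟩
  · rw [e, Pi.zero_apply]
  · exfalso
    apply hne
    have hval : ∀ o : B.O, (θ : B.O → ℂ) o = η 1 := fun o => by
      rw [← hres]
      exact hk ⟨⟨o, B.O_le_Lw o.2⟩, o.2⟩
    have hn := classInner_self_irr θ.2
    rw [classInner] at hn
    simp only [hval, Finset.sum_const, Finset.card_univ, nsmul_eq_mul, ← Nat.card_eq_fintype_card] at hn
    rw [inv_mul_cancel_left₀ (Nat.cast_ne_zero.2 Nat.card_pos.ne' : (Nat.card B.O : ℂ) ≠ 0)] at hn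
    obtain ⟨d, hd, hd1⟩ := IsIrr.one_eq_pos hη
    rw [hd1, map_natCast] at hn
    have : d = 1 := by
      have h2 : d * d = 1 := by exact_mod_cast hn
      exact Nat.eq_one_of_mul_eq_one_left h2
    funext o
    rw [hval, hd1, this, Nat.cast_one]

/-- The bound at the trivial character. -/
theorem trivial_bound (W : B.WExp) {θ : IrrCharacter B.O} (h1 : (θ : B.O → ℂ) = fun _ => 1) :
    (Fintype.card F + 1 : ℤ) * |W.a θ| ≤ 2 * B.m θ + (Fintype.card F + 1 : ℤ) * B.d1 := by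
  classical
  haveI : Fintype B.Lw := Fintype.ofFinite _
  have hfix : Char.conjN B.O B.w (θ : B.O → ℂ) = (θ : B.O → ℂ) := by rw [h1]; rfl
  have h := B.core_bound W hfix 1 (fun _ => 1) (isIrr_one (G := B.Lw)) (fun o => by rw [h1]) (fun g => ?_)
    (fun _ => rfl)
  · simpa using h
  simp only [Finset.sum_const, Finset.card_univ, nsmul_eq_mul, mul_one, ← Nat.card_eq_fintype_card, Nat.cast_one]
  exact inv_mul_cancel₀ (Nat.cast_ne_zero.2 Nat.card_pos.ne')

end BData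

end Cfsg.Agent.Invol.AbgOrder
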