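import Cfsg.Agent.Lib.Invol.AbgOrder.BudgetUW
import Cfsg.Agent.Lib.Invol.AbgOrder.BudgetAct

/-!
# Stabilisers, the class of `w`, and the double count, unitary case
-/

set_option autoImplicit false
set_option linter.unusedSectionVars false
set_option linter.style.haveILetI false

namespace Cfsg.Agent.Invol.AbgOrder

open Cfsg Cfsg.Agent.Char Matrix
open scoped ComplexConjugate

universe u v t

namespace UData

variable {C : Type u} [Group C] [Fintype C] {X : Type v} [Group X] {F : Type t} [Field F] [Fintype F]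
  (B : UData C X F)

local notation "SL₂" => Matrix.SpecialLinearGroup (Fin 2) F
local notation "M₂" => Matrix (Fin 2) (Fin 2) F

/-- The part of `SL(2, q)` over the inertia group. -/
noncomputable def K0 (θ : B.O → ℂ) : Subgroup SL₂ := ((inertia B.O θ).map B.σ).comap B.ι

/-- The members of the class of `w` over the inertia group. -/
noncomputable def Kj (θ : B.O → ℂ) : Set (Ell B.ν) := {A | B.jX A ∈ (inertia B.O θ).map B.σ}

/-- `θ` is fixed by the whole of `SL(2, q)`. -/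
def Lfix (θ : B.O → ℂ) : Prop := B.K0 θ = ⊤

theorem mem_map_inertia {θ : B.O → ℂ} (hθ : IsClassFunction B.O θ) {x : X} {c : C} (hc : B.σ c = x) :
    x ∈ (inertia B.O θ).map B.σ ↔ Char.conjN B.O c θ = θ := by
  rw [← mem_inertia]
  constructor
  · rintro ⟨y, hy, hye⟩
    have : c * y⁻¹ ∈ B.O := by rw [MonoidHom.mem_ker, map_mul, map_inv, hye, hc, mul_inv_cancel]
    rw [show c = c * y⁻¹ * y by group]
    exact (inertia B.O θ).mul_mem (le_inertia B.O hθ this) hy
  · exact fun h => ⟨c, h, hc⟩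

theorem mem_K0 {θ : B.O → ℂ} (hθ : IsClassFunction B.O θ) {s : SL₂} {c : C} (hc : B.σ c = B.ι s) :
    s ∈ B.K0 θ ↔ Char.conjN B.O c θ = θ :=
  B.mem_map_inertia hθ hc

theorem mem_Kj {θ : B.O → ℂ} (hθ : IsClassFunction B.O θ) {A : Ell B.ν} {c : C} (hc : B.σ c = B.jX A) :
    A ∈ B.Kj θ ↔ Char.conjN B.O c θ = θ :=
  B.mem_map_inertia hθ hc

theorem neg_one_mem_K0 {θ : B.O → ℂ} (hθ : IsClassFunction B.O θ) : (-1 : SL₂) ∈ B.K0 θ :=
  (B.mem_K0 hθ B.gz.symm).2 (funext fun o => by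
    rw [conjN_apply]
    exact congrArg θ (Subtype.ext (by
      show B.z * (o : C) * B.z⁻¹ = o
      rw [← B.z_central o, mul_inv_cancel_right])))

theorem lfix_iff {θ : B.O → ℂ} (hθ : IsClassFunction B.O θ) :
    B.Lfix θ ↔ ∀ c : C, B.σ c ∈ B.ι.range → Char.conjN B.O c θ = θ := by
  constructor
  · rintro h c ⟨s, e⟩
    exact (B.mem_K0 hθ e.symm).1 ((Subgroup.eq_top_iff' _).1 h s)
  · intro h
    refine (Subgroup.eq_top_iff' _).2 fun s => ?_
    obtain ⟨c, hc⟩ := B.surj (B.ι s)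
    exact (B.mem_K0 hθ hc).2 (h c ⟨s, hc.symm⟩)

theorem lfix_conj {θ : B.O → ℂ} (hθ : IsClassFunction B.O θ) (c : C) (h : B.Lfix θ) :
    B.Lfix (Char.conjN B.O c θ) := by
  have hc' : IsClassFunction B.O (Char.conjN B.O c θ) := fun a b => by
    rw [conjN_eq_comp]
    show θ (conjEquivN B.O c (b * a * b⁻¹)) = θ (conjEquivN B.O c a)
    rw [map_mul, map_mul, map_inv]
    exact hθ _ _
  rw [B.lfix_iff hc']
  intro d hd
  rw [← conjN_mul, show c * d = (c * d * c⁻¹) * c by group, conjN_mul,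
    (B.lfix_iff hθ).1 h (c * d * c⁻¹) (by rw [map_mul, map_mul, map_inv]; exact B.range_normal.conj_mem _ hd _)]

theorem lfix_conj_iff {θ : B.O → ℂ} (hθ : IsClassFunction B.O θ) (c : C) :
    B.Lfix (Char.conjN B.O c θ) ↔ B.Lfix θ := by
  refine ⟨fun h => ?_, B.lfix_conj hθ c⟩
  have h' := B.lfix_conj (θ := Char.conjN B.O c θ) (fun a b => by
    rw [conjN_eq_comp]
    show θ (conjEquivN B.O c (b * a * b⁻¹)) = θ (conjEquivN B.O c a)
    rw [map_mul, map_mul, map_inv]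
    exact hθ _ _) c⁻¹ h
  rwa [conjN_inv_cancel] at h'

/-- A quotient of two members lies in the stabiliser. -/
theorem Kj_rel {θ : B.O → ℂ} {A A' : Ell B.ν} (hA : A ∈ B.Kj θ) (hA' : A' ∈ B.Kj θ) :
    ∃ s ∈ B.K0 θ, (A' : M₂) = (A : M₂) * (s : M₂) := by
  have hdet : (B.ν⁻¹ • ((A : M₂) * (A' : M₂))).det = 1 := by
    have := B.ellY.ν_ne
    rw [det_smul, det_mul, A.2.2, A'.2.2, Fintype.card_fin]
    change B.ν ≠ 0 at this
    field_simp
  refine ⟨⟨_, hdet⟩, ?_, ?_⟩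
  · show B.ι ⟨_, hdet⟩ ∈ (inertia B.O θ).map B.σ
    have h := congrArg Subtype.val (B.ellY.jOf_mul A A' ⟨_, hdet⟩ rfl)
    rw [show B.ι ⟨_, hdet⟩ = B.jX A * B.jX A' from h.symm]
    exact Subgroup.mul_mem _ hA hA'
  · show (A' : M₂) = (A : M₂) * (B.ν⁻¹ • ((A : M₂) * (A' : M₂)))
    rw [Matrix.mul_smul, ← Matrix.mul_assoc, Ell.mul_self A.2, Matrix.smul_mul, Matrix.one_mul, smul_smul,
      inv_mul_cancel₀ (show B.ν ≠ 0 from B.ellY.ν_ne), one_smul]

theorem exists_mover (A : Ell B.ν) : ∃ c : C, B.σ (c * B.w * c⁻¹) = B.jX A := by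
  obtain ⟨s, hs⟩ := B.ellY.exists_conj_jOf A
  obtain ⟨c, hc⟩ := B.surj (B.ι s)
  refine ⟨c, ?_⟩
  rw [map_mul, map_mul, map_inv, hc, B.jX_eq, ← hs]
  rfl

/-- An element carrying `w` over the member. -/
noncomputable def mover (A : Ell B.ν) : C := (B.exists_mover A).choose

theorem mover_spec (A : Ell B.ν) : B.σ (B.mover A * B.w * (B.mover A)⁻¹) = B.jX A :=
  (B.exists_mover A).choose_spec

variable [Fintype B.O]

/-- Conjugation on the irreducible characters of the kernel. -/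
noncomputable def conjI (c : C) (θ : IrrCharacter B.O) : IrrCharacter B.O :=
  ⟨Char.conjN B.O c (θ : B.O → ℂ), IsIrr.conjN B.O θ.2 c⟩

theorem conjI_coe (c : C) (θ : IrrCharacter B.O) :
    ((B.conjI c θ : IrrCharacter B.O) : B.O → ℂ) = Char.conjN B.O c (θ : B.O → ℂ) := rfl

theorem one_conj (c : C) (θ : IrrCharacter B.O) :
    ((B.conjI c θ : IrrCharacter B.O) : B.O → ℂ) 1 = (θ : B.O → ℂ) 1 := by
  rw [conjI_coe, conjN_eq_comp]
  show (θ : B.O → ℂ) (conjEquivN B.O c 1) = _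
  rw [map_one]

/-- The member of the orbit fixed by `w` that belongs to a member of the class over the inertia group. -/
noncomputable def mv (A : Ell B.ν) (θ : IrrCharacter B.O) : IrrCharacter B.O := B.conjI (B.mover A) θ

theorem mv_fixed {A : Ell B.ν} {θ : IrrCharacter B.O} (h : A ∈ B.Kj (θ : B.O → ℂ)) :
    Char.conjN B.O B.w (B.mv A θ : B.O → ℂ) = (B.mv A θ : B.O → ℂ) := by
  have h' := (B.mem_Kj (IsIrr.classFun θ.2) (B.mover_spec A)).1 h
  rw [mv, conjI_coe]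
  conv_rhs => rw [← h']
  rw [← conjN_mul, ← conjN_mul]
  congr 1
  group

open _root_.Classical in
/-- The double count. -/
theorem sum_Kj [Fintype (Ell B.ν)] (S : IrrCharacter B.O → Prop) (hS : ∀ c θ, S (B.conjI c θ) ↔ S θ)
    (g : IrrCharacter B.O → ℝ) :
    ∑ θ ∈ Finset.univ.filter S, ∑ A ∈ Finset.univ.filter (fun A => A ∈ B.Kj (θ : B.O → ℂ)), g (B.mv A θ) =
      ((Fintype.card F * (Fintype.card F - 1) : ℕ) : ℝ) *
        ∑ θ ∈ Finset.univ.filter (fun θ => S θ ∧ Char.conjN B.O B.w (θ : B.O → ℂ) = (θ : B.O → ℂ)), g θ := by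
  simp only [Finset.sum_filter (fun A => A ∈ B.Kj _)]
  rw [Finset.sum_comm]
  have hone : ∀ A : Ell B.ν,
      (∑ θ ∈ Finset.univ.filter S, if A ∈ B.Kj (θ : B.O → ℂ) then g (B.mv A θ) else 0) =
        ∑ θ ∈ Finset.univ.filter (fun θ => S θ ∧ Char.conjN B.O B.w (θ : B.O → ℂ) = (θ : B.O → ℂ)), g θ := by
    intro A
    rw [← Finset.sum_filter, Finset.filter_filter]
    set c := B.mover A
    refine Finset.sum_bij' (fun θ _ => B.conjI c θ) (fun θ _ => B.conjI c⁻¹ θ) ?_ ?_ ?_ ?_ ?_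
    · intro θ hθ
      obtain ⟨-, hSθ, hPθ⟩ := Finset.mem_filter.1 hθ
      exact Finset.mem_filter.2 ⟨Finset.mem_univ _, (hS c θ).2 hSθ, B.mv_fixed hPθ⟩
    · intro θ hθ
      obtain ⟨-, hSθ, hwθ⟩ := Finset.mem_filter.1 hθ
      refine Finset.mem_filter.2 ⟨Finset.mem_univ _, (hS c⁻¹ θ).2 hSθ, ?_⟩
      refine (B.mem_Kj (IsIrr.classFun (B.conjI c⁻¹ θ).2) (B.mover_spec A)).2 ?_
      rw [conjI_coe, ← conjN_mul, show c⁻¹ * (c * B.w * c⁻¹) = B.w * c⁻¹ by group, conjN_mul, hwθ]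
    · intro θ _
      exact Subtype.ext (conjN_inv_cancel B.O c _)
    · intro θ _
      exact Subtype.ext (conjN_cancel_inv B.O c _)
    · intro θ _
      rfl
  rw [Finset.sum_congr rfl fun A _ => hone A, Finset.sum_const, Finset.card_univ, ← Nat.card_eq_fintype_card,
    card_Ell B.ν_ns, nsmul_eq_mul]

variable [Fintype B.R] [Fintype B.Gw]

theorem n_conj (c : C) (θ : IrrCharacter B.O) : B.n (B.conjI c θ) = B.n θ := by
  have h := classInner_conjN B.O c (fun o : B.O => B.χp o) (θ : B.O → ℂ)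
  rw [conjN_res B.O (IsChar.classFun B.isChar_χp) c, ← B.conjI_coe, n_spec, n_spec] at h
  exact_mod_cast h

/-- The weights add up to the dimension of the half. -/
theorem sum_weight : (∑ θ, (B.n θ : ℂ) * (θ : B.O → ℂ) 1) = (B.Dp : ℂ) := by
  classical
  obtain ⟨a, ha, hd⟩ := IsChar.exists_decomp_inner (IsChar.res B.isChar_χp B.O)
  have h := congrFun hd 1
  rw [Finset.sum_apply] at h
  rw [← B.χp_one]
  refine (Eq.trans ?_ h.symm).trans rfl
  exact Finset.sum_congr rfl fun θ _ => by rw [← B.n_spec, ha]; rfl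

end UData

end Cfsg.Agent.Invol.AbgOrder
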