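import Cfsg.Agent.Lib.Invol.AbgOrder.ColMain

/-!
# Values of the principal block on root sections

If the centraliser of the `2`-part of `g` lies in `C(z)`, a character of the principal block takes at `g` a value
depending only on the image of `g`.
-/

set_option autoImplicit false
set_option linter.unusedSectionVars false
set_option linter.style.haveILetI false

open scoped Classical

namespace Cfsg.Agent.Invol.AbgOrder

open Cfsg Cfsg.Agent.Char Cfsg.Agent.Block

universe u v

variable {G : Type u} [Group G] [Fintype G] {X : Type v} [Group X] [Fintype X] {M : Ideal AlgInt}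

namespace PData

variable (D : PData G X)

/-- On root sections a character of the principal block depends only on the image. -/
theorem root_const (hM : IsPModular 2 M) {χ : IrrCharacter G} (hχ : χ ∈ principalBlock M G) {g g' x : D.C}
    (hx : IsPPart 2 g x) (hle : Cz (x : G) ≤ D.C) (h : D.π g = D.π g') :
    (χ : G → ℂ) g = (χ : G → ℂ) g' := by
  haveI : Fact (Nat.Prime 2) := ⟨Nat.prime_two⟩
  obtain ⟨x', hx'⟩ := exists_pPart (p := 2) g'
  have himg : D.π x = D.π x' := pPart_unique (pPart_map D.π hx) (h ▸ pPart_map D.π hx')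
  obtain ⟨v, hgv, hvc, ⟨k, hk⟩, hvo⟩ := id hx
  obtain ⟨-, -, -, hx2', -⟩ := id hx'
  obtain ⟨l, hl, hlx⟩ := Cfsg.Agent.Invol.Wreath5Core.conj_of_same_image D.π D.odd hx2' ⟨k, hk⟩ himg.symm
  have hg'' : IsPPart 2 (l * g' * l⁻¹) x := hlx ▸ pPart_conj hx' l
  obtain ⟨w, hgw, hwc, -, hwo⟩ := hg''
  have hπ : D.π w = D.π v := by
    have h1 : D.π (l * g' * l⁻¹) = D.π g' := by
      rw [map_mul, map_mul, map_inv, MonoidHom.mem_ker.1 hl, one_mul, inv_one, mul_one]
    rw [← hgw, ← h, ← hgv, map_mul, map_mul] at h1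
    exact mul_left_cancel h1
  have hconj : (χ : G → ℂ) g' = (χ : G → ℂ) ((l * g' * l⁻¹ : D.C) : G) := by
    rw [Subgroup.coe_mul, Subgroup.coe_mul, Subgroup.coe_inv, irr_classFun χ]
  rw [hconj, ← hgw, ← hgv, Subgroup.coe_mul, Subgroup.coe_mul]
  have hmem : ∀ {a : D.C}, Commute x a → (a : G) ∈ Cz (x : G) := fun ha =>
    Subgroup.mem_centralizer_singleton_iff.2 (congrArg Subtype.val ha.eq).symm
  let ρ : Cz (x : G) →* X := D.π.comp (Subgroup.inclusion hle)
  let i : ρ.ker →* D.π.ker :=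
    { toFun := fun a => ⟨Subgroup.inclusion hle (a : Cz (x : G)), a.2⟩
      map_one' := rfl
      map_mul' := fun _ _ => rfl }
  have hodd : ¬ 2 ∣ Nat.card ρ.ker := fun hd => D.odd (hd.trans (Subgroup.card_dvd_of_injective i (fun a b e => by
    have e' := congrArg (fun c : D.π.ker => ((c : D.C) : G)) e
    exact Subtype.ext (Subtype.ext e'))))
  have hxk : ∃ j : ℕ, orderOf (x : G) = 2 ^ j := ⟨k, by rw [Subgroup.orderOf_coe, hk]⟩
  have hord : ∀ {a : D.C} (ha : Commute x a), ¬ 2 ∣ orderOf a →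
      ¬ 2 ∣ orderOf (⟨(a : G), hmem ha⟩ : Cz (x : G)) := fun {a} ha hao => by
    rw [← Subgroup.orderOf_coe]
    rwa [← Subgroup.orderOf_coe] at hao
  have h1 := section_principal_part (p := 2) hM hxk (hord hvc hvo) χ
  have h2 := section_principal_part (p := 2) hM hxk (hord hwc hwo) χ
  rw [if_pos hχ] at h1 h2
  refine h1.symm.trans (Eq.trans ?_ h2)
  refine Finset.sum_congr rfl fun ξ hξ => ?_
  congr 1
  set a : Cz (x : G) := ⟨(v : G), hmem hvc⟩
  set b : Cz (x : G) := ⟨(w : G), hmem hwc⟩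
  have hab : a * b⁻¹ ∈ ρ.ker := by
    rw [MonoidHom.mem_ker, map_mul, map_inv]
    show D.π v * (D.π w)⁻¹ = 1
    rw [hπ, mul_inv_cancel]
  obtain ⟨ψ, -, hval⟩ := IsIrr.exists_factor_quotient ξ.2 ρ.ker
    (fun y hy => principal_ker_of_coprime hM hodd (Finset.mem_filter.1 hξ).2 hy)
  rw [← hval a, ← hval b]
  congr 1
  exact (QuotientGroup.eq_iff_div_mem.2 (by rwa [div_eq_mul_inv]))

end PData

end Cfsg.Agent.Invol.AbgOrder
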