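import Cfsg.Agent.Lib.Invol.AbgOrder.ColNorm

/-!
# The coefficients of the column at the involution

The column is `c₁ + c₂ refSt` with rational integers `c₁, c₂`; the norm on the section, estimated on the unipotent
elements and one class of torus elements, determines them from the value at `z` alone.
-/

set_option autoImplicit false
set_option linter.unusedSectionVars false
set_option linter.style.haveILetI false

open scoped Classical

namespace Cfsg.Agent.Invol.AbgOrder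

open Cfsg Cfsg.Agent.Char Cfsg.Agent.Block Cfsg.Agent.Block.SL2Char Matrix
open Cfsg.Agent.Invol.BrauerL3 (Tbl scal)

universe u v w x t

variable {F : Type w} [Field F] [Fintype F] [DecidableEq F]

local notation "SL₂" => Matrix.SpecialLinearGroup (Fin 2) F
local notation "M₂" => Matrix (Fin 2) (Fin 2) F

theorem uT_ne_one {a : F} (ha : a ≠ 0) : (uT (Multiplicative.ofAdd a) : SL₂) ≠ 1 := fun h => ha (by
  have h1 := congrArg (fun m : SL₂ => (m : M₂) 0 1) h
  simpa [uT_val] using h1)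

theorem vSS_uT {a : F} (ha : a ≠ 0) : vSS (uT (Multiplicative.ofAdd a) : SL₂) = 0 := by
  have h1 : uT (Multiplicative.ofAdd (1 : F)) = (uS : SL₂) := eq_uS (uT_val 1)
  have h := cjS_di_uT (Units.mk0 a ha) 1
  rw [Units.val_mk0, mul_one] at h
  rw [← h, invS_vSS, h1, vSS_uS]

theorem odd_orderOf_uT (hodd : Odd (Fintype.card F)) (a : F) :
    Odd (orderOf (uT (Multiplicative.ofAdd a) : SL₂)) := by
  refine Odd.of_dvd_nat hodd (orderOf_dvd_of_pow_eq_one ?_)
  rw [← map_pow, ← ofAdd_nsmul, nsmul_eq_mul, FiniteField.cast_card_eq_zero, zero_mul, ofAdd_zero, map_one]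

/-- A class is at least the index of a centraliser. -/
theorem index_le_class {Y : Type v} [Group Y] [Fintype Y] (y : Y) (P : Y → Prop) [DecidablePred P]
    (h : ∀ g : Y, P (g * y * g⁻¹)) :
    (Subgroup.centralizer ({y} : Set Y)).index ≤ (Finset.univ.filter P).card := by
  rw [Subgroup.index, Nat.card_eq_fintype_card, ← Finset.card_univ]
  refine Finset.card_le_card_of_injOn (fun q => q.out * y * q.out⁻¹)
    (fun q _ => Finset.mem_filter.2 ⟨Finset.mem_univ _, h _⟩) fun a _ b _ e => ?_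
  rw [← QuotientGroup.out_eq' a, ← QuotientGroup.out_eq' b, QuotientGroup.eq]
  refine Subgroup.mem_centralizer_singleton_iff.2 ?_
  calc a.out⁻¹ * b.out * y = a.out⁻¹ * (b.out * y * b.out⁻¹) * b.out := by group
    _ = a.out⁻¹ * (a.out * y * a.out⁻¹) * b.out := by rw [show b.out * y * b.out⁻¹ = a.out * y * a.out⁻¹ from e.symm]
    _ = y * (a.out⁻¹ * b.out) := by group

/-- The unipotent elements. -/
theorem card_unipotent_le (hodd : Odd (Fintype.card F)) :
    Fintype.card F ^ 2 - 1 ≤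
      (Finset.univ.filter fun t : SL₂ => Odd (orderOf t) ∧ vSS t = 0).card := by
  set B := (Cfsg.upperTriangularGL 2 F).comap (Matrix.SpecialLinearGroup.toGL : SL₂ →* GL (Fin 2) F)
  have hind : B.index = Fintype.card F + 1 := by
    have h := congrFun (indFun_S (F := F) 1) 1
    rw [indFun_one_eq, vIS_one, MulChar.one_apply (isUnit_iff_ne_zero.2 (by simp)), mul_one] at h
    exact_mod_cast h
  have hcard : ((Finset.univ : Finset (SL₂ ⧸ B)) ×ˢ (Finset.univ.erase (0 : F))).card = Fintype.card F ^ 2 - 1 := by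
    rw [Finset.card_product, Finset.card_univ, ← Nat.card_eq_fintype_card, ← Subgroup.index, hind,
      Finset.card_erase_of_mem (Finset.mem_univ _), Finset.card_univ]
    exact (Nat.sq_sub_sq (Fintype.card F) 1).symm
  rw [← hcard]
  refine Finset.card_le_card_of_injOn (fun p => p.1.out * uT (Multiplicative.ofAdd p.2) * p.1.out⁻¹)
    (fun p hp => ?_) ?_
  · have ha : p.2 ≠ 0 := (Finset.mem_erase.1 (Finset.mem_product.1 hp).2).1
    refine Finset.mem_filter.2 ⟨Finset.mem_univ _, ?_, ?_⟩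
    · show Odd (orderOf (p.1.out * _ * p.1.out⁻¹))
      rw [← MulAut.conj_apply, MulEquiv.orderOf_eq]
      exact odd_orderOf_uT hodd _
    · show vSS (p.1.out * _ * p.1.out⁻¹) = 0
      rw [← cjS_toGL, invS_vSS, vSS_uT ha]
  · rintro ⟨P, a⟩ hp ⟨P', a'⟩ - e
    have ha : a ≠ 0 := (Finset.mem_erase.1 (Finset.mem_product.1 hp).2).1
    have e' : (P'.out⁻¹ * P.out) * uT (Multiplicative.ofAdd a) * (P'.out⁻¹ * P.out)⁻¹ =
        uT (Multiplicative.ofAdd a') := by
      have h1 : P.out * uT (Multiplicative.ofAdd a) * P.out⁻¹ = P'.out * uT (Multiplicative.ofAdd a') * P'.out⁻¹ := e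
      rw [show P'.out⁻¹ * P.out * uT (Multiplicative.ofAdd a) * (P'.out⁻¹ * P.out)⁻¹ =
        P'.out⁻¹ * (P.out * uT (Multiplicative.ofAdd a) * P.out⁻¹) * P'.out by group, h1]
      group
    have h10 : ((P'.out⁻¹ * P.out : SL₂) : M₂) 1 0 = 0 := by
      have h2 := mul_inv_eq_iff_eq_mul.1 e'
      have h3 := congrArg (fun m : SL₂ => (m : M₂) 1 1) h2
      generalize (P'.out⁻¹ * P.out : SL₂) = r at h3 ⊢
      simp [Matrix.SpecialLinearGroup.coe_mul, uT_val, Matrix.mul_apply, Fin.sum_univ_two] at h3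
      exact h3.resolve_right ha
    have hP : P' = P := by
      rw [← QuotientGroup.out_eq' P', ← QuotientGroup.out_eq' P, QuotientGroup.eq, Subgroup.mem_comap, mem_BB]
      exact h10
    subst hP
    rw [inv_mul_cancel, one_mul, inv_one, mul_one] at e'
    have h4 := congrArg (fun m : SL₂ => (m : M₂) 0 1) e'
    simp only [uT_val] at h4
    exact Prod.ext rfl (by simpa using h4)

theorem exists_odd_prime_of_not_two_pow {n : ℕ} (h : ¬ ∃ k, n = 2 ^ k) :
    ∃ r, r.Prime ∧ r ∣ n ∧ Odd r :=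
  (n.eq_two_pow_or_exists_odd_prime_and_dvd).resolve_left h

theorem exists_odd_orderOf {A : Type v} [Group A] [Fintype A] (h : ¬ ∃ k, Fintype.card A = 2 ^ k) :
    ∃ a : A, a ≠ 1 ∧ Odd (orderOf a) := by
  obtain ⟨r, hr, hd, ho⟩ := exists_odd_prime_of_not_two_pow h
  haveI : Fact r.Prime := ⟨hr⟩
  obtain ⟨a, ha⟩ := exists_prime_orderOf_dvd_card r hd
  exact ⟨a, fun h1 => by rw [h1, orderOf_one] at ha; exact hr.ne_one ha.symm, ha ▸ ho⟩

/-- A class of split torus elements. -/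
theorem card_split_le (hodd : Odd (Fintype.card F)) (h : ¬ ∃ k, Fintype.card F - 1 = 2 ^ k) :
    Fintype.card F * (Fintype.card F + 1) ≤
      (Finset.univ.filter fun t : SL₂ => Odd (orderOf t) ∧ vSS t = 1).card := by
  obtain ⟨x, hx1, hxo⟩ := exists_odd_orderOf (A := Fˣ) (by rwa [Fintype.card_units])
  have hsq := sq_ne_one_of_odd hx1 hxo
  have hne : x ≠ x⁻¹ := fun h => hsq (by nth_rewrite 2 [h]; exact mul_inv_cancel x)
  have h4 := four_le_card hodd hne
  have h5 : 5 ≤ Fintype.card F := by obtain ⟨k, hk⟩ := hodd; omega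
  have hidx : (Subgroup.centralizer ({diS x} : Set SL₂)).index = Fintype.card F * (Fintype.card F + 1) := by
    refine index_torus (isTorus_diS hodd h5) hsq ?_
    obtain ⟨k, hk⟩ := hodd
    rw [hk, show (2 * k + 1 - 1) / 2 = k by omega, show (2 * k + 1) ^ 2 - 1 = 2 * k * (2 * k + 1 + 1) from
      Nat.sub_eq_of_eq_add (by ring)]
  rw [← hidx]
  refine index_le_class _ _ fun g => ⟨?_, ?_⟩
  · rw [← MulAut.conj_apply, MulEquiv.orderOf_eq, orderOf_injective diS diS_injective]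
    exact hxo
  · rw [← cjS_toGL, invS_vSS, vSS, resS_apply, toGL_diS, vS_di hne]

/-- A class of elliptic torus elements. -/
theorem card_elliptic_le (K : Type x) [Field K] [Algebra F K] [Fintype K] [DecidableEq K]
    (hK : Module.finrank F K = 2) (hodd : Odd (Fintype.card F)) (h : ¬ ∃ k, Fintype.card F + 1 = 2 ^ k) :
    Fintype.card F * (Fintype.card F - 1) ≤
      (Finset.univ.filter fun t : SL₂ => Odd (orderOf t) ∧ vSS t = -1).card := by
  obtain ⟨l, hl1, hlo⟩ := exists_odd_orderOf (A := U1 F K) (by rwa [card_U1 K hK])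
  have hsq := sq_ne_one_of_odd hl1 hlo
  have hrange : (l : Kˣ) ∉ (emb (F := F) K).range := fun h => hsq ((sq_eq_one_iff_mem_range K l).2 h)
  have h3 := three_le_card hodd
  have hidx : (Subgroup.centralizer ({ellS K hK l} : Set SL₂)).index =
      Fintype.card F * (Fintype.card F - 1) := by
    refine index_torus (isTorus_ellS K hK hodd) hsq ?_
    obtain ⟨k, hk⟩ := hodd
    rw [hk, show (2 * k + 1 + 1) / 2 = k + 1 by omega, show 2 * k + 1 - 1 = 2 * k by omega,
      show (2 * k + 1) ^ 2 - 1 = 2 * (k + 1) * (2 * k) from Nat.sub_eq_of_eq_add (by ring)]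
  rw [← hidx]
  refine index_le_class _ _ fun g => ⟨?_, ?_⟩
  · rw [← MulAut.conj_apply, MulEquiv.orderOf_eq, orderOf_injective (ellS K hK) (ellS_injective K hK)]
    exact hlo
  · rw [← cjS_toGL, invS_vSS, vSS, resS_apply, toGL_ellS, vS_ell K hK hrange]

variable {G : Type u} [Group G] [Fintype G] {X : Type v} [Group X] [Fintype X] {H : Type x} [Group H]
  {K : Type t} [CommGroup K] {Q : ℤ}

/-- A character with integral values `c₁ + c₂ refSt` at `z` times odd elements. -/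
structure ColData (D : PData G X) (s : Shape0 X F H K Q) (χ : IrrCharacter G) (m₁ m₂ : ℤ) : Prop where
  col : ∀ v : D.C, Odd (orderOf v) → (χ : G → ℂ) (D.z * (v : G)) = (m₁ : ℂ) + (m₂ : ℂ) * s.refSt (D.π v)

namespace PData

variable (D : PData G X) (s : Shape0 X F H K Q) {χ : IrrCharacter G}

theorem exists_odd_over (t : SL₂) (ht : Odd (orderOf t)) :
    ∃ v : D.C, Odd (orderOf v) ∧ D.π v = s.eSL t := by
  obtain ⟨v, hv⟩ := D.surj (s.eSL t)
  have ho : Odd (orderOf (D.π v)) := by rw [hv]; exact ht.of_dvd_nat (orderOf_map_dvd s.eSL t)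
  obtain ⟨e, he, heo⟩ := exists_odd_pow D.π v ho
  exact ⟨v ^ e, heo, he.trans hv⟩

/-- The column has integral coefficients. -/
theorem exists_colData {M : Ideal AlgInt} (hM : IsPModular 2 M) (hN : NHyp s.π.range)
    (hodd : Odd (Fintype.card F)) (hq : 3 < Fintype.card F) (hχ : χ ∈ principalBlock M G) {val : ℤ}
    (hval : (χ : G → ℂ) D.z = (val : ℂ)) :
    ∃ m₁ m₂ : ℤ, ColData D s χ m₁ m₂ ∧ val = m₁ + (Fintype.card F : ℤ) * m₂ := by
  obtain ⟨c₁, c₂, hc⟩ := D.exists_column s hN hM hodd hχ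
  have hχc : IsCharacter G (χ : G → ℂ) := irr_isChar χ
  have hat : ∀ t : SL₂, Odd (orderOf t) → IsIntegral ℤ (c₁ + c₂ * vSS t) := fun t ht => by
    obtain ⟨v, hv, hπ⟩ := D.exists_odd_over s t ht
    rw [← s.refSt_eSL, ← hπ, ← hc v hv]
    exact Char.IsChar.isIntegral hχc _
  -- the unipotent value is rational
  obtain ⟨m₁, hm₁⟩ : ∃ m : ℤ, c₁ = (m : ℂ) := by
    obtain ⟨v, hv, hπ⟩ := D.exists_odd_over s _ (odd_orderOf_uT hodd (1 : F))
    have hvz : Commute D.z (v : G) := (Subgroup.mem_centralizer_singleton_iff.1 v.2).symm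
    have hg : (χ : G → ℂ) (D.z * (v : G)) = c₁ := by
      rw [hc v hv, hπ, s.refSt_eSL, vSS_uT one_ne_zero, mul_zero, add_zero]
    obtain ⟨m, hm⟩ := IsChar.exists_int_of_fixed hχc (D.z * (v : G)) fun k hk => by
      have hord : orderOf (D.z * (v : G)) = 2 * orderOf v := by
        rw [hvz.orderOf_mul_eq_mul_orderOf_of_coprime, D.ord, Subgroup.orderOf_coe]
        rw [D.ord, Subgroup.orderOf_coe]
        exact Nat.coprime_two_left.2 hv
      rw [hord, Nat.coprime_mul_iff_right] at hk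
      have hk2 : D.z ^ k = D.z := by
        obtain ⟨j, hj⟩ := Nat.coprime_two_right.1 hk.1
        rw [hj, pow_succ, pow_mul, show D.z ^ 2 = 1 by rw [← D.ord]; exact pow_orderOf_eq_one _, one_pow, one_mul]
      have hvk : Odd (orderOf (v ^ k)) := hv.of_dvd_nat (orderOf_pow_dvd k)
      have hne : k • (1 : F) ≠ 0 := fun h0 => by
        have h1 : orderOf (D.π v) ∣ k := by
          rw [orderOf_dvd_iff_pow_eq_one, hπ, ← map_pow, ← map_pow, ← ofAdd_nsmul, h0, ofAdd_zero, map_one, map_one]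
        have h2 : orderOf (D.π v) = 1 := Nat.eq_one_of_dvd_coprimes hk.2 h1 (orderOf_map_dvd D.π v)
        rw [orderOf_eq_one_iff, hπ] at h2
        exact uT_ne_one (one_ne_zero (α := F)) (s.π_ι_inj (h2.trans (map_one _).symm))
      rw [hvz.mul_pow, hk2, ← SubmonoidClass.coe_pow, hc _ hvk, hc v hv, map_pow, hπ, ← map_pow, ← map_pow,
        ← ofAdd_nsmul, s.refSt_eSL, s.refSt_eSL, vSS_uT hne, vSS_uT one_ne_zero]
    exact ⟨m, hg ▸ hm⟩
  have hz : (χ : G → ℂ) D.z = c₁ + c₂ * (Fintype.card F : ℂ) := by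
    have h := hc 1 (by rw [orderOf_one]; exact odd_one)
    rwa [OneMemClass.coe_one, mul_one, map_one, ← map_one s.eSL, s.refSt_eSL, vSS_one] at h
  -- a torus element makes `c₂` integral
  have hint : IsIntegral ℤ c₂ := by
    have hi1 : IsIntegral ℤ c₁ := hm₁ ▸ isIntegral_algebraMap (R := ℤ) (x := m₁)
    obtain ⟨Kq, _, _, _, _, hKq⟩ := exists_model F
    by_cases h : ∃ k, Fintype.card F - 1 = 2 ^ k
    · have h' : ¬ ∃ k, Fintype.card F + 1 = 2 ^ k := by
        rintro ⟨b, hb⟩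
        obtain ⟨a, ha⟩ := h
        rcases a with _ | _ | a
        · omega
        · omega
        · rcases b with _ | _ | b
          · omega
          · omega
          · rw [pow_succ, pow_succ] at ha hb; omega
      have hpos : 0 < (Finset.univ.filter fun t : SL₂ => Odd (orderOf t) ∧ vSS t = -1).card :=
        (Nat.mul_pos (by omega) (by omega)).trans_le (card_elliptic_le Kq hKq hodd h')
      obtain ⟨t, ht⟩ := Finset.card_pos.1 hpos
      obtain ⟨-, hto, htv⟩ := Finset.mem_filter.1 ht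
      have h1 := hat t hto
      rw [htv] at h1
      have := hi1.sub h1
      rwa [show c₁ - (c₁ + c₂ * -1) = c₂ by ring] at this
    · have hpos : 0 < (Finset.univ.filter fun t : SL₂ => Odd (orderOf t) ∧ vSS t = 1).card :=
        (Nat.mul_pos (by omega) (by omega)).trans_le (card_split_le hodd h)
      obtain ⟨t, ht⟩ := Finset.card_pos.1 hpos
      obtain ⟨-, hto, htv⟩ := Finset.mem_filter.1 ht
      have h1 := hat t hto
      rw [htv] at h1
      have := h1.sub hi1
      rwa [show c₁ + c₂ * 1 - c₁ = c₂ by ring] at this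
  have hq0 : (Fintype.card F : ℂ) ≠ 0 := Nat.cast_ne_zero.2 Fintype.card_ne_zero
  have hrat : c₂ = ((((val - m₁ : ℤ) : ℚ) / (Fintype.card F : ℚ) : ℚ) : ℂ) := by
    push_cast
    rw [eq_div_iff hq0]
    linear_combination hval - hz - hm₁
  obtain ⟨m₂, hm₂⟩ := int_of_isIntegral_rat (hrat ▸ hint)
  rw [← hrat] at hm₂
  refine ⟨m₁, m₂, ⟨fun v hv => by rw [hc v hv, hm₁, hm₂]⟩, ?_⟩
  have h : (val : ℂ) = (m₁ : ℂ) + (Fintype.card F : ℂ) * (m₂ : ℂ) := by
    rw [← hval, hz, hm₁, hm₂]; ring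
  exact_mod_cast h

variable {m₁ m₂ : ℤ}

/-- The norm on the section, estimated by classes. -/
theorem col_bound (hc : ColData D s χ m₁ m₂) (hodd : Odd (Fintype.card F)) {a b : ℕ}
    (ha : a ≤ (Finset.univ.filter fun t : SL₂ => Odd (orderOf t) ∧ vSS t = -1).card)
    (hb : b ≤ (Finset.univ.filter fun t : SL₂ => Odd (orderOf t) ∧ vSS t = 1).card) :
    ((Fintype.card F : ℤ) ^ 2 - 1) * m₁ ^ 2 + (a : ℤ) * (m₁ - m₂) ^ 2 + (b : ℤ) * (m₁ + m₂) ^ 2 <
      (Nat.card X : ℤ) := by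
  have hlt := D.image_norm_lt χ (g := fun x => (m₁ : ℂ) + (m₂ : ℂ) * s.refSt x)
    (fun v hv => hc.col v (Nat.odd_iff.2 (Nat.two_dvd_ne_zero.1 hv)))
  set A0 := Finset.univ.filter fun t : SL₂ => Odd (orderOf t) ∧ vSS t = 0
  set A1 := Finset.univ.filter fun t : SL₂ => Odd (orderOf t) ∧ vSS t = 1
  set A2 := Finset.univ.filter fun t : SL₂ => Odd (orderOf t) ∧ vSS t = -1
  let val : SL₂ → ℝ := fun t => Complex.normSq ((m₁ : ℂ) + (m₂ : ℂ) * vSS t)
  have hd1 : Disjoint A0 A1 := Finset.disjoint_filter.2 fun t _ h h' => zero_ne_one (h.2.symm.trans h'.2)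
  have hd2 : Disjoint (A0 ∪ A1) A2 := Finset.disjoint_left.2 fun t ht ht2 => by
    have h2 := (Finset.mem_filter.1 ht2).2.2
    rcases Finset.mem_union.1 ht with h | h <;> rw [(Finset.mem_filter.1 h).2.2] at h2 <;> norm_num at h2
  have hsub : ∑ t ∈ A0 ∪ A1 ∪ A2, val t ≤
      ∑ x ∈ Finset.univ.filter (fun x : X => ¬ 2 ∣ orderOf x),
        Complex.normSq ((m₁ : ℂ) + (m₂ : ℂ) * s.refSt x) := by
    rw [Finset.sum_congr rfl fun t _ => show val t = Complex.normSq ((m₁ : ℂ) + (m₂ : ℂ) * s.refSt (s.eSL t)) by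
      rw [s.refSt_eSL], ← Finset.sum_image (f := fun x => Complex.normSq ((m₁ : ℂ) + (m₂ : ℂ) * s.refSt x)) (g := s.eSL)
      (fun _ _ _ _ h => s.π_ι_inj h)]
    refine Finset.sum_le_sum_of_subset_of_nonneg (fun x hx => ?_) fun _ _ _ => Complex.normSq_nonneg _
    obtain ⟨t, ht, rfl⟩ := Finset.mem_image.1 hx
    have hto : Odd (orderOf t) := by
      rcases Finset.mem_union.1 ht with h | h
      · rcases Finset.mem_union.1 h with h | h <;> exact (Finset.mem_filter.1 h).2.1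
      · exact (Finset.mem_filter.1 h).2.1
    refine Finset.mem_filter.2 ⟨Finset.mem_univ _, fun hd => ?_⟩
    exact Nat.not_even_iff_odd.2 (hto.of_dvd_nat (orderOf_map_dvd s.eSL t)) (even_iff_two_dvd.2 hd)
  rw [Finset.sum_union hd2, Finset.sum_union hd1] at hsub
  have hsq : ∀ n : ℤ, Complex.normSq (n : ℂ) = ((n ^ 2 : ℤ) : ℝ) := fun n => by
    rw [← Complex.ofReal_intCast, Complex.normSq_ofReal]; push_cast; ring
  have e0 : ∑ t ∈ A0, val t = (A0.card : ℝ) * ((m₁ ^ 2 : ℤ) : ℝ) := by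
    rw [Finset.sum_congr rfl fun t ht => show val t = ((m₁ ^ 2 : ℤ) : ℝ) by
      show Complex.normSq _ = _
      rw [(Finset.mem_filter.1 ht).2.2, mul_zero, add_zero, hsq], Finset.sum_const, nsmul_eq_mul]
  have e1 : ∑ t ∈ A1, val t = (A1.card : ℝ) * (((m₁ + m₂) ^ 2 : ℤ) : ℝ) := by
    rw [Finset.sum_congr rfl fun t ht => show val t = (((m₁ + m₂) ^ 2 : ℤ) : ℝ) by
      show Complex.normSq _ = _
      rw [(Finset.mem_filter.1 ht).2.2, mul_one, ← Int.cast_add, hsq], Finset.sum_const, nsmul_eq_mul]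
  have e2 : ∑ t ∈ A2, val t = (A2.card : ℝ) * (((m₁ - m₂) ^ 2 : ℤ) : ℝ) := by
    rw [Finset.sum_congr rfl fun t ht => show val t = (((m₁ - m₂) ^ 2 : ℤ) : ℝ) by
      show Complex.normSq _ = _
      rw [(Finset.mem_filter.1 ht).2.2, mul_neg_one, ← sub_eq_add_neg, ← Int.cast_sub, hsq], Finset.sum_const,
      nsmul_eq_mul]
  rw [e0, e1, e2] at hsub
  have hall : ((A0.card : ℤ) * m₁ ^ 2 + (A1.card : ℤ) * (m₁ + m₂) ^ 2 + (A2.card : ℤ) * (m₁ - m₂) ^ 2) <
      (Nat.card X : ℤ) := by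
    have := hsub.trans_lt hlt
    exact_mod_cast this
  have hU := card_unipotent_le (F := F) hodd
  have hq : 1 ≤ Fintype.card F ^ 2 := Nat.one_le_pow _ _ Fintype.card_pos
  have hU' : (Fintype.card F : ℤ) ^ 2 - 1 ≤ (A0.card : ℤ) := by
    have : ((Fintype.card F ^ 2 - 1 : ℕ) : ℤ) ≤ (A0.card : ℤ) := by exact_mod_cast hU
    push_cast [Nat.cast_sub hq] at this
    exact this
  have hA : (a : ℤ) ≤ (A2.card : ℤ) := by exact_mod_cast ha
  have hB : (b : ℤ) ≤ (A1.card : ℤ) := by exact_mod_cast hb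
  linarith [mul_le_mul_of_nonneg_right hU' (sq_nonneg m₁), mul_le_mul_of_nonneg_right hA (sq_nonneg (m₁ - m₂)),
    mul_le_mul_of_nonneg_right hB (sq_nonneg (m₁ + m₂))]

theorem sign_sq {ε : ℤ} (hε : ε = 1 ∨ ε = -1) {k q : ℤ} (hk : k ≠ 0) (hq : 2 ≤ q) :
    (q - 1) ^ 2 ≤ (ε + q * k) ^ 2 := by
  have hk' : k ≤ -1 ∨ 1 ≤ k := by omega
  rcases hε with rfl | rfl <;> rcases hk' with h | h
  · nlinarith [mul_le_mul_of_nonneg_left h (show (0 : ℤ) ≤ q by omega)]
  · nlinarith [mul_le_mul_of_nonneg_left h (show (0 : ℤ) ≤ q by omega)]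
  · nlinarith [mul_le_mul_of_nonneg_left h (show (0 : ℤ) ≤ q by omega)]
  · nlinarith [mul_le_mul_of_nonneg_left h (show (0 : ℤ) ≤ q by omega)]

/-- A value `±(q + 1)` gives `± (1 + St)`. -/
theorem col_linear (hc : ColData D s χ m₁ m₂) (hodd : Odd (Fintype.card F)) {ε : ℤ} (hε : ε = 1 ∨ ε = -1)
    (hv : ε * ((Fintype.card F : ℤ) + 1) = m₁ + (Fintype.card F : ℤ) * m₂) {m : ℕ}
    (hX : Nat.card X = Nat.card SL₂ * m)
    (hm : m * Fintype.card F ≤ (Fintype.card F - 1) ^ 2 ∨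
      ((¬ ∃ k, Fintype.card F + 1 = 2 ^ k) ∧ m ≤ Fintype.card F + 1)) :
    m₁ = ε ∧ m₂ = ε := by
  set q := (Fintype.card F : ℤ) with hq
  have hq3 : (3 : ℤ) ≤ q := by have := three_le_card hodd; omega
  by_contra hne
  set k := ε - m₂ with hk
  have hm1 : m₁ = ε + q * k := by rw [hk]; linear_combination -hv
  have hk0 : k ≠ 0 := fun h0 => hne ⟨by rw [hm1, h0]; ring, by omega⟩
  have hX' : (Nat.card X : ℤ) = q * (q ^ 2 - 1) * (m : ℤ) := by
    rw [hX, card_SS_nat]
    push_cast [Nat.cast_sub (Nat.one_le_pow _ _ Fintype.card_pos)]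
    ring
  rcases hm with h | ⟨he, h⟩
  · have hb := col_bound D s hc hodd (a := 0) (b := 0) (Nat.zero_le _) (Nat.zero_le _)
    have h' : (m : ℤ) * q ≤ (q - 1) ^ 2 := by
      have h2 : ((m * Fintype.card F : ℕ) : ℤ) ≤ (((Fintype.card F - 1) ^ 2 : ℕ) : ℤ) := by exact_mod_cast h
      push_cast [Nat.cast_sub (Fintype.card_pos : 0 < Fintype.card F)] at h2
      linarith
    have h3 := h'.trans (sign_sq hε hk0 (by omega))
    rw [hm1, hX', ← hq] at hb
    push_cast at hb
    nlinarith [mul_le_mul_of_nonneg_left h3 (show (0 : ℤ) ≤ q ^ 2 - 1 by nlinarith)]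
  · obtain ⟨Kq, _, _, _, _, hKq⟩ := exists_model F
    have hb := col_bound D s hc hodd (b := 0) (card_elliptic_le Kq hKq hodd he) (Nat.zero_le _)
    have h' : (m : ℤ) ≤ q + 1 := by rw [hq]; exact_mod_cast h
    have hk2 : 1 ≤ k ^ 2 := by nlinarith [sq_abs k, Int.one_le_abs hk0]
    rw [hm1, hX', ← hq, show m₂ = ε - k by omega] at hb
    push_cast [Nat.cast_sub (Fintype.card_pos : 0 < Fintype.card F)] at hb
    nlinarith [mul_le_mul_of_nonneg_left h' (show (0 : ℤ) ≤ q * (q ^ 2 - 1) by nlinarith),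
      mul_le_mul_of_nonneg_left hk2 (show (0 : ℤ) ≤ q * (q - 1) * (q + 1) ^ 2 by nlinarith),
      mul_nonneg (show (0 : ℤ) ≤ q ^ 2 - 1 by nlinarith) (sq_nonneg (ε + q * k))]

/-- A value `±q` gives `± St`. -/
theorem col_steinberg (hc : ColData D s χ m₁ m₂) (hodd : Odd (Fintype.card F)) {ε : ℤ} (hε : ε = 1 ∨ ε = -1)
    (hv : ε * (Fintype.card F : ℤ) = m₁ + (Fintype.card F : ℤ) * m₂) {m : ℕ}
    (hX : Nat.card X = Nat.card SL₂ * m) (hm : m ≤ Fintype.card F) :
    m₁ = 0 ∧ m₂ = ε := by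
  set q := (Fintype.card F : ℤ) with hq
  have hq3 : (3 : ℤ) ≤ q := by have := three_le_card hodd; omega
  by_contra hne
  set k := ε - m₂ with hk
  have hm1 : m₁ = q * k := by rw [hk]; linear_combination -hv
  have hk0 : k ≠ 0 := fun h0 => hne ⟨by rw [hm1, h0]; ring, by omega⟩
  have hX' : (Nat.card X : ℤ) = q * (q ^ 2 - 1) * (m : ℤ) := by
    rw [hX, card_SS_nat]
    push_cast [Nat.cast_sub (Nat.one_le_pow _ _ Fintype.card_pos)]
    ring
  have hb := col_bound D s hc hodd (a := 0) (b := 0) (Nat.zero_le _) (Nat.zero_le _)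
  have h' : (m : ℤ) ≤ q := by rw [hq]; exact_mod_cast hm
  have hk2 : 1 ≤ k ^ 2 := by nlinarith [sq_abs k, Int.one_le_abs hk0]
  rw [hm1, hX', ← hq] at hb
  push_cast at hb
  nlinarith [mul_le_mul_of_nonneg_left h' (show (0 : ℤ) ≤ q * (q ^ 2 - 1) by nlinarith),
    mul_le_mul_of_nonneg_left hk2
      (show (0 : ℤ) ≤ q * q * (q ^ 2 - 1) from mul_nonneg (mul_self_nonneg q) (by nlinarith))]

/-- A value `±(q - 1)` gives `± (St - 1)`. -/
theorem col_unitary (hc : ColData D s χ m₁ m₂) (hodd : Odd (Fintype.card F)) {ε : ℤ} (hε : ε = 1 ∨ ε = -1)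
    (hv : ε * ((Fintype.card F : ℤ) - 1) = m₁ + (Fintype.card F : ℤ) * m₂) {m : ℕ}
    (hX : Nat.card X = Nat.card SL₂ * m)
    (hm : m * Fintype.card F ≤ (Fintype.card F - 1) ^ 2 ∨
      ((¬ ∃ k, Fintype.card F - 1 = 2 ^ k) ∧
        m * Fintype.card F ≤ (Fintype.card F - 1) ^ 2 + Fintype.card F * (Fintype.card F - 1))) :
    m₁ = -ε ∧ m₂ = ε := by
  set q := (Fintype.card F : ℤ) with hq
  have hq3 : (3 : ℤ) ≤ q := by have := three_le_card hodd; omega
  by_contra hne
  set k := ε - m₂ with hk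
  have hm1 : m₁ = -ε + q * k := by rw [hk]; linear_combination -hv
  have hk0 : k ≠ 0 := fun h0 => hne ⟨by rw [hm1, h0]; ring, by omega⟩
  have hX' : (Nat.card X : ℤ) = q * (q ^ 2 - 1) * (m : ℤ) := by
    rw [hX, card_SS_nat]
    push_cast [Nat.cast_sub (Nat.one_le_pow _ _ Fintype.card_pos)]
    ring
  have hs := sign_sq (ε := -ε) (by omega) hk0 (show (2 : ℤ) ≤ q by omega)
  rcases hm with h | ⟨he, h⟩
  · have hb := col_bound D s hc hodd (a := 0) (b := 0) (Nat.zero_le _) (Nat.zero_le _)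
    have h' : (m : ℤ) * q ≤ (q - 1) ^ 2 := by
      have h2 : ((m * Fintype.card F : ℕ) : ℤ) ≤ (((Fintype.card F - 1) ^ 2 : ℕ) : ℤ) := by exact_mod_cast h
      push_cast [Nat.cast_sub (Fintype.card_pos : 0 < Fintype.card F)] at h2
      linarith
    rw [hm1, hX', ← hq] at hb
    push_cast at hb
    nlinarith [mul_le_mul_of_nonneg_left (h'.trans hs) (show (0 : ℤ) ≤ q ^ 2 - 1 by nlinarith)]
  · have hb := col_bound D s hc hodd (a := 0) (Nat.zero_le _) (card_split_le hodd he)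
    have h' : (m : ℤ) * q ≤ (q - 1) ^ 2 + q * (q - 1) := by
      have h2 : ((m * Fintype.card F : ℕ) : ℤ) ≤
          (((Fintype.card F - 1) ^ 2 + Fintype.card F * (Fintype.card F - 1) : ℕ) : ℤ) := by exact_mod_cast h
      push_cast [Nat.cast_sub (Fintype.card_pos : 0 < Fintype.card F)] at h2
      linarith
    have hk2 : 1 ≤ k ^ 2 := by nlinarith [sq_abs k, Int.one_le_abs hk0]
    rw [hm1, hX', ← hq, show m₂ = ε - k by omega] at hb
    push_cast at hb
    nlinarith [mul_le_mul_of_nonneg_left h' (show (0 : ℤ) ≤ q ^ 2 - 1 by nlinarith),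
      mul_le_mul_of_nonneg_left hs (show (0 : ℤ) ≤ q ^ 2 - 1 by nlinarith),
      mul_le_mul_of_nonneg_left hk2 (show (0 : ℤ) ≤ q * (q + 1) * (q - 1) ^ 2 by nlinarith)]

end PData

end Cfsg.Agent.Invol.AbgOrder
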