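import Cfsg.Agent.Lib.Invol.AbgOrder.CoreAdapt

/-!
# The centraliser of an involution is `GL^ε(2, q)` modulo odd scalars, by field automorphisms

The odd core is cyclic, the derived group of the preimage of `SL(2, q)` is a complement, the field components at
`z` and `w` agree on `C(z, w)`, and the kernel of the field component is an image of `GL^ε(2, q)` by odd scalars.
-/

set_option autoImplicit false
set_option linter.style.haveILetI false

namespace Cfsg.Agent.Invol.AbgOrder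

open Matrix Cfsg.Agent.Classical
open scoped commutatorElement
open Cfsg.Agent.Invol.BrauerL3 (Tbl scal mem_scal)

universe u v w x

variable {G : Type u} [Group G] [Finite G] {F : Type v} [Field F] [Fintype F] {H : Type w} [Group H] {K : Type x}
  [CommGroup K] {Q : ℤ}

namespace CoreSetup

variable (c : CoreSetup G F H K Q)
include c

theorem q_one : c.q 1 = 1 := by
  rw [c.q_mk (by simp)]
  rfl

/-- The preimage of the normal `SL(2, q)`. -/
def L1 : Subgroup G where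
  carrier := {a | a * c.z = c.z * a ∧ c.q a ∈ (c.s.π.comp c.s.M.ι).range}
  one_mem' := ⟨by simp, by rw [c.q_one]; exact one_mem _⟩
  mul_mem' := fun {a b} ha hb => ⟨((show Commute a c.z from ha.1).mul_left hb.1).eq, by
    rw [c.q_mul ha.1 hb.1]; exact mul_mem ha.2 hb.2⟩
  inv_mem' := fun {a} ha => ⟨(show Commute a c.z from ha.1).inv_left.eq, by rw [c.q_inv ha.1]; exact inv_mem ha.2⟩

/-- The complement. -/
def L : Subgroup G := ⁅c.L1, c.L1⁆

/-- The kernel of the field component. -/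
def C0 : Subgroup G where
  carrier := {a | a * c.z = c.z * a ∧ c.fld a = 1}
  one_mem' := ⟨by simp, by show c.s.fldX (c.q 1) = 1; rw [c.q_one, map_one]⟩
  mul_mem' := fun {a b} ha hb => ⟨((show Commute a c.z from ha.1).mul_left hb.1).eq, by
    show c.s.fldX (c.q (a * b)) = 1
    rw [c.q_mul ha.1 hb.1, map_mul, show c.s.fldX (c.q a) = 1 from ha.2, show c.s.fldX (c.q b) = 1 from hb.2, one_mul]⟩
  inv_mem' := fun {a} ha => ⟨(show Commute a c.z from ha.1).inv_left.eq, by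
    show c.s.fldX (c.q a⁻¹) = 1
    rw [c.q_inv ha.1, map_inv, show c.s.fldX (c.q a) = 1 from ha.2, inv_one]⟩

theorem O_le_L1 {y : G} (hy : y ∈ coreAt c.z) : y ∈ c.L1 :=
  ⟨coreAt_comm hy, by rw [(c.mem_O.1 hy).2]; exact one_mem _⟩

theorem O_le_C0 {y : G} (hy : y ∈ coreAt c.z) : y ∈ c.C0 :=
  ⟨coreAt_comm hy, by show c.s.fldX (c.q y) = 1; rw [(c.mem_O.1 hy).2, map_one]⟩

theorem O_cyclic : IsCyclic (coreAt c.z) ∧ Nat.card (coreAt c.z) ∣ (Q - 1).natAbs := by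
  obtain ⟨T, hTz, hTw, hTg, hTO, hTf, -, -⟩ := c.exists_triple
  obtain ⟨t, ht, hto⟩ := c.k.exists_t0
  let Zp := Subgroup.zpowers (c.s.π (c.s.M.ι t))
  have key : ∀ y ∈ coreAt c.z, c.g⁻¹ * y * c.g * c.z = c.z * (c.g⁻¹ * y * c.g) ∧
      c.q (c.g⁻¹ * y * c.g) ∈ Zp := by
    intro y hy
    have hy' : y ∈ T.O T.z := by rw [hTO, hTz]; exact hy
    obtain ⟨h1, h2⟩ := T.mem_M.1 (T.conj_M' (T.O_sub hy'))
    rw [hTz, hTg] at h1
    rw [hTw, hTg] at h2
    refine ⟨h1, c.k.mem_zpowers_of_odd ht (c.comm_u h1 h2) ?_ ?_⟩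
    · have h3 := T.fldw_O hy'
      rwa [Triple.fldw, hTf, hTg] at h3
    · refine (coreAt_odd hy).of_dvd_nat ?_
      rw [c.q_mk h1]
      refine (orderOf_map_dvd (QuotientGroup.mk' _) _).trans (dvd_of_eq ?_)
      rw [Subgroup.orderOf_mk]
      simpa using MulEquiv.orderOf_eq (MulAut.conj c.g⁻¹) y
  let φ : coreAt c.z →* Zp :=
    { toFun := fun y => ⟨c.q (c.g⁻¹ * y.1 * c.g), (key _ y.2).2⟩
      map_one' := Subtype.ext (by simp [c.q_one])
      map_mul' := fun a b => Subtype.ext (by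
        show c.q _ = c.q _ * c.q _
        rw [← c.q_mul (key _ a.2).1 (key _ b.2).1, Subgroup.coe_mul]
        congr 1
        group) }
  have hinj : Function.Injective φ := by
    refine (injective_iff_map_eq_one φ).2 fun y hy => Subtype.ext ?_
    have h1 : c.g⁻¹ * y.1 * c.g ∈ T.O T.z := by
      rw [hTO, hTz]
      exact c.mem_O.2 ⟨(key _ y.2).1, congrArg Subtype.val hy⟩
    rw [← hTg] at h1
    exact T.meet_zw (by rw [hTO, hTz]; exact y.2) (T.O_mem_w.2 h1)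
  refine ⟨isCyclic_of_injective φ hinj, (Subgroup.card_dvd_of_injective φ hinj).trans (dvd_of_eq ?_)⟩
  rw [Nat.card_zpowers, ← hto]
  exact orderOf_injective (c.s.π.comp c.s.M.ι) c.s.π_ι_inj t

theorem O_comm {a b : G} (ha : a ∈ coreAt c.z) (hb : b ∈ coreAt c.z) : a * b = b * a := by
  haveI := c.O_cyclic.1
  exact congrArg Subtype.val (IsCyclic.commGroup.mul_comm (⟨a, ha⟩ : coreAt c.z) ⟨b, hb⟩)

theorem L1_cent {a y : G} (ha : a ∈ c.L1) (hy : y ∈ coreAt c.z) : a * y = y * a := by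
  obtain ⟨t, ht⟩ := ha.2
  obtain ⟨a', ha', haO, hat⟩ := c.exists_lift_cent t
  have ho : a'⁻¹ * a ∈ coreAt c.z := c.mem_O.2 ⟨((show Commute a' c.z from ha').inv_left.mul_left ha.1).eq, by
    rw [c.q_mul (show Commute a' c.z from ha').inv_left.eq ha.1, c.q_inv ha', hat, ← ht]
    exact inv_mul_cancel _⟩
  have := ((show Commute a' y from haO y hy).mul_left (show Commute _ y from c.O_comm ho hy)).eq
  rwa [mul_inv_cancel_left] at this

theorem L_le : c.L ≤ c.L1 := Subgroup.commutator_le_self c.L1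

theorem L_cover (t : Matrix.SpecialLinearGroup (Fin 2) F) : ∃ l ∈ c.L, c.q l = c.s.π (c.s.M.ι t) := by
  have hperf : commutator (Matrix.SpecialLinearGroup (Fin 2) F) = ⊤ :=
    SL_commutator_eq_top fun _ => exists_sq_ne_one_field c.four_le
  have hmem : t ∈ commutator (Matrix.SpecialLinearGroup (Fin 2) F) := hperf ▸ Subgroup.mem_top t
  rw [commutator_eq_closure] at hmem
  refine Subgroup.closure_induction (p := fun y _ => ∃ l ∈ c.L, c.q l = c.s.π (c.s.M.ι y)) ?_ ?_ ?_ ?_ hmem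
  · rintro _ ⟨a, b, rfl⟩
    obtain ⟨a', ha, -, hat⟩ := c.exists_lift_cent a
    obtain ⟨b', hb, -, hbt⟩ := c.exists_lift_cent b
    have hai := (show Commute a' c.z from ha).inv_left
    have hbi := (show Commute b' c.z from hb).inv_left
    refine ⟨⁅a', b'⁆, Subgroup.commutator_mem_commutator ⟨ha, hat ▸ ⟨a, rfl⟩⟩ ⟨hb, hbt ▸ ⟨b, rfl⟩⟩, ?_⟩
    rw [commutatorElement_def, c.q_mul (((show Commute a' c.z from ha).mul_left hb).mul_left hai).eq hbi.eq,
      c.q_mul ((show Commute a' c.z from ha).mul_left hb).eq hai.eq, c.q_mul ha hb, c.q_inv ha, c.q_inv hb, hat, hbt,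
      commutatorElement_def]
    simp only [map_mul, map_inv]
  · exact ⟨1, one_mem _, by rw [c.q_one, map_one, map_one]⟩
  · rintro _ _ _ _ ⟨a, ha, hat⟩ ⟨b, hb, hbt⟩
    exact ⟨a * b, mul_mem ha hb, by rw [c.q_mul (c.L_le ha).1 (c.L_le hb).1, hat, hbt, map_mul, map_mul]⟩
  · rintro _ _ ⟨a, ha, hat⟩
    exact ⟨a⁻¹, inv_mem ha, by rw [c.q_inv (c.L_le ha).1, hat, map_inv, map_inv]⟩

theorem L1_conj {v a : G} (hv : v * c.z = c.z * v) (ha : a ∈ c.L1) : v * a * v⁻¹ ∈ c.L1 := by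
  refine ⟨c.conj_comm hv ha.1, ?_⟩
  obtain ⟨t, ht⟩ := ha.2
  rw [c.q_conj hv ha.1, ← ht]
  exact ⟨_, (c.s.conj_ι _ t).symm⟩

theorem L_conj {v a : G} (hv : v * c.z = c.z * v) (ha : a ∈ c.L) : v * a * v⁻¹ ∈ c.L := by
  have hle : c.L1.map (MulAut.conj v).toMonoidHom ≤ c.L1 := by
    rintro _ ⟨a, ha, rfl⟩
    exact c.L1_conj hv ha
  have h1 : v * a * v⁻¹ ∈ c.L.map (MulAut.conj v).toMonoidHom := ⟨a, ha, rfl⟩
  rw [L, Subgroup.map_commutator] at h1
  exact Subgroup.commutator_mono hle hle h1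

/-- The core meets the derived group of the preimage of `SL(2, q)` trivially. -/
theorem L_O {a : G} (haL : a ∈ c.L) (haO : a ∈ coreAt c.z) : a = 1 := by
  obtain ⟨t, -, hto⟩ := c.k.exists_t0
  set ι' : Matrix.SpecialLinearGroup (Fin 2) F ≃* (c.s.π.comp c.s.M.ι).range :=
    MonoidHom.ofInjective c.s.π_ι_inj
  let φ : c.L1 →* Matrix.SpecialLinearGroup (Fin 2) F := ι'.symm.toMonoidHom.comp
    { toFun := fun e => ⟨c.q e.1, e.2.2⟩
      map_one' := Subtype.ext c.q_one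
      map_mul' := fun e f => Subtype.ext (c.q_mul e.2.1 f.2.1) }
  have hφ : ∀ e : c.L1, c.s.π (c.s.M.ι (φ e)) = c.q e.1 := fun e =>
    congrArg Subtype.val (ι'.apply_symm_apply (⟨c.q e.1, e.2.2⟩ : (c.s.π.comp c.s.M.ι).range))
  have hsurj : Function.Surjective φ := fun t => by
    obtain ⟨l, hl, hlt⟩ := c.L_cover t
    exact ⟨⟨l, c.L_le hl⟩, c.s.π_ι_inj ((hφ _).trans hlt)⟩
  set P := (Subgroup.zpowers t).comap φ with hP
  have hker : ∀ e : c.L1, φ e = 1 → (e : G) ∈ coreAt c.z := fun e he =>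
    c.mem_O.2 ⟨e.2.1, by rw [← hφ, he, map_one, map_one]⟩
  have hPc : ∀ a ∈ P, ∀ b ∈ P, a * b = b * a := by
    intro a ha b hb
    obtain ⟨τ₀, hτ₀⟩ := hsurj t
    obtain ⟨i, hi⟩ := Subgroup.mem_zpowers_iff.1 ha
    obtain ⟨j, hj⟩ := Subgroup.mem_zpowers_iff.1 hb
    have ha' := hker ((τ₀ ^ i)⁻¹ * a) (by rw [map_mul, map_inv, map_zpow, hτ₀, hi, inv_mul_cancel])
    have hb' := hker ((τ₀ ^ j)⁻¹ * b) (by rw [map_mul, map_inv, map_zpow, hτ₀, hj, inv_mul_cancel])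
    set o := (τ₀ ^ i)⁻¹ * a
    set o' := (τ₀ ^ j)⁻¹ * b
    have hc : ∀ e : c.L1, Commute e o ∧ Commute e o' := fun e =>
      ⟨Subtype.ext (c.L1_cent e.2 ha'), Subtype.ext (c.L1_cent e.2 hb')⟩
    rw [show a = τ₀ ^ i * o by rw [mul_inv_cancel_left], show b = τ₀ ^ j * o' by rw [mul_inv_cancel_left]]
    exact ((((Commute.refl τ₀).zpow_zpow i j).mul_right (hc _).2).mul_left
      (((hc _).1.symm).mul_right (hc o).2)).eq
  have hidx : P.index * (Q - 1).natAbs = Q.natAbs * (Q + 1).natAbs * (Q - 1).natAbs := by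
    rw [hP, Subgroup.index_comap_of_surjective _ hsurj]
    have h := (Subgroup.zpowers t).index_mul_card
    rw [Nat.card_zpowers, hto, Fus.PSLTwo.natCard_SL_two, ← c.k.hQ] at h
    rw [h]
    have hb := c.s.M.T.big
    rcases le_or_gt 0 Q with h0 | h0
    · rw [show (Q - 1).natAbs = Q.natAbs - 1 by omega, show (Q + 1).natAbs = Q.natAbs + 1 by omega]
      ring
    · rw [show (Q - 1).natAbs = Q.natAbs + 1 by omega, show (Q + 1).natAbs = Q.natAbs - 1 by omega]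
      ring
  have hne : 0 < (Q - 1).natAbs := by have := c.s.M.T.ne_one; omega
  have hidx' := Nat.eq_of_mul_eq_mul_right hne hidx
  set o : c.L1 := ⟨a, c.L_le haL⟩ with ho
  have ho' : o ∈ commutator c.L1 := by
    have h1 : a ∈ (commutator c.L1).map c.L1.subtype := by
      rw [Subgroup.map_subtype_commutator]; exact haL
    obtain ⟨o₂, ho₂, heq⟩ := h1
    rwa [show o₂ = o from Subtype.ext heq] at ho₂
  refine congrArg Subtype.val (eq_one_of_transfer hPc (fun e => Subtype.ext (c.L1_cent e.2 haO)) ?_ ho')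
  rw [hidx', show orderOf o = orderOf a from (Subgroup.orderOf_coe o).symm]
  have hd : orderOf a ∣ (Q - 1).natAbs := (Subgroup.orderOf_dvd_natCard _ haO).trans c.O_cyclic.2
  have hdz : (orderOf a : ℤ) ∣ Q - 1 := Int.natCast_dvd.2 hd
  have h2 : IsCoprime (orderOf a : ℤ) 2 := by
    rw [show (2 : ℤ) = ((2 : ℕ) : ℤ) from rfl, Int.isCoprime_iff_gcd_eq_one, Int.gcd_natCast_natCast]
    exact Nat.coprime_two_right.2 (coreAt_odd haO)
  obtain ⟨r, hr⟩ := hdz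
  have hQ : IsCoprime (orderOf a : ℤ) Q := ⟨-r, 1, by linear_combination hr⟩
  have hQ1 : IsCoprime (orderOf a : ℤ) (Q + 1) := by
    rw [show Q + 1 = 2 + (orderOf a : ℤ) * r by linear_combination hr]
    exact h2.add_mul_left_right r
  have h3 := hQ.mul_right hQ1
  rw [Int.isCoprime_iff_gcd_eq_one, Int.gcd_def, Int.natAbs_natCast, Int.natAbs_mul] at h3
  exact h3

/-- The field components at `z` and at `w` agree on `C(z, w)`. -/
theorem fld_agree {v : G} (hv : v * c.z = c.z * v) (hvw : v * c.w = c.w * v) :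
    c.fld (c.g⁻¹ * v * c.g) = c.fld v := by
  obtain ⟨T, hTz, hTw, hTg, hTO, hTf, hTx, hTs⟩ := c.exists_triple
  obtain ⟨t, ht, -⟩ := c.k.exists_t0
  obtain ⟨l, hl, hlt⟩ := c.L_cover t⁻¹
  have hlz := (c.L_le hl).1
  have hxz : T.x * c.z = c.z * T.x := hTz ▸ T.xz
  have hsz : T.s * c.z = c.z * T.s := hTz ▸ T.sz
  have hli : l⁻¹ * c.z = c.z * l⁻¹ := (show Commute l c.z from hlz).inv_left.eq
  have htt : T.t * c.z = c.z * T.t := hTz ▸ (T.mem_M.1 T.t_M).1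
  have h := T.fldw_eq (L := c.L) (fun u hu a ha => c.L_conj (hTz ▸ (T.mem_M.1 hu).1) ha)
    (fun a ha => c.L_conj hsz ha) (fun a ha ha' => c.L_O ha (by rw [hTO, hTz] at ha'; exact ha')) hl (by
      rw [hTO, hTz]
      refine c.mem_O.2 ⟨((show Commute l⁻¹ c.z from hli).mul_left htt).eq, ?_⟩
      rw [c.q_mul hli htt, c.q_inv hlz, hlt, Triple.t,
        c.q_mul (c.conj_comm hsz hxz) (show Commute T.x c.z from hxz).inv_left.eq, c.q_inv hxz, c.q_conj hsz hxz,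
        hTx, hTs, map_inv, map_inv, inv_inv, ht]
      simp only [← map_inv, ← map_mul, Prod.inv_mk, Prod.mk_mul_mk, one_mul, inv_one, mul_one, mul_inv_cancel,
        inv_mul_cancel]
      exact (congrArg _ (map_one _)).trans (map_one _))
    (v := v) (T.mem_M.2 ⟨hTz ▸ hv, hTw ▸ hvw⟩)
  rwa [Triple.fldw, hTf, hTg] at h

/-- The torus part of `C(z, w)` is abelian. -/
theorem M0_comm {a b : G} (ha : a ∈ c.C0) (haw : a * c.w = c.w * a) (hb : b ∈ c.C0) (hbw : b * c.w = c.w * b) :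
    a * b = b * a := by
  obtain ⟨T, hTz, hTw, hTg, hTO, hTf, -, -⟩ := c.exists_triple
  refine T.torus_abelian (fun v hv => ?_) (T.mem_M.2 ⟨hTz ▸ ha.1, hTw ▸ haw⟩) (hTf ▸ ha.2)
    (T.mem_M.2 ⟨hTz ▸ hb.1, hTw ▸ hbw⟩) (hTf ▸ hb.2)
  obtain ⟨h1, h2⟩ := T.mem_M.1 hv
  rw [Triple.fldw, hTf, hTg]
  exact c.fld_agree (hTz ▸ h1) (hTw ▸ h2)

/-- `C₀ = L M₀`. -/
theorem C0_decomp {a : G} (ha : a ∈ c.C0) :
    ∃ l ∈ c.L, ∃ m ∈ c.C0, m * c.w = c.w * m ∧ a = l * m := by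
  obtain ⟨h, hh⟩ := c.s.mem_range_of_fld (show c.s.fldX (c.q a) = 1 from ha.2)
  obtain ⟨t, ht⟩ := c.s.M.exists_of_dt (h := h * (c.s.M.T.D (c.s.M.T.dt h, 1))⁻¹) (by
    rw [map_mul, map_inv, c.s.M.T.dt_D, mul_one, mul_inv_cancel])
  obtain ⟨l, hl, hlt⟩ := c.L_cover t
  have hlz := (c.L_le hl).1
  have hli : l⁻¹ * c.z = c.z * l⁻¹ := (show Commute l c.z from hlz).inv_left.eq
  have hq : c.q (l⁻¹ * a) = c.s.π (c.s.M.T.D (c.s.M.T.dt h, 1)) := by
    rw [c.q_mul hli ha.1, c.q_inv hlz, hlt, ← hh, ← ht, ← map_inv, ← map_mul, _root_.mul_inv_rev, inv_inv,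
      inv_mul_cancel_right]
  have hm : l⁻¹ * a ∈ c.C0 := ⟨((show Commute l⁻¹ c.z from hli).mul_left ha.1).eq, by
    show c.s.fldX _ = 1
    rw [hq, c.s.fldX_π]⟩
  exact ⟨l, hl, _, hm, c.exact_w hm.1 (hq ▸ c.k.commute_u _), by rw [mul_inv_cancel_left]⟩

theorem L_le_C0 : c.L ≤ c.C0 := fun a ha => by
  obtain ⟨t, ht⟩ := (c.L_le ha).2
  exact ⟨(c.L_le ha).1, by
    show c.s.fldX (c.q a) = 1
    rw [← ht]
    exact c.s.fldX_π _⟩

/-- The core is central in `C₀`. -/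
theorem C0_cent {a y : G} (ha : a ∈ c.C0) (hy : y ∈ coreAt c.z) : a * y = y * a := by
  obtain ⟨l, hl, m, hm, hmw, rfl⟩ := c.C0_decomp ha
  exact ((show Commute l y from c.L1_cent (c.L_le hl) hy).mul_left
    (c.M0_comm hm hmw (c.O_le_C0 hy) (c.w_O y hy).symm)).eq

/-- The derived group of `C₀` lies in `L`. -/
theorem C0_commutator {a b : G} (ha : a ∈ c.C0) (hb : b ∈ c.C0) : a * b * a⁻¹ * b⁻¹ ∈ c.L := by
  obtain ⟨l, hl, m, hm, hmw, rfl⟩ := c.C0_decomp ha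
  obtain ⟨l', hl', m', hm', hmw', rfl⟩ := c.C0_decomp hb
  have key : l * m * (l' * m') * (l * m)⁻¹ * (l' * m')⁻¹ =
      l * (m * l' * m⁻¹) * (m * m' * m⁻¹ * (l⁻¹ * m'⁻¹)) * l'⁻¹ := by group
  rw [key, show m * m' * m⁻¹ = m' by rw [c.M0_comm hm hmw hm' hmw', mul_inv_cancel_right], ← mul_assoc m']
  exact mul_mem (mul_mem (mul_mem hl (c.L_conj hm.1 hl')) (c.L_conj hm'.1 (inv_mem hl))) (inv_mem hl')

/-- The core is a direct factor of `C₀`. -/
theorem exists_retraction : ∃ ρ : c.C0 →* coreAt c.z, ∀ a : c.C0, ∀ ha : (a : G) ∈ coreAt c.z, ρ a = ⟨a, ha⟩ := by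
  haveI hO := c.O_cyclic.1
  obtain ⟨mm, b, hb, hm⟩ := exists_two_part (n := (Q - 1).natAbs) (by have := c.s.M.T.ne_one; omega)
  obtain ⟨y₀, hy₀⟩ := hO.exists_generator
  obtain ⟨k, hk⟩ := exists_pow_eq_self_of_coprime (n := 2 ^ mm) (x := y₀)
    ((Nat.coprime_two_left.2 (Subgroup.orderOf_coe y₀ ▸ coreAt_odd y₀.2)).pow_left _)
  have hr : ∀ y : coreAt c.z, y ^ (2 ^ mm * k) = y := fun y => by
    obtain ⟨i, rfl⟩ := mem_powers_iff_mem_zpowers.2 (hy₀ y)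
    show (y₀ ^ i) ^ (2 ^ mm * k) = y₀ ^ i
    rw [← pow_mul, mul_comm i, pow_mul, pow_mul y₀, hk]
  let N := c.L.subgroupOf c.C0
  haveI : N.Normal := ⟨fun a ha v => c.L_conj v.2.1 ha⟩
  have hcomm : ∀ p q : c.C0 ⧸ N, p * q = q * p := by
    intro p q
    obtain ⟨a, rfl⟩ := QuotientGroup.mk_surjective p
    obtain ⟨a', rfl⟩ := QuotientGroup.mk_surjective q
    rw [← QuotientGroup.mk_mul, ← QuotientGroup.mk_mul, QuotientGroup.eq]
    show ((a * a')⁻¹ * (a' * a) : c.C0).1 ∈ c.L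
    have h := c.C0_commutator (inv_mem a'.2) (inv_mem a.2)
    simpa [mul_assoc] using h
  let f : coreAt c.z →* c.C0 ⧸ N :=
    (QuotientGroup.mk' N).comp ((coreAt c.z).subtype.codRestrict c.C0 fun y => c.O_le_C0 y.2)
  have hf : Function.Injective f := (injective_iff_map_eq_one f).2 fun y hy =>
    Subtype.ext (c.L_O (show (⟨y.1, c.O_le_C0 y.2⟩ : c.C0) ∈ N from (QuotientGroup.eq_one_iff _).1 hy) y.2)
  let pw : c.C0 ⧸ N →* c.C0 ⧸ N :=
    { toFun := fun p => p ^ (2 ^ mm * k)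
      map_one' := one_pow _
      map_mul' := fun p q => (show Commute p q from hcomm p q).mul_pow _ }
  have hpw : ∀ a : c.C0, pw (QuotientGroup.mk' N a) ∈ f.range := by
    intro a
    obtain ⟨h, hh⟩ := c.s.mem_range_of_fld (show c.s.fldX (c.q a.1) = 1 from a.2.2)
    obtain ⟨t, ht⟩ := c.k.pow_two_part_mem hm hb h
    obtain ⟨l, hl, hlt⟩ := c.L_cover t
    have hli : l⁻¹ * c.z = c.z * l⁻¹ := (show Commute l c.z from (c.L_le hl).1).inv_left.eq
    have haz := (show Commute a.1 c.z from a.2.1).pow_left (2 ^ mm)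
    have hy : l⁻¹ * a.1 ^ 2 ^ mm ∈ coreAt c.z := c.mem_O.2 ⟨((show Commute l⁻¹ c.z from hli).mul_left haz).eq, by
      rw [c.q_mul hli haz.eq, c.q_inv (c.L_le hl).1, c.q_pow a.2.1, hlt, ← hh, ht, inv_mul_cancel]⟩
    show QuotientGroup.mk' N a ^ (2 ^ mm * k) ∈ f.range
    rw [pow_mul, ← map_pow]
    refine pow_mem (MonoidHom.mem_range.2 ⟨⟨_, hy⟩, ?_⟩) k
    refine QuotientGroup.eq.2 ?_
    show (l⁻¹ * a.1 ^ 2 ^ mm)⁻¹ * (a.1 ^ 2 ^ mm) ∈ c.L
    rw [_root_.mul_inv_rev, inv_inv, show (a.1 ^ 2 ^ mm)⁻¹ * l * a.1 ^ 2 ^ mm =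
      (a.1 ^ 2 ^ mm)⁻¹ * l * ((a.1 ^ 2 ^ mm)⁻¹)⁻¹ by rw [inv_inv]]
    exact c.L_conj haz.inv_left.eq hl
  let g : c.C0 →* f.range := (pw.comp (QuotientGroup.mk' N)).codRestrict _ hpw
  refine ⟨(MonoidHom.ofInjective hf).symm.toMonoidHom.comp g, fun a ha => ?_⟩
  apply (MonoidHom.ofInjective hf).injective
  show (MonoidHom.ofInjective hf) ((MonoidHom.ofInjective hf).symm (g a)) = _
  rw [MulEquiv.apply_symm_apply]
  refine Subtype.ext ?_
  show f ⟨a, ha⟩ ^ (2 ^ mm * k) = f ⟨a, ha⟩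
  rw [← map_pow, hr]

/-- `C₀` is `H` modulo odd scalars. -/
theorem exists_gl : ∃ φ : H →* c.C0, Function.Surjective φ ∧ φ.ker ≤ Subgroup.center H ∧
    Odd (Nat.card φ.ker) ∧ ∀ h, c.q (φ h) = c.s.π h := by
  haveI hO := c.O_cyclic.1
  haveI := c.s.M.finite
  obtain ⟨ρ, hρ⟩ := c.exists_retraction
  obtain ⟨mm, b, hb, hm⟩ := exists_two_part (n := (Q - 1).natAbs) (by have := c.s.M.T.ne_one; omega)
  obtain ⟨y₀, hy₀⟩ := hO.exists_generator
  have hgen : ∀ a : scal K Q, a ∈ Subgroup.zpowers c.k.g := fun a => by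
    obtain ⟨i, rfl⟩ := c.k.g_gen a
    exact Subgroup.npow_mem_zpowers _ _
  let χ : scal K Q →* coreAt c.z := monoidHomOfForallMemZpowers hgen (g' := y₀) (by
    rw [c.k.ord_g]
    exact (orderOf_dvd_natCard y₀).trans c.O_cyclic.2)
  have hχ : Function.Surjective χ := fun y => by
    obtain ⟨i, rfl⟩ := Subgroup.mem_zpowers_iff.1 (hy₀ y)
    exact ⟨c.k.g ^ i, by rw [map_zpow, monoidHomOfForallMemZpowers_apply_gen]⟩
  let q' : c.C0 →* ↥(Subgroup.centralizer ({c.z} : Set G)) ⧸ Cfsg.oddCore ↥(Subgroup.centralizer ({c.z} : Set G)) :=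
    { toFun := fun a => c.q a.1
      map_one' := c.q_one
      map_mul' := fun a b => c.q_mul a.2.1 b.2.1 }
  let e₀ : c.C0 →* c.s.π.range × coreAt c.z :=
    (q'.codRestrict c.s.π.range fun a => c.s.mem_range_of_fld a.2.2).prod ρ
  have hinj : Function.Injective e₀ := (injective_iff_map_eq_one e₀).2 fun a ha => by
    have h1 : c.q a.1 = 1 := congrArg Subtype.val (congrArg Prod.fst ha)
    have haO : a.1 ∈ coreAt c.z := c.mem_O.2 ⟨a.2.1, h1⟩
    have h2 : ρ a = 1 := congrArg Prod.snd ha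
    rw [hρ a haO] at h2
    exact Subtype.ext (congrArg Subtype.val h2 :)
  have hsurj : Function.Surjective e₀ := by
    rintro ⟨⟨_, h, rfl⟩, y⟩
    obtain ⟨a, ha, hat⟩ := c.exists_lift (c.s.π h)
    have ha0 : a ∈ c.C0 := ⟨ha, by show c.s.fldX (c.q a) = 1; rw [hat, c.s.fldX_π]⟩
    set o := (ρ ⟨a, ha0⟩)⁻¹ * y
    have ho0 := c.O_le_C0 o.2
    refine ⟨⟨a, ha0⟩ * ⟨o.1, ho0⟩, Prod.ext (Subtype.ext ?_) ?_⟩
    · show c.q (a * o.1) = c.s.π h
      rw [c.q_mul ha (coreAt_comm o.2), hat, (c.mem_O.1 o.2).2, mul_one]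
    · show ρ _ = y
      rw [map_mul, hρ ⟨o.1, ho0⟩ o.2]
      show ρ ⟨a, ha0⟩ * o = y
      rw [mul_inv_cancel_left]
  let e := MulEquiv.ofBijective e₀ ⟨hinj, hsurj⟩
  let φ : H →* c.C0 := e.symm.toMonoidHom.comp (c.s.π.rangeRestrict.prod (χ.comp c.s.M.T.dt))
  have hφ : ∀ h, e₀ (φ h) = (c.s.π.rangeRestrict h, χ (c.s.M.T.dt h)) := fun h => e.apply_symm_apply _
  have hqφ : ∀ h, c.q (φ h) = c.s.π h := fun h =>
    congrArg Subtype.val (congrArg Prod.fst (hφ h))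
  have hkle : φ.ker ≤ c.s.π.ker := fun h hh => by
    rw [MonoidHom.mem_ker, ← hqφ, MonoidHom.mem_ker.1 hh]
    exact c.q_one
  refine ⟨φ, fun a => ?_, hkle.trans c.s.ker_central, c.s.ker_odd.of_dvd_nat (Subgroup.card_dvd_of_le hkle), hqφ⟩
  obtain ⟨h₀, hh₀⟩ := (e₀ a).1.2
  set y := (e₀ a).2 * (χ (c.s.M.T.dt h₀))⁻¹
  obtain ⟨r, hr⟩ := exists_pow_eq_self_of_coprime (n := 2 ^ (mm + 1)) (x := y)
    ((Nat.coprime_two_left.2 (Subgroup.orderOf_coe y ▸ coreAt_odd y.2)).pow_left _)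
  obtain ⟨x, hx⟩ := hχ (y ^ r)
  set d := x ^ 2 ^ mm
  have hd : c.s.π (c.s.M.T.D (d, d)) = 1 := by
    refine c.s.ker_all _ (c.s.M.T.D_center d) (hb.of_dvd_nat (orderOf_dvd_of_pow_eq_one ?_))
    rw [← map_pow, Prod.pow_mk, ← pow_mul, ← hm]
    have hx1 := congrArg Prod.fst (c.k.pow_m (x, 1))
    rw [show x ^ (Q - 1).natAbs = 1 from hx1]
    exact map_one _
  refine ⟨h₀ * c.s.M.T.D (d, d), hinj ?_⟩
  rw [hφ]
  refine Prod.ext (Subtype.ext ?_) ?_
  · show c.s.π (h₀ * c.s.M.T.D (d, d)) = _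
    rw [map_mul, hd, mul_one, hh₀]
  · show χ (c.s.M.T.dt (h₀ * c.s.M.T.D (d, d))) = _
    rw [map_mul, map_mul, c.s.M.T.dt_D, ← pow_add, ← two_mul, ← pow_succ', map_pow, hx, ← pow_mul, mul_comm r,
      pow_mul, hr]
    haveI : CommGroup (coreAt c.z) := IsCyclic.commGroup
    show _ * ((e₀ a).2 * (χ (c.s.M.T.dt h₀))⁻¹) = (e₀ a).2
    exact Subtype.ext (by
      rw [Subgroup.coe_mul, c.O_comm (χ (c.s.M.T.dt h₀)).2 ((e₀ a).2 * (χ (c.s.M.T.dt h₀))⁻¹).2]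
      simp)

end CoreSetup

end Cfsg.Agent.Invol.AbgOrder
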