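import Cfsg.Agent.Lib.Invol.AbgOrder.CoreCoord
import Cfsg.Agent.Lib.Invol.AbgOrder.CorePoints

/-!
# Bounds on the order of the centraliser modulo its core

The index of `SL(2, q)` is the field part times the 2-part of `Q - 1`; it is small against `q`.  For a field of
five or nine elements the torus image has no element of odd order.
-/

set_option autoImplicit false
set_option linter.style.haveILetI false

namespace Cfsg.Agent.Invol.AbgOrder

open Matrix
open Cfsg.Agent.Invol.BrauerL3 (scal)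

universe u v w x

theorem add_one_mul_le (x : ℕ) (hx : 3 ≤ x) : ∀ n : ℕ, (x + 1) * (n + 1) ≤ x ^ (n + 1) + 1
  | 0 => by simp
  | n + 1 => by
    have h := add_one_mul_le x hx n
    have h3 : 3 * ((x + 1) * (n + 1)) ≤ x * ((x + 1) * (n + 1)) := Nat.mul_le_mul_right _ hx
    have h4 := Nat.mul_le_mul_left x h
    rw [pow_succ _ (n + 1), mul_comm (x ^ (n + 1)) x]
    nlinarith

/-- The 2-part of `x ^ f - 1` for odd `f` divides `x - 1`. -/
theorem two_part_dvd {x : ℤ} (hx : Odd x) {f : ℕ} (hf : Odd f) {m : ℕ} (h : (2 : ℤ) ^ m ∣ x ^ f - 1) :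
    (2 : ℤ) ^ m ∣ x - 1 := by
  rw [← geom_sum_mul] at h
  refine IsCoprime.dvd_of_dvd_mul_left ?_ h
  refine IsCoprime.pow_left ((Int.prime_two.coprime_iff_not_dvd).2 fun h2 => ?_)
  have h1 : ((∑ i ∈ Finset.range f, x ^ i : ℤ) : ZMod 2) = 0 :=
    (ZMod.intCast_zmod_eq_zero_iff_dvd _ 2).2 (by exact_mod_cast h2)
  have hx1 : (x : ZMod 2) = 1 := by
    obtain ⟨r, rfl⟩ := hx
    push_cast
    rw [show (2 : ZMod 2) = 0 from rfl, zero_mul, zero_add]
  obtain ⟨r, rfl⟩ := hf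
  push_cast at h1
  rw [Finset.sum_congr rfl (fun i _ => by rw [hx1, one_pow]), Finset.sum_const, Finset.card_range, nsmul_eq_mul,
    mul_one] at h1
  push_cast at h1
  rw [show (2 : ZMod 2) = 0 from rfl, zero_mul, zero_add] at h1
  exact one_ne_zero h1

variable {X : Type u} [Group X] [Finite X] {F : Type v} [Field F] [Fintype F] {H : Type w} [Group H] {K : Type x}
  [CommGroup K] {Q : ℤ} {s : Shape0 X F H K Q}

namespace Frame

variable (k : Frame s)
include k

/-- The index of `SL(2, q)`. -/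
theorem card_X {mm b : ℕ} (hb : Odd b) (hN : (Q - 1).natAbs = 2 ^ mm * b) :
    Nat.card X = Nat.card (Matrix.SpecialLinearGroup (Fin 2) F) * (orderOf s.f * 2 ^ mm) := by
  haveI := s.M.finite
  haveI := Fintype.ofFinite H
  haveI := s.M.T.finiteK
  have hkc : ∀ h ∈ s.π.ker, ∃ a, h = s.M.T.D (a, a) ∧ Odd (orderOf a) := fun h hh =>
    s.M.T.ker_eq s.π s.ker_central s.ker_odd hh
  let φ : s.π.ker →* scal K Q := s.M.T.dt.comp s.π.ker.subtype
  have hφ : Function.Injective φ := (injective_iff_map_eq_one φ).2 fun h hh => Subtype.ext (by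
    obtain ⟨a, ha, hao⟩ := hkc _ h.2
    have h1 : s.M.T.dt (h : H) = 1 := hh
    rw [ha, s.M.T.dt_D] at h1
    rw [ha, eq_one_of_sq_odd h1 hao]
    exact map_one _)
  have hd : Nat.card s.π.ker ∣ 2 ^ mm * b := by
    rw [← hN, ← s.M.T.cardS]
    exact Subgroup.card_dvd_of_injective φ hφ
  have hd' : Nat.card s.π.ker ∣ b :=
    ((Nat.coprime_two_right.2 s.ker_odd).pow_right mm).dvd_of_dvd_mul_left hd
  have hd'' : b ∣ Nat.card s.π.ker := by
    set y := k.g ^ 2 ^ mm with hy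
    have hord : orderOf y = b := by
      rw [hy, orderOf_pow' _ (pow_ne_zero _ two_ne_zero), k.ord_g, hN, Nat.gcd_eq_right (dvd_mul_right _ _),
        Nat.mul_div_cancel_left _ (pow_pos two_pos _)]
    have hmem : s.M.T.D (y, y) ∈ s.π.ker := MonoidHom.mem_ker.2 (s.ker_all _ (s.M.T.D_center y) (by
      rw [orderOf_injective s.M.T.D s.M.T.D_inj, Prod.orderOf_mk, Nat.lcm_self, hord]
      exact hb))
    have h1 := s.π.ker.orderOf_dvd_natCard hmem
    rwa [orderOf_injective s.M.T.D s.M.T.D_inj, Prod.orderOf_mk, Nat.lcm_self, hord] at h1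
  have hker := Nat.dvd_antisymm hd' hd''
  have h1 := s.card_range
  rw [hker, s.M.card, s.M.T.cardS, hN, ← mul_assoc] at h1
  rw [s.card_eq, Nat.eq_of_mul_eq_mul_right hb.pos h1]
  ring

/-- The bounds used for the columns. -/
theorem exists_bound (hQ : Q = (Fintype.card F : ℤ) ∨ Q = -(Fintype.card F : ℤ)) :
    ∃ m, Nat.card X = Nat.card (Matrix.SpecialLinearGroup (Fin 2) F) * m ∧ m ≤ Fintype.card F + 1 ∧
      (Q % 4 = 3 → 2 * m ≤ Fintype.card F + 1) ∧ (Q = (Fintype.card F : ℤ) → m ≤ Fintype.card F) := by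
  obtain ⟨mm, b, hb, hN⟩ := exists_two_part (n := (Q - 1).natAbs) (by have := s.M.T.ne_one; omega)
  refine ⟨_, k.card_X hb hN, ?_⟩
  obtain ⟨p, hp⟩ := CharP.exists F
  obtain ⟨n, hpp, hn⟩ := FiniteField.card F p
  haveI := Fact.mk hpp
  obtain ⟨⟨n', hn'⟩, hfo⟩ := s.orderOf_f_dvd (n := n) hn
  set f := orderOf s.f
  have hodd : Odd (Fintype.card F) := by rw [← k.hQ]; exact Int.natAbs_odd.2 s.M.T.odd
  set x0 := p ^ n' with hx0
  have hq : x0 ^ f = Fintype.card F := by rw [hn, hn', hx0, ← pow_mul, mul_comm]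
  have hx0o : Odd x0 := by
    rw [← hq] at hodd
    exact (Nat.odd_pow_iff hfo.pos.ne').1 hodd
  have hx03 : 3 ≤ x0 := by
    have h2 := hpp.two_le
    have hn0 : n' ≠ 0 := fun e => n.ne_zero (by rw [hn', e, mul_zero])
    have := Nat.le_self_pow hn0 p
    obtain ⟨r, hr⟩ := hx0o
    omega
  obtain ⟨x, hxQ, hxo, hxa⟩ : ∃ x : ℤ, x ^ f = Q ∧ Odd x ∧ x.natAbs = x0 := by
    rcases hQ with e | e
    · exact ⟨x0, by rw [e, ← hq]; push_cast; rfl, by exact_mod_cast hx0o, by simp⟩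
    · exact ⟨-x0, by rw [e, ← hq, hfo.neg_pow]; push_cast; rfl, Odd.neg (by exact_mod_cast hx0o), by simp⟩
  have h2m : (2 : ℤ) ^ mm ∣ x - 1 := by
    refine two_part_dvd hxo hfo ?_
    rw [hxQ]
    exact Int.dvd_natAbs.1 ⟨(b : ℤ), by exact_mod_cast hN⟩
  have hne : (x - 1).natAbs ≠ 0 := by omega
  have hle : 2 ^ mm ≤ (x - 1).natAbs := Nat.le_of_dvd (Nat.pos_of_ne_zero hne) (by
    have := Int.natAbs_dvd_natAbs.2 h2m
    rwa [Int.natAbs_pow] at this)
  obtain ⟨f', hf'⟩ : ∃ f', f = f' + 1 := ⟨f - 1, by have := hfo.pos; omega⟩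
  have hkey := add_one_mul_le x0 hx03 f'
  rw [← hf', hq] at hkey
  have hle1 : 2 ^ mm ≤ x0 + 1 := by omega
  refine ⟨?_, fun h4 => ?_, fun he => ?_⟩
  · have := Nat.mul_le_mul_right f hle1
    linarith [mul_comm f (2 ^ mm)]
  · have hmm : 2 ^ mm = 2 := by
      have h2 : 2 ∣ (Q - 1).natAbs ∧ ¬ 4 ∣ (Q - 1).natAbs := by omega
      rcases mm with _ | _ | mm
      · rw [pow_zero, one_mul] at hN
        exact absurd (hN ▸ h2.1) (by obtain ⟨r, rfl⟩ := hb; omega)
      · rfl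
      · exact absurd ⟨2 ^ mm * b, by rw [hN]; ring⟩ h2.2
    rw [hmm]
    have := Nat.mul_le_mul_right f (show 4 ≤ x0 + 1 by omega)
    omega
  · have hxp : x = x0 := by
      rcases Int.natAbs_eq x with e | e
      · omega
      · exfalso
        have h0 : x ^ f < 0 := hfo.pow_neg (by omega)
        rw [hxQ, he] at h0
        omega
    have hle2 : 2 ^ mm + 2 ≤ x0 + 1 := by omega
    have := Nat.mul_le_mul_right f hle2
    have := hfo.pos
    linarith [mul_comm f (2 ^ mm)]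

/-- Without odd part in `Q - 1` the centraliser of the involution has no odd element in the kernel of the field
component. -/
theorem eq_one_of_odd (hQ : ∃ j, (Q - 1).natAbs = 2 ^ j) {a : X} (ha : Commute a k.u) (hf : s.fldX a = 1)
    (ho : Odd (orderOf a)) : a = 1 := by
  obtain ⟨t, ht, hto⟩ := k.exists_t0
  obtain ⟨i, hi⟩ := Subgroup.mem_zpowers_iff.1 (k.mem_zpowers_of_odd ht ha hf ho)
  obtain ⟨j, hj⟩ := hQ
  refine orderOf_eq_one_iff.1 (Nat.eq_one_of_dvd_coprimes (Nat.coprime_two_right.2 ho |>.pow_right j) dvd_rfl ?_)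
  rw [← hj, ← hto, ← orderOf_injective (s.π.comp s.M.ι) s.π_ι_inj t]
  exact orderOf_dvd_of_mem_zpowers (k.mem_zpowers_of_odd ht ha hf ho)

end Frame

end Cfsg.Agent.Invol.AbgOrder
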