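import Cfsg.Agent.Lib.Invol.AbgOrder.FinalPre
import Cfsg.Agent.Lib.Invol.AbgOrder.FinalCard
import Cfsg.Agent.Lib.Invol.AbgOrder.BudgetAdapt
import Cfsg.Agent.Lib.Invol.AbgOrder.BudgetEq
import Cfsg.Agent.Lib.Invol.AbgOrder.CoreGL
import Cfsg.Agent.Lib.Invol.AbgOrder.ColValue
import Cfsg.Agent.Lib.Invol.AbgOrder.OrdAlperin
import Cfsg.Agent.Lib.Invol.RealizeWreathedLocal
import Cfsg.Agent.S3116

/-!
# Assembly of the linear case

A character of the principal block with the degree and the value of one of the two solutions gives the budget data;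
once the field component is trivial on the centraliser, the centraliser is `H` modulo odd scalars.
-/

set_option autoImplicit false
set_option linter.style.haveILetI false
set_option linter.unusedSectionVars false

open scoped Classical

namespace Cfsg.Agent.Invol.AbgOrder

open Cfsg Cfsg.Agent.Char Cfsg.Agent.Block
open Cfsg.Agent.Invol.BrauerL3 (scal)

universe u v w x

attribute [local instance] oddCore_normal

variable {G : Type u} [Group G] [Fintype G] {F : Type v} [Field F] [Fintype F] {H : Type w} [Group H] {K : Type x}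
  [CommGroup K] {Q : ℤ}

/-- The image of the model has the 2-elements. -/
theorem nhyp_of_shape (S : Sylow 2 G) (z : G) (hzc : ∀ s ∈ (S : Subgroup G), s * z = z * s)
    (hS : Cfsg.IsQuasiDihedral (S : Subgroup G) ∨ Cfsg.IsWreathed (S : Subgroup G)) (s : Shape0 (CQ z) F H K Q) :
    NHyp s.π.range := by
  haveI := Fintype.ofFinite (CQ z)
  haveI := s.range_normal
  obtain ⟨-, S', eS, -⟩ := quotient_setup S z hzc
  refine nhyp_of_aut _ (fun h => ?_) S' ?_
  · have h1 : s.π.range.index * Nat.card s.π.range = orderOf s.f * Nat.card s.π.range := by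
      rw [Subgroup.index_mul_card]; exact s.card_eq
    rw [Nat.eq_of_mul_eq_mul_right Nat.card_pos h1, s.orderOf_f] at h
    exact (Nat.not_even_iff_odd.2 s.σ_odd) (even_iff_two_dvd.2 h)
  · rcases hS with h | h
    · exact S3116.result S'.isPGroup' (Or.inr ((sylShape_congr eS).1 h))
    · obtain ⟨_, _, _, _, h'⟩ := Invol.exists_wr ((sylShape_congr eS).2 h)
      exact h'.isPGroup_mulAut

namespace PreSetup

variable (c : PreSetup G F H K Q)
include c

/-- The projection data at `z`. -/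
theorem order_z : orderOf c.z = 2 := orderOf_eq_prime (by rw [sq, c.z2]) c.z_ne

/-- With five or nine elements the images of the fixed points of the core are trivial. -/
theorem points_trivial (hQ : ∃ j, (Q - 1).natAbs = 2 ^ j) (hσ : orderOf c.s.σ = 1) {a : G}
    (ha : a * c.z = c.z * a) (haw : a * c.w = c.w * a) (ho : Odd (orderOf a)) : c.q a = 1 := by
  refine c.k.eq_one_of_odd hQ (c.comm_u ha haw) ?_ ?_
  · have h := c.s.fldX_pow (c.q a)
    rwa [hσ, pow_one] at h
  · refine ho.of_dvd_nat ?_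
    rw [c.q_mk ha]
    exact (orderOf_map_dvd (QuotientGroup.mk' _) _).trans (by rw [Subgroup.orderOf_mk])

end PreSetup

section Linear

variable (c : PreSetup G F (GL (Fin 2) F) K Q) {M : Ideal AlgInt}

/-- The column of a character with one of the two values. -/
theorem linear_col (hQ : Q = (Fintype.card F : ℤ)) (hN : NHyp c.s.π.range) (hM : IsPModular 2 M)
    {χ : IrrCharacter G} (hχ : χ ∈ principalBlock M G) {d₁ : ℕ} (hd : d₁ = 1 ∨ d₁ = 2)
    (hval : (χ : G → ℂ) c.z = (Fintype.card F : ℂ) + d₁ - 1) :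
    ∀ v : ↥c.Cz', Odd (orderOf v) →
      (χ : G → ℂ) (c.z * (v : G)) = ((d₁ : ℂ) - 1) + c.s.refSt (QuotientGroup.mk v) := by
  haveI := Fintype.ofFinite (CQ c.z)
  let D := coreData c.z c.order_z
  have h5 : 3 < Fintype.card F := by have := c.four_le; omega
  obtain ⟨m, hX, hm1, hm3, hmq⟩ := c.k.exists_bound (Or.inl hQ)
  obtain ⟨m₁, m₂, hc, hv⟩ := D.exists_colData c.s hM hN c.odd_card h5 hχ
    (val := (Fintype.card F : ℤ) + d₁ - 1) (by push_cast; exact hval)
  rcases hd with rfl | rfl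
  · obtain ⟨e1, e2⟩ := D.col_steinberg c.s hc c.odd_card (Or.inl rfl)
      (by rw [← hv]; push_cast; ring) hX (hmq hQ)
    intro v hvo
    refine (hc.col v hvo).trans ?_
    rw [e1, e2, show D.π v = QuotientGroup.mk v from rfl]
    norm_num
    convert rfl
  · have hm : m * Fintype.card F ≤ (Fintype.card F - 1) ^ 2 ∨
        ((¬ ∃ k, Fintype.card F + 1 = 2 ^ k) ∧ m ≤ Fintype.card F + 1) := by
      have hodd := c.odd_card
      rcases (show Fintype.card F % 4 = 3 ∨ Fintype.card F % 4 = 1 by obtain ⟨r, hr⟩ := hodd; omega) with h | h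
      · refine Or.inl ?_
        have h2 := hm3 (by rw [hQ]; omega)
        obtain ⟨r, hr⟩ : ∃ r, Fintype.card F = r + 5 := ⟨Fintype.card F - 5, by omega⟩
        rw [hr] at h2 ⊢
        rw [show r + 5 - 1 = r + 4 by omega]
        nlinarith
      · refine Or.inr ⟨?_, hm1⟩
        rintro ⟨j, hj⟩
        rcases j with _ | _ | j
        · omega
        · omega
        · rw [pow_succ, pow_succ] at hj
          omega
    obtain ⟨e1, e2⟩ := D.col_linear c.s hc c.odd_card (Or.inl rfl) (by rw [← hv]; push_cast; ring) hX hm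
    intro v hvo
    refine (hc.col v hvo).trans ?_
    rw [e1, e2, show D.π v = QuotientGroup.mk v from rfl]
    norm_num
    convert rfl

/-- The budget data of the character. -/
noncomputable def linData (hQ : Q = (Fintype.card F : ℤ)) (hN : NHyp c.s.π.range) (hM : IsPModular 2 M)
    {χ : IrrCharacter G} (hχ : χ ∈ principalBlock M G) {d₁ : ℕ} (hd : d₁ = 1 ∨ d₁ = 2)
    (hdeg : (χ : G → ℂ) 1 = (Fintype.card F : ℂ) ^ 2 + (Fintype.card F : ℂ) - 2 + d₁)
    (hval : (χ : G → ℂ) c.z = (Fintype.card F : ℂ) + d₁ - 1) :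
    BData ↥c.Cz' (↥c.Cz' ⧸ Cfsg.oddCore ↥c.Cz') F :=
  c.bdata hQ (χ : G → ℂ) (irr_isChar χ) (by omega) hdeg (linear_col c hQ hN hM hχ hd hval)

/-- The budget is exact. -/
theorem linear_out (hQ : Q = (Fintype.card F : ℤ)) (hN : NHyp c.s.π.range) (hM : IsPModular 2 M)
    {χ : IrrCharacter G} (hχ : χ ∈ principalBlock M G) {d₁ : ℕ} (hd : d₁ = 1 ∨ d₁ = 2)
    (hdeg : (χ : G → ℂ) 1 = (Fintype.card F : ℂ) ^ 2 + (Fintype.card F : ℂ) - 2 + d₁)
    (hval : (χ : G → ℂ) c.z = (Fintype.card F : ℂ) + d₁ - 1) [Fintype (linData c hQ hN hM hχ hd hdeg hval).O]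
    [Fintype (linData c hQ hN hM hχ hd hdeg hval).R] [Fintype (linData c hQ hN hM hχ hd hdeg hval).Gw] :
    (linData c hQ hN hM hχ hd hdeg hval).Out := by
  refine BData.budget_out _ ?_
  have h4 := c.four_le
  have hodd := c.odd_card
  by_cases h9 : Fintype.card F = 9
  · right
    haveI : Fact (Nat.Prime 3) := ⟨Nat.prime_three⟩
    obtain ⟨hdvd, ho⟩ := c.s.orderOf_f_dvd (p := 3) (n := 2) (by rw [h9]; norm_num)
    have hσ : orderOf c.s.σ = 1 := by
      rw [← c.s.orderOf_f]
      rcases (Nat.dvd_prime Nat.prime_two).1 hdvd with e | e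
      · exact e
      · rw [e] at ho; exact absurd ho (by decide)
    have hQ2 : ∃ j, (Q - 1).natAbs = 2 ^ j := ⟨3, by rw [hQ, h9]; norm_num⟩
    have hpt : ∀ (a : G), a * c.z = c.z * a → a * c.w = c.w * a → Odd (orderOf a) →
        c.s.refSt (c.q a) - 1 = (Fintype.card F : ℂ) - 1 := fun a h1 h2 h3 => by
      rw [c.points_trivial hQ2 hσ h1 h2 h3, c.refSt_one]
    refine ⟨fun y => ?_, fun y => ?_⟩
    · obtain ⟨hO, hMW⟩ := c.mem_R y.2
      obtain ⟨h1, h2⟩ := c.gM hMW
      refine hpt _ h1 h2 ?_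
      convert coreAt_odd (c.coe_core.2 hO) using 1
      simpa using MulEquiv.orderOf_eq (MulAut.conj c.g⁻¹) ((y : ↥c.Cz') : G)
    · obtain ⟨hO, hMW⟩ := c.mem_R y.2
      obtain ⟨h1, h2⟩ := c.gMu hMW
      refine hpt _ h1 h2 ?_
      convert coreAt_odd (c.coe_core.2 hO) using 1
      simpa using MulEquiv.orderOf_eq (MulAut.conj c.g) ((y : ↥c.Cz') : G)
  · exact Or.inl ⟨by obtain ⟨r, hr⟩ := hodd; omega, h9⟩

end Linear

/-- Without field component the centraliser is `H` modulo a central subgroup of odd order. -/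
theorem CoreSetup.cent_of_fld (c : CoreSetup G F H K Q) (hf : ∀ a : G, a * c.z = c.z * a → c.fld a = 1) :
    ∃ φ : H →* ↥(Subgroup.centralizer ({c.z} : Set G)), Function.Surjective φ ∧ φ.ker ≤ Subgroup.center H ∧
      Odd (Nat.card φ.ker) := by
  obtain ⟨φ, hs, hc, ho, -⟩ := c.exists_gl
  have he : c.C0 = Subgroup.centralizer ({c.z} : Set G) := by
    ext a
    exact ⟨fun h => mem_cent.2 h.1, fun h => ⟨mem_cent.1 h, hf a (mem_cent.1 h)⟩⟩
  let e := MulEquiv.subgroupCongr he
  have hk : (e.toMonoidHom.comp φ).ker = φ.ker := MonoidHom.ker_comp_of_injective _ _ e.injective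
  exact ⟨e.toMonoidHom.comp φ, e.surjective.comp hs, by rw [hk]; exact hc, by rw [hk]; exact ho⟩

/-- The linear end. -/
theorem glCent_of_fld {F : Type} [Field F] [Fintype F] {K : Type x} [CommGroup K] {Q : ℤ}
    (c : CoreSetup G F (GL (Fin 2) F) K Q) (hf : ∀ a : G, a * c.z = c.z * a → c.fld a = 1) : GLCent c.z F := by
  obtain ⟨φ, hs, hc, ho⟩ := c.cent_of_fld hf
  exact ⟨φ.ker, inferInstance, hc, ho, ⟨(QuotientGroup.quotientKerEquivOfSurjective φ hs).symm⟩⟩

/-- The unitary end. -/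
theorem guCent_of_fld {F L : Type} [Field F] [Fintype F] [Field L] [Fintype L] {q : ℕ} {K : Type x} [CommGroup K]
    {Q : ℤ} (c : CoreSetup G F (Cfsg.GU 2 L q) K Q) (hf : ∀ a : G, a * c.z = c.z * a → c.fld a = 1) :
    GUCent c.z L q := by
  obtain ⟨φ, hs, hc, ho⟩ := c.cent_of_fld hf
  exact ⟨φ.ker, inferInstance, hc, ho, ⟨(QuotientGroup.quotientKerEquivOfSurjective φ hs).symm⟩⟩

end Cfsg.Agent.Invol.AbgOrder
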