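import Cfsg.Agent.Lib.Invol.AbgOrder.BudgetUData
import Cfsg.Agent.Lib.Invol.AbgOrder.BudgetAdapt
import Cfsg.Agent.Lib.Invol.AbgOrder.ColRoot
import Cfsg.Agent.Lib.Invol.AbgOrder.FinalLinear
import Cfsg.Agent.Lib.Block.PermChar
import Cfsg.Agent.Lib.Char.Contrib

/-!
# The budget data at the centraliser of an involution, unitary case

`w` induces on the normal `SL(2, q)` a matrix of trace zero with nonsquare negated determinant, as it commutes with
a torus of order `q + 1`.  The permutation characters are those of the cosets of a Borel subgroup.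
-/

set_option autoImplicit false
set_option linter.unusedSectionVars false
set_option linter.style.haveILetI false

open scoped Classical

namespace Cfsg.Agent.Invol.AbgOrder

open Cfsg Cfsg.Agent.Char Cfsg.Agent.Block Matrix
open Cfsg.Agent.Invol.BrauerL3 (scal)

universe u v w x

attribute [local instance] oddCore_normal

section Points

variable {X : Type u} [Group X] [Fintype X] {F : Type v} [Field F] [Fintype F] [DecidableEq F] {H : Type w} [Group H]
  {K : Type x} [CommGroup K] {Q : ℤ}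

theorem Shape0.refSt_one (s : Shape0 X F H K Q) : s.refSt 1 = (Fintype.card F : ℂ) := by
  rw [← map_one s.eSL, s.refSt_eSL, Cfsg.Agent.Block.SL2Char.vSS_one]

/-- The action on the points of the line, pulled back. -/
theorem Shape0.isChar_points (s : Shape0 X F H K Q) {R : Type*} [Group R] [Fintype R] (ρ : R →* X) :
    IsCharacter R (fun y => s.refSt (ρ y) + 1) := by
  letI : MulAction R (X ⧸ s.borel) := MulAction.compHom _ ρ
  rw [show (fun y => s.refSt (ρ y) + 1) = PermChar.piFun R (X ⧸ s.borel) from funext fun y => by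
    rw [Shape0.refSt, sub_add_cancel, Contrib.indFun_one_apply, PermChar.piFun]
    rfl]
  exact PermChar.isCharacter_piFun

end Points

section Elliptic

variable {X : Type u} [Group X] [Finite X] {F : Type v} [Field F] [Fintype F] {H : Type w} [Group H]
  {K : Type x} [CommGroup K] {Q : ℤ} {s : Shape0 X F H K Q}

local notation "SL₂" => Matrix.SpecialLinearGroup (Fin 2) F
local notation "M₂" => Matrix (Fin 2) (Fin 2) F

theorem Frame.u_sq (k : Frame s) : k.u * k.u = 1 := by
  show s.π _ * s.π _ = 1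
  rw [← map_mul, ← map_mul, Prod.mk_mul_mk, one_mul, k.e_sq]
  exact (congrArg _ (map_one _)).trans (map_one _)

theorem Frame.zc_ne_one (k : Frame s) : s.π (s.M.T.D (k.e, k.e)) ≠ 1 := by
  intro h
  haveI := s.M.finite
  haveI := Fintype.ofFinite H
  obtain ⟨d, hd, hdo⟩ := s.M.T.ker_eq s.π s.ker_central s.ker_odd (MonoidHom.mem_ker.2 h)
  have h1 : k.e = d := congrArg Prod.fst (s.M.T.D_inj hd)
  exact k.e_ne (eq_one_of_sq_odd k.e_sq (h1 ▸ hdo))

/-- In the unitary case the involution acts without fixed point on the line. -/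
theorem Frame.exists_gw (k : Frame s) (hQ : Q = -(Fintype.card F : ℤ)) :
    ∃ (ν : F) (g : GL (Fin 2) F), ¬ IsSquare ν ∧ (g : M₂) ∈ Ell ν ∧
      ∀ t, k.u * s.π (s.M.ι t) = s.π (s.M.ι (inn g t)) * k.u := by
  have hodd : Odd (Fintype.card F) := by rw [← k.hQ]; exact Int.natAbs_odd.2 s.M.T.odd
  have h2 : (2 : F) ≠ 0 := BrauerL3.two_ne_zero_of_odd hodd
  obtain ⟨g, hg⟩ := exists_eq (s.ψ k.u)
  have hfld : fld (s.ψ k.u) = 1 := s.fldX_π _
  rw [hfld] at hg
  have hconj : ∀ t, k.u * s.π (s.M.ι t) * k.u⁻¹ = s.π (s.M.ι (inn g t)) := fun t => by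
    rw [s.conj_ι]
    exact congrArg s.π (congrArg s.M.ι (congrFun (congrArg DFunLike.coe hg) t))
  have hne : inn g ≠ 1 := by
    intro h1
    obtain ⟨t, -, hsw⟩ := k.exists_weyl
    have h3 := hconj t
    rw [h1, MulAut.one_apply, mul_inv_eq_iff_eq_mul] at h3
    have h4 : s.π (s.M.T.D (k.e, 1)) = k.u := by
      rw [← hsw 1 k.e, map_mul, map_mul, map_inv]
      show s.π (s.M.ι t) * k.u * _ = k.u
      rw [← h3, mul_inv_cancel_right]
    refine k.zc_ne_one ?_
    rw [show ((k.e, k.e) : scal K Q × scal K Q) = (k.e, 1) * (1, k.e) by simp, map_mul, map_mul, h4]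
    exact k.u_sq
  have hinv : ∀ t, inn (g * g) t = t := fun t => by
    refine s.π_ι_inj ?_
    show s.π (s.M.ι _) = s.π (s.M.ι t)
    rw [map_mul, MulAut.mul_apply, ← hconj, ← hconj]
    calc k.u * (k.u * s.π (s.M.ι t) * k.u⁻¹) * k.u⁻¹ =
          k.u * k.u * s.π (s.M.ι t) * (k.u * k.u)⁻¹ := by group
      _ = _ := by rw [k.u_sq, one_mul, inv_one, mul_one]
  set A := (g : M₂) with hA
  have hcomm : ∀ (r : GL (Fin 2) F) (t : SL₂), inn r t = t ↔ (r : M₂) * (t : M₂) = (t : M₂) * (r : M₂) := by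
    intro r t
    have key : inn r t = t ↔ (r : M₂) * (t : M₂) * ((r⁻¹ : GL (Fin 2) F) : M₂) = (t : M₂) :=
      ⟨fun h => (inn_coe r t).symm.trans (congrArg Subtype.val h), fun h => Subtype.ext ((inn_coe r t).trans h)⟩
    rw [key]
    constructor
    · intro h
      calc (r : M₂) * (t : M₂) = (r : M₂) * (t : M₂) * ((r⁻¹ : GL (Fin 2) F) : M₂) * (r : M₂) := by
            rw [mul_assoc _ ((r⁻¹ : GL (Fin 2) F) : M₂), ← Units.val_mul, inv_mul_cancel, Units.val_one, mul_one]
        _ = _ := by rw [h]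
    · intro h
      rw [h, mul_assoc, ← Units.val_mul, mul_inv_cancel, Units.val_one, mul_one]
  have hCH : A * A = (A 0 0 + A 1 1) • A - A.det • (1 : M₂) := by
    ext i j
    fin_cases i <;> fin_cases j <;> simp [Matrix.mul_apply, Fin.sum_univ_two, det_fin_two] <;> ring
  have htr : A 0 0 + A 1 1 = 0 := by
    by_contra htr
    refine hne (MulEquiv.ext fun t => (hcomm g t).2 ?_)
    have h := (hcomm (g * g) t).1 (hinv t)
    rw [Units.val_mul, ← hA, hCH, sub_mul, mul_sub, smul_mul_assoc, smul_mul_assoc, mul_smul_comm, mul_smul_comm,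
      one_mul, mul_one, sub_left_inj] at h
    exact smul_right_injective M₂ htr h
  have hdet : A.det ≠ 0 := by
    rw [hA, ← Matrix.GeneralLinearGroup.val_det_apply]
    exact Units.ne_zero _
  refine ⟨-A.det, g, ?_, ⟨htr, (neg_neg _).symm⟩, fun t => by rw [← hconj, inv_mul_cancel_right]⟩
  rintro ⟨r, hr⟩
  have hr0 : r ≠ 0 := fun h => hdet (by rw [h, mul_zero, neg_eq_zero] at hr; exact hr)
  obtain ⟨T, hT, hTo⟩ := k.exists_t0
  have hTA : A * (T : M₂) = (T : M₂) * A := (hcomm g T).1 (s.π_ι_inj (by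
    show s.π (s.M.ι _) = s.π (s.M.ι T)
    rw [← hconj, hT, (k.commute_u _).symm.eq, mul_inv_cancel_right]))
  obtain ⟨α, β, hTab⟩ : ∃ α β : F, (T : M₂) = α • (1 : M₂) + β • A := by
    have h00 := congrArg (fun m : M₂ => m 0 0) hTA
    have h01 := congrArg (fun m : M₂ => m 0 1) hTA
    have h10 := congrArg (fun m : M₂ => m 1 0) hTA
    simp [Matrix.mul_apply, Fin.sum_univ_two] at h00 h01 h10
    have e11 : A 1 1 = -A 0 0 := by linear_combination htr
    rw [e11] at h01 h10
    by_cases hy : A 0 1 = 0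
    · by_cases hw : A 1 0 = 0
      · have hx : A 0 0 ≠ 0 := fun hx => hdet (by rw [det_fin_two, hy, hw, hx]; ring)
        refine ⟨((T : M₂) 0 0 + (T : M₂) 1 1) / 2, ((T : M₂) 0 0 - (T : M₂) 1 1) / (2 * A 0 0),
          Matrix.ext fun i j => ?_⟩
        fin_cases i <;> fin_cases j <;> simp [e11, hy, hw]
        · field_simp
          ring
        · rw [hy] at h01
          refine (mul_eq_zero.1 (show (2 * A 0 0) * (T : M₂) 0 1 = 0 by linear_combination h01)).resolve_left ?_
          exact mul_ne_zero h2 hx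
        · rw [hw] at h10
          refine (mul_eq_zero.1 (show (2 * A 0 0) * (T : M₂) 1 0 = 0 by linear_combination -h10)).resolve_left ?_
          exact mul_ne_zero h2 hx
        · field_simp
          ring
      · refine ⟨(T : M₂) 0 0 - (T : M₂) 1 0 / A 1 0 * A 0 0, (T : M₂) 1 0 / A 1 0, Matrix.ext fun i j => ?_⟩
        fin_cases i <;> fin_cases j <;> simp [e11, hy]
        · rw [hy] at h00
          exact (mul_eq_zero.1 (show A 1 0 * (T : M₂) 0 1 = 0 by linear_combination -h00)).resolve_left hw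
        · field_simp
        · field_simp
          linear_combination -h10
    · refine ⟨(T : M₂) 0 0 - (T : M₂) 0 1 / A 0 1 * A 0 0, (T : M₂) 0 1 / A 0 1, Matrix.ext fun i j => ?_⟩
      fin_cases i <;> fin_cases j <;> simp [e11]
      · field_simp
      · field_simp
        linear_combination h00
      · field_simp
        linear_combination h01
  have hA2 : A * A = (r * r) • (1 : M₂) := by
    rw [hCH, htr, zero_smul, zero_sub, ← neg_smul, hr]
  set P := r • (1 : M₂) + A with hP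
  set P' := r • (1 : M₂) - A with hP'
  have hTP : (T : M₂) * P = (α + β * r) • P := by
    rw [hTab, hP, add_mul, smul_mul_assoc, smul_mul_assoc, one_mul, mul_add, hA2, mul_smul_comm, mul_one]
    module
  have hTP' : (T : M₂) * P' = (α - β * r) • P' := by
    rw [hTab, hP', add_mul, smul_mul_assoc, smul_mul_assoc, one_mul, mul_sub, hA2, mul_smul_comm, mul_one]
    module
  have hab : (α + β * r) * (α - β * r) = 1 := by
    have hd : (T : M₂).det = 1 := T.2
    rw [hTab, det_fin_two] at hd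
    simp [show A 1 1 = -A 0 0 by linear_combination htr] at hd
    have hr' : -(A 0 0 * -A 0 0 - A 0 1 * A 1 0) = r * r := by
      rw [← hr, det_fin_two, show A 1 1 = -A 0 0 by linear_combination htr]
    linear_combination hd + β ^ 2 * hr'
  have hpow : ∀ n : ℕ, ((T ^ n : SL₂) : M₂) * P = (α + β * r) ^ n • P ∧
      ((T ^ n : SL₂) : M₂) * P' = (α - β * r) ^ n • P' := by
    intro n
    induction n with
    | zero => simp
    | succ n ih =>
      rw [pow_succ, Matrix.SpecialLinearGroup.coe_mul, mul_assoc, mul_assoc, hTP, hTP', mul_smul_comm,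
        mul_smul_comm, ih.1, ih.2, smul_smul, smul_smul, pow_succ, pow_succ]
      exact ⟨by rw [mul_comm], by rw [mul_comm]⟩
  obtain ⟨e1, e2⟩ := hpow (Fintype.card F - 1)
  rw [FiniteField.pow_card_sub_one_eq_one _ (left_ne_zero_of_mul_eq_one hab), one_smul] at e1
  rw [FiniteField.pow_card_sub_one_eq_one _ (right_ne_zero_of_mul_eq_one hab), one_smul] at e2
  have hone : T ^ (Fintype.card F - 1) = 1 := by
    refine Subtype.ext (smul_right_injective M₂ (mul_ne_zero h2 hr0) ?_)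
    have hPP : P + P' = (2 * r) • (1 : M₂) := by rw [hP, hP']; module
    show (2 * r) • _ = (2 * r) • ((1 : SL₂) : M₂)
    rw [Matrix.SpecialLinearGroup.coe_one, ← hPP]
    calc (2 * r) • ((T ^ (Fintype.card F - 1) : SL₂) : M₂) =
          ((T ^ (Fintype.card F - 1) : SL₂) : M₂) * (P + P') := by rw [hPP, mul_smul_comm, mul_one]
      _ = P + P' := by rw [mul_add, e1, e2]
  have hq := Fintype.one_lt_card (α := F)
  have h := Nat.le_of_dvd (by omega) (orderOf_dvd_of_pow_eq_one hone)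
  rw [hTo, hQ] at h
  omega

end Elliptic

set_option maxHeartbeats 800000

namespace PreSetup

variable {G : Type u} [Group G] [Fintype G] {F : Type v} [Field F] [Fintype F] {H : Type w} [Group H] {K : Type x}
  [CommGroup K] {Q : ℤ} (c : PreSetup G F H K Q) {M : Ideal AlgInt}
include c

/-- The quotient map. -/
noncomputable def σU : ↥(Subgroup.centralizer ({c.z} : Set G)) →*
    ↥(Subgroup.centralizer ({c.z} : Set G)) ⧸ Cfsg.oddCore ↥(Subgroup.centralizer ({c.z} : Set G)) :=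
  QuotientGroup.mk' (Cfsg.oddCore ↥(Subgroup.centralizer ({c.z} : Set G)))

theorem σU_z : c.σU ⟨c.z, mem_cent.2 rfl⟩ = c.q c.z := (c.q_mk rfl).symm

/-- The image at `z w`. -/
noncomputable def kapv (x : ↥(Subgroup.centralizer ({c.z} : Set G))) :
    ↥(Subgroup.centralizer ({c.z} : Set G)) ⧸ Cfsg.oddCore ↥(Subgroup.centralizer ({c.z} : Set G)) :=
  c.q (c.g * (x : G) * c.g⁻¹)

theorem q_id : c.q 1 = 1 := (c.q_mk (by simp)).trans rfl

theorem gzw : c.g * (c.z * c.w) * c.g⁻¹ = c.z := by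
  rw [show c.g * (c.z * c.w) * c.g⁻¹ = c.g * c.z * c.g⁻¹ * (c.g * c.w * c.g⁻¹) by group, c.gz, c.gw, ← mul_assoc,
    c.wz, mul_assoc, c.w2, mul_one]

theorem gMv {y : ↥(Subgroup.centralizer ({c.z} : Set G))} (hy : y ∈ c.MW) :
    c.g * (y : G) * c.g⁻¹ * c.z = c.z * (c.g * (y : G) * c.g⁻¹) ∧
      c.g * (y : G) * c.g⁻¹ * c.w = c.w * (c.g * (y : G) * c.g⁻¹) := by
  have h1 : Commute (y : G) c.z := mem_cent.1 y.2
  have h2 : Commute (y : G) c.w := c.mem_MW.1 hy
  have h3 := ((h1.mul_right h2).map (MulAut.conj c.g).toMonoidHom).eq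
  have h4 := (h1.map (MulAut.conj c.g).toMonoidHom).eq
  simp only [MulEquiv.coe_toMonoidHom, MulAut.conj_apply, c.gzw] at h3
  simp only [MulEquiv.coe_toMonoidHom, MulAut.conj_apply, c.gz] at h4
  exact ⟨h3, h4⟩

theorem mem_RU {y : ↥(Subgroup.centralizer ({c.z} : Set G))}
    (hy : y ∈ c.σU.ker ⊓ Subgroup.centralizer ({c.wC} : Set ↥(Subgroup.centralizer ({c.z} : Set G)))) :
    y ∈ Cfsg.oddCore ↥(Subgroup.centralizer ({c.z} : Set G)) ∧ y ∈ c.MW :=
  ⟨by simpa [σU] using hy.1, hy.2⟩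

theorem q_w_ne (t : Matrix.SpecialLinearGroup (Fin 2) F) : c.s.π (c.s.M.ι t) ≠ c.q c.w := by
  intro h
  rw [c.q_w] at h
  have h2 : t * t = 1 := c.s.π_ι_inj (by
    show c.s.π (c.s.M.ι (t * t)) = c.s.π (c.s.M.ι 1)
    rw [map_mul, map_mul, h, c.k.u_sq, map_one, map_one])
  rcases eq_one_or_neg_one c.odd_card h2 with rfl | rfl
  · rw [map_one, map_one] at h
    have h3 := c.k.u_sq
    exact c.k.e_ne (by
      haveI := c.s.M.finite
      haveI := Fintype.ofFinite H
      obtain ⟨d, hd, -⟩ := c.s.M.T.ker_eq c.s.π c.s.ker_central c.s.ker_odd (MonoidHom.mem_ker.2 h.symm)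
      have h4 := c.s.M.T.D_inj hd
      exact (congrArg Prod.snd h4).trans (congrArg Prod.fst h4).symm)
  · rw [← c.q_z, ← c.zc_eq] at h
    haveI := c.s.M.finite
    haveI := Fintype.ofFinite H
    have h1 : c.s.π (c.s.M.T.D (c.k.e, 1)) = 1 := by
      refine (mul_eq_right (b := c.k.u)).1 ?_
      show c.s.π _ * c.s.π _ = _
      rw [← map_mul, ← map_mul, Prod.mk_mul_mk, mul_one, one_mul]
      exact h
    obtain ⟨d, hd, -⟩ := c.s.M.T.ker_eq c.s.π c.s.ker_central c.s.ker_odd (MonoidHom.mem_ker.2 h1)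
    have h4 := c.s.M.T.D_inj hd
    exact c.k.e_ne ((congrArg Prod.fst h4).trans (congrArg Prod.snd h4).symm)

/-- On the elements with a root of `z` among their powers the character ignores the core. -/
theorem root_values (hM : IsPModular 2 M) {χ : IrrCharacter G} (hχ : χ ∈ principalBlock M G) (g : ↥(Subgroup.centralizer ({c.z} : Set G)))
    (hg : ∃ k : ℕ, c.σU g ^ (2 * k) = c.σU ⟨c.z, mem_cent.2 rfl⟩) (o : ↥(Subgroup.centralizer ({c.z} : Set G))) (ho : o ∈ c.σU.ker) :
    (χ : G → ℂ) (o * g : ↥(Subgroup.centralizer ({c.z} : Set G))) = (χ : G → ℂ) g := by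
  haveI : Fact (Nat.Prime 2) := ⟨Nat.prime_two⟩
  haveI := Fintype.ofFinite (CQ c.z)
  let D := coreData c.z c.order_z
  obtain ⟨k, hk⟩ := hg
  obtain ⟨x, hx⟩ := exists_pPart (p := 2) g
  obtain ⟨v, hxv, hcv, ⟨i, hi⟩, hvo⟩ := id hx
  have hzb : orderOf (c.σU ⟨c.z, mem_cent.2 rfl⟩) = 2 := D.zbar_order
  have hxi : x ^ 2 ^ i = 1 := hi ▸ pow_orderOf_eq_one x
  have himg : c.σU (x ^ (2 * k)) = c.σU ⟨c.z, mem_cent.2 rfl⟩ := by
    have e : c.σU (x ^ (2 * k)) * c.σU (v ^ (2 * k)) = c.σU ⟨c.z, mem_cent.2 rfl⟩ := by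
      rw [← hk, ← map_mul, ← hcv.mul_pow, hxv, map_pow]
    have hc' : Commute (c.σU (x ^ (2 * k))) (c.σU (v ^ (2 * k))) := (hcv.pow_pow _ _).map c.σU
    have h1 : c.σU (v ^ (2 * k)) ^ 2 ^ (i + 1) = 1 := by
      have h2 : (c.σU (x ^ (2 * k)) * c.σU (v ^ (2 * k))) ^ 2 ^ (i + 1) = 1 := by
        rw [e, pow_succ', pow_mul, ← hzb, pow_orderOf_eq_one, one_pow]
      rwa [hc'.mul_pow, ← map_pow c.σU (x ^ (2 * k)), ← pow_mul, mul_comm, pow_mul, pow_succ, pow_mul x, hxi, one_pow,
        one_pow, map_one, one_mul] at h2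
    have h3 : c.σU (v ^ (2 * k)) = 1 := orderOf_eq_one_iff.1 (Nat.eq_one_of_dvd_coprimes
      ((Nat.coprime_two_left.2 (Nat.odd_iff.2 (Nat.two_dvd_ne_zero.1 hvo))).pow_left (i + 1))
      (orderOf_dvd_of_pow_eq_one h1) ((orderOf_map_dvd c.σU _).trans (orderOf_pow_dvd _)))
    rwa [h3, mul_one] at e
  have hx2 : x ^ (2 * k) * x ^ (2 * k) = 1 := by
    refine Wreath5Core.eq_one_of_ker c.σU D.odd ?_ ?_
    · obtain ⟨j, -, hj⟩ := (Nat.dvd_prime_pow Nat.prime_two).1
        (show orderOf (x ^ (2 * k) * x ^ (2 * k)) ∣ 2 ^ i by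
          rw [← pow_add, ← hi]; exact orderOf_pow_dvd _)
      exact ⟨j, hj⟩
    · rw [map_mul, himg, ← sq, ← hzb, pow_orderOf_eq_one]
  have hx2' : orderOf (x ^ (2 * k)) = 2 := orderOf_eq_prime ((sq _).trans hx2) fun h => by
    rw [h, map_one] at himg
    rw [← himg, orderOf_one] at hzb
    omega
  have hxz : x ^ (2 * k) = ⟨c.z, mem_cent.2 rfl⟩ := D.eq_z hx2' himg
  have hle : Cz (x : G) ≤ D.C := fun a ha => by
    have ha' : Commute a (x : G) := Subgroup.mem_centralizer_singleton_iff.1 ha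
    refine Subgroup.mem_centralizer_singleton_iff.2 ?_
    have := ha'.pow_right (2 * k)
    rw [← SubmonoidClass.coe_pow, hxz] at this
    exact this.eq
  exact (D.root_const hM hχ hx hle (by
    show c.σU g = c.σU (o * g)
    rw [map_mul, MonoidHom.mem_ker.1 ho, one_mul])).symm

/-- The column in the unitary case. -/
theorem unit_col (hQ : Q = -(Fintype.card F : ℤ)) (hN : NHyp c.s.π.range) (hM : IsPModular 2 M)
    {χ : IrrCharacter G} (hχ : χ ∈ principalBlock M G)
    (hval : (χ : G → ℂ) c.z = 1 - (Fintype.card F : ℂ)) :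
    ∀ v : ↥(Subgroup.centralizer ({c.z} : Set G)), Odd (orderOf v) → (χ : G → ℂ) (c.z * (v : G)) = 1 - c.s.refSt (QuotientGroup.mk v) := by
  haveI := Fintype.ofFinite (CQ c.z)
  let D := coreData c.z c.order_z
  have h4 := c.four_le
  have hodd := c.odd_card
  obtain ⟨m, hX, hm1, hm3, -⟩ := c.k.exists_bound (Or.inr hQ)
  obtain ⟨m₁, m₂, hc, hv⟩ := D.exists_colData c.s hM hN hodd (by omega) hχ
    (val := 1 - (Fintype.card F : ℤ)) (by push_cast; exact hval)
  obtain ⟨r, hr⟩ : ∃ r, Fintype.card F = r + 5 := ⟨Fintype.card F - 5, by obtain ⟨t, ht⟩ := hodd; omega⟩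
  have hm : m * Fintype.card F ≤ (Fintype.card F - 1) ^ 2 ∨ ((¬ ∃ k, Fintype.card F - 1 = 2 ^ k) ∧
      m * Fintype.card F ≤ (Fintype.card F - 1) ^ 2 + Fintype.card F * (Fintype.card F - 1)) := by
    rcases (show Fintype.card F % 4 = 1 ∨ Fintype.card F % 4 = 3 by obtain ⟨t, ht⟩ := hodd; omega) with h | h
    · refine Or.inl ?_
      have h2 := hm3 (by rw [hQ]; omega)
      rw [hr] at h2 ⊢
      rw [show r + 5 - 1 = r + 4 by omega]
      nlinarith
    · refine Or.inr ⟨?_, ?_⟩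
      · rintro ⟨j, hj⟩
        rcases j with _ | _ | j
        · omega
        · omega
        · rw [pow_succ, pow_succ] at hj
          omega
      · rw [hr] at hm1 ⊢
        rw [show r + 5 - 1 = r + 4 by omega]
        nlinarith
  obtain ⟨e1, e2⟩ := D.col_unitary c.s hc hodd (Or.inr rfl) (by rw [← hv]; ring) hX hm
  intro v hvo
  refine (hc.col v hvo).trans ?_
  rw [e1, e2, show D.π v = QuotientGroup.mk v from rfl]
  norm_num
  rw [← sub_eq_add_neg]
  convert rfl

/-- The column for a value `-(q + 1)`, semidihedral case. -/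
theorem unit_col_neg (hQ : Q = -(Fintype.card F : ℤ)) (h14 : Fintype.card F % 4 = 1) (hN : NHyp c.s.π.range)
    (hM : IsPModular 2 M) {χ : IrrCharacter G} (hχ : χ ∈ principalBlock M G)
    (hval : (χ : G → ℂ) c.z = -((Fintype.card F : ℂ) + 1)) :
    ∀ v : ↥(Subgroup.centralizer ({c.z} : Set G)), Odd (orderOf v) →
      (χ : G → ℂ) (c.z * (v : G)) = ((0 : ℕ) : ℂ) - 1 - c.s.refSt (QuotientGroup.mk v) := by
  haveI := Fintype.ofFinite (CQ c.z)
  let D := coreData c.z c.order_z
  have h4 := c.four_le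
  have hodd := c.odd_card
  obtain ⟨m, hX, hm1, hm3, -⟩ := c.k.exists_bound (Or.inr hQ)
  obtain ⟨m₁, m₂, hc, hv⟩ := D.exists_colData c.s hM hN hodd (by omega) hχ
    (val := -((Fintype.card F : ℤ) + 1)) (by push_cast; exact hval)
  obtain ⟨r, hr⟩ : ∃ r, Fintype.card F = r + 5 := ⟨Fintype.card F - 5, by obtain ⟨t, ht⟩ := hodd; omega⟩
  have hm : m * Fintype.card F ≤ (Fintype.card F - 1) ^ 2 := by
    have h2 := hm3 (by rw [hQ]; omega)
    rw [hr] at h2 ⊢
    rw [show r + 5 - 1 = r + 4 by omega]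
    nlinarith
  obtain ⟨e1, e2⟩ := D.col_linear c.s hc hodd (ε := -1) (Or.inr rfl) (by rw [← hv]; ring) hX (Or.inl hm)
  intro v hvo
  refine (hc.col v hvo).trans ?_
  rw [e1, e2, show D.π v = QuotientGroup.mk v from rfl]
  push_cast
  rw [neg_one_mul, zero_sub, ← sub_eq_add_neg]
  convert rfl

/-- The column in the main case, in the form of `udata`. -/
theorem unit_col_two (hQ : Q = -(Fintype.card F : ℤ)) (hN : NHyp c.s.π.range) (hM : IsPModular 2 M)
    {χ : IrrCharacter G} (hχ : χ ∈ principalBlock M G) (hval : (χ : G → ℂ) c.z = 1 - (Fintype.card F : ℂ)) :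
    ∀ v : ↥(Subgroup.centralizer ({c.z} : Set G)), Odd (orderOf v) →
      (χ : G → ℂ) (c.z * (v : G)) = ((2 : ℕ) : ℂ) - 1 - c.s.refSt (QuotientGroup.mk v) := fun v hv => by
  rw [c.unit_col hQ hN hM hχ hval v hv]
  push_cast
  ring

/-- The budget data (unitary case). -/
noncomputable def udata (hQ : Q = -(Fintype.card F : ℤ)) (χ : IrrCharacter G) (hM : IsPModular 2 M)
    (hχ : χ ∈ principalBlock M G) (e Dp Dm : ℕ) (hdeg : (χ : G → ℂ) 1 = (Dp : ℂ) + Dm)
    (hval : (χ : G → ℂ) c.z = (Dp : ℂ) - Dm)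
    (hcol : ∀ v : ↥(Subgroup.centralizer ({c.z} : Set G)), Odd (orderOf v) → (χ : G → ℂ) (c.z * (v : G)) = (e : ℂ) - 1 - c.s.refSt (QuotientGroup.mk v))
    (hborel : ∀ g : Matrix.SpecialLinearGroup (Fin 2) F → ↥(Subgroup.centralizer ({c.z} : Set G)),
      (∀ t, c.σU (g t) = c.s.π (c.s.M.ι t) * c.σU c.wC) →
      ∑ t ∈ Finset.univ.filter (fun t : Matrix.SpecialLinearGroup (Fin 2) F =>
        ((t : Matrix (Fin 2) (Fin 2) F) * ((c.k.exists_gw hQ).choose_spec.choose : Matrix (Fin 2) (Fin 2) F)) 1 0 = 0),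
        (χ : G → ℂ) (g t) = 0) :
    UData ↥(Subgroup.centralizer ({c.z} : Set G)) (↥(Subgroup.centralizer ({c.z} : Set G)) ⧸ Cfsg.oddCore ↥(Subgroup.centralizer ({c.z} : Set G))) F where
  z := ⟨c.z, mem_cent.2 rfl⟩
  w := c.wC
  σ := c.σU
  surj := QuotientGroup.mk'_surjective _
  ker_odd := by
    rw [σU, QuotientGroup.ker_mk']
    exact c.O_odd
  z_central y := Subtype.ext (mem_cent.1 y.2)
  z2 := Subtype.ext c.z2
  w2 := c.wC_sq
  ι := c.s.π.comp c.s.M.ι
  ι_inj := c.s.π_ι_inj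
  range_normal := ⟨by
    rintro _ ⟨t, rfl⟩ y
    exact ⟨c.s.act₂ y t, (c.s.conj_ι y t).symm⟩⟩
  gz := (c.q_z).symm.trans c.σU_z.symm
  ν := (c.k.exists_gw hQ).choose
  ν_ns := (c.k.exists_gw hQ).choose_spec.choose_spec.1
  char2 := BrauerL3.two_ne_zero_of_odd c.odd_card
  gw := (c.k.exists_gw hQ).choose_spec.choose
  gw_mem := (c.k.exists_gw hQ).choose_spec.choose_spec.2.1
  conj_w t := by
    have h := (c.k.exists_gw hQ).choose_spec.choose_spec.2.2 t
    rw [show c.σU c.wC = c.k.u from c.hw]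
    exact h
  w_out t := by
    rw [show c.σU c.wC = c.q c.w from c.hw.trans c.q_w.symm]
    exact c.q_w_ne t
  χ y := (χ : G → ℂ) y
  isChar := IsChar.res (irr_isChar χ) (Subgroup.centralizer ({c.z} : Set G))
  Dp := Dp
  Dm := Dm
  χ_one := hdeg
  χ_z := hval
  χ_zo o ho := by
    have hoo : Odd (orderOf o) := by
      rw [σU, QuotientGroup.ker_mk'] at ho
      exact c.O_odd.of_dvd_nat (Subgroup.orderOf_dvd_natCard _ ho)
    have h1 := hcol 1 (by rw [orderOf_one]; exact odd_one)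
    rw [OneMemClass.coe_one, mul_one] at h1
    show (χ : G → ℂ) (c.z * (o : G)) = (χ : G → ℂ) c.z
    rw [hcol o hoo, h1, show (QuotientGroup.mk o : ↥(Subgroup.centralizer ({c.z} : Set G)) ⧸ Cfsg.oddCore ↥(Subgroup.centralizer ({c.z} : Set G))) = 1 from MonoidHom.mem_ker.1 ho]
    rfl
  e := e
  πw y := c.s.refSt (c.kap (y : ↥(Subgroup.centralizer ({c.z} : Set G)))) + 1
  πu y := c.s.refSt (c.kapv (y : ↥(Subgroup.centralizer ({c.z} : Set G)))) + 1
  πw_char := by
    exact c.s.isChar_points (R := ↥(c.σU.ker ⊓ Subgroup.centralizer ({c.wC} : Set ↥(Subgroup.centralizer ({c.z} : Set G)))))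
      { toFun := fun y => c.kap y
        map_one' := c.kap_one
        map_mul' := fun a b => c.kap_mul (c.mem_RU a.2).2 (c.mem_RU b.2).2 }
  πu_char := by
    exact c.s.isChar_points (R := ↥(c.σU.ker ⊓ Subgroup.centralizer ({c.wC} : Set ↥(Subgroup.centralizer ({c.z} : Set G)))))
      { toFun := fun y => c.kapv y
        map_one' := by simp [kapv, c.q_id]
        map_mul' := fun a b => by
          rw [kapv, kapv, kapv, ← c.q_mul (c.gMv (c.mem_RU a.2).2).1 (c.gMv (c.mem_RU b.2).2).1]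
          simp [mul_assoc] }
  πw_one := by rw [OneMemClass.coe_one, c.kap_one, c.s.refSt_one]
  πu_one := by
    rw [OneMemClass.coe_one, kapv, OneMemClass.coe_one, mul_one, mul_inv_cancel, c.q_id, c.s.refSt_one]
  χ_w y := by
    obtain ⟨hO, hM'⟩ := c.mem_RU y.2
    have ho : Odd (orderOf ((y : ↥(Subgroup.centralizer ({c.z} : Set G))) : G)) := coreAt_odd (c.coe_core.2 hO)
    have hz := (c.gM hM').1
    have hv : Odd (orderOf (⟨c.g⁻¹ * ((y : ↥(Subgroup.centralizer ({c.z} : Set G))) : G) * c.g, mem_cent.2 hz⟩ : ↥(Subgroup.centralizer ({c.z} : Set G)))) := by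
      rw [Subgroup.orderOf_mk]
      convert ho using 1
      simpa using MulEquiv.orderOf_eq (MulAut.conj c.g⁻¹) ((y : ↥(Subgroup.centralizer ({c.z} : Set G))) : G)
    have h := hcol _ hv
    have e : c.g⁻¹ * (c.w * ((y : ↥(Subgroup.centralizer ({c.z} : Set G))) : G)) * c.g = c.z * (c.g⁻¹ * ((y : ↥(Subgroup.centralizer ({c.z} : Set G))) : G) * c.g) := by
      calc _ = c.g⁻¹ * c.w * c.g * (c.g⁻¹ * ((y : ↥(Subgroup.centralizer ({c.z} : Set G))) : G) * c.g) := by group
        _ = _ := by rw [c.gz']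
    have hc := IsIrr.classFun χ.2 (c.w * ((y : ↥(Subgroup.centralizer ({c.z} : Set G))) : G)) c.g⁻¹
    rw [inv_inv, e] at hc
    show (χ : G → ℂ) (c.w * ((y : ↥(Subgroup.centralizer ({c.z} : Set G))) : G)) = _
    rw [← hc, h, kap, c.q_mk hz]
    push_cast
    ring
  χ_zw y := by
    obtain ⟨hO, hM'⟩ := c.mem_RU y.2
    have ho : Odd (orderOf ((y : ↥(Subgroup.centralizer ({c.z} : Set G))) : G)) := coreAt_odd (c.coe_core.2 hO)
    have hz := (c.gMv hM').1
    have hv : Odd (orderOf (⟨c.g * ((y : ↥(Subgroup.centralizer ({c.z} : Set G))) : G) * c.g⁻¹, mem_cent.2 hz⟩ : ↥(Subgroup.centralizer ({c.z} : Set G)))) := by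
      rw [Subgroup.orderOf_mk]
      convert ho using 1
      simpa using MulEquiv.orderOf_eq (MulAut.conj c.g) ((y : ↥(Subgroup.centralizer ({c.z} : Set G))) : G)
    have h := hcol _ hv
    have e : c.g * (c.z * c.w * ((y : ↥(Subgroup.centralizer ({c.z} : Set G))) : G)) * c.g⁻¹ = c.z * (c.g * ((y : ↥(Subgroup.centralizer ({c.z} : Set G))) : G) * c.g⁻¹) := by
      conv_rhs => arg 1; rw [← c.gzw]
      group
    have hc := IsIrr.classFun χ.2 (c.z * c.w * ((y : ↥(Subgroup.centralizer ({c.z} : Set G))) : G)) c.g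
    rw [e] at hc
    show (χ : G → ℂ) (c.z * c.w * ((y : ↥(Subgroup.centralizer ({c.z} : Set G))) : G)) = _
    rw [← hc, h, kapv, c.q_mk hz]
    push_cast
    ring
  root g hg o ho := c.root_values hM hχ g hg o ho
  borel := hborel

end PreSetup

end Cfsg.Agent.Invol.AbgOrder
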