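import Cfsg.Agent.Lib.Invol.AbgOrder.ProjPair

/-!
# The vectors of the projections

`PFuns` is data on `K` only, apart from the values of the projections, which `gam_root` and `gam_nilp` supply.
The result is a `BrauerL3.Vecs` with `R = (|C| / |G|) (a0 nK)²`, so `Shape` and `ShapeWr` apply unchanged.
-/

set_option autoImplicit false
set_option linter.unusedSectionVars false
set_option linter.style.haveILetI false

open scoped ComplexConjugate Classical

namespace Cfsg.Agent.Invol.AbgOrder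

open Cfsg Cfsg.Agent.Char Cfsg.Agent.Block
open Cfsg.Agent.Invol.BrauerL3 (invol mul_self_of_two Vecs evalE)
open Cfsg.Agent.Invol.Wreath5Core (conj_of_same_image eq_one_of_ker)

universe u v

variable {G : Type u} [Group G] [Fintype G] {K : Type v} [Group K] [Fintype K]

namespace PData

variable (D : PData G K)

/-- Functions on `K` with the data of their projections. -/
structure PFuns (M : Ideal AlgInt) {k : ℕ} (gram : Fin k → Fin k → ℤ) (tr val : Fin k → ℤ) (pr : Fin k → ℚ) where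
  /-- the functions -/
  f : Fin k → K → ℂ
  /-- the values of the projections -/
  F : Fin k → K → ℂ
  gen : ∀ i, IsGeneralizedCharacter K (f i)
  odd : ∀ i, OddVanish (f i)
  value : ∀ i (c : D.C), (∃ j, f j (D.π c) ≠ 0) ∨ (c : G) = D.z ∨
    (D.z ∈ Subgroup.zpowers (c : G) ∧ ∃ a b : D.C, orderOf a = 2 ∧ orderOf b = 2 ∧ c = a * b) →
    D.gam M (f i) c = F i (D.π c)
  inner : ∀ i j, classInner (F i) (f j) = (gram i j : ℂ)
  inner_one : ∀ i, classInner (f i) (fun _ => 1) = (tr i : ℂ)
  at_z : ∀ i, F i D.zbar = (val i : ℂ)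
  pair : ∀ i, pairK D.zbar (F i) = ((pr i * ((invol' D.zbar).card : ℚ) ^ 2 : ℚ) : ℂ)

/-- An involution lifts to an involution. -/
theorem exists_invol_over {q : K} (hq : orderOf q = 2) : ∃ c : D.C, D.π c = q ∧ orderOf c = 2 := by
  obtain ⟨c, rfl⟩ := D.surj q
  obtain ⟨r, hr⟩ : Odd (Nat.card D.π.ker) := Nat.not_even_iff_odd.1 fun he => D.odd he.two_dvd
  have h2 : D.π c ^ 2 = 1 := by rw [← hq, pow_orderOf_eq_one]
  have hc2 : c ^ 2 ∈ D.π.ker := by rw [MonoidHom.mem_ker, map_pow, h2]
  have hπ : D.π (c ^ Nat.card D.π.ker) = D.π c := by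
    rw [hr, map_pow, pow_succ, pow_mul, h2, one_pow, one_mul]
  refine ⟨_, hπ, orderOf_eq_prime_iff.2 ⟨?_, fun h => ?_⟩⟩
  · rw [← pow_mul, mul_comm, pow_mul]
    exact orderOf_dvd_iff_pow_eq_one.1 (D.π.ker.orderOf_dvd_natCard hc2)
  · rw [h, map_one] at hπ
    rw [← hπ, orderOf_one] at hq
    omega

/-- The involutions over one image are one orbit of the kernel. -/
theorem card_over {w : D.C} (hw : orderOf w = 2) :
    Nat.card {c : D.C // D.π c = D.π w ∧ orderOf c = 2} =
      ((Subgroup.centralizer ({w} : Set D.C)).subgroupOf D.π.ker).index := by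
  rw [Subgroup.index_eq_card]
  let φ : ↥D.π.ker ⧸ (Subgroup.centralizer ({w} : Set D.C)).subgroupOf D.π.ker →
      {c : D.C // D.π c = D.π w ∧ orderOf c = 2} := fun q =>
    Quotient.liftOn' q (fun l => ⟨(l : D.C) * w * (l : D.C)⁻¹, by
        rw [map_mul, map_mul, MonoidHom.mem_ker.1 l.2, one_mul, map_inv, MonoidHom.mem_ker.1 l.2, inv_one, mul_one],
        by rw [← MulAut.conj_apply, MulEquiv.orderOf_eq, hw]⟩) fun a b hab => by
      have h1 := Subgroup.mem_centralizer_singleton_iff.1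
        (Subgroup.mem_subgroupOf.1 (QuotientGroup.leftRel_apply.1 hab))
      refine Subtype.ext ?_
      show (a : D.C) * w * (a : D.C)⁻¹ = (b : D.C) * w * (b : D.C)⁻¹
      simp only [Subgroup.coe_mul, Subgroup.coe_inv] at h1
      calc (a : D.C) * w * (a : D.C)⁻¹ =
          (a : D.C) * (w * ((a : D.C)⁻¹ * b)) * (b : D.C)⁻¹ := by group
        _ = (a : D.C) * ((a : D.C)⁻¹ * b * w) * (b : D.C)⁻¹ := by rw [h1]
        _ = _ := by group
  refine (Nat.card_congr (Equiv.ofBijective φ ⟨fun x y => ?_, fun c => ?_⟩)).symm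
  · induction x using Quotient.inductionOn' with
    | h a =>
      induction y using Quotient.inductionOn' with
      | h b =>
        intro h
        have h' : (a : D.C) * w * (a : D.C)⁻¹ = (b : D.C) * w * (b : D.C)⁻¹ := congrArg Subtype.val h
        refine Quotient.sound' (QuotientGroup.leftRel_apply.2 (Subgroup.mem_subgroupOf.2
          (Subgroup.mem_centralizer_singleton_iff.2 ?_)))
        simp only [Subgroup.coe_mul, Subgroup.coe_inv]
        calc (a : D.C)⁻¹ * b * w = (a : D.C)⁻¹ * ((b : D.C) * w * (b : D.C)⁻¹) * b := by group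
          _ = (a : D.C)⁻¹ * ((a : D.C) * w * (a : D.C)⁻¹) * b := by rw [h']
          _ = _ := by group
  · obtain ⟨l, hl, e⟩ := conj_of_same_image D.π D.odd (t := w) (t' := c.1)
      ⟨1, hw.trans (pow_one 2).symm⟩ ⟨1, c.2.2.trans (pow_one 2).symm⟩ c.2.1.symm
    exact ⟨Quotient.mk'' ⟨l, hl⟩, Subtype.ext e⟩

/-- One class of non-central involutions in `K` gives one number of liftings. -/
theorem exists_a0 (hK : ∀ a b : K, orderOf a = 2 → a ≠ D.zbar → orderOf b = 2 → b ≠ D.zbar → IsConj a b) :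
    ∃ a0 : ℕ, a0 ≠ 0 ∧
      (∀ k : K, orderOf k = 2 → k ≠ D.zbar → Nat.card {c : D.C // D.π c = k ∧ orderOf c = 2} = a0) ∧
      ∀ w : D.C, orderOf w = 2 → D.π w ≠ D.zbar →
        ((Subgroup.centralizer ({w} : Set D.C)).subgroupOf D.π.ker).index = a0 := by
  by_cases hex : ∃ k : K, orderOf k = 2 ∧ k ≠ D.zbar
  · obtain ⟨k0, h0, h0z⟩ := hex
    have hconst : ∀ k : K, orderOf k = 2 → k ≠ D.zbar →
        Nat.card {c : D.C // D.π c = k ∧ orderOf c = 2} = Nat.card {c : D.C // D.π c = k0 ∧ orderOf c = 2} := by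
      intro k hk hkz
      obtain ⟨q, hq⟩ := isConj_iff.1 (hK k k0 hk hkz h0 h0z)
      obtain ⟨t, rfl⟩ := D.surj q
      refine Nat.card_congr ((MulAut.conj t).toEquiv.subtypeEquiv fun c => ?_)
      show (D.π c = k ∧ orderOf c = 2) ↔ (D.π (MulAut.conj t c) = k0 ∧ orderOf (MulAut.conj t c) = 2)
      rw [MulEquiv.orderOf_eq, MulAut.conj_apply, map_mul, map_mul, map_inv]
      refine and_congr_left fun _ => ⟨fun h => by rw [h, hq], fun h => ?_⟩
      rw [← hq] at h
      exact mul_left_cancel (mul_right_cancel h)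
    refine ⟨_, ?_, hconst, fun w hw hwz => by rw [← D.card_over hw]; exact hconst _ (D.pi_order_two hw) hwz⟩
    obtain ⟨c, hc1, hc2⟩ := D.exists_invol_over h0
    haveI : Nonempty {c : D.C // D.π c = k0 ∧ orderOf c = 2} := ⟨⟨c, hc1, hc2⟩⟩
    exact Nat.card_pos.ne'
  · exact ⟨1, one_ne_zero, fun k hk hkz => absurd ⟨k, hk, hkz⟩ hex,
      fun w hw hwz => absurd ⟨_, D.pi_order_two hw, hwz⟩ hex⟩

/-- The non-central involutions of the centraliser. -/
theorem card_noncentral {a0 : ℕ} (ha0 : ∀ k : K, orderOf k = 2 → k ≠ D.zbar →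
      Nat.card {c : D.C // D.π c = k ∧ orderOf c = 2} = a0) :
    Nat.card {c : D.C // orderOf c = 2 ∧ (c : G) ≠ D.z} = a0 * (invol' D.zbar).card := by
  have h := D.sum_invol_fibre ha0 (fun k => if k = D.zbar then 0 else (1 : ℂ))
  have h1 : ∑ q ∈ invol' D.zbar, (if q = D.zbar then 0 else (1 : ℂ)) = ((invol' D.zbar).card : ℂ) := by
    rw [Finset.card_eq_sum_ones, Nat.cast_sum, Nat.cast_one]
    refine Finset.sum_congr rfl fun q hq => if_neg ?_
    simp only [invol', Finset.mem_filter] at hq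
    exact hq.2.2
  rw [if_pos rfl, zero_add, h1] at h
  have e : ∀ c ∈ invol ↥D.C, (if D.π c = D.zbar then 0 else (1 : ℂ)) = if (c : G) ≠ D.z then 1 else 0 := by
    intro c hc
    by_cases hz : (c : G) = D.z
    · rw [if_neg (not_not.2 hz), if_pos]
      rw [zbar]
      exact congrArg D.π (Subtype.ext hz)
    · rw [if_pos hz, if_neg]
      exact fun h => hz (congrArg Subtype.val (D.eq_z (mem_invol.1 hc) h))
  rw [Finset.sum_congr rfl e, Finset.sum_boole] at h
  rw [Nat.card_eq_fintype_card, Fintype.card_subtype]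
  have h' : (Finset.filter (fun c : ↥D.C => (c : G) ≠ D.z) (invol ↥D.C)).card = a0 * (invol' D.zbar).card := by exact_mod_cast h
  rw [← h', invol, Finset.filter_filter]

variable {M : Ideal AlgInt} {k : ℕ} {gram : Fin k → Fin k → ℤ} {tr val : Fin k → ℤ} {pr : Fin k → ℚ}

/-- The vectors of the projections. -/
theorem exists_vecs [IsSimpleGroup G] (hM : IsPModular 2 M) (hna : ¬ IsMulCommutative G)
    (hcls : ∀ i : G, orderOf i = 2 → IsConj D.z i) {a0 : ℕ} (ha : a0 ≠ 0)
    (ha0 : ∀ q : K, orderOf q = 2 → q ≠ D.zbar → Nat.card {c : D.C // D.π c = q ∧ orderOf c = 2} = a0)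
    (hn : (invol' D.zbar).Nonempty) (P : D.PFuns M gram tr val pr) :
    ∃ V : Vecs (IrrCharacter G) gram tr val pr,
      (V.R = (Nat.card D.C : ℚ) / (Nat.card G : ℚ) * ((a0 : ℚ) * (invol' D.zbar).card) ^ 2) ∧
      (∀ χ : IrrCharacter G, (V.deg χ : ℂ) = (χ : G → ℂ) 1 ∧ (V.val χ : ℂ) = (χ : G → ℂ) D.z) ∧
      (∀ i χ, (V.v i χ : ℂ) = D.coef M (P.f i) χ) ∧
      ∀ i j, (∀ q, conj (P.f i q) = P.f j q) → ∀ χ,
        V.v j (PrinCol.galIrr (starRingAut : RingAut ℂ) χ) = V.v i χ := by
  choose vv hv using fun i => D.coef_int M (P.gen i)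
  choose vt hvt using fun χ : IrrCharacter G => char_involution_int χ (mul_self_of_two D.ord)
  have hgam : ∀ i (g : G), D.gam M (P.f i) g = ∑ χ : IrrCharacter G, (vv i χ : ℂ) * (χ : G → ℂ) g := fun i g => by
    simp only [gam, hv]
  refine ⟨{ deg := fun χ => (charDegree (χ : G → ℂ) : ℤ), val := vt, o := trivialIrr G,
            deg_pos := fun χ => by exact_mod_cast charDeg_pos χ,
            deg_o := by simp [trivialIrr, charDeg_trivial],
            val_o := by
              have h := hvt (trivialIrr G)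
              simp only [trivialIrr] at h
              exact_mod_cast h.symm,
            linear := fun χ h => OrdP.eq_trivial_of_deg hna (by exact_mod_cast h),
            v := vv,
            gram_eq := fun i j => ?_, v_o := fun i => ?_, deg_sum := fun i => ?_, val_sum := fun i => ?_,
            R := (Nat.card D.C : ℚ) / (Nat.card G : ℚ) * ((a0 : ℚ) * (invol' D.zbar).card) ^ 2,
            R_ne := mul_ne_zero (div_ne_zero (Nat.cast_ne_zero.2 Nat.card_pos.ne')
              (Nat.cast_ne_zero.2 Nat.card_pos.ne')) (pow_ne_zero _ (mul_ne_zero (Nat.cast_ne_zero.2 ha)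
              (Nat.cast_ne_zero.2 hn.card_pos.ne'))),
            eq := fun i => ?_ }, rfl, fun χ => ⟨?_, (hvt χ).symm⟩, fun i χ => (hv i χ).symm, fun i j hij χ => ?_⟩
  · have h := D.inner_coef hM (f := P.f i) (g := P.f j) (F := P.F i) fun c hc => P.value i c (Or.inl ⟨j, hc⟩)
    simp only [hv, map_intCast, P.inner] at h
    exact_mod_cast h
  · have h := D.coef_trivial hM (P.f i)
    rw [hv, P.inner_one] at h
    exact_mod_cast h
  · have h := hgam i 1
    rw [D.gam_one hM (P.odd i)] at h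
    have h' : ((∑ χ, vv i χ * (charDegree (χ : G → ℂ) : ℤ) : ℤ) : ℂ) = ((0 : ℤ) : ℂ) := by
      push_cast; rw [h]
      exact Finset.sum_congr rfl fun χ _ => by rw [charDeg_spec']
    exact_mod_cast h'
  · have h := hgam i D.z
    rw [P.value i ⟨D.z, D.z_mem⟩ (Or.inr (Or.inl rfl))] at h
    have h' : ((∑ χ, vv i χ * vt χ : ℤ) : ℂ) = (val i : ℂ) := by
      rw [← P.at_z i, zbar, h]; push_cast
      exact Finset.sum_congr rfl fun χ _ => by rw [hvt]
    exact_mod_cast h'
  · have h := D.pairing hM hcls ha0 (P.odd i) (F := P.F i) fun a b ha hb hc => P.value i _ (Or.inr (Or.inr ⟨hc, a, b, ha, hb, rfl⟩))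
    rw [P.pair] at h
    have h' : ((evalE (fun χ : IrrCharacter G => (charDegree (χ : G → ℂ) : ℤ)) vt (vv i) : ℚ) : ℂ) =
        (((Nat.card D.C : ℚ) / (Nat.card G : ℚ) * ((a0 : ℚ) * (invol' D.zbar).card) ^ 2 * pr i : ℚ) : ℂ) := by
      simp only [evalE]
      push_cast
      calc ∑ χ : IrrCharacter G, (vv i χ : ℂ) * (vt χ : ℂ) ^ 2 / (charDegree (χ : G → ℂ) : ℂ)
          = _ := Finset.sum_congr rfl fun χ _ => by rw [← charDeg_spec', ← hvt, ← hv]
        _ = _ := h
        _ = _ := by push_cast; ring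
    exact_mod_cast h'
  · push_cast
    exact (charDeg_spec' χ).symm
  · have h := D.coef_conj hM (P.f i) χ
    rw [show (fun q => conj (P.f i q)) = P.f j from funext hij, hv, hv, map_intCast] at h
    exact_mod_cast h

end PData

end Cfsg.Agent.Invol.AbgOrder
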