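import Cfsg.Agent.Lib.Invol.AbgOrder.SdTheta
import Cfsg.Agent.Lib.Invol.AbgOrder.ProjVecs
import Cfsg.Agent.Lib.Invol.BrauerL3.Shape

/-!
# A constituent of degree ten of the witness for `Q = -9`

The third row is built on one regular character trivial at `e`.  Replacing it by another one changes the row, as the
projections take different values at an element of order `16` of the non-split torus; so the witness drops out of
the row and has the new discrete series character as a constituent on the centraliser.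
-/

set_option autoImplicit false
set_option linter.unusedSectionVars false
set_option linter.style.haveILetI false
set_option maxHeartbeats 2000000

open scoped ComplexConjugate Classical

namespace Cfsg.Agent.Invol.AbgOrder

open Cfsg Cfsg.Agent.Char Cfsg.Agent.Block
open Cfsg.Agent.Invol.BrauerL3 (scal mem_scal SgnIrr Vecs gramSd valSd pairSd matSd IsSigned sv sv_self sv_of_ne
  exists_faithful)
open Cfsg.Agent.Block.SL2Char (cv)

universe u v w v'

variable {G : Type v'} [Group G] [Fintype G] {X : Type u} [Group X] [Fintype X] {N : Subgroup X} {H : Type v}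
  [Group H] {K : Type w} [CommGroup K] {Q : ℤ}

/-- Two shapes with three rows in common have the same third row if they share its free term. -/
theorem row_two_eq {ι : Type u} [Fintype ι] {Q : ℤ} (V V' : Vecs ι gramSd (fun _ => 1) (valSd Q) (pairSd Q))
    (ho : V'.o = V.o) (e0 : V'.v 0 = V.v 0) (e3 : V'.v 3 = V.v 3) {χ : ι} (hχ : χ ≠ V.o) (h0 : V.v 0 χ = 0)
    (h2 : V.v 2 χ = 1) (h2' : V'.v 2 χ = 1) : V'.v 2 = V.v 2 := by
  obtain ⟨S⟩ := Vecs.five_sd Q V
  obtain ⟨S'⟩ := Vecs.five_sd Q V'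
  have hw : ∀ i, V'.v i = V.v i → V'.w i = V.w i := fun i h => funext fun x => by simp only [Vecs.w, ho, h]
  have t0 := hw 0 e0
  have t3 := hw 3 e3
  have s3 : V.w 3 = sv S.a + sv (S.e 1) := S.wT 1
  have s3' : V'.w 3 = sv S'.a + sv (S'.e 1) := S'.wT 1
  have s2 : V.w 2 = sv S.a + sv (S.e 0) := S.wT 0
  have s2' : V'.w 2 = sv S'.a + sv (S'.e 0) := S'.wT 0
  have ea : S'.a = S.a := by
    have h : V.w 0 S'.a.1 = S'.a.2 := by
      rw [← t0, S'.wA, Pi.add_apply, Pi.add_apply, sv_self, sv_of_ne S'.ab, sv_of_ne S'.ac]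
      ring
    have h' : V.w 3 S'.a.1 = S'.a.2 := by
      rw [← t3, s3', Pi.add_apply, sv_self,
        sv_of_ne (S'.ea 1).symm, add_zero]
    have h1 : S'.a.1 = S.a.1 := by
      by_contra hne
      have hz : V.w 0 S'.a.1 = 0 := by
        rw [s3, Pi.add_apply, sv_of_ne hne, zero_add] at h'
        have he : S'.a.1 = (S.e 1).1 := by
          by_contra he
          rw [sv_of_ne he] at h'
          exact S'.ha.ne_zero h'.symm
        rw [he, S.wA, Pi.add_apply, Pi.add_apply, sv_of_ne (S.ea 1), sv_of_ne (S.eb 1), sv_of_ne (S.ec 1)]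
        ring
      exact S'.ha.ne_zero (by rw [← h, hz])
    refine Prod.ext h1 ?_
    rw [← h, h1, S.wA, Pi.add_apply, Pi.add_apply, sv_self, sv_of_ne S.ab, sv_of_ne S.ac]
    ring
  have key : ∀ {W : Vecs ι gramSd (fun _ => 1) (valSd Q) (pairSd Q)} (T : W.Shape 0 1 ![2, 3, 4]), W.o = V.o →
      W.v 2 χ = 1 → W.v 0 χ = 0 → T.e 0 = (χ, 1) := by
    intro W T ho' e2 e0'
    have hwo : χ ≠ W.o := ho' ▸ hχ
    have ht : W.w 2 χ = 1 := (if_neg hwo).trans e2
    have h00 : W.w 0 χ = 0 := (if_neg hwo).trans e0'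
    have hna : χ ≠ T.a.1 := fun e => T.ha.ne_zero (by
      rw [← h00, e, T.wA, Pi.add_apply, Pi.add_apply, sv_self, sv_of_ne T.ab, sv_of_ne T.ac]
      ring)
    have t2 : W.w 2 = sv T.a + sv (T.e 0) := T.wT 0
    rw [t2, Pi.add_apply, sv_of_ne hna, zero_add] at ht
    have he : χ = (T.e 0).1 := by
      by_contra he
      rw [sv_of_ne he] at ht
      exact zero_ne_one ht
    exact Prod.ext he.symm (by rw [he, sv_self] at ht; exact ht)
  have ee : S'.e 0 = S.e 0 := by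
    rw [key S' ho h2' ((congrFun e0 χ).trans h0), key S rfl h2 h0]
  funext x
  rw [V'.v_eq, V.v_eq, ho, s2', s2, ea, ee]

namespace NSys

variable {N₀ : Type u} [Group N₀] [Fintype N₀] (Y : NSys N₀ H K Q)
include Y

/-- An element of order `16` and two regular characters with different sums at it. -/
theorem exists_two_theta (hQ : Q = -9) : ∃ (l : K) (θ θ' : K →* ℂˣ),
    l ^ 16 = 1 ∧ l ∉ scal K Q ∧ l * l ∉ scal K Q ∧ RegChar Q θ ∧ θ (Y.e : K) = 1 ∧ RegChar Q θ' ∧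
      θ' (Y.e : K) = 1 ∧ cv θ l + cv θ (l ^ Q) ≠ cv θ' l + cv θ' (l ^ Q) := by
  haveI := Y.T.finiteK
  haveI := Y.T.cyc
  obtain ⟨χ, hχ⟩ := exists_faithful (K := K)
  obtain ⟨g, hg⟩ := IsCyclic.exists_ofOrder_eq_natCard (α := K)
  have hK : Nat.card K = 80 := by
    have h := Y.T.card
    rw [hQ] at h
    omega
  rw [hK] at hg
  have h80 : ∀ x : K, x ^ 80 = 1 := fun x => hK ▸ pow_card_eq_one'
  set l := g ^ 5 with hl
  have hpow : ∀ j : ℕ, l ^ j = 1 → 16 ∣ j := fun j hj => by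
    rw [hl, ← pow_mul, ← orderOf_dvd_iff_pow_eq_one, hg, show 80 = 5 * 16 from rfl] at hj
    exact Nat.dvd_of_mul_dvd_mul_left (by norm_num) hj
  have hz : ∀ x : K, x ∈ scal K Q → x ^ 10 = 1 := fun x hx => by
    have h := mem_scal.1 hx
    rw [hQ, show (-9 : ℤ) - 1 = -((10 : ℕ) : ℤ) by norm_num, zpow_neg, inv_eq_one, zpow_natCast] at h
    exact h
  set ω : ℂ := (χ l : ℂ) with hω
  have hω16 : ω ^ 16 = 1 := by
    rw [hω, ← Units.val_pow_eq_pow_val, ← map_pow, hl, ← pow_mul, h80, map_one, Units.val_one]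
  have hω8 : ω ^ 8 = -1 := by
    rcases mul_self_eq_one_iff.1 (show ω ^ 8 * ω ^ 8 = 1 by rw [← pow_add]; exact hω16) with h | h
    · rw [hω, ← Units.val_pow_eq_pow_val, ← map_pow, Units.val_eq_one] at h
      exact absurd (hpow 8 (hχ (h.trans (map_one χ).symm))) (by norm_num)
    · exact h
  have hω0 : ω ≠ 0 := fun h => by rw [h] at hω16; norm_num at hω16
  have hlQ : ∀ θ : K →* ℂˣ, cv θ (l ^ Q) = cv θ l ^ Q := fun θ => by
    simp only [cv, map_zpow, Units.val_zpow_eq_zpow_val]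
  have hcv : ∀ j, cv (χ.comp (powMonoidHom j)) l = ω ^ j := fun j => by
    simp only [cv, MonoidHom.coe_comp, Function.comp_apply, powMonoidHom_apply, map_pow, Units.val_pow_eq_pow_val,
      hω]
  have h9 : ∀ x : ℂ, x ≠ 0 → x ^ 8 = 1 → x ^ Q = x⁻¹ := fun x hx h => by
    rw [hQ, show (-9 : ℤ) = -((9 : ℕ) : ℤ) from rfl, zpow_neg, zpow_natCast, pow_succ, h, one_mul]
  have hreg : ∀ j : ℕ, 10 ∣ j → j < 40 → (ω ^ j) ^ 2 ≠ 1 → RegChar Q (χ.comp (powMonoidHom j)) ∧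
      χ.comp (powMonoidHom j) (Y.e : K) = 1 := by
    intro j hj hj' hne
    obtain ⟨i, rfl⟩ := hj
    refine ⟨⟨fun x hx => ?_, l, fun h => ?_⟩, ?_⟩
    · have h5 : x ^ 5 = 1 := by
        refine orderOf_dvd_iff_pow_eq_one.1 ((Nat.Coprime.pow_right 4 (Nat.coprime_two_right.2 hx)).dvd_of_dvd_mul_left ?_)
        exact orderOf_dvd_of_pow_eq_one (h80 x)
      rw [MonoidHom.comp_apply, powMonoidHom_apply, show 10 * i = 5 * (2 * i) by ring, pow_mul, h5, one_pow, map_one]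
    · refine hne ?_
      have h' : cv (χ.comp (powMonoidHom (10 * i))) l ^ Q = cv (χ.comp (powMonoidHom (10 * i))) l := by
        rw [← hlQ]
        exact congrArg Units.val h
      rw [hcv, h9 _ (pow_ne_zero _ hω0) (by
        rw [← pow_mul, show 10 * i * 8 = 16 * (5 * i) by ring, pow_mul, hω16, one_pow])] at h'
      rw [sq]
      nth_rewrite 1 [← h']
      exact inv_mul_cancel₀ (pow_ne_zero _ hω0)
    · have he : (Y.e : K) * Y.e = 1 := congrArg Subtype.val Y.e_sq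
      simp [show 10 * i = 2 * (5 * i) by ring, pow_mul, sq, he]
  have hnz : ω ^ 20 + (ω ^ 20) ^ Q = 0 := by
    rw [h9 _ (pow_ne_zero _ hω0) (by rw [← pow_mul, show 20 * 8 = 16 * 10 by rfl, pow_mul, hω16, one_pow])]
    refine (mul_eq_zero.1 (show (ω ^ 20 + (ω ^ 20)⁻¹) * ω ^ 20 = 0 by
      rw [add_mul, inv_mul_cancel₀ (pow_ne_zero _ hω0), ← pow_add, show 20 + 20 = 8 + 16 * 2 from rfl, pow_add, hω8,
        pow_mul, hω16, one_pow]
      norm_num)).resolve_right (pow_ne_zero _ hω0)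
  have h10 : ω ^ 10 + (ω ^ 10) ^ Q ≠ 0 := by
    rw [h9 _ (pow_ne_zero _ hω0) (by rw [← pow_mul, show 10 * 8 = 16 * 5 by rfl, pow_mul, hω16, one_pow])]
    intro h
    have h' : ω ^ 20 = -1 := by
      have := congrArg (· * ω ^ 10) h
      simp only [add_mul, inv_mul_cancel₀ (pow_ne_zero _ hω0), zero_mul] at this
      linear_combination this
    have h4 : ω ^ 4 = -1 := by
      rw [show 20 = 4 + 16 from rfl, pow_add, hω16, mul_one] at h'
      exact h'
    rw [show 8 = 4 + 4 from rfl, pow_add, h4] at hω8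
    norm_num at hω8
  obtain ⟨r1, e1⟩ := hreg 10 dvd_rfl (by norm_num) (by
    rw [← pow_mul, show 10 * 2 = 4 + 16 from rfl, pow_add, hω16, mul_one]
    intro h
    rw [show 8 = 4 + 4 from rfl, pow_add, h] at hω8
    norm_num at hω8)
  obtain ⟨r2, e2⟩ := hreg 20 (by norm_num) (by norm_num) (by
    rw [← pow_mul, show 20 * 2 = 8 + 16 * 2 from rfl, pow_add, hω8, pow_mul, hω16, one_pow]
    norm_num)
  refine ⟨l, _, _, ?_, fun h => absurd (hpow 10 (hz l h)) (by norm_num), fun h => absurd (hpow 20 ?_) (by norm_num),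
    r1, e1, r2, e2, ?_⟩
  · rw [hl, ← pow_mul, h80]
  · rw [show 20 = 2 * 10 from rfl, pow_mul, sq]
    exact hz _ h
  · rw [hlQ, hlQ, hcv, hcv, hnz]
    exact h10

end NSys

variable {D : PData G X} {Y : NSys N H K Q} {S : Split Y}

/-- The new character is a constituent. -/
theorem Frm.exists_constituent [IsSimpleGroup G] [Fintype (scal K Q)] (Fr : Frm D S) (hQ : Q = -9) {M : Ideal AlgInt}
    (hM : IsPModular 2 M) (hna : ¬ IsMulCommutative G) (hcls : ∀ i : G, orderOf i = 2 → IsConj D.z i) {a0 : ℕ}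
    (ha0 : a0 ≠ 0) (ha0c : ∀ q : X, orderOf q = 2 → q ≠ D.zbar →
      Nat.card {c : D.C // D.π c = q ∧ orderOf c = 2} = a0)
    (hn0 : (invol' D.zbar).Nonempty) {T3 : Sd3 Y} {f : Fin 5 → N → ℂ} (hB : ∀ i, InB0 M (f i))
    (hf : ∀ i g, f i (Y.π g) = ∑ j, (matSd i j : ℂ) * T3.vH j g)
    (V : Vecs (IrrCharacter G) gramSd (fun _ => 1) (valSd Q) (pairSd Q))
    (hdeg : ∀ χ, (V.deg χ : ℂ) = (χ : G → ℂ) 1) (hV : ∀ i χ, (V.v i χ : ℂ) = D.coef M (indFun N (f i)) χ)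
    {χ : IrrCharacter G} (hχ : χ ≠ V.o) (h0 : V.v 0 χ = 0) (h2 : V.v 2 χ = 1) :
    ∃ ψ : N → ℂ, IsIrrCharacter N ψ ∧ ψ 1 = 10 ∧ ψ (S.τ (Y.e, Y.e)) = 10 ∧ ψ (S.τ (1, Y.e)) = 0 ∧
      classInner (fun c : D.C => (χ : G → ℂ) c) (fun c => indFun N ψ (D.π c)) ≠ 0 := by
  haveI : Fact (Nat.Prime 2) := ⟨Nat.prime_two⟩
  haveI := Y.T.finiteK
  haveI := Y.T.cyc
  haveI := Y.finiteH
  haveI := Fr.hN.normal
  obtain ⟨l, θ₁, θ₂, h16, hl, hll, r1, e1, r2, e2, hne⟩ := Y.exists_two_theta hQ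
  obtain ⟨θ, hreg, he, hval⟩ : ∃ θ : K →* ℂˣ, RegChar Q θ ∧ θ (Y.e : K) = 1 ∧
      cv θ l + cv θ (l ^ Q) ≠ cv T3.θa l + cv T3.θa (l ^ Q) := by
    by_cases h : cv θ₁ l + cv θ₁ (l ^ Q) = cv T3.θa l + cv T3.θa (l ^ Q)
    · exact ⟨θ₂, r2, e2, fun h' => hne (h.trans h'.symm)⟩
    · exact ⟨θ₁, r1, e1, h⟩
  have hQ4 : Q % 4 = 3 := by rw [hQ]; rfl
  -- the second family
  let T3' : Sd3 Y := { T3 with θa := θ, hra := hreg, hea := he }
  obtain ⟨P, hPB, hP⟩ := Fr.exists_sdFuns3 hQ4 hM T3'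
  obtain ⟨P', hP'⟩ := D.exists_pfuns Fr.hN P
  obtain ⟨V', -, hVd, hVv, -⟩ := D.exists_vecs hM hna hcls ha0 ha0c hn0 P'
  have hV' : ∀ i χ, (V'.v i χ : ℂ) = D.coef M (indFun N (P.f i)) χ := fun i χ => by rw [hVv, hP']
  have hsame : ∀ i, (∀ g, P.f i (Y.π g) = f i (Y.π g)) → V'.v i = V.v i := fun i h => funext fun χ => by
    have e : P.f i = f i := funext fun m => by obtain ⟨g, rfl⟩ := Y.surj m; exact h g
    exact Int.cast_injective (α := ℂ) (by rw [hV', hV, e])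
  have ho : V'.o = V.o := by
    refine V.linear _ (Int.cast_injective (α := ℂ) ?_)
    rw [hdeg, ← (hVd _).1, V'.deg_o]
  have e0 : V'.v 0 = V.v 0 := hsame 0 fun g => by
    rw [hP, hf]; simp [Fin.sum_univ_succ, matSd, Sd3.vH, T3']
  have e3 : V'.v 3 = V.v 3 := hsame 3 fun g => by
    rw [hP, hf]; simp [Fin.sum_univ_succ, matSd, Sd3.vH, T3']
  have hP2 : ∀ g, P.f 2 (Y.π g) = 1 - Y.T.St g - Y.T.DS θ g := fun g => by
    rw [hP]; simp [Fin.sum_univ_succ, matSd, Sd3.vH, T3']; ring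
  have hf2 : ∀ g, f 2 (Y.π g) = 1 - Y.T.St g - Y.T.DS T3.θa g := fun g => by
    rw [hf]; simp [Fin.sum_univ_succ, matSd, Sd3.vH]; ring
  -- the rows differ
  have hdiff : V'.v 2 ≠ V.v 2 := by
    intro h
    set n := Y.π (Y.T.E l) with hn
    obtain ⟨c, hc⟩ := D.surj (n : X)
    have hn2 : n ^ (2 ^ 4) = 1 := by rw [hn, ← map_pow, ← map_pow, show (2 : ℕ) ^ 4 = 16 from rfl, h16, map_one, map_one]
    have hnot : ∀ x : K, Y.π (Y.T.E x) = 1 → x ∈ scal K Q := fun x hx => by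
      obtain ⟨a, ha, -⟩ := Y.T.ker_eq Y.π Y.ker_central Y.ker_odd (MonoidHom.mem_ker.2 hx)
      rw [← Y.T.E_eq] at ha
      exact Y.T.E_inj ha ▸ a.2
    have hn1 : n ≠ 1 := fun h => hl (hnot l h)
    have hnn : n * n ≠ 1 := fun h => hll (hnot _ (by rw [map_mul, map_mul]; exact h))
    have hdn : 2 ∣ orderOf n := by
      obtain ⟨j, hj, hj'⟩ := (Nat.dvd_prime_pow Nat.prime_two).1 (orderOf_dvd_of_pow_eq_one hn2)
      rcases j with _ | j
      · exact absurd (orderOf_eq_one_iff.1 (hj'.trans (pow_zero 2))) hn1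
      · exact ⟨2 ^ j, hj'.trans (pow_succ' 2 j)⟩
    have hnp : IsPPart 2 n n := ⟨1, mul_one _, Commute.one_right _, by
      obtain ⟨j, -, hj⟩ := (Nat.dvd_prime_pow Nat.prime_two).1 (orderOf_dvd_of_pow_eq_one hn2)
      exact ⟨j, hj⟩, by rw [orderOf_one]; decide⟩
    have hfst : ∀ p : scal K Q × scal K Q, Two p → ∃ k : ℕ, p.1 ^ 2 ^ k = 1 :=
      fun p ⟨k, hk⟩ => ⟨k, congrArg Prod.fst hk⟩
    have hsnd : ∀ p : scal K Q × scal K Q, Two p → ∃ k : ℕ, p.2 ^ 2 ^ k = 1 :=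
      fun p ⟨k, hk⟩ => ⟨k, congrArg Prod.snd hk⟩
    have hsq : ∀ p : scal K Q × scal K Q, Two p → p * p = 1 := fun p hp => Prod.ext
      (by rcases Y.two_eq hQ4 (hfst p hp) with e | e <;> simp [e, Y.e_sq])
      (by rcases Y.two_eq hQ4 (hsnd p hp) with e | e <;> simp [e, Y.e_sq])
    have hval' : ∀ (φ : N → ℂ) (θ₀ : K →* ℂˣ), RegChar Q θ₀ → InB0 M φ →
        (∀ g, φ (Y.π g) = 1 - Y.T.St g - Y.T.DS θ₀ g) →
        D.gam M (indFun N φ) c = 2 - (cv θ₀ l + cv θ₀ (l ^ Q)) := by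
      intro φ θ₀ h₀ hφB hφ
      have hax1 : ∀ q : scal K Q × scal K Q, Two q → q ≠ 1 → q.1 = 1 ∨ q.2 = 1 → ∀ m, Sec m (S.τ q) → φ m = 0 := by
        intro q hq hq1 hqa m hm
        have hne' : q.1 ≠ q.2 := fun e => hq1 <| by
          rcases hqa with h | h
          · exact Prod.ext h (e ▸ h)
          · exact Prod.ext (e.trans h) h
        obtain ⟨r, hr, hne'', -⟩ := S.sec_param hq hne' hm
        obtain ⟨d, rfl⟩ := isConj_iff.1 hr
        rw [hφB.1, S.val_tau hφB.1 hφ, Y.T.St_D _ _ hne'', Y.T.DS_D θ₀ _ _ h₀.2 hne'']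
        ring
      have hax2 : ∀ q : scal K Q × scal K Q, Two q → q ≠ 1 → q.1 = 1 ∨ q.2 = 1 → ¬ Sec n (S.τ q) := by
        intro q hq _ _ hs
        obtain ⟨y, hy, hcy⟩ := hs
        rw [← pPart_unique hnp hy] at hcy
        obtain ⟨d, hd⟩ := isConj_iff.1 hcy
        refine hnn ?_
        rw [← hd]
        calc d * S.τ q * d⁻¹ * (d * S.τ q * d⁻¹) = d * S.τ (q * q) * d⁻¹ := by rw [map_mul]; group
          _ = 1 := by rw [hsq q hq, map_one, mul_one, mul_inv_cancel]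
      have hcor : cor S φ n = 0 := by
        refine cor_eq_zero S φ fun p hp hg _ => ?_
        obtain ⟨hg0, hg1, hg2⟩ := hg
        exact hg0 (((Y.two_eq hQ4 (hfst p hp)).resolve_left hg1).trans
          ((Y.two_eq hQ4 (hsnd p hp)).resolve_left hg2).symm)
      rw [Fr.gam_value hM hφB hax1 hc hdn hax2, hcor, add_zero, hn, hφ, Y.T.St_E l hl, Y.T.DS_E θ₀ l h₀.2 hl]
      ring
    refine hval ?_
    have hg : D.gam M (indFun N (P.f 2)) c = D.gam M (indFun N (f 2)) c := by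
      simp only [PData.gam, ← hV', ← hV, h]
    rw [hval' _ θ hreg (hPB 2) hP2, hval' _ T3.θa T3.hra (hB 2) hf2] at hg
    linear_combination -hg
  have h2' : V'.v 2 χ ≤ 0 := by
    have hno : χ ≠ V'.o := ho ▸ hχ
    obtain ⟨S'⟩ := Vecs.five_sd Q V'
    have h1 : V'.v 2 χ ≠ 1 := fun h => hdiff (row_two_eq V V' ho e0 e3 hχ h0 h2 h)
    have hn : ∑ x, V'.v 2 x * V'.v 2 x ≤ 3 := (V'.gram_eq 2 2).le.trans (by decide)
    rcases BrauerL3.small_of_norm hn χ with h | h | h <;> omega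
  -- the two characters
  have hdesc : ∀ θ₀ : K →* ℂˣ, RegChar Q θ₀ → ∃ ψ : N → ℂ, IsIrrCharacter N ψ ∧
      ∀ g, ψ (Y.π g) = Y.T.DS θ₀ g := by
    intro θ₀ h₀
    obtain ⟨ψ, hψ, hψπ⟩ := Y.T.descend Y.π Y.surj Y.ker_central Y.ker_odd (Y.T.DS_irr θ₀ h₀.2) fun a ha => by
      rw [Y.T.DS_sc _ a h₀.2, Y.T.DS_one h₀.2, cv, h₀.1 _ (by rwa [Subgroup.orderOf_coe]), Units.val_one, mul_one]
    refine ⟨ψ, hψ.resolve_right fun hneg => ?_, hψπ⟩
    obtain ⟨d, -, hd⟩ := IsIrr.one_eq_pos hneg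
    rw [Pi.neg_apply, ← map_one Y.π, hψπ, Y.T.DS_one h₀.2, hQ] at hd
    have : ((d + 10 : ℕ) : ℂ) = ((0 : ℕ) : ℂ) := by push_cast; push_cast at hd; linear_combination -hd
    have := Nat.cast_injective this
    omega
  obtain ⟨ψa, hψa, hψaπ⟩ := hdesc T3.θa T3.hra
  obtain ⟨ψ, hψ, hψπ⟩ := hdesc θ hreg
  refine ⟨ψ, hψ, ?_, ?_, ?_, fun hzero => ?_⟩
  · rw [← map_one Y.π, hψπ, Y.T.DS_one hreg.2, hQ]; norm_num
  · rw [S.val_tau (IsIrr.classFun hψ) hψπ, Y.T.DS_sc _ _ hreg.2, cv, he, hQ]; norm_num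
  · rw [S.val_tau (IsIrr.classFun hψ) hψπ, Y.T.DS_D _ _ _ hreg.2 (Ne.symm Y.e_ne)]
  have hblock : χ ∈ principalBlock M G := by
    by_contra hb
    have := hV 2 χ
    rw [h2, D.coef_eq_zero M _ hb] at this
    norm_num at this
  -- the difference of the rows
  have hfun : (fun c : D.C => indFun N ψa (D.π c)) + (fun c : D.C => indFun N (f 2) (D.π c)) =
      (fun c : D.C => indFun N ψ (D.π c)) + fun c : D.C => indFun N (P.f 2) (D.π c) := by
    have e : ψa + f 2 = ψ + P.f 2 := funext fun m => by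
      obtain ⟨g, rfl⟩ := Y.surj m
      simp only [Pi.add_apply, hψaπ, hψπ, hP2, hf2]
      ring
    funext c
    have h := congrFun (congrArg (indFun N) e) (D.π c)
    rw [indFun_add, indFun_add] at h
    exact h
  have hχC : IsCharacter D.C (fun c : D.C => (χ : G → ℂ) c) := IsChar.res (irr_isChar χ) D.C
  have hind : ∀ {φ : N → ℂ}, IsIrrCharacter N φ → IsCharacter D.C (fun c : D.C => indFun N φ (D.π c)) :=
    fun hφ => IsChar.comp D.π (isCharacter_indFun N (IsIrr.isCharacter hφ))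
  obtain ⟨m, hm⟩ := IsChar.classInner_nat (hind hψa) hχC
  obtain ⟨m', hm'⟩ := IsChar.classInner_nat (hind hψ) hχC
  have h := congrArg (fun φ => classInner φ (fun c : D.C => (χ : G → ℂ) c)) hfun
  have hcoef : ∀ φ : X → ℂ, classInner (fun c : D.C => φ (D.π c)) (fun c : D.C => (χ : G → ℂ) c) = D.coef M φ χ :=
    fun φ => (if_pos hblock).symm
  simp only [classInner_add_left, hm, hm', hcoef, ← hV, ← hV', h2] at h
  have hm0 : m' = 0 := by
    rw [← classInner_conj_symm, hm', map_natCast] at hzero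
    exact_mod_cast hzero
  subst hm0
  have h' : ((m : ℤ) + 1) = V'.v 2 χ := Int.cast_injective (α := ℂ) (by
    push_cast
    simpa using h)
  omega

end Cfsg.Agent.Invol.AbgOrder
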