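import Cfsg.Agent.Lib.Invol.AbgOrder.ProjData

/-!
# Pairs of involutions against a projection

With one class of involutions only the pairs of involutions of `C(z)` with `z` among the powers of the product count,
and each pair of non-central images has `a0²` liftings.
-/

set_option autoImplicit false
set_option linter.unusedSectionVars false
set_option linter.style.haveILetI false

open scoped ComplexConjugate Classical

namespace Cfsg.Agent.Invol.AbgOrder

open Cfsg Cfsg.Agent.Char Cfsg.Agent.Block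
open Cfsg.Agent.Invol.BrauerL3 (invol sum_conj_class mul_self_of_two)
open Cfsg.Agent.Invol.Wreath5Core (conj_of_same_image eq_one_of_ker)

universe u v

variable {G : Type u} [Group G] [Fintype G]

theorem mem_invol {i : G} : i ∈ invol G ↔ orderOf i = 2 := by simp [invol]

theorem two_dvd_of_mem {g u : G} (hu : orderOf u = 2) (h : u ∈ Subgroup.zpowers g) : 2 ∣ orderOf g := by
  obtain ⟨n, rfl⟩ := Subgroup.mem_zpowers_iff.1 h
  rw [← hu]
  exact orderOf_dvd_of_pow_eq_one (by rw [← zpow_natCast, zpow_comm, zpow_natCast, pow_orderOf_eq_one, one_zpow])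

/-- An element of even order has one involution among its powers, one of odd order none. -/
theorem unique_invol {g : G} (hg : 2 ∣ orderOf g) :
    ∃ u, orderOf u = 2 ∧ u ∈ Subgroup.zpowers g ∧
      ∀ u', orderOf u' = 2 → u' ∈ Subgroup.zpowers g → u' = u := by
  have hne : orderOf g / 2 ≠ 0 := by
    obtain ⟨c, hc⟩ := hg
    have := orderOf_pos g
    omega
  have h2 : orderOf (g ^ (orderOf g / 2)) = 2 := by
    rw [orderOf_pow' g hne, Nat.gcd_eq_right (Nat.div_dvd_of_dvd hg), Nat.div_div_self hg (orderOf_pos g).ne']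
  refine ⟨_, h2, pow_mem (Subgroup.mem_zpowers g) _, fun u' hu' hmem => ?_⟩
  obtain ⟨a, rfl⟩ := mem_powers_iff_mem_zpowers.2 hmem
  exact Wreath5Core.Data.pow_unique hu' h2

variable {z : G} (hz : orderOf z = 2) (h1 : ∀ i : G, orderOf i = 2 → IsConj z i)
  {F : G → ℂ} (hF : IsClassFunction G F) (h0 : ∀ g : G, ¬ 2 ∣ orderOf g → F g = 0)

include hz h1 hF h0 in
/-- The pairs whose product has `z` among its powers. -/
theorem sum_invol_eq :
    ∑ j ∈ invol G, F (z * j) =
      ∑ i ∈ invol G, ∑ j ∈ invol G, if z ∈ Subgroup.zpowers (i * j) then F (i * j) else 0 := by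
  have hconj : ∀ (t : G) (Φ : G → ℂ), ∑ j ∈ invol G, Φ (t * j * t⁻¹) = ∑ j ∈ invol G, Φ j := fun t Φ =>
    Finset.sum_equiv (MulAut.conj t).toEquiv (fun j => by
      simp only [mem_invol, MulEquiv.toEquiv_eq_coe, MulEquiv.coe_toEquiv, MulEquiv.orderOf_eq]) fun j _ => by
        simp [MulAut.conj_apply]
  have hz' : z ∈ invol G := mem_invol.2 hz
  have hI : ((invol G).card : ℂ) ≠ 0 := Nat.cast_ne_zero.2 (Finset.card_ne_zero.2 ⟨z, hz'⟩)
  refine mul_left_cancel₀ hI ?_
  have e1 : ∀ i ∈ invol G, ∑ j ∈ invol G, F (i * j) = ∑ j ∈ invol G, F (z * j) := by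
    intro i hi
    obtain ⟨t, rfl⟩ := isConj_iff.1 (h1 i (mem_invol.1 hi))
    rw [← hconj t (fun j => F (t * z * t⁻¹ * j))]
    refine Finset.sum_congr rfl fun j _ => ?_
    rw [← hF (z * j) t]
    group
  have e2 : ∀ i ∈ invol G, ∀ j ∈ invol G, F (i * j) =
      ∑ u ∈ invol G, if u ∈ Subgroup.zpowers (i * j) then F (i * j) else 0 := by
    intro i _ j _
    by_cases hev : 2 ∣ orderOf (i * j)
    · obtain ⟨u, hu, humem, huniq⟩ := unique_invol hev
      rw [Finset.sum_eq_single u (fun u' hu' hne => if_neg fun h => hne (huniq u' (mem_invol.1 hu') h))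
        (fun h => absurd (mem_invol.2 hu) h), if_pos humem]
    · rw [Finset.sum_eq_zero fun u hu => if_neg fun h => hev (two_dvd_of_mem (mem_invol.1 hu) h), h0 _ hev]
  have e3 : ∀ u ∈ invol G, (∑ i ∈ invol G, ∑ j ∈ invol G, if u ∈ Subgroup.zpowers (i * j) then F (i * j) else 0) =
      ∑ i ∈ invol G, ∑ j ∈ invol G, if z ∈ Subgroup.zpowers (i * j) then F (i * j) else 0 := by
    intro u hu
    obtain ⟨t, rfl⟩ := isConj_iff.1 (h1 u (mem_invol.1 hu))
    rw [← hconj t (fun i => ∑ j ∈ invol G, if t * z * t⁻¹ ∈ Subgroup.zpowers (i * j) then F (i * j) else 0)]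
    refine Finset.sum_congr rfl fun i _ => ?_
    rw [← hconj t (fun j => if t * z * t⁻¹ ∈ Subgroup.zpowers (t * i * t⁻¹ * j) then F (t * i * t⁻¹ * j) else 0)]
    refine Finset.sum_congr rfl fun j _ => ?_
    rw [show t * i * t⁻¹ * (t * j * t⁻¹) = t * (i * j) * t⁻¹ by group, hF]
    refine if_congr ?_ rfl rfl
    rw [← MulAut.conj_apply, ← MulAut.conj_apply, ← MulEquiv.coe_toMonoidHom, ← MonoidHom.map_zpowers,
      Subgroup.mem_map_iff_mem (MulAut.conj t).injective]
  rw [← nsmul_eq_mul, ← nsmul_eq_mul, ← Finset.sum_const, ← Finset.sum_const, ← Finset.sum_congr rfl e1,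
    ← Finset.sum_congr rfl e3]
  rw [Finset.sum_congr rfl fun i hi => Finset.sum_congr rfl (e2 i hi), Finset.sum_comm (t := invol G)
    (f := fun u i => ∑ j ∈ invol G, if u ∈ Subgroup.zpowers (i * j) then F (i * j) else 0)]
  exact Finset.sum_congr rfl fun i _ => Finset.sum_comm

variable {K : Type v} [Group K] [Fintype K]

/-- The involutions other than the distinguished one. -/
noncomputable def invol' (zb : K) : Finset K := Finset.univ.filter fun k => orderOf k = 2 ∧ k ≠ zb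

/-- The pairs of non-central involutions with `zb` among the powers of the product, weighted by a function. -/
noncomputable def pairK (zb : K) (F : K → ℂ) : ℂ :=
  ∑ i ∈ invol' zb, ∑ j ∈ invol' zb, if zb ∈ Subgroup.zpowers (i * j) then F (i * j) else 0

namespace PData

variable (D : PData G K)

theorem zbar_sq : D.zbar * D.zbar = 1 := by
  rw [zbar, ← map_mul, show (⟨D.z, D.z_mem⟩ : D.C) * ⟨D.z, D.z_mem⟩ = 1 from Subtype.ext (mul_self_of_two D.ord),
    map_one]

theorem ordC : orderOf (⟨D.z, D.z_mem⟩ : D.C) = 2 := by rw [← Subgroup.orderOf_coe]; exact D.ord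

theorem pi_order_two {c : D.C} (hc : orderOf c = 2) : orderOf (D.π c) = 2 :=
  orderOf_eq_prime_iff.2 ⟨by rw [← map_pow, ← hc, pow_orderOf_eq_one, map_one], fun h => by
    rw [eq_one_of_ker D.π D.odd ⟨1, hc.trans (pow_one 2).symm⟩ h, orderOf_one] at hc
    omega⟩

theorem zbar_order : orderOf D.zbar = 2 := D.pi_order_two D.ordC

/-- The involution of the centraliser over the central image is `z`. -/
theorem eq_z {c : D.C} (hc : orderOf c = 2) (h : D.π c = D.zbar) : c = ⟨D.z, D.z_mem⟩ := by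
  obtain ⟨l, -, hl⟩ := conj_of_same_image D.π D.odd (t := ⟨D.z, D.z_mem⟩) (t' := c)
    ⟨1, D.ordC.trans (pow_one 2).symm⟩ ⟨1, hc.trans (pow_one 2).symm⟩ h.symm
  rw [← hl]
  refine Subtype.ext ?_
  show (l : G) * D.z * (l : G)⁻¹ = D.z
  rw [Subgroup.mem_centralizer_singleton_iff.1 l.2, mul_inv_cancel_right]

/-- `z` is a power exactly if its image is. -/
theorem z_mem_zpowers_iff (c : D.C) : D.z ∈ Subgroup.zpowers (c : G) ↔ D.zbar ∈ Subgroup.zpowers (D.π c) := by
  constructor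
  · intro h
    obtain ⟨n, hn⟩ := Subgroup.mem_zpowers_iff.1 h
    refine Subgroup.mem_zpowers_iff.2 ⟨n, ?_⟩
    rw [← map_zpow, zbar]
    exact congrArg D.π (Subtype.ext (by rw [Subgroup.coe_zpow]; exact hn))
  · intro h
    obtain ⟨n, hn⟩ := Subgroup.mem_zpowers_iff.1 h
    have hker : c ^ n * ⟨D.z, D.z_mem⟩ ∈ D.π.ker := by
      rw [MonoidHom.mem_ker, map_mul, map_zpow, hn]
      exact D.zbar_sq
    have h1 : (c ^ n * ⟨D.z, D.z_mem⟩) ^ Nat.card D.π.ker = 1 :=
      orderOf_dvd_iff_pow_eq_one.1 (D.π.ker.orderOf_dvd_natCard hker)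
    have hcm : Commute (c ^ n) (⟨D.z, D.z_mem⟩ : D.C) :=
      Subtype.ext (Subgroup.mem_centralizer_singleton_iff.1 (c ^ n).2)
    obtain ⟨r, hr⟩ : Odd (Nat.card D.π.ker) := Nat.not_even_iff_odd.1 fun he => D.odd he.two_dvd
    rw [hcm.mul_pow] at h1
    have h2 : (⟨D.z, D.z_mem⟩ : D.C) ^ Nat.card D.π.ker = ⟨D.z, D.z_mem⟩ := by
      rw [hr, pow_succ, pow_mul, pow_two, show (⟨D.z, D.z_mem⟩ : D.C) * ⟨D.z, D.z_mem⟩ = 1 from
        Subtype.ext (mul_self_of_two D.ord), one_pow, one_mul]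
    rw [h2] at h1
    have h3 : (c ^ n) ^ Nat.card D.π.ker = (⟨D.z, D.z_mem⟩ : D.C) := by
      rw [eq_inv_of_mul_eq_one_left h1]
      exact inv_eq_of_mul_eq_one_left (Subtype.ext (mul_self_of_two D.ord))
    refine Subgroup.mem_zpowers_iff.2 ⟨n * (Nat.card D.π.ker : ℤ), ?_⟩
    rw [zpow_mul, zpow_natCast]
    exact congrArg Subtype.val h3

/-- The sum over the involutions of the centraliser by their images. -/
theorem sum_invol_fibre {a0 : ℕ} (ha0 : ∀ k : K, orderOf k = 2 → k ≠ D.zbar →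
      Nat.card {c : D.C // D.π c = k ∧ orderOf c = 2} = a0) (Φ : K → ℂ) :
    ∑ c ∈ invol ↥D.C, Φ (D.π c) = Φ D.zbar + (a0 : ℂ) * ∑ k ∈ invol' D.zbar, Φ k := by
  have hz : (⟨D.z, D.z_mem⟩ : D.C) ∈ invol ↥D.C := mem_invol.2 D.ordC
  rw [← Finset.add_sum_erase _ _ hz]
  refine congrArg _ ?_
  have hmap : ∀ c ∈ (invol ↥D.C).erase ⟨D.z, D.z_mem⟩, D.π c ∈ invol' D.zbar := fun c hc => by
    obtain ⟨hne, hc⟩ := Finset.mem_erase.1 hc
    exact Finset.mem_filter.2 ⟨Finset.mem_univ _, D.pi_order_two (mem_invol.1 hc),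
      fun h => hne (D.eq_z (mem_invol.1 hc) h)⟩
  rw [← Finset.sum_fiberwise_of_maps_to hmap, Finset.mul_sum]
  refine Finset.sum_congr rfl fun k hk => ?_
  obtain ⟨hk2, hkz⟩ := (Finset.mem_filter.1 hk).2
  rw [Finset.sum_congr rfl fun c hc => by rw [(Finset.mem_filter.1 hc).2], Finset.sum_const, nsmul_eq_mul,
    ← ha0 k hk2 hkz, ← Nat.card_eq_finsetCard]
  congr 2
  refine Nat.card_congr (Equiv.subtypeEquivRight fun c => ?_)
  simp only [Finset.mem_filter, Finset.mem_erase, mem_invol]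
  exact ⟨fun h => ⟨h.2, h.1.2⟩, fun h => ⟨⟨fun e => hkz (by rw [← h.1, e, zbar]), h.2⟩, h.1⟩⟩

/-- Pairs with the central image do not count. -/
theorem zbar_notMem {k : K} (hk : orderOf k = 2) (hkz : k ≠ D.zbar) (hc : Commute k D.zbar) :
    D.zbar ∉ Subgroup.zpowers (k * D.zbar) := by
  intro h
  have h2 : orderOf (k * D.zbar) = 2 := orderOf_eq_prime_iff.2
    ⟨by rw [hc.mul_pow, ← hk, pow_orderOf_eq_one, one_mul, hk, pow_two, D.zbar_sq],
      fun e => hkz ((eq_inv_of_mul_eq_one_left e).trans (inv_eq_of_mul_eq_one_left D.zbar_sq))⟩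
  obtain ⟨u, -, -, huniq⟩ := unique_invol (g := k * D.zbar) (by rw [h2])
  have e : k * D.zbar = D.zbar :=
    (huniq _ h2 (Subgroup.mem_zpowers _)).trans (huniq _ D.zbar_order h).symm
  rw [mul_eq_right.1 e, orderOf_one] at hk
  omega

theorem zbar_notMem_one : D.zbar ∉ Subgroup.zpowers (1 : K) := by
  rw [Subgroup.zpowers_one_eq_bot, Subgroup.mem_bot]
  intro h
  have := D.zbar_order
  rw [h, orderOf_one] at this
  omega

theorem zbar_central (k : K) : Commute k D.zbar := by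
  obtain ⟨c, rfl⟩ := D.surj k
  exact (show Commute c (⟨D.z, D.z_mem⟩ : D.C) from Subtype.ext (Subgroup.mem_centralizer_singleton_iff.1 c.2)).map D.π

theorem sum_pairs_image {a0 : ℕ} (ha0 : ∀ k : K, orderOf k = 2 → k ≠ D.zbar →
      Nat.card {c : D.C // D.π c = k ∧ orderOf c = 2} = a0) (F : K → ℂ) :
    ∑ i ∈ invol ↥D.C, ∑ j ∈ invol ↥D.C,
        (if D.zbar ∈ Subgroup.zpowers (D.π i * D.π j) then F (D.π i * D.π j) else 0) =
      (a0 : ℂ) ^ 2 * pairK D.zbar F := by
  rw [D.sum_invol_fibre ha0 (fun i => ∑ j ∈ invol ↥D.C,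
    if D.zbar ∈ Subgroup.zpowers (i * D.π j) then F (i * D.π j) else 0)]
  have e : ∀ i : K, (∑ j ∈ invol ↥D.C, if D.zbar ∈ Subgroup.zpowers (i * D.π j) then F (i * D.π j) else 0) =
      (if D.zbar ∈ Subgroup.zpowers (i * D.zbar) then F (i * D.zbar) else 0) +
        (a0 : ℂ) * ∑ k ∈ invol' D.zbar, if D.zbar ∈ Subgroup.zpowers (i * k) then F (i * k) else 0 :=
    fun i => D.sum_invol_fibre ha0 (fun j => if D.zbar ∈ Subgroup.zpowers (i * j) then F (i * j) else 0)
  rw [e, Finset.sum_congr rfl fun i _ => e i]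
  have hz1 : D.zbar ∉ Subgroup.zpowers (D.zbar * D.zbar) := by rw [D.zbar_sq]; exact D.zbar_notMem_one
  have hL : ∀ k ∈ invol' D.zbar, D.zbar ∉ Subgroup.zpowers (D.zbar * k) := fun k hk => by
    rw [(D.zbar_central k).symm.eq]
    exact D.zbar_notMem (Finset.mem_filter.1 hk).2.1 (Finset.mem_filter.1 hk).2.2 (D.zbar_central k)
  have hR : ∀ k ∈ invol' D.zbar, D.zbar ∉ Subgroup.zpowers (k * D.zbar) := fun k hk =>
    D.zbar_notMem (Finset.mem_filter.1 hk).2.1 (Finset.mem_filter.1 hk).2.2 (D.zbar_central k)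
  rw [if_neg hz1, Finset.sum_eq_zero fun k hk => if_neg (hL k hk), mul_zero, add_zero, zero_add,
    Finset.sum_congr rfl fun k hk => by rw [if_neg (hR k hk), zero_add], ← Finset.mul_sum, pairK, ← mul_assoc,
    ← pow_two]

variable {M : Ideal AlgInt}

/-- The functional of a class function vanishing on the odd elements as a sum over pairs in the image. -/
theorem pairing_of (Φ : G → ℂ) (hΦ : IsClassFunction G Φ) (hΦ0 : ∀ g : G, ¬ 2 ∣ orderOf g → Φ g = 0)
    {m : IrrCharacter G → ℂ} (hm : ∀ χ : IrrCharacter G, classInner Φ (χ : G → ℂ) = m χ)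
    (hcls : ∀ i : G, orderOf i = 2 → IsConj D.z i) {a0 : ℕ}
    (ha0 : ∀ k : K, orderOf k = 2 → k ≠ D.zbar → Nat.card {c : D.C // D.π c = k ∧ orderOf c = 2} = a0)
    {F : K → ℂ} (hF : ∀ i j : D.C, orderOf i = 2 → orderOf j = 2 → D.z ∈ Subgroup.zpowers ((i * j : D.C) : G) →
      Φ (i * j : D.C) = F (D.π (i * j))) :
    ∑ χ : IrrCharacter G, m χ * (χ : G → ℂ) D.z ^ 2 / (χ : G → ℂ) 1 =
      (Nat.card D.C : ℂ) / (Nat.card G : ℂ) * (a0 : ℂ) ^ 2 * pairK D.zbar F := by
  have h := sum_classFun_mul_conj hΦ D.z D.z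
  simp only [hm, mul_assoc, ← pow_two] at h ⊢
  rw [← h]
  have e := sum_conj_class D.ord hcls (fun j => Φ (D.z * j))
  simp only [mul_assoc] at e
  rw [e, sum_invol_eq D.ord hcls hΦ hΦ0, ← D.sum_pairs_image ha0 F,
    div_eq_mul_inv]
  suffices hkey : (∑ i ∈ invol G, ∑ j ∈ invol G,
        if D.z ∈ Subgroup.zpowers (i * j) then Φ (i * j) else 0) =
      ∑ i ∈ invol ↥D.C, ∑ j ∈ invol ↥D.C,
        if D.zbar ∈ Subgroup.zpowers (D.π i * D.π j) then F (D.π i * D.π j) else 0 by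
    rw [hkey]; ring
  have hC : ∀ i ∈ invol G, ∀ j ∈ invol G, D.z ∈ Subgroup.zpowers (i * j) → i ∈ D.C ∧ j ∈ D.C := by
    intro i hi j hj hmem
    have hi2 := mul_self_of_two (mem_invol.1 hi)
    have hj2 := mul_self_of_two (mem_invol.1 hj)
    obtain ⟨n, hn⟩ := Subgroup.mem_zpowers_iff.1 hmem
    have hii : i * (i * j) * i⁻¹ = (i * j)⁻¹ := by
      rw [← mul_assoc, hi2, one_mul, mul_inv_rev, inv_eq_of_mul_eq_one_right hj2]
    have hiz : i * D.z * i⁻¹ = D.z := by
      rw [← hn, ← conj_zpow, hii, inv_zpow, hn]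
      exact inv_eq_of_mul_eq_one_left (mul_self_of_two D.ord)
    have hiC : i ∈ D.C := Subgroup.mem_centralizer_singleton_iff.2 (mul_inv_eq_iff_eq_mul.1 hiz)
    have hij : i * j ∈ D.C := Subgroup.mem_centralizer_singleton_iff.2 (by
      rw [← hn]; exact ((Commute.refl (i * j)).zpow_right n).eq)
    exact ⟨hiC, by have := mul_mem (inv_mem hiC) hij; rwa [inv_mul_cancel_left] at this⟩
  rw [← Finset.sum_product', ← Finset.sum_product']
  refine (Finset.sum_bij_ne_zero (fun p _ _ => ((p.1 : G), (p.2 : G))) ?_ ?_ ?_ ?_).symm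
  · intro p hp _
    simp only [Finset.mem_product, mem_invol] at hp ⊢
    rwa [Subgroup.orderOf_coe, Subgroup.orderOf_coe]
  · intro p _ _ q _ _ e
    simp only [Prod.mk.injEq] at e
    exact Prod.ext (Subtype.ext e.1) (Subtype.ext e.2)
  · intro p hp hne
    simp only [Finset.mem_product] at hp
    have hmem : D.z ∈ Subgroup.zpowers (p.1 * p.2) := by
      by_contra hno
      exact hne (if_neg hno)
    obtain ⟨ha, hb⟩ := hC p.1 hp.1 p.2 hp.2 hmem
    refine ⟨(⟨p.1, ha⟩, ⟨p.2, hb⟩), ?_, ?_, rfl⟩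
    · simp only [Finset.mem_product, mem_invol, ← Subgroup.orderOf_coe]
      exact ⟨mem_invol.1 hp.1, mem_invol.1 hp.2⟩
    · have hmem' : D.z ∈ Subgroup.zpowers ((⟨p.1, ha⟩ * ⟨p.2, hb⟩ : D.C) : G) := hmem
      have e1 := hF ⟨p.1, ha⟩ ⟨p.2, hb⟩ (by rw [← Subgroup.orderOf_coe]; exact mem_invol.1 hp.1)
        (by rw [← Subgroup.orderOf_coe]; exact mem_invol.1 hp.2) hmem'
      rw [if_pos hmem] at hne
      rw [D.z_mem_zpowers_iff, map_mul] at hmem'
      rw [if_pos hmem', ← map_mul, ← e1]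
      exact hne
  · intro p hp hne
    simp only [Finset.mem_product, mem_invol] at hp
    rw [← map_mul] at hne ⊢
    have hmem : D.zbar ∈ Subgroup.zpowers (D.π (p.1 * p.2)) := by
      by_contra hno
      exact hne (if_neg hno)
    have hz' : D.z ∈ Subgroup.zpowers ((p.1 : G) * (p.2 : G)) := (D.z_mem_zpowers_iff _).2 hmem
    rw [if_pos hmem, if_pos hz', ← hF p.1 p.2 hp.1 hp.2 ((D.z_mem_zpowers_iff _).2 hmem)]
    rfl

/-- The sum over the principal block as a sum over pairs in the image. -/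
theorem pairing (hM : IsPModular 2 M) (hcls : ∀ i : G, orderOf i = 2 → IsConj D.z i) {a0 : ℕ}
    (ha0 : ∀ k : K, orderOf k = 2 → k ≠ D.zbar → Nat.card {c : D.C // D.π c = k ∧ orderOf c = 2} = a0)
    {f : K → ℂ} (hf : OddVanish f) {F : K → ℂ}
    (hF : ∀ i j : D.C, orderOf i = 2 → orderOf j = 2 → D.z ∈ Subgroup.zpowers ((i * j : D.C) : G) →
      D.gam M f (i * j : D.C) = F (D.π (i * j))) :
    ∑ χ : IrrCharacter G, D.coef M f χ * (χ : G → ℂ) D.z ^ 2 / (χ : G → ℂ) 1 =
      (Nat.card D.C : ℂ) / (Nat.card G : ℂ) * (a0 : ℂ) ^ 2 * pairK D.zbar F :=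
  D.pairing_of (D.gam M f) (D.gam_classFun M f) (fun g hg => D.gam_odd hM hf hg) (D.classInner_gam M f) hcls ha0 hF

end PData

end Cfsg.Agent.Invol.AbgOrder
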