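import Cfsg.Agent.Lib.Invol.AbgOrder.CoreAdapt
import Cfsg.Agent.Lib.Invol.AbgOrder.ProjPair
import Cfsg.Agent.Lib.Invol.AbgOrder.FinalFrame

/-!
# The data at `z` from the shape of the centraliser

The involutions of `C(z)` other than `z` are conjugate under `C(z)`; with one class of involutions in the group this
gives an element of order three on a four-group through `z`.
-/

set_option autoImplicit false
set_option linter.style.haveILetI false

namespace Cfsg.Agent.Invol.AbgOrder

open Cfsg.Agent.Block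
open Cfsg.Agent.Invol.BrauerL3 (scal)

universe u v w x

variable {G : Type u} [Group G] [Finite G] {F : Type v} [Field F] [Fintype F] {H : Type w} [Group H] {K : Type x}
  [CommGroup K] {Q : ℤ} {z : G}

attribute [local instance] oddCore_normal

/-- The projection data of the quotient by the odd core. -/
noncomputable def coreData (z : G) (hz : orderOf z = 2) : PData G (CQ z) :=
  ⟨z, hz, QuotientGroup.mk' _, QuotientGroup.mk'_surjective _, by
    rw [QuotientGroup.ker_mk']
    exact fun h => absurd (Nat.eq_one_of_dvd_coprimes (Grp.pPrimeCore_coprime (p := 2)) h dvd_rfl) (by norm_num)⟩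

/-- The involutions of the centraliser other than `z` are conjugate in it. -/
theorem noncentral_conj (hz : orderOf z = 2) (s : Shape0 (CQ z) F H K Q)
    {a b : ↥(Subgroup.centralizer ({z} : Set G))} (ha : orderOf a = 2) (haz : (a : G) ≠ z) (hb : orderOf b = 2)
    (hbz : (b : G) ≠ z) : IsConj a b := by
  classical
  haveI := Fintype.ofFinite G
  haveI := Fintype.ofFinite (CQ z)
  let D := coreData z hz
  obtain ⟨e, -, -, -, he2, hec, -, -, hcases⟩ := s.exists_invols
  have hzbar : D.zbar = s.π (s.M.T.D (e, e)) :=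
    s.central_unique D.zbar_order he2 (Subgroup.mem_center_iff.2 fun k => (D.zbar_central k).eq) hec
  have key : ∀ c : ↥(Subgroup.centralizer ({z} : Set G)), orderOf c = 2 → (c : G) ≠ z →
      IsConj (s.π (s.M.T.D (1, e))) (D.π c) := fun c hc hcz =>
    (hcases _ (D.pi_order_two hc)).resolve_left fun h => hcz (congrArg Subtype.val (D.eq_z hc (h.trans hzbar.symm)))
  obtain ⟨x, hx⟩ := isConj_iff.1 ((key a ha haz).symm.trans (key b hb hbz))
  obtain ⟨x, rfl⟩ : ∃ x' : ↥(Subgroup.centralizer ({z} : Set G)), D.π x' = x := D.surj x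
  replace hx : D.π (x * a * x⁻¹ : ↥(Subgroup.centralizer ({z} : Set G))) = D.π b :=
    ((D.π.map_mul _ _).trans (congrArg₂ (· * ·) (D.π.map_mul _ _) (D.π.map_inv _))).trans hx
  have ho : orderOf (x * a * x⁻¹) = 2 := by rw [← MulAut.conj_apply, MulEquiv.orderOf_eq, ha]
  obtain ⟨l, -, hl⟩ := Wreath5Core.conj_of_same_image (H := ↥(Subgroup.centralizer ({z} : Set G))) D.π D.odd ⟨1, ho.trans (pow_one 2).symm⟩
    ⟨1, hb.trans (pow_one 2).symm⟩ hx
  exact isConj_iff.2 ⟨l * x, by rw [← hl]; group⟩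

/-- The data at `z`. -/
theorem exists_preSetup (hz : orderOf z = 2) (hcls : ∀ a b : G, orderOf a = 2 → orderOf b = 2 → IsConj a b)
    (s : Shape0 (CQ z) F H K Q) (hQ : Q.natAbs = Fintype.card F) (h4 : 4 ≤ Fintype.card F) :
    ∃ c : PreSetup G F H K Q, c.z = z := by
  classical
  haveI := Fintype.ofFinite G
  haveI := Fintype.ofFinite (CQ z)
  let D := coreData z hz
  obtain ⟨k⟩ := Frame.nonempty s hQ
  obtain ⟨e, hne, hee, heu, he2, hec, hu2, -, -⟩ := s.exists_invols
  have hek : e = k.e := Subtype.ext ((k.e_uniq e (by rw [← Subgroup.coe_mul, hee]; rfl)).resolve_left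
    fun h => hne (Subtype.ext h))
  have hu : orderOf k.u = 2 := by rw [Frame.u, ← hek, hu2]
  -- a lift of order two
  obtain ⟨y, hy⟩ := D.surj k.u
  have hy2 : y ^ 2 ∈ D.π.ker := by rw [MonoidHom.mem_ker, map_pow, hy, ← hu, pow_orderOf_eq_one]
  obtain ⟨r, hr⟩ : Odd (orderOf (y ^ 2)) := by
    refine Odd.of_dvd_nat (Nat.odd_iff.2 (Nat.two_dvd_ne_zero.1 D.odd)) ?_
    rw [← Subgroup.orderOf_mk _ hy2]
    exact orderOf_dvd_natCard _
  set w := y ^ (2 * r + 1) with hwdef
  have hwq : D.π w = k.u := by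
    rw [hwdef, map_pow, hy, pow_succ, pow_mul, ← hu, pow_orderOf_eq_one, one_pow, one_mul]
  have hw2 : orderOf w = 2 := by
    refine orderOf_eq_prime ?_ fun h => ?_
    · rw [hwdef, ← pow_mul, mul_comm, pow_mul, ← hr, pow_orderOf_eq_one]
    · rw [h, map_one] at hwq
      rw [← hwq, orderOf_one] at hu
      omega
  have hwz : (w : G) ≠ z := fun h => by
    have h' : D.π w = D.zbar := congrArg D.π (Subtype.ext h : w = ⟨D.z, D.z_mem⟩)
    have hzb : D.zbar = s.π (s.M.T.D (e, e)) :=
      s.central_unique D.zbar_order he2 (Subgroup.mem_center_iff.2 fun k => (D.zbar_central k).eq) hec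
    rw [hwq, hzb, Frame.u, hek] at h'
    have h1 : s.π (s.M.T.D (k.e, 1)) = 1 := by
      refine (mul_eq_right (b := s.π (s.M.T.D (1, k.e)))).1 ?_
      rw [← map_mul, ← map_mul, Prod.mk_mul_mk, mul_one, one_mul]
      exact h'.symm
    obtain ⟨d, hd, -⟩ := s.M.T.ker_eq s.π s.ker_central s.ker_odd (MonoidHom.mem_ker.2 h1)
    have h2 := s.M.T.D_inj hd
    exact k.e_ne ((congrArg Prod.fst h2).trans (congrArg Prod.snd h2).symm)
  have hwz' : (w : G) * z = z * (w : G) := mem_cent.1 w.2
  have hwG : orderOf (w : G) = 2 := by rw [Subgroup.orderOf_coe, hw2]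
  have hz2 : z * z = 1 := by rw [← sq, ← hz, pow_orderOf_eq_one]
  have hw2' : (w : G) * (w : G) = 1 := by rw [← sq, ← hwG, pow_orderOf_eq_one]
  have hzw1 : z * (w : G) ≠ 1 := fun h => hwz ((eq_inv_of_mul_eq_one_right h).trans (inv_eq_of_mul_eq_one_right hz2))
  have hzw2 : orderOf (z * (w : G)) = 2 := by
    refine orderOf_eq_prime ?_ hzw1
    rw [sq, show z * (w : G) * (z * w) = z * ((w : G) * z) * w by group, hwz', ← mul_assoc, hz2, one_mul, hw2']
  -- an element exchanging `z` and `w`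
  obtain ⟨h, hh⟩ := isConj_iff.1 (hcls _ _ hwG hz)
  have hne' : h * z * h⁻¹ ≠ z := fun e' => hwz (by
    have : MulAut.conj h (w : G) = MulAut.conj h z := by simp only [MulAut.conj_apply, hh, e']
    exact (MulAut.conj h).injective this)
  have hhz : h * z * h⁻¹ * z = z * (h * z * h⁻¹) := by
    have := congrArg (MulAut.conj h) hwz'
    simp only [map_mul, MulAut.conj_apply, hh] at this
    exact this.symm
  obtain ⟨c, hc⟩ := isConj_iff.1 (noncentral_conj hz s (a := ⟨h * z * h⁻¹, mem_cent.2 hhz⟩) (b := w)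
    (by rw [Subgroup.orderOf_mk, ← MulAut.conj_apply, MulEquiv.orderOf_eq, hz]) hne' hw2 hwz)
  -- an element exchanging `w` and `z w`
  obtain ⟨σ, hσ⟩ := isConj_iff.1 (noncentral_conj hz s (a := w)
    (b := ⟨z * (w : G), mem_cent.2 (by rw [mul_assoc, hwz'])⟩) hw2 hwz
    (by rw [Subgroup.orderOf_mk, hzw2]) fun e' => by
      have : (w : G) = 1 := mul_left_cancel (e'.trans (mul_one z).symm)
      rw [this, orderOf_one] at hwG
      omega)
  have hc' : (c : G) * (h * z * h⁻¹) * (c : G)⁻¹ = w := congrArg Subtype.val hc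
  have hσ' : (σ : G) * w * (σ : G)⁻¹ = z * w := congrArg Subtype.val hσ
  have hcz : (c : G) * z * (c : G)⁻¹ = z := by rw [mem_cent.1 c.2, mul_inv_cancel_right]
  have hσz : (σ : G) * z * (σ : G)⁻¹ = z := by rw [mem_cent.1 σ.2, mul_inv_cancel_right]
  set a := (c : G) * h with ha
  have haz : a * z * a⁻¹ = w := by rw [← hc', ha]; group
  have haw : a * w * a⁻¹ = z := by
    rw [show a * (w : G) * a⁻¹ = (c : G) * (h * (w : G) * h⁻¹) * (c : G)⁻¹ by rw [ha]; group, hh, hcz]
  refine ⟨{
    z := z, w := w, g := a * σ, z2 := hz2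
    z_ne := fun e' => by rw [e', orderOf_one] at hz; omega
    w2 := hw2', wz := hwz', gz := ?_, gw := ?_, s := s, k := k, hw := hwq, four_le := h4 }, rfl⟩
  · rw [show a * σ * z * (a * σ)⁻¹ = a * ((σ : G) * z * (σ : G)⁻¹) * a⁻¹ by group, hσz, haz]
  · rw [show a * σ * (w : G) * (a * σ)⁻¹ = a * ((σ : G) * w * (σ : G)⁻¹) * a⁻¹ by group, hσ',
      show a * (z * w) * a⁻¹ = a * z * a⁻¹ * (a * w * a⁻¹) by group, haz, haw, hwz']

end Cfsg.Agent.Invol.AbgOrder
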