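import Cfsg.Agent.Lib.Invol.AbgOrder.BudgetPoints
import Cfsg.Agent.Lib.Block.Zas.Chars

/-!
# In the unitary case the Steinberg function of the table is minus the one of the line

Restricted to `SL(2, q)` the products of the two are nonnegative, so they differ by a linear character; this is
trivial as a noncentral diagonal element fixes no point, commuting with a torus of order `q + 1`.
-/

set_option autoImplicit false
set_option linter.unusedSectionVars false
set_option linter.style.haveILetI false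

open scoped Classical ComplexConjugate

namespace Cfsg.Agent.Invol.AbgOrder

open Cfsg Cfsg.Agent.Char Matrix Cfsg.Agent.Block.SL2Char
open Cfsg.Agent.Invol.BrauerL3 (Tbl scal SgnIrr mem_scal)

universe u v w x

variable {X : Type u} [Group X] [Fintype X] {F : Type v} [Field F] [Fintype F] [DecidableEq F] {H : Type w}
  [Group H] {K : Type x} [CommGroup K] {Q : ℤ}

local notation "SL₂" => Matrix.SpecialLinearGroup (Fin 2) F
local notation "GG" => GL (Fin 2) F
local notation "tg" => (Matrix.SpecialLinearGroup.toGL : SL₂ →* GL (Fin 2) F)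

/-- An inner-diagonal automorphism fixing three points is trivial. -/
theorem eq_one_of_three {θ : MulAut SL₂} (hf : fld θ = 1) {P P' P'' : P1 F} (h : P ≠ P') (h' : P'' ≠ P)
    (h'' : P'' ≠ P') (hP : θ • P = P) (hP' : θ • P' = P') (hP'' : θ • P'' = P'') : θ = 1 := by
  obtain ⟨g, hg, hg'⟩ := exists_inn_pair h
  set θ' := (inn g)⁻¹ * θ * inn g with hθ'
  have hfix : ∀ R : P1 F, θ • (inn g • R) = inn g • R → θ' • R = R := fun R hR => by
    rw [hθ', mul_smul, mul_smul, hR, inv_smul_smul]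
  have h1 := hfix _ (by rw [hg]; exact hP)
  have h2 := hfix _ (by rw [hg']; exact hP')
  obtain ⟨a, b, he⟩ := exists_diag h1 h2
  have hf' : fld θ' = 1 := by
    rw [hθ', map_mul, map_mul, map_inv, hf, mul_one, inv_mul_cancel]
  rw [hf', smi_one, mul_one] at he
  obtain ⟨R, hR⟩ : ∃ R, inn g • R = P'' := ⟨(inn g)⁻¹ • P'', smul_inv_smul _ _⟩
  have h3 := hfix R (by rw [hR]; exact hP'')
  rcases pt_or_inf R with rfl | ⟨x, rfl⟩
  · exact absurd (hR.symm.trans hg) h'
  rw [he, gdiag_pt] at h3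
  have hx : x ≠ 0 := fun h0 => h'' (by rw [← hR, h0, hg'])
  have hab : a = b := Units.ext (by
    have h4 := ptP_inj h3
    rw [mul_eq_right₀ hx, div_eq_one_iff_eq (Units.ne_zero b)] at h4
    exact h4)
  rw [hab, inn_gdiag_self, hθ'] at he
  calc θ = inn g * ((inn g)⁻¹ * θ * inn g) * (inn g)⁻¹ := by group
    _ = 1 := by rw [he, mul_one, mul_inv_cancel]

/-- The kinds of elements of `SL(2, q)`. -/
theorem sl_cases (t : SL₂) :
    (t ∈ Subgroup.center SL₂ ∧ vSS t = (Fintype.card F : ℂ)) ∨ (vSS t = 0 ∧ t ^ (2 * Fintype.card F) = 1) ∨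
      (vSS t = 1 ∧ t ^ (Fintype.card F - 1) = 1) ∨ (vSS t = -1 ∧ t ^ (Fintype.card F + 1) = 1) := by
  obtain ⟨Kq, _, _, _, _, hKq⟩ := exists_model F
  set q := Fintype.card F
  have hv : ∀ r : GG, IsConj r (tg t) → vSS t = vS r := fun r hr => resS_of_conj classFun_vS hr
  have hinj : ∀ n : ℕ, ∀ r : GG, r ^ n = 1 → IsConj r (tg t) → t ^ n = 1 := fun n r hr hc => by
    obtain ⟨c, hc⟩ := isConj_iff.1 hc
    refine Matrix.SpecialLinearGroup.toGL_injective ?_
    rw [map_pow, ← hc, conj_pow, hr, map_one, mul_one, mul_inv_cancel]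
  rcases cases Kq hKq (tg t) with ⟨z, hz⟩ | ⟨z, hz⟩ | ⟨x, y, hxy, hz⟩ | ⟨l, hl, hz⟩
  · refine Or.inl ⟨Subgroup.mem_center_iff.2 fun u => Matrix.SpecialLinearGroup.toGL_injective ?_, ?_⟩
    · rw [map_mul, map_mul, hz, sc_central]
    · rw [hv _ (isConj_sc.2 hz), vS_sc]
  · obtain ⟨c, hc⟩ := isConj_iff.1 hz
    have hd : z * z = 1 := Units.ext (by
      rw [Units.val_mul, Units.val_one, ← dt_un, ← dt_conj (un z) c, hc, dt_toGL])
    exact Or.inr (Or.inl ⟨by rw [hv _ hz, vS_un], hinj _ _ (un_pow_eq_one hd) hz⟩)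
  · refine Or.inr (Or.inr (Or.inl ⟨by rw [hv _ hz, vS_di hxy], hinj _ _ ?_ hz⟩))
    have hu : ∀ u : Fˣ, u ^ (q - 1) = 1 := fun u => Units.ext (by
      rw [Units.val_pow_eq_pow_val, Units.val_one, FiniteField.pow_card_sub_one_eq_one _ (Units.ne_zero u)])
    rw [di_pow, hu, hu]
    exact sc_one
  · refine Or.inr (Or.inr (Or.inr ⟨by rw [hv _ hz, vS_ell Kq hKq hl], hinj _ _ ?_ hz⟩))
    obtain ⟨c, hc⟩ := isConj_iff.1 hz
    rw [← map_pow, show l ^ (q + 1) = 1 from Units.ext (by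
      rw [Units.val_pow_eq_pow_val, Units.val_one, pow_succ', ← (tr_dt_ell Kq hKq hl).2,
        show dt (ell (F := F) Kq hKq l) = 1 by rw [← dt_toGL t, ← hc, dt_conj], map_one]), map_one]

namespace Shape0

variable (s : Shape0 X F H K Q)
include s

theorem scal_pow_card (hQ : Q = -(Fintype.card F : ℤ)) (a : scal K Q) : a ^ (Fintype.card F + 1) = 1 := by
  refine Subtype.ext ?_
  have h2 : ((a : K)) ^ (Q - 1) = 1 := mem_scal.1 a.2
  rw [show Q - 1 = -((Fintype.card F + 1 : ℕ) : ℤ) by rw [hQ]; push_cast; ring, _root_.zpow_neg,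
    zpow_natCast, inv_eq_one] at h2
  rw [SubmonoidClass.coe_pow, OneMemClass.coe_one, h2]

/-- A split element of the table in `SL(2, q)` is elliptic. -/
theorem vSS_of_D (hQ : Q = -(Fintype.card F : ℤ)) (hodd : Odd (Fintype.card F)) {t : SL₂} {a : scal K Q}
    (ha : a * a ≠ 1) (hc : IsConj (s.M.T.D (a, a⁻¹)) (s.M.ι t)) : vSS t = -1 := by
  set q := Fintype.card F
  have hq1 := Fintype.one_lt_card (α := F)
  have hpow : ∀ n : ℕ, t ^ n = 1 → a ^ n = 1 := fun n hn => by
    obtain ⟨c, hc⟩ := isConj_iff.1 hc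
    have h1 : (s.M.ι t) ^ n = 1 := by rw [← map_pow, hn, map_one]
    rw [← hc, conj_pow, conj_eq_one_iff, ← map_pow, ← map_one s.M.T.D] at h1
    exact congrArg Prod.fst (s.M.T.D_inj h1)
  have hsq := s.scal_pow_card hQ a
  obtain ⟨r, hr⟩ := hodd
  rcases sl_cases t with ⟨hz, -⟩ | ⟨-, ht⟩ | ⟨-, ht⟩ | ⟨h, -⟩
  · exfalso
    have hcen : s.M.ι t ∈ Subgroup.center H := s.M.cent _ fun u => by
      rw [← map_mul, ← map_mul, Subgroup.mem_center_iff.1 hz u]
    obtain ⟨c, hc⟩ := isConj_iff.1 hc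
    obtain ⟨b, hb⟩ := s.M.T.central _ hcen
    have h1 : s.M.T.D (a, a⁻¹) = s.M.T.D (b, b) := by
      calc s.M.T.D (a, a⁻¹) = c⁻¹ * (c * s.M.T.D (a, a⁻¹) * c⁻¹) * c := by group
        _ = s.M.T.D (b, b) := by
          rw [hc, hb, mul_assoc, ← Subgroup.mem_center_iff.1 (s.M.T.D_center b) c, inv_mul_cancel_left]
    have h2 := s.M.T.D_inj h1
    exact ha (mul_eq_one_iff_eq_inv.2 ((congrArg Prod.fst h2).trans (congrArg Prod.snd h2).symm))
  · exfalso
    have h1 : a ^ (2 * q) = 1 := hpow _ ht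
    refine ha ?_
    rw [← sq]
    calc a ^ 2 = a ^ 2 * a ^ (2 * q) := by rw [h1, mul_one]
      _ = (a ^ (q + 1)) ^ 2 := by rw [← pow_add, ← pow_mul]; ring_nf
      _ = 1 := by rw [hsq, one_pow]
  · exfalso
    refine ha ?_
    rw [← sq]
    have h1 := hsq
    rwa [show q + 1 = q - 1 + 2 by omega, pow_add, hpow _ ht, one_mul] at h1
  · exact h

/-- The values on the normal `SL(2, q)` have the same sign. -/
theorem St_ι_nonneg (hQ : Q = -(Fintype.card F : ℤ)) (hodd : Odd (Fintype.card F)) (t : SL₂) :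
    ∃ r : ℝ, 0 ≤ r ∧ vSS t * (-s.M.T.St (s.M.ι t)) = (r : ℂ) := by
  set q := Fintype.card F
  set h := s.M.ι t
  have hcls := s.M.T.St_irr.classFun
  have hval : ∀ r, IsConj r h → s.M.T.St h = s.M.T.St r := fun r hr => by
    obtain ⟨c, hc⟩ := isConj_iff.1 hr
    rw [← hc, hcls]
  rcases s.M.T.cover h with ⟨a, ha⟩ | ⟨⟨a, b⟩, ha⟩ | ⟨l, hl, ha⟩
  · exact ⟨0, le_rfl, by rw [hval _ ha, s.M.T.St_U, neg_zero, mul_zero, Complex.ofReal_zero]⟩
  · obtain ⟨c, hc⟩ := isConj_iff.1 ha
    have hab1 : a * b = 1 := by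
      have hd : s.M.T.dt h = 1 := s.M.dt_ι t
      rw [← hc, map_mul, map_mul, map_inv, mul_right_comm, mul_inv_cancel, one_mul, s.M.T.dt_D] at hd
      exact hd
    obtain rfl : b = a⁻¹ := (inv_eq_of_mul_eq_one_right hab1).symm
    by_cases hab : a * a = 1
    · have e : a⁻¹ = a := inv_eq_of_mul_eq_one_right hab
      rw [e] at hc ha
      have hD : s.M.T.D (a, a) = h := by
        rw [← hc, Subgroup.mem_center_iff.1 (s.M.T.D_center a) c, mul_inv_cancel_right]
      have hcen : ∀ u, t * u = u * t := fun u => s.M.ι_inj (by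
        rw [map_mul, map_mul]
        have hh := s.M.T.D_center a
        rw [hD] at hh
        exact (Subgroup.mem_center_iff.1 hh (s.M.ι u)).symm)
      have hv : vSS t = (q : ℂ) := by
        obtain ⟨r, hr, hr'⟩ :=
          Matrix.SpecialLinearGroup.mem_center_iff.1 (Subgroup.mem_center_iff.2 fun u => (hcen u).symm)
        have hr0 : r ≠ 0 := fun h0 => by rw [h0] at hr; simp at hr
        rw [vSS, resS_apply, show (tg t : GG) = sc (Units.mk0 r hr0) from Units.ext (by
          rw [sc_val]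
          show (t : Matrix (Fin 2) (Fin 2) F) = _
          rw [← hr']
          ext i j; fin_cases i <;> fin_cases j <;> simp), vS_sc]
      refine ⟨(q : ℝ) * q, by positivity, ?_⟩
      rw [hv, hval _ ha, s.M.T.St_sc, hQ]
      push_cast
      ring
    · refine ⟨1, zero_le_one, ?_⟩
      rw [s.vSS_of_D hQ hodd hab ha, hval _ ha,
        s.M.T.St_D _ _ fun e => hab (mul_eq_one_iff_eq_inv.2 e), neg_mul_neg, one_mul, Complex.ofReal_one]
  · rw [hval _ ha, s.M.T.St_E l hl, neg_neg, mul_one]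
    rcases sl_cases t with ⟨-, hv⟩ | ⟨hv, -⟩ | ⟨hv, -⟩ | ⟨-, ht⟩
    · exact ⟨q, by positivity, by rw [hv]; norm_cast⟩
    · exact ⟨0, le_rfl, by rw [hv]; norm_num⟩
    · exact ⟨1, zero_le_one, by rw [hv]; norm_num⟩
    · exfalso
      obtain ⟨c, hc⟩ := isConj_iff.1 ha
      have h1 : h ^ (q + 1) = 1 := by rw [← map_pow, ht, map_one]
      rw [← hc, conj_pow, conj_eq_one_iff, ← map_pow, ← map_one s.M.T.E] at h1
      refine hl (mem_scal.2 ?_)
      rw [show Q - 1 = -((q + 1 : ℕ) : ℤ) by rw [hQ]; push_cast; ring, _root_.zpow_neg, zpow_natCast,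
        s.M.T.E_inj h1, inv_one]

/-- A diagonal element which is not central fixes no point. -/
theorem refSt_D (hQ : Q = -(Fintype.card F : ℤ)) (hodd : Odd (Fintype.card F)) (h4 : 4 ≤ Fintype.card F)
    {a : scal K Q} (ha : a ≠ 1) : s.refSt (s.π (s.M.T.D (a, 1))) = -1 := by
  rw [eq_neg_iff_add_eq_zero, s.refSt_fixed]
  haveI := s.M.T.finiteK
  haveI := s.M.T.cyc
  obtain ⟨γ, hγ⟩ := IsCyclic.exists_ofOrder_eq_natCard (α := scal K Q)
  rw [BrauerL3.natAbs_card_scal s.M.T.card, show (Q - 1).natAbs = Fintype.card F + 1 by omega] at hγ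
  obtain ⟨t, ht⟩ := s.M.exists_of_dt (h := s.M.T.D (γ, γ⁻¹)) (by rw [s.M.T.dt_D, mul_inv_cancel])
  rw [Nat.cast_eq_zero]
  refine Nat.card_eq_zero.2 (Or.inl ⟨fun ⟨P, hP⟩ => ?_⟩)
  set x := s.π (s.M.T.D (a, 1))
  set y := s.π (s.M.ι t) with hy
  have hxy : Commute x y := by
    rw [hy, ← ht]
    exact ((Commute.all (a, (1 : scal K Q)) (γ, γ⁻¹)).map s.M.T.D).map s.π
  -- powers of `y` fix nothing
  have hfree : ∀ i : ℕ, (γ ^ i) * (γ ^ i) ≠ 1 → ∀ R : P1 F, s.ψ (y ^ i) • R ≠ R := fun i hi R hR => by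
    have h1 : s.refSt (y ^ i) = -1 := by
      rw [hy, ← map_pow, ← map_pow, show s.π (s.M.ι (t ^ i)) = s.eSL (t ^ i) from rfl, s.refSt_eSL,
        s.vSS_of_D hQ hodd hi]
      rw [map_pow, ← ht, ← map_pow, Prod.pow_mk, inv_pow]
    have h2 := s.refSt_fixed (y ^ i)
    rw [h1, neg_add_cancel, eq_comm, Nat.cast_eq_zero, Nat.card_eq_zero] at h2
    rcases h2 with h2 | h2
    · exact h2.false ⟨R, hR⟩
    · exact not_finite_iff_infinite.2 h2 inferInstance
  have hγ2 : ∀ i : ℕ, 0 < i → i ≤ 2 → γ ^ i * γ ^ i ≠ 1 := fun i h0 h2 h => by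
    rw [← pow_add] at h
    have := Nat.le_of_dvd (by omega) (orderOf_dvd_of_pow_eq_one h)
    omega
  have hfix : ∀ i : ℕ, s.ψ x • (s.ψ (y ^ i) • P) = s.ψ (y ^ i) • P := fun i => by
    rw [← mul_smul, ← map_mul, (hxy.pow_right i).eq, map_mul, mul_smul, hP]
  have h12 : s.ψ (y ^ 2) • P ≠ s.ψ (y ^ 1) • P := fun h => by
    refine hfree 1 (hγ2 1 one_pos one_le_two) (s.ψ (y ^ 1) • P) ?_
    rwa [← mul_smul, ← map_mul, ← pow_add]
  have h1 : s.ψ x = 1 := eq_one_of_three (s.fldX_π _) (fun e => hfree 1 (hγ2 1 one_pos one_le_two) P e.symm)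
    (hfree 2 (hγ2 2 two_pos le_rfl) P) h12 hP (hfix 1) (hfix 2)
  have hcen : s.M.T.D (a, 1) ∈ Subgroup.center H := s.M.cent _ fun u => by
    obtain ⟨g, hg⟩ := s.M.back (s.M.T.D (a, 1))
    have e : s.π (s.M.ι (inn g u)) = s.π (s.M.ι u) := by
      rw [← hg, map_mul, map_mul, map_inv]
      exact (s.conj_ι x u).trans (by rw [show s.act₂ x = s.ψ x from rfl, h1]; rfl)
    rw [← mul_inv_eq_iff_eq_mul, hg, s.π_ι_inj e]
  obtain ⟨c, hc⟩ := s.M.T.central _ hcen
  have h2 := s.M.T.D_inj hc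
  exact ha ((congrArg Prod.fst h2).trans (congrArg Prod.snd h2).symm)

/-- The two Steinberg functions. -/
theorem refSt_St (hQ : Q = -(Fintype.card F : ℤ)) (hodd : Odd (Fintype.card F)) (h4 : 4 ≤ Fintype.card F) (g : H) :
    s.refSt (s.π g) = -s.M.T.St g := by
  haveI := s.M.finite
  haveI := Fintype.ofFinite H
  haveI := s.M.T.finiteK
  haveI := Fintype.ofFinite (scal K Q)
  haveI := Fintype.ofFinite (scal K Q →* ℂˣ)
  obtain ⟨Kq, _, _, _, _, hKq⟩ := exists_model F
  set R : H → ℂ := fun h => s.refSt (s.π h)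
  set T : H → ℂ := fun h => -s.M.T.St h
  have hR : IsIrrCharacter H R := by
    refine Alperin.isIrr_of_res (IsChar.comp s.π (isCharacter_ind_sub_one s.borel)) s.M.ι ?_
    convert isIrr_vSS (F := F) Kq hKq using 1
    exact funext fun t => s.refSt_eSL t
  have hT : SgnIrr H T := s.M.T.St_irr.neg
  have hone : R 1 = (Fintype.card F : ℂ) ∧ T 1 = (Fintype.card F : ℂ) := by
    refine ⟨?_, ?_⟩
    · show s.refSt (s.π 1) = _
      rw [map_one, ← map_one s.eSL, s.refSt_eSL, vSS_one]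
    · show -s.M.T.St 1 = _
      rw [s.M.T.St_one, hQ]
      push_cast
      ring
  -- some twist of `T` meets `R`
  set Tl : (scal K Q →* ℂˣ) → H → ℂ := fun l h => (l (s.M.T.dt h) : ℂ) * T h
  obtain ⟨l, hl⟩ : ∃ l, classInner (Tl l) R ≠ 0 := by
    by_contra hne
    push Not at hne
    have hsum : ∑ l, classInner (Tl l) R = (Nat.card H : ℂ)⁻¹ * (Nat.card (scal K Q) : ℂ) *
        ∑ t : SL₂, T (s.M.ι t) * vSS t := by
      simp only [classInner]
      rw [← Finset.mul_sum, Finset.sum_comm, mul_assoc]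
      refine congrArg _ ?_
      calc ∑ h : H, ∑ l, Tl l h * conj (R h)
          = ∑ h ∈ Finset.univ.filter (fun h => s.M.T.dt h = 1), (Nat.card (scal K Q) : ℂ) * (T h * R h) := by
            rw [Finset.sum_filter]
            refine Finset.sum_congr rfl fun h _ => ?_
            have hreal : conj (R h) = R h := by
              show conj (s.refSt (s.π h)) = s.refSt (s.π h)
              have := s.refSt_fixed (s.π h)
              rw [← eq_sub_iff_add_eq] at this
              rw [this, map_sub, map_natCast, map_one]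
            simp only [Tl, hreal, mul_assoc, ← Finset.sum_mul]
            rw [Cfsg.Agent.Block.Zas.dual_sum]
            split_ifs <;> simp
        _ = (Nat.card (scal K Q) : ℂ) * ∑ t : SL₂, T (s.M.ι t) * vSS t := by
            rw [Finset.mul_sum]
            refine (Finset.sum_bij (fun t _ => s.M.ι t) (fun t _ => by simp [s.M.dt_ι])
              (fun a _ b _ h => s.M.ι_inj h) (fun h hh => ?_) fun t _ => ?_).symm
            · obtain ⟨t, ht⟩ := s.M.exists_of_dt (Finset.mem_filter.1 hh).2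
              exact ⟨t, Finset.mem_univ _, ht.symm⟩
            · show _ = _ * (_ * s.refSt (s.eSL t))
              rw [s.refSt_eSL]
    rw [Finset.sum_eq_zero fun l _ => hne l, eq_comm, mul_eq_zero, mul_eq_zero, inv_eq_zero, Nat.cast_eq_zero,
      Nat.cast_eq_zero] at hsum
    have h0 : ∑ t : SL₂, T (s.M.ι t) * vSS t = 0 :=
      hsum.resolve_left fun h => h.elim Nat.card_pos.ne' Nat.card_pos.ne'
    choose r hr0 hr using s.St_ι_nonneg hQ hodd
    have hs : ∑ t : SL₂, T (s.M.ι t) * vSS t = ((∑ t : SL₂, r t : ℝ) : ℂ) := by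
      rw [Complex.ofReal_sum]
      exact Finset.sum_congr rfl fun t _ => by rw [← hr, mul_comm]
    rw [hs, Complex.ofReal_eq_zero] at h0
    have h1 := (Finset.sum_eq_zero_iff_of_nonneg fun t _ => hr0 t).1 h0 1 (Finset.mem_univ _)
    have h2 := hr 1
    rw [h1, map_one, vSS_one, show -s.M.T.St 1 = (Fintype.card F : ℂ) from hone.2, Complex.ofReal_zero,
      mul_self_eq_zero, Nat.cast_eq_zero] at h2
    omega
  have hlT : SgnIrr H (Tl l) := hT.mul_linear (l.comp s.M.T.dt)
  have heq : Tl l = R := by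
    by_contra hne
    refine hl (hlT.inner_ne (Or.inl hR) hne fun e => ?_)
    have e1 := congrFun e 1
    rw [Pi.neg_apply, hone.1] at e1
    simp only [Tl, map_one, Units.val_one, one_mul, hone.2] at e1
    have h0 : (Fintype.card F : ℂ) = 0 := by linear_combination e1 / 2
    exact Nat.cast_ne_zero.2 Fintype.card_ne_zero h0
  have hl1 : ∀ a : scal K Q, l a = 1 := fun a => by
    by_cases ha : a = 1
    · rw [ha, map_one]
    have e := congrFun heq (s.M.T.D (a, 1))
    simp only [Tl, T, R, s.refSt_D hQ hodd h4 ha, s.M.T.St_D a 1 ha, s.M.T.dt_D, mul_one] at e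
    exact Units.ext (by rw [Units.val_one]; linear_combination -e)
  have e := congrFun heq g
  simp only [Tl, T, R, hl1, Units.val_one, one_mul] at e
  exact e.symm

end Shape0

end Cfsg.Agent.Invol.AbgOrder
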