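import Cfsg.Agent.Lib.Invol.AbgOrder.OrdWrEval
import Cfsg.Agent.Lib.Invol.BrauerL3.TableFuns

/-!
# The eight functions in the wreathed case

Combinations of `1, S, λ, λS, I(1,λ), R(θ), R(θ⁻¹), μ, μS, μ⁻¹, μ⁻¹S, I(μ,μ⁻¹), I(1,μ⁻¹)`, where `μ` is faithful on
the `2`-part of the scalars, `λ = μ^h` and `θ` has `2`-power order.
-/

set_option autoImplicit false
set_option linter.unusedSectionVars false
set_option linter.style.haveILetI false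
set_option maxHeartbeats 4000000
set_option linter.unreachableTactic false
set_option linter.unusedTactic false

open scoped ComplexConjugate Classical

namespace Cfsg.Agent.Invol.AbgOrder

open Cfsg Cfsg.Agent.Char Cfsg.Agent.Block
open Cfsg.Agent.Invol.BrauerL3 (scal Tbl SgnIrr Funs orth_of_ne funs_of_atoms exists_theta_two invols)
open Cfsg.Agent.Block.SL2Char (cv)

universe u v w v'

/-- The coefficients. -/
def matWrF : Fin 8 → Fin 13 → ℤ :=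
  ![![1, -1, -1, 1, 0, 0, 0, 0, 0, 0, 0, 0, 0], ![1, 0, 0, 1, -1, 0, 0, 0, 0, 0, 0, 0, 0],
    ![1, -1, 0, 0, 0, -1, 0, 0, 0, 0, 0, 0, 0], ![1, -1, 0, 0, 0, 0, -1, 0, 0, 0, 0, 0, 0],
    ![1, -1, 0, 0, 0, 0, 0, -1, 1, 0, 0, 0, 0], ![1, -1, 0, 0, 0, 0, 0, 0, 0, -1, 1, 0, 0],
    ![0, 0, 0, 0, 0, 0, 0, 1, 0, 0, 1, -1, 0], ![1, 0, 0, 0, 0, 0, 0, -1, 0, 0, 0, 1, -1]]

/-- The constant part on the elements of odd order. -/
def alWr : Fin 13 → ℤ := ![1, 0, 1, 0, 1, 1, 1, 1, 0, 1, 0, 1, 1]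

/-- The Steinberg part on the elements of odd order. -/
def beWr : Fin 13 → ℤ := ![0, 1, 0, 1, 1, -1, -1, 0, 1, 0, 1, 1, 1]

/-- Degrees. -/
def degWrF (Q : ℤ) : Fin 13 → ℤ := ![1, Q, 1, Q, Q + 1, 1 - Q, 1 - Q, 1, Q, 1, Q, Q + 1, Q + 1]

/-- Values at the central involution. -/
def tWrF (Q : ℤ) : Fin 13 → ℤ := ![1, Q, 1, Q, Q + 1, -(1 - Q), -(1 - Q), 1, Q, 1, Q, Q + 1, -(Q + 1)]

/-- Values at the other involutions. -/
def uWrF : Fin 13 → ℤ := ![1, 1, 1, 1, 2, 0, 0, -1, -1, -1, -1, -2, 0]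

/-- The inner products of the projections. -/
def gramWrF : Fin 8 → Fin 8 → ℤ :=
  ![![4, 2, 2, 2, 2, 2, 0, 1], ![2, 3, 1, 1, 1, 1, 0, 2], ![2, 1, 3, 2, 2, 2, 0, 1], ![2, 1, 2, 3, 2, 2, 0, 1],
    ![2, 1, 2, 2, 4, 2, -1, 2], ![2, 1, 2, 2, 2, 4, 1, 1], ![0, 0, 0, 0, -1, 1, 3, -1], ![1, 2, 1, 1, 2, 1, -1, 3]]

/-- The multiplicities of the trivial character. -/
def trWrF : Fin 8 → ℤ := ![1, 1, 1, 1, 1, 1, 0, 1]

/-- The values at the central involution. -/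
def valWrF (Q : ℤ) : Fin 8 → ℤ := ![0, 0, 2 * (1 - Q), 2 * (1 - Q), 0, 0, 0, 2 * (Q + 1)]

/-- The averages over pairs of involutions before correction. -/
def pr0WrF (Q : ℤ) : Fin 8 → ℚ :=
  ![0, ((Q : ℚ) - 1) ^ 2 / (Q * (Q + 1)), ((Q : ℚ) - 1) / Q, ((Q : ℚ) - 1) / Q, 0, 0,
    ((Q : ℚ) - 1) ^ 2 / (Q * (Q + 1)), 4 / ((Q : ℚ) + 1)]

/-- The averages over pairs of involutions. -/
def prWrF (Q : ℤ) : Fin 8 → ℚ :=
  ![0, ((Q : ℚ) - 1) ^ 2 / (Q * (Q + 1)), ((Q : ℚ) - 1) / Q, ((Q : ℚ) - 1) / Q, 0, 0,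
    ((Q : ℚ) - 1) ^ 2 / (Q * (Q + 1)), ((Q : ℚ) + 1) / Q]

theorem gramWrF_eq : ∀ i l, (∑ j, matWrF i j * matWrF l j) + corWr i l = gramWrF i l := by decide +kernel

theorem matWrF_odd : ∀ i, ∑ j, matWrF i j * alWr j = 0 ∧ ∑ j, matWrF i j * beWr j = 0 := by decide +kernel

theorem valWrF_eq (Q : ℤ) (i : Fin 8) : ∑ j, matWrF i j * tWrF Q j = valWrF Q i := by
  fin_cases i <;> simp [Fin.sum_univ_succ, matWrF, tWrF, valWrF] <;> ring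

theorem pr0WrF_eq (Q : ℤ) (h0 : Q ≠ 0) (h1 : Q ≠ 1) (h2 : Q ≠ -1) (i : Fin 8) :
    ∑ j, (matWrF i j : ℚ) * (((tWrF Q j : ℚ) + (Q * (Q + 1) : ℤ) * uWrF j) ^ 2 / degWrF Q j) =
      pr0WrF Q i * ((Q * (Q + 1) : ℤ) : ℚ) ^ 2 := by
  have e0 : (Q : ℚ) ≠ 0 := by exact_mod_cast h0
  have e1 : (1 : ℚ) - Q ≠ 0 := sub_ne_zero.2 (by exact_mod_cast Ne.symm h1)
  have e2 : (Q : ℚ) + 1 ≠ 0 := fun e => h2 (by exact_mod_cast eq_neg_of_add_eq_zero_left e)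
  fin_cases i <;>
    simp [Fin.sum_univ_succ, matWrF, tWrF, uWrF, degWrF, pr0WrF] <;> field_simp <;> ring

theorem prWrF_sub (Q : ℤ) (h0 : Q ≠ 0) (h2 : Q ≠ -1) (i : Fin 8) :
    (prWrF Q i - pr0WrF Q i) * ((Q * (Q + 1) : ℤ) : ℚ) ^ 2 =
      ((![0, 0, 0, 0, 0, 0, 0, 1] : Fin 8 → ℤ) i : ℚ) * ((Q : ℚ) - 1) ^ 2 * (Q * (Q + 1)) := by
  have e0 : (Q : ℚ) ≠ 0 := by exact_mod_cast h0
  have e2 : (Q : ℚ) + 1 ≠ 0 := fun e => h2 (by exact_mod_cast eq_neg_of_add_eq_zero_left e)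
  fin_cases i <;> simp [prWrF, pr0WrF] <;> field_simp <;> ring

variable {N : Type u} [Group N] [Fintype N] {H : Type v} [Group H] {K : Type w} [CommGroup K] {Q : ℤ}

/-- The characters upstairs. -/
noncomputable def vWr (T : Tbl H K Q) (m : Mu K Q) (θ : K →* ℂˣ) : Fin 13 → H → ℂ :=
  let lam : scal K Q →* ℂˣ := (powMonoidHom m.h).comp m.μ
  ![fun _ => 1, T.St, fun x => (lam (T.dt x) : ℂ), fun x => (lam (T.dt x) : ℂ) * T.St x, T.PS 1 lam, T.DS θ,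
    T.DS θ⁻¹, fun x => (m.μ (T.dt x) : ℂ), fun x => (m.μ (T.dt x) : ℂ) * T.St x,
    fun x => (m.μ⁻¹ (T.dt x) : ℂ), fun x => (m.μ⁻¹ (T.dt x) : ℂ) * T.St x, T.PS m.μ m.μ⁻¹, T.PS 1 m.μ⁻¹]

theorem Mu.lam_gamma [Fintype (scal K Q)] (m : Mu K Q) : (m.μ m.γ : ℂ) ^ m.h = -1 := by
  have h1 : ((m.μ m.γ : ℂ) ^ m.h) * ((m.μ m.γ : ℂ) ^ m.h) = 1 := by
    rw [← pow_add, ← two_mul, ← Units.val_pow_eq_pow_val, ← map_pow, m.γ_pow, map_one, Units.val_one]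
  refine (mul_self_eq_one_iff.1 h1).resolve_left fun e => ?_
  refine m.gamma_zpow (k := (m.h : ℤ)) (fun h => ?_) (Units.ext ?_)
  · have h' := Int.le_of_dvd (by have := m.h0; omega) h
    have := m.h0
    omega
  · rw [zpow_natCast, Units.val_pow_eq_pow_val, e, Units.val_one]

/-- The three pairs of characters in the principal series. -/
theorem Mu.ps_ne [Fintype (scal K Q)] (m : Mu K Q) : (1 : scal K Q →* ℂˣ) ≠ (powMonoidHom m.h).comp m.μ ∧ m.μ ≠ m.μ⁻¹ ∧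
    (1 : scal K Q →* ℂˣ) ≠ m.μ⁻¹ := by
  obtain ⟨hz1, hz2⟩ := m.ne_gamma
  refine ⟨fun h => ?_, fun h => hz2 ?_, fun h => hz1 ?_⟩ <;>
    have e := congrArg Units.val (DFunLike.congr_fun h m.γ) <;> simp at e
  · rw [m.lam_gamma] at e; norm_num at e
  · conv_lhs => arg 2; rw [e]
    exact mul_inv_cancel₀ (Units.ne_zero _)
  · rw [e, Units.val_one]

/-- The eight functions on the torus. -/
theorem vWr_torus [Fintype (scal K Q)] (T : Tbl H K Q) (m : Mu K Q) (θ : K →* ℂˣ) (hθ : ∃ l, θ (l ^ Q) ≠ θ l)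
    (hθ' : ∃ l, θ⁻¹ (l ^ Q) ≠ θ⁻¹ l) (i : Fin 8) {a b : scal K Q} (hab : a ≠ b) :
    ∑ j, (matWrF i j : ℂ) * vWr T m θ j (T.D (a, b)) = m.ev i (a, b) := by
  obtain ⟨h1, h2, h3⟩ := m.ps_ne
  fin_cases i <;>
    simp [Fin.sum_univ_succ, matWrF, vWr, cv, Mu.ev, row, Mu.mon, lin, T.St_D a b hab, T.dt_D,
      T.PS_D _ _ a b h1 hab, T.PS_D _ _ a b h2 hab, T.PS_D _ _ a b h3 hab, T.DS_D _ a b hθ hab,
      T.DS_D _ a b hθ' hab, mul_pow] <;> ring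

/-- Complex conjugation on a discrete series. -/
theorem conj_DS (T : Tbl H K Q) {θ : K →* ℂˣ} (hθ : ∃ l, θ (l ^ Q) ≠ θ l)
    (hθ' : ∃ l, θ⁻¹ (l ^ Q) ≠ θ⁻¹ l) (g : H) : conj (T.DS θ g) = T.DS θ⁻¹ g := by
  haveI := T.finiteK
  haveI := Fintype.ofFinite K
  have hc : ∀ x : K, conj (cv θ x) = cv θ⁻¹ x := fun x => by
    rw [SL2Char.conj_cv]; simp [cv]
  have key : ∀ r, conj (T.DS θ r) = T.DS θ⁻¹ r → IsConj r g → conj (T.DS θ g) = T.DS θ⁻¹ g := fun r hr h => by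
    obtain ⟨c, rfl⟩ := isConj_iff.1 h
    rw [(T.DS_irr θ hθ).classFun r c, (T.DS_irr _ hθ').classFun r c, hr]
  rcases T.cover g with ⟨a, ha⟩ | ⟨⟨a, b⟩, ha⟩ | ⟨l, hl, ha⟩
  · exact key _ (by rw [T.DS_U θ a hθ, T.DS_U _ a hθ', hc]) ha
  · refine key _ ?_ ha
    by_cases hab : a = b
    · subst hab
      rw [T.DS_sc θ a hθ, T.DS_sc _ a hθ', map_mul, hc, map_sub, map_one, map_intCast]
    · rw [T.DS_D θ a b hθ hab, T.DS_D _ a b hθ' hab, map_zero]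
  · exact key _ (by rw [T.DS_E θ l hθ hl, T.DS_E _ l hθ' hl, map_add, hc, hc]) ha

namespace NSys

variable (Y : NSys N H K Q)
include Y

/-- The thirteen characters on `N`. -/
theorem exists_atoms (S : Split Y) (m : Mu K Q) (he : m.μ Y.e = -1) (heh : m.μ Y.e ^ m.h = 1) :
    ∃ (θ : K →* ℂˣ) (v : Fin 13 → N → ℂ), (∃ l, θ (l ^ Q) ≠ θ l) ∧ (∃ l, θ⁻¹ (l ^ Q) ≠ θ⁻¹ l) ∧
      (∀ j, SgnIrr N (v j)) ∧ (∀ j g, v j (Y.π g) = vWr Y.T m θ j g) ∧ (∀ i j, i ≠ j → classInner (v i) (v j) = 0) ∧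
      v 0 = (fun _ => 1) ∧ (∀ j, v j 1 = degWrF Q j) ∧ (∀ j, v j (S.τ (Y.e, Y.e)) = tWrF Q j) ∧
      (∀ j, v j (S.τ (1, Y.e)) = uWrF j) ∧
      ∀ j n, ¬ 2 ∣ orderOf n → v j n = (alWr j : ℂ) + beWr j * v 1 n := by
  haveI := Y.T.cyc
  haveI := Y.T.finiteK
  haveI := Y.finiteH
  haveI := Fintype.ofFinite H
  haveI := Fintype.ofFinite (scal K Q)
  obtain ⟨θ, hto, hte, hθ, hθ', htn, htn'⟩ := exists_theta_two Y.T.odd Y.T.ne_one Y.T.ne_neg_one Y.T.card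
  obtain ⟨h1, h2, h3⟩ := m.ps_ne
  have hirrH : ∀ j, SgnIrr H (vWr Y.T m θ j) := fun j => by
    fin_cases j
    · exact Or.inl Cfsg.Agent.Char.isIrr_one
    · exact Y.T.St_irr
    · exact SgnIrr.linear (((powMonoidHom m.h).comp m.μ).comp Y.T.dt)
    · exact Y.T.St_irr.mul_linear (((powMonoidHom m.h).comp m.μ).comp Y.T.dt)
    · exact Y.T.PS_irr _ _ h1
    · exact Y.T.DS_irr _ hθ
    · exact Y.T.DS_irr _ hθ'
    · exact SgnIrr.linear (m.μ.comp Y.T.dt)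
    · exact Y.T.St_irr.mul_linear (m.μ.comp Y.T.dt)
    · exact SgnIrr.linear (m.μ⁻¹.comp Y.T.dt)
    · exact Y.T.St_irr.mul_linear (m.μ⁻¹.comp Y.T.dt)
    · exact Y.T.PS_irr _ _ h2
    · exact Y.T.PS_irr _ _ h3
  have hoK : ∀ a : scal K Q, Odd (orderOf a) → θ (a : K) = 1 := fun a ha => hto _ (by rwa [Subgroup.orderOf_coe])
  have hdt : ∀ g : H, Odd (orderOf g) → m.μ (Y.T.dt g) = 1 := fun g hg =>
    m.odd _ (hg.of_dvd_nat (orderOf_map_dvd Y.T.dt g))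
  have hoddv : ∀ a : scal K Q, Odd (orderOf a) → ∀ j, vWr Y.T m θ j (Y.T.D (a, a)) = vWr Y.T m θ j 1 := fun a ha j => by
    fin_cases j <;>
      simp [vWr, cv, Y.T.St_sc, Y.T.St_one, Y.T.PS_sc _ _ a h1, Y.T.PS_one h1, Y.T.PS_sc _ _ a h2, Y.T.PS_one h2,
        Y.T.PS_sc _ _ a h3, Y.T.PS_one h3, Y.T.DS_sc _ a hθ, Y.T.DS_one hθ, Y.T.DS_sc _ a hθ', Y.T.DS_one hθ', Y.T.dt_D,
        m.odd a ha, hoK a ha]
  choose ψ hψ hψπ using fun j => Y.T.descend Y.π Y.surj Y.ker_central Y.ker_odd (hirrH j) (fun a ha => hoddv a ha j)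
  have hd : ∀ j, ψ j 1 = degWrF Q j := fun j => by
    rw [← map_one Y.π, hψπ]
    fin_cases j <;>
      simp [vWr, degWrF, Y.T.St_one, Y.T.PS_one h1, Y.T.PS_one h2, Y.T.PS_one h3, Y.T.DS_one hθ, Y.T.DS_one hθ']
  have hτ : ∀ j p, ψ j (S.τ p) = vWr Y.T m θ j (Y.T.D p) := fun j p => S.val_tau (hψ j).classFun (hψπ j) p
  have hneK : (Y.e : K) ≠ 1 := fun h => Y.e_ne (Subtype.ext h)
  have hte' : θ (Y.e : K) = -1 := hte _ hneK (congrArg Subtype.val Y.e_sq)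
  have hehC : (-1 : ℂ) ^ m.h = 1 := by
    have := congrArg Units.val heh
    rwa [he, Units.val_pow_eq_pow_val, Units.val_neg, Units.val_one] at this
  refine ⟨θ, ψ, hθ, hθ', hψ, hψπ, ?_, ?_, hd, fun j => ?_, fun j => ?_, fun j => ?_⟩
  · -- different
    have hv : ∀ {i j}, ψ i = ψ j → ∀ x, vWr Y.T m θ i x = vWr Y.T m θ j x := fun {i j} h x => by
      rw [← hψπ, ← hψπ, h]
    have hb := Y.T.big
    refine orth_of_ne ψ (degWrF Q) hψ hd (fun i j h => ?_) fun i j h hdd hij => ?_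
    · fin_cases i <;> fin_cases j <;> simp [degWrF] at h ⊢ <;> omega
    obtain ⟨hz1, hz2⟩ := m.ne_gamma
    have hzh := m.lam_gamma
    have hz0 : (m.μ m.γ : ℂ) ≠ 0 := Units.ne_zero _
    have hg1 : m.γ ≠ 1 := fun h => hz1 (by rw [h, map_one, Units.val_one])
    have hq : (Q : ℂ) + 1 ≠ 0 := by
      rw [← sub_neg_eq_add, sub_ne_zero]; exact_mod_cast Y.T.ne_neg_one
    have hn1 : (m.μ m.γ : ℂ) ≠ -1 := fun e => hz2 (by rw [e]; norm_num)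
    have lins : ∀ z : ℂ, z ≠ 0 → z ≠ 1 → z * z ≠ 1 → z ≠ -1 →
        (1 : ℂ) ≠ z ∧ (1 : ℂ) ≠ z⁻¹ ∧ (-1 : ℂ) ≠ z ∧ (-1 : ℂ) ≠ z⁻¹ ∧ z ≠ z⁻¹ := fun z h0 ha hb hc =>
      ⟨ha.symm, fun e => ha (inv_eq_one.1 e.symm), hc.symm,
        fun e => hc (by rw [← inv_inv z, ← e, inv_neg, inv_one]),
        fun e => hb (by nth_rw 2 [e]; exact mul_inv_cancel₀ h0)⟩
    obtain ⟨l1, l2, l3, l4, l5⟩ := lins _ hz0 hz1 hz2 hn1
    have eg : ∀ {i j}, ψ i = ψ j → vWr Y.T m θ i (Y.T.D (m.γ, 1)) = vWr Y.T m θ j (Y.T.D (m.γ, 1)) :=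
      fun h => hv h _
    have ed : ∀ {i j}, ψ i = ψ j → vWr Y.T m θ i (Y.T.D (m.γ, m.γ)) = vWr Y.T m θ j (Y.T.D (m.γ, m.γ)) :=
      fun h => hv h _
    have n56 : ¬ ψ 5 = ψ 6 := fun h => by
      rcases Y.T.DS_inj hθ hθ' (funext fun x => by simpa [vWr] using hv h x) with h' | h'
      · obtain ⟨l, hl⟩ := htn; exact hl (h' l)
      · obtain ⟨l, hl⟩ := htn'; exact hl (h' l)
    have n4 : ¬ ψ 4 = ψ 11 := fun h => by
      have e := ed h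
      simp [vWr, cv, Y.T.PS_sc _ _ m.γ h1, Y.T.PS_sc _ _ m.γ h2, hzh] at e
      exact hq (by linear_combination -e / 2)
    have n4' : ¬ ψ 4 = ψ 12 := fun h => by
      have e := ed h
      simp [vWr, cv, Y.T.PS_sc _ _ m.γ h1, Y.T.PS_sc _ _ m.γ h3, hzh] at e
      exact l4 (mul_left_cancel₀ hq (by linear_combination e))
    have n11 : ¬ ψ 11 = ψ 12 := fun h => by
      have e := ed h
      simp [vWr, cv, Y.T.PS_sc _ _ m.γ h2, Y.T.PS_sc _ _ m.γ h3] at e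
      exact l2 (mul_left_cancel₀ hq (by linear_combination e))
    fin_cases i <;> fin_cases j <;> simp [degWrF] at h hdd <;>
      first
        | omega
        | exact n56 hij
        | exact n4 hij
        | exact n4' hij
        | exact n11 hij
        | (have e := eg hij
           simp [vWr, Y.T.dt_D, Y.T.St_D m.γ 1 hg1, hzh] at e
           first
             | exact l1 e
             | exact l2 e
             | exact l3 e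
             | exact l4 e
             | exact l5 e
             | exact l1 e.symm
             | exact l2 e.symm
             | exact hz1 e
             | exact hz1 (by rw [e, Units.val_one])
             | norm_num at e)
  · funext x
    obtain ⟨y, rfl⟩ := Y.surj x
    rw [hψπ]
    rfl
  · rw [hτ]
    fin_cases j <;>
      simp [vWr, cv, tWrF, Y.T.St_sc, Y.T.dt_D, Y.e_sq, Y.T.PS_sc _ _ Y.e h1, Y.T.PS_sc _ _ Y.e h2, Y.T.PS_sc _ _ Y.e h3,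
        Y.T.DS_sc _ Y.e hθ, Y.T.DS_sc _ Y.e hθ', he, hte', hehC, inv_neg]
  · rw [hτ]
    fin_cases j <;>
      simp [vWr, cv, uWrF, Y.T.St_D 1 Y.e (Ne.symm Y.e_ne), Y.T.dt_D, Y.T.PS_D _ _ 1 Y.e h1 (Ne.symm Y.e_ne),
        Y.T.PS_D _ _ 1 Y.e h2 (Ne.symm Y.e_ne), Y.T.PS_D _ _ 1 Y.e h3 (Ne.symm Y.e_ne),
        Y.T.DS_D _ 1 Y.e hθ (Ne.symm Y.e_ne), Y.T.DS_D _ 1 Y.e hθ' (Ne.symm Y.e_ne), he, hehC, inv_neg] <;> norm_num
  · refine Y.affine_of_reps (hψ j).classFun (hψ 1).classFun (hψπ j) (hψπ 1) (fun x hx => ?_) (fun x hx => ?_)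
      (fun x y hxy hx hy => ?_) (fun l hl hlo => ?_)
    · fin_cases j <;>
        simp [vWr, cv, alWr, beWr, Y.T.St_U, Y.T.dt_U, m.odd x hx, Y.T.PS_U _ _ x h1, Y.T.PS_U _ _ x h2, Y.T.PS_U _ _ x h3,
          Y.T.DS_U _ x hθ, Y.T.DS_U _ x hθ', hoK x hx]
    · fin_cases j <;>
        simp [vWr, cv, alWr, beWr, Y.T.St_sc, Y.T.dt_D, m.odd x hx, Y.T.PS_sc _ _ x h1, Y.T.PS_sc _ _ x h2,
          Y.T.PS_sc _ _ x h3, Y.T.DS_sc _ x hθ, Y.T.DS_sc _ x hθ', hoK x hx] <;> ring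
    · fin_cases j <;>
        simp [vWr, cv, alWr, beWr, Y.T.St_D x y hxy, Y.T.dt_D, m.odd x hx, m.odd y hy, Y.T.PS_D _ _ x y h1 hxy,
          Y.T.PS_D _ _ x y h2 hxy, Y.T.PS_D _ _ x y h3 hxy, Y.T.DS_D _ x y hθ hxy, Y.T.DS_D _ x y hθ' hxy] <;> norm_num
    · fin_cases j <;>
        simp [vWr, cv, alWr, beWr, Y.T.St_E l hl, hdt _ (show Odd (orderOf (Y.T.E l)) by
          rwa [orderOf_injective _ Y.T.E_inj]), Y.T.PS_E _ _ l h1 hl, Y.T.PS_E _ _ l h2 hl, Y.T.PS_E _ _ l h3 hl,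
          Y.T.DS_E _ l hθ hl, Y.T.DS_E _ l hθ' hl, map_zpow, hto _ hlo] <;> norm_num

end NSys

/-- The data of the projections in the wreathed case. -/
theorem Frm.exists_wrFuns {G : Type v'} [Group G] [Fintype G] {X : Type u} [Group X] [Fintype X] {N : Subgroup X}
    {D : PData G X} {Y : NSys N H K Q} {S : Split Y} (F : Frm D S) [Fintype (scal K Q)] (hQ : Q % 4 = 1)
    {M : Ideal AlgInt} (hM : IsPModular 2 M) :
    ∃ P : D.NFuns N M gramWrF trWrF (valWrF Q) (prWrF Q),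
      ((∀ n, conj (P.f 2 n) = P.f 3 n) ∧ ∀ n, conj (P.f 4 n) = P.f 5 n) ∧
        (∀ i, InB0 M (P.f i)) ∧ ∃ (m : Mu K Q) (θ : K →* ℂˣ), m.μ Y.e = -1 ∧ (∃ l, θ (l ^ Q) ≠ θ l) ∧
          (∃ l, θ⁻¹ (l ^ Q) ≠ θ⁻¹ l) ∧ ∀ i g, P.f i (Y.π g) = ∑ j, (matWrF i j : ℂ) * vWr Y.T m θ j g := by
  haveI := Y.finiteH
  haveI := Fintype.ofFinite H
  haveI := Y.T.cyc
  haveI := Y.T.finiteK
  obtain ⟨m, hm, he, heh⟩ := exists_Mu Y hQ
  obtain ⟨θ, v, hθ, hθ', hirr, hπ, horth, h0, hd, ha, hb, haff⟩ := Y.exists_atoms S m he heh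
  have hinv : ∀ φ : N → ℂ, IsClassFunction N φ → ∑ i ∈ invols N, φ i =
      φ (S.τ (Y.e, Y.e)) + ((Q * (Q + 1) : ℤ) : ℂ) * φ (S.τ (1, Y.e)) := fun φ hφ => by
    obtain ⟨c, hc⟩ := S.conj (Y.e, Y.e)
    obtain ⟨c', hc'⟩ := S.conj (1, Y.e)
    rw [← hc, ← hc', hφ, hφ]
    exact Y.T.sum_invols Y.π Y.surj Y.ker_central Y.ker_odd Y.e_ne Y.e_sq Y.T.exists_e.choose_spec.2.2.1 hφ
  obtain ⟨Fn, hFn⟩ := funs_of_atoms v _ _ _ matWrF Set.univ (S.τ (Y.e, Y.e)) (S.τ (1, Y.e)) (Q * (Q + 1))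
    (((Q * (Q + 1) : ℤ) : ℚ) ^ 2 / Nat.card N) rfl (fun i l => ∑ j, matWrF i j * matWrF l j) trWrF (valWrF Q)
    (pr0WrF Q) hirr horth h0 hd ha hb hinv (fun _ _ => rfl) (by decide) (valWrF_eq Q)
    (pr0WrF_eq Q Y.T.ne_zero Y.T.ne_one Y.T.ne_neg_one) fun _ _ _ => Set.mem_univ _
  have hcf : ∀ i, IsClassFunction N (Fn.f i) := fun i => IsGenChar.classFun (Fn.gen i)
  have hev : ∀ i p, p.1 ≠ p.2 → Fn.f i (S.τ p) = m.ev i p := fun i p hp => by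
    rw [hFn]
    refine (Finset.sum_congr rfl fun j _ => ?_).trans (vWr_torus Y.T m θ hθ hθ' i hp)
    rw [S.val_tau (hirr j).classFun (hπ j)]
  refine (F.nfuns_of_funs hM Fn (gram := gramWrF) (pr := prWrF Q)
    (fun i => oddVanish_comb v (matWrF i) alWr beWr haff (matWrF_odd i).1 (matWrF_odd i).2 (hFn i))
    (fun i => inB0_comb hM (hirr 1) (Y.St_reg S (hirr 1) (hπ 1)) v hirr (matWrF i) alWr beWr haff (hFn i))
    (fun i q hq hq1 hqa n hn => ?_) (fun i l => ?_) fun i => ?_).imp fun P hP => ?_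
  · have hne : q.1 ≠ q.2 := fun e => hq1 <| by
      rcases hqa with h | h
      · exact Prod.ext h (e ▸ h)
      · exact Prod.ext (e.trans h) h
    obtain ⟨r, hr, hne', hχ⟩ := S.sec_param hq hne hn
    obtain ⟨c, rfl⟩ := isConj_iff.1 hr
    rw [hcf, hev i r hne']
    obtain ⟨e1, e2⟩ := hχ m.μ m.odd
    rcases hqa with h | h
    · exact m.ev_axis i (Or.inl (by rw [e1, h, map_one]))
    · exact m.ev_axis i (Or.inr (by rw [e2, h, map_one]))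
  · rw [Finset.sum_congr (s₁ := goods K Q) rfl fun p hp => by
      rw [hev i _ (good_r1 (mem_goods.1 hp).2).1, hev l _ (mem_goods.1 hp).2.1], m.sum_goods, m.card2_eq,
      Nat.cast_pow, inv_mul_cancel_left₀ (pow_ne_zero _ (Nat.cast_ne_zero.2 (by have := m.h0; omega))),
      ← gramWrF_eq i l]
    push_cast
    rfl
  · rw [Finset.sum_congr rfl fun p hp => hev i _ (good_r1 (mem_goods.1 (Finset.mem_filter.1 hp).1).2).1,
      m.sum_goods_pair, hm, prWrF_sub Q Y.T.ne_zero Y.T.ne_neg_one]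
    have hN := congrArg (fun z : ℤ => (z : ℂ)) Y.card_N
    push_cast at hN ⊢
    linear_combination (2 * (m.h : ℂ)) * (cardOdd K Q : ℂ) *
      ((![0, 0, 0, 0, 0, 0, 0, 1] : Fin 8 → ℤ) i : ℂ) * hN
  · refine ⟨?_, fun i => by
      rw [hP]; exact inB0_comb hM (hirr 1) (Y.St_reg S (hirr 1) (hπ 1)) v hirr (matWrF i) alWr beWr haff (hFn i),
      m, θ, he, hθ, hθ', fun i g => by rw [hP, hFn]; simp only [hπ]⟩
    refine ⟨fun n => ?_, fun n => ?_⟩ <;> rw [hP, hFn, hFn] <;> obtain ⟨g, rfl⟩ := Y.surj n <;>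
      simp only [hπ, map_sum, map_mul, map_intCast]
    · simp [Fin.sum_univ_succ, matWrF, vWr, Y.T.conj_St g, conj_DS Y.T hθ hθ' g]
    · have hc : conj (m.μ (Y.T.dt g) : ℂ) = ((m.μ (Y.T.dt g))⁻¹ : ℂˣ) := by
        rw [← map_inv]; exact SL2Char.conj_cv m.μ _
      simp [Fin.sum_univ_succ, matWrF, vWr, Y.T.conj_St g, hc]

end Cfsg.Agent.Invol.AbgOrder
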