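import Cfsg.Agent.Lib.Invol.AbgOrder.OrdRoot
import Cfsg.Agent.Lib.Invol.AbgOrder.OrdWrFuns
import Cfsg.Agent.Lib.Invol.AbgOrder.OrdSdFuns
import Cfsg.Agent.Lib.Invol.AbgOrder.ColStein

/-!
# The unitary sum over the outer elements fixing a point

On the coset of the noncentral involution modulo `SL(2, q)` the permutation function is a combination of the functions
`(1 - μ^j)(1 - S)`.  These are supported on roots; a character with zero coefficient in all of them has sum zero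
against the permutation function of the coset.
-/

set_option autoImplicit false
set_option linter.unusedSectionVars false
set_option linter.style.haveILetI false
set_option linter.unreachableTactic false
set_option linter.unusedTactic false
set_option maxHeartbeats 1000000

open scoped ComplexConjugate Classical

namespace Cfsg.Agent.Invol.AbgOrder

open Cfsg Cfsg.Agent.Char Cfsg.Agent.Block
open Cfsg.Agent.Invol.BrauerL3 (scal Tbl SgnIrr Vecs)
open Cfsg.Agent.Block.SL2Char (cv)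

universe u v w x y

attribute [-instance] MonoidHom.fintypeRange MonoidHom.decidableMemRange

variable {G : Type u} [Group G] [Fintype G] {X : Type v} [Group X] [Fintype X] {F : Type y} [Field F] [Fintype F]
  {H : Type w} [Group H] {K : Type x} [CommGroup K] {Q : ℤ}

local notation "SL₂" => Matrix.SpecialLinearGroup (Fin 2) F

/-- The sum against the permutation function of the coset of the noncentral involution vanishes. -/
def OuterZero (D : PData G X) (s : Shape0 X F H K Q) (χ : G → ℂ) : Prop :=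
  ∀ e : scal K Q, e * e = 1 → e ≠ 1 →
    ∑ t : SL₂, (s.refSt (s.π (s.M.ι t * s.M.T.D (1, e))) + 1) * D.fsum χ (s.π (s.M.ι t * s.M.T.D (1, e))) = 0

/-- An element whose power is one modulo an odd element. -/
theorem odd_of_pow {A : Type u} [Monoid A] {a : A} {r : ℕ} (hr : Odd r) (h : a ^ r = 1) : Odd (orderOf a) :=
  hr.of_dvd_nat (orderOf_dvd_of_pow_eq_one h)

/-- The odd part of an element. -/
theorem exists_two_pow {A : Type u} [Monoid A] [Finite A] (a : A) (h : IsOfFinOrder a) :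
    ∃ r : ℕ, Odd r ∧ ∃ k : ℕ, (a ^ r) ^ 2 ^ k = 1 := by
  obtain ⟨k, r, hr, hk⟩ := Nat.exists_eq_two_pow_mul_odd h.orderOf_pos.ne'
  exact ⟨r, hr, k, by rw [← pow_mul, mul_comm, ← hk, pow_orderOf_eq_one]⟩

namespace Shape0

variable (s : Shape0 X F H K Q)
include s

/-- The scalars fix every point. -/
theorem refSt_central (a : scal K Q) (x : X) : s.refSt (x * s.π (s.M.T.D (a, a))) = s.refSt x := by
  have h1 : s.ψ (s.π (s.M.T.D (a, a))) = 1 := s.act₂_eq fun t => by
    rw [← map_mul, ← map_inv, ← map_mul, ← Subgroup.mem_center_iff.1 (s.M.T.D_center a) (s.M.ι t),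
      mul_inv_cancel_right]
    rfl
  have e : s.refSt (x * s.π (s.M.T.D (a, a))) + 1 = s.refSt x + 1 := by
    rw [s.refSt_fixed, s.refSt_fixed, map_mul, h1, mul_one]
  exact add_right_cancel e

end Shape0

section Outer

variable {D : PData G X} {s : Shape0 X F H K Q} (Y : NSys s.π.range H K Q)

/-- From the function on `N` to the sum over the coset. -/
theorem outer_zero (hQ : Q = -(Fintype.card F : ℤ)) (hodd : Odd (Fintype.card F)) (h4 : 4 ≤ Fintype.card F)
    (hT : Y.T = s.M.T)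
    (rel : ∀ g : H, ∃ a : scal K Q, (Y.π g : X) = s.π (g * s.M.T.D (a, a)) ∧ (s.M.T.dt g = 1 → a = 1))
    (μ : scal K Q →* ℂˣ) (hμ : ∀ a, Odd (orderOf a) → μ a = 1) (hker : ∀ a, μ a = 1 → Odd (orderOf a))
    (he : μ Y.e = -1) {φ : s.π.range → ℂ}
    (hφ : ∀ g, φ (Y.π g) = if (μ (Y.T.dt g) : ℂ) = -1 then 1 - Y.T.St g else 0) {χ : G → ℂ}
    (h0 : ∑ n : s.π.range, φ n * conj (D.fsum χ (n : X)) = 0) : OuterZero D s χ := by
  intro e hee hne
  obtain rfl : e = Y.e := (Y.e_unique hee).resolve_left hne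
  rw [hT] at hφ
  haveI := s.M.finite
  haveI := s.M.T.finiteK
  set u₀ := s.M.T.D (1, Y.e) with hu₀
  -- odd scalars die
  have hkill : ∀ d : scal K Q, Odd (orderOf d) → s.π (s.M.T.D (d, d)) = 1 := fun d hd =>
    s.ker_all _ (s.M.T.D_center d) (by rw [orderOf_injective _ s.M.T.D_inj, Prod.orderOf_mk, Nat.lcm_self]; exact hd)
  have hkill' : ∀ d : scal K Q, Odd (orderOf d) → (Y.π (s.M.T.D (d, d)) : X) = 1 := fun d hd => by
    rw [Y.ker_all _ (s.M.T.D_center d)
      (by rw [orderOf_injective _ s.M.T.D_inj, Prod.orderOf_mk, Nat.lcm_self]; exact hd)]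
    rfl
  have hYι : ∀ t : SL₂, (Y.π (s.M.ι t) : X) = s.π (s.M.ι t) := fun t => by
    obtain ⟨a, ha, ha1⟩ := rel (s.M.ι t)
    rw [ha, ha1 (s.M.dt_ι t)]
    exact congrArg s.π ((congrArg (s.M.ι t * ·) (map_one s.M.T.D)).trans (mul_one _))
  -- the image of the involution
  obtain ⟨t₁, ht₁⟩ : ∃ t₁ : SL₂, (Y.π u₀ : X) = s.π (s.M.ι t₁ * u₀) := by
    obtain ⟨a, ha, -⟩ := rel u₀
    have h2 : s.π (s.M.T.D (a * a, a * a)) = 1 := by
      have h3 : (Y.π u₀ : X) * (Y.π u₀ : X) = 1 := by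
        rw [← Subgroup.coe_mul, ← map_mul, hu₀, ← map_mul, Prod.mk_mul_mk, one_mul, Y.e_sq]
        exact congrArg Subtype.val ((congrArg Y.π (map_one s.M.T.D)).trans (map_one Y.π))
      rw [ha, ← map_mul, hu₀, ← map_mul, ← map_mul, Prod.mk_mul_mk, Prod.mk_mul_mk, one_mul, mul_mul_mul_comm,
        Y.e_sq, one_mul] at h3
      exact h3
    obtain ⟨d, hd, hdo⟩ := s.M.T.ker_eq s.π s.ker_central s.ker_odd (MonoidHom.mem_ker.2 h2)
    have hdd : a * a = d := congrArg Prod.fst (s.M.T.D_inj hd)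
    set o := orderOf d
    obtain ⟨k, hk⟩ := hdo
    have hao : a ^ o * a ^ o = 1 := by rw [← mul_pow, hdd, pow_orderOf_eq_one]
    have hπa : s.π (s.M.T.D (a, a)) = s.π (s.M.T.D (a ^ o, a ^ o)) := by
      rw [hk, pow_succ, pow_mul, sq, hdd,
        show ((d ^ k * a, d ^ k * a) : scal K Q × scal K Q) = (d ^ k, d ^ k) * (a, a) from rfl, map_mul, map_mul,
        hkill _ ((show Odd o from ⟨k, hk⟩).of_dvd_nat (orderOf_pow_dvd k)), one_mul]
    rw [map_mul, hπa, ← map_mul] at ha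
    rcases Y.e_unique hao with h | h <;> rw [h] at ha
    · exact ⟨1, by rw [ha, map_one, one_mul, ← Prod.one_eq_mk, map_one, mul_one]⟩
    · obtain ⟨t₀, ht₀⟩ := s.M.exists_of_dt (h := s.M.T.D (Y.e, Y.e)) (by rw [s.M.T.dt_D, Y.e_sq])
      exact ⟨t₀, by rw [ha, ← ht₀, Subgroup.mem_center_iff.1 (s.M.T.D_center Y.e) u₀]⟩
  let Φ : SL₂ → s.π.range := fun t => ⟨s.π (s.M.ι t * u₀), ⟨_, rfl⟩⟩
  have hΦ : ∀ t, Φ t = Y.π (s.M.ι (t * t₁⁻¹) * u₀) := fun t => Subtype.ext (by
    show s.π (s.M.ι t * u₀) = _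
    rw [map_mul Y.π, Subgroup.coe_mul, hYι, ht₁, ← map_mul, ← mul_assoc, ← map_mul, inv_mul_cancel_right])
  have hinj : Function.Injective Φ := fun t t' h => s.π_ι_inj (by
    have h' : s.π (s.M.ι t * u₀) = s.π (s.M.ι t' * u₀) := congrArg Subtype.val h
    rw [map_mul, map_mul] at h'
    exact mul_right_cancel h')
  -- the value
  have hval : ∀ n : s.π.range, φ n = if ∃ t, Φ t = n then s.refSt (n : X) + 1 else 0 := fun n => by
    obtain ⟨g, rfl⟩ := Y.surj n
    obtain ⟨a, ha, -⟩ := rel g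
    have href : s.refSt (Y.π g : X) + 1 = 1 - s.M.T.St g := by
      rw [ha, map_mul, s.refSt_central, s.refSt_St hQ hodd h4]
      ring
    rw [hφ, href]
    refine if_congr ⟨fun h => ?_, fun ⟨t, ht⟩ => ?_⟩ rfl rfl
    · -- in the coset
      have hb : μ (s.M.T.dt g * Y.e) = 1 := Units.ext (by
        rw [map_mul, Units.val_mul, h, he, Units.val_neg, Units.val_one]
        norm_num)
      obtain ⟨k, hk⟩ := hker _ hb
      set b := s.M.T.dt g * Y.e with hb'
      set c := b ^ (k + 1) with hc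
      have hc2 : c * c = b := by
        rw [hc, ← pow_add, show k + 1 + (k + 1) = orderOf b + 1 by omega, pow_succ, pow_orderOf_eq_one, one_mul]
      have hco : Odd (orderOf c) := (show Odd (orderOf b) from ⟨k, hk⟩).of_dvd_nat (orderOf_pow_dvd _)
      obtain ⟨t, ht⟩ := s.M.exists_of_dt (h := g * (u₀ * s.M.T.D (c, c))⁻¹) (by
        rw [map_mul, map_inv, map_mul, hu₀, s.M.T.dt_D, s.M.T.dt_D, one_mul, hc2, hb', mul_left_comm, Y.e_sq,
          mul_one, mul_inv_cancel])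
      refine ⟨t * t₁, Subtype.ext ?_⟩
      have hg : g = s.M.ι t * (u₀ * s.M.T.D (c, c)) := by rw [← ht, inv_mul_cancel_right]
      rw [hΦ, mul_inv_cancel_right, hg, map_mul, map_mul, map_mul, Subgroup.coe_mul, Subgroup.coe_mul,
        Subgroup.coe_mul, hkill' c hco, mul_one]
    · -- outside
      rw [hΦ, eq_comm] at ht
      set g' := s.M.ι (t * t₁⁻¹) * u₀ with hg'
      have hk : g'⁻¹ * g ∈ Y.π.ker := by rw [MonoidHom.mem_ker, map_mul, map_inv, ← ht, inv_mul_cancel]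
      have hko : Odd (orderOf (g'⁻¹ * g)) := Y.ker_odd.of_dvd_nat (Y.π.ker.orderOf_dvd_natCard hk)
      have h1 : μ (s.M.T.dt (g'⁻¹ * g)) = 1 := hμ _ (hko.of_dvd_nat (orderOf_map_dvd _ _))
      rw [map_mul, map_inv, map_mul, map_inv, inv_mul_eq_one] at h1
      rw [← h1, hg', map_mul, map_mul, s.M.dt_ι, map_one, one_mul, hu₀, s.M.T.dt_D, one_mul, he, Units.val_neg,
        Units.val_one]
  rw [Finset.sum_congr rfl fun n _ => by rw [hval n], ← Finset.sum_filter_add_sum_filter_not Finset.univ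
    (fun n => ∃ t, Φ t = n)] at h0
  rw [Finset.sum_eq_zero (s := Finset.univ.filter fun n => ¬ ∃ t, Φ t = n) fun n hn => by
      rw [if_neg (Finset.mem_filter.1 hn).2, zero_mul], add_zero,
    show (Finset.univ.filter fun n => ∃ t, Φ t = n) = Finset.univ.map ⟨Φ, hinj⟩ from Finset.ext fun n => by simp,
    Finset.sum_map] at h0
  have h := congrArg (starRingEnd ℂ) h0
  rw [map_sum, map_zero] at h
  rw [← h]
  refine Finset.sum_congr rfl fun t _ => ?_
  show (s.refSt (Φ t : X) + 1) * D.fsum χ (Φ t : X) = _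
  rw [if_pos ⟨t, rfl⟩, map_mul, Complex.conj_conj, Function.Embedding.coeFn_mk, s.refSt_fixed, map_natCast]

variable (S : Split Y) {M : Ideal AlgInt} (hM : IsPModular 2 M) (hN : NHyp s.π.range)

omit [Fintype G] in
/-- The geometric sum. -/
theorem alt_sum {h : ℕ} (z : ℂ) (hz : z ^ (2 * h) = 1) :
    ∑ j ∈ Finset.range (2 * h), (-1 : ℂ) ^ j * (1 - z ^ j) = if z = -1 then -(2 * h : ℂ) else 0 := by
  simp only [mul_sub, mul_one, Finset.sum_sub_distrib, ← mul_pow]
  split_ifs with h1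
  · subst h1
    rw [neg_one_geom_sum, if_pos (even_two_mul h)]
    simp
  · rw [neg_one_geom_sum, if_pos (even_two_mul h), geom_sum_eq (fun e => h1 (by linear_combination -e))]
    rw [mul_pow, pow_mul (-1 : ℂ), neg_one_sq, one_pow, one_mul, hz, sub_self, zero_div, sub_zero]

include hM hN in
/-- The wreathed case. -/
theorem wr_outer (hQ : Q = -(Fintype.card F : ℤ)) (hodd : Odd (Fintype.card F)) (h4 : 4 ≤ Fintype.card F)
    (hT : Y.T = s.M.T)
    (rel : ∀ g : H, ∃ a : scal K Q, (Y.π g : X) = s.π (g * s.M.T.D (a, a)) ∧ (s.M.T.dt g = 1 → a = 1))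
    (hz : D.zbar = (S.τ (Y.e, Y.e) : X)) (m : Mu K Q) (he : m.μ Y.e = -1) (θ : K →* ℂˣ)
    (hθ : ∃ l, θ (l ^ Q) ≠ θ l) (hθ' : ∃ l, θ⁻¹ (l ^ Q) ≠ θ⁻¹ l)
    (f : Fin 8 → s.π.range → ℂ) (hgen : ∀ i, IsGeneralizedCharacter s.π.range (f i)) (hov : ∀ i, OddVanish (f i))
    (hB : ∀ i, InB0 M (f i)) (hf : ∀ i g, f i (Y.π g) = ∑ j, (matWrF i j : ℂ) * vWr Y.T m θ j g)
    {pr : Fin 8 → ℚ} (V : Vecs (IrrCharacter G) gramWrF trWrF (valWrF Q) pr) (hVo : V.o = trivialIrr G)
    (hv : ∀ i χ, (V.v i χ : ℂ) = D.coef M (indFun s.π.range (f i)) χ) {χ : IrrCharacter G}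
    (hχ : χ ∈ principalBlock M G) (hχo : χ ≠ V.o) (hA : V.v 0 χ = 0)
    (hcon : ∀ v : IrrCharacter G → ℤ, ∑ ψ, v ψ * v ψ ≤ 3 → ∑ ψ, v ψ * V.w 0 ψ = 1 → ∑ ψ, v ψ * V.w 1 ψ = 0 →
      ∑ ψ, v ψ * V.w 2 ψ = 1 → ∑ ψ, v ψ * V.w 3 ψ = 1 → v χ = 0) :
    OuterZero D s (χ : G → ℂ) := by
  haveI := s.M.finite
  haveI := Y.T.finiteK
  haveI := Y.T.cyc
  haveI := Fintype.ofFinite H
  haveI := Fintype.ofFinite (scal K Q)
  -- facts on `μ`
  have hsq : ∀ a : scal K Q, m.μ a ^ (2 * m.h) = 1 := fun a => by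
    obtain ⟨r, hr, k, hk⟩ := exists_two_pow a (isOfFinOrder_of_finite a)
    have h1 : (a ^ (2 * m.h)) ^ r = 1 := by rw [← pow_mul, mul_comm, pow_mul]; exact (m.two _).1 ⟨k, hk⟩
    rw [← map_pow]
    exact m.odd _ (odd_of_pow hr h1)
  have hker : ∀ a : scal K Q, m.μ a = 1 → Odd (orderOf a) := fun a ha => by
    obtain ⟨r, hr, k, hk⟩ := exists_two_pow a (isOfFinOrder_of_finite a)
    exact odd_of_pow hr (m.inj _ ((m.two _).1 ⟨k, hk⟩) (by rw [map_pow, ha, one_pow]))
  have hμh : ∀ a : scal K Q, (m.μ a : ℂ) ^ m.h ≠ 1 → ∃ r : ℕ, Odd r ∧ a ^ (m.h * r) = Y.e := fun a ha => by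
    obtain ⟨r, hr, k, hk⟩ := exists_two_pow a (isOfFinOrder_of_finite a)
    refine ⟨r, hr, (Y.e_unique ?_).resolve_left fun h1 => ha ?_⟩
    · rw [← pow_add, show m.h * r + m.h * r = r * (2 * m.h) by ring, pow_mul]
      exact (m.two _).1 ⟨k, hk⟩
    · obtain ⟨t, ht⟩ := hr
      have h2 : (m.μ a : ℂ) ^ (2 * m.h) = 1 := by rw [← Units.val_pow_eq_pow_val, hsq, Units.val_one]
      have h3 : (m.μ a : ℂ) ^ (m.h * r) = 1 := by
        rw [← Units.val_pow_eq_pow_val, ← map_pow, h1, map_one, Units.val_one]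
      rwa [show m.h * r = 2 * m.h * t + m.h by rw [ht]; ring, pow_add, pow_mul, h2, one_pow, one_mul] at h3
  -- the characters on `N`
  have hdesc : ∀ {g : H → ℂ}, SgnIrr H g → (∀ a : scal K Q, Odd (orderOf a) → g (Y.T.D (a, a)) = g 1) →
      ∃ ψ : s.π.range → ℂ, SgnIrr s.π.range ψ ∧ ∀ h, ψ (Y.π h) = g h :=
    fun hg ha => Y.T.descend Y.π Y.surj Y.ker_central Y.ker_odd hg ha
  obtain ⟨vS, hvS, hvSπ⟩ := hdesc Y.T.St_irr fun a _ => by rw [Y.T.St_sc, Y.T.St_one]
  have hoddμ : ∀ (j : ℕ) (g : H), Odd (orderOf g) → (m.μ (Y.T.dt g) : ℂ) ^ j = 1 := fun j g hg => by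
    rw [m.odd _ (hg.of_dvd_nat (orderOf_map_dvd Y.T.dt g)), Units.val_one, one_pow]
  let L : ℕ → H → ℂ := fun j g => (m.μ (Y.T.dt g) : ℂ) ^ j
  let LS : ℕ → H → ℂ := fun j g => (m.μ (Y.T.dt g) : ℂ) ^ j * Y.T.St g
  have hL : ∀ j, SgnIrr H (L j) := fun j => by
    have h := SgnIrr.linear (((powMonoidHom j).comp m.μ).comp Y.T.dt)
    simpa [L] using h
  have hLS : ∀ j, SgnIrr H (LS j) := fun j => by
    have h := Y.T.St_irr.mul_linear (((powMonoidHom j).comp m.μ).comp Y.T.dt)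
    simpa [LS] using h
  have hdd : ∀ a : scal K Q, Odd (orderOf a) → Odd (orderOf (Y.T.D (a, a))) := fun a ha => by
    rw [orderOf_injective _ Y.T.D_inj, Prod.orderOf_mk, Nat.lcm_self]; exact ha
  choose vL hvL hvLπ using fun j => hdesc (hL j) fun a ha => by
    simp only [L]
    rw [hoddμ j _ (hdd a ha), hoddμ j 1 (by rw [orderOf_one]; exact odd_one)]
  choose vLS hvLS hvLSπ using fun j => hdesc (hLS j) fun a ha => by
    simp only [LS]
    rw [hoddμ j _ (hdd a ha), hoddμ j 1 (by rw [orderOf_one]; exact odd_one), Y.T.St_sc, Y.T.St_one]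
  let A : ℕ → s.π.range → ℂ := fun j n => 1 - vS n - vL j n + vLS j n
  have hAπ : ∀ j g, A j (Y.π g) = (1 - (m.μ (Y.T.dt g) : ℂ) ^ j) * (1 - Y.T.St g) := fun j g => by
    simp only [A, hvSπ, hvLπ, hvLSπ, L, LS]; ring
  have hodds : ∀ (j : ℕ) (n : s.π.range), ¬ 2 ∣ orderOf n → vL j n = 1 ∧ vLS j n = vS n := fun j n hn => by
    obtain ⟨g, rfl, hg⟩ := Y.exists_odd_lift hn
    simp only [hvLπ, hvLSπ, hvSπ, L, LS, hoddμ j g hg, one_mul, and_self]
  -- all of them and the rows are supported at the roots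
  have hroot : ∀ j, D.RootFun s.π.range M (A j) := fun j => by
    have h1 : SgnIrr s.π.range (fun _ => (1 : ℂ)) := Or.inl isIrr_one
    have hcomb : ∀ n, A j n = ∑ i : Fin 4, ((![1, -1, -1, 1] : Fin 4 → ℤ) i : ℂ) *
        (![fun _ => 1, vS, vL j, vLS j] : Fin 4 → s.π.range → ℂ) i n := fun n => by
      simp [A, Fin.sum_univ_succ]; ring
    have haff : ∀ (i : Fin 4) (n : s.π.range), ¬ 2 ∣ orderOf n →
        (![fun _ => 1, vS, vL j, vLS j] : Fin 4 → s.π.range → ℂ) i n =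
          ((![1, 0, 1, 0] : Fin 4 → ℤ) i : ℂ) + (![0, 1, 0, 1] : Fin 4 → ℤ) i * vS n := fun i n hn => by
      obtain ⟨e1, e2⟩ := hodds j n hn
      fin_cases i <;> simp [e1, e2]
    have hirr : ∀ i : Fin 4, SgnIrr s.π.range ((![fun _ => 1, vS, vL j, vLS j] : Fin 4 → s.π.range → ℂ) i) :=
      fun i => by fin_cases i <;> [exact h1; exact hvS; exact hvL j; exact hvLS j]
    have hov' : OddVanish (A j) := oddVanish_comb _ _ _ _ haff (by decide) (by decide) hcomb
    have hgen' : IsGeneralizedCharacter s.π.range (A j) :=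
      IsGenChar.add (IsGenChar.sub (IsGenChar.sub h1.gen hvS.gen) (hvL j).gen) (hvLS j).gen
    refine ⟨hgen', hov', inB0_comb hM hvS (Y.St_reg S hvS hvSπ) _ hirr _ _ _ haff hcomb, fun n hn => ?_⟩
    rw [hz]
    refine root_of_reps S (IsGenChar.classFun hgen') hov' (fun a b hab h => absurd ?_ h) n hn
    rw [hAπ, Y.T.St_D a b hab, sub_self, mul_zero]
  have hlam : ∀ a : scal K Q, cv ((powMonoidHom m.h).comp m.μ) a = (m.μ a : ℂ) ^ m.h := fun a => by simp [cv]
  obtain ⟨hp1, hp2, hp3⟩ := m.ps_ne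
  have hrow : ∀ i : Fin 8, i = 0 ∨ i = 1 ∨ i = 2 ∨ i = 3 → D.RootFun s.π.range M (f i) := fun i hi => by
    refine ⟨hgen i, hov i, hB i, fun n hn => ?_⟩
    rw [hz]
    refine root_of_reps S (IsGenChar.classFun (hgen i)) (hov i) (fun a b hab h => ?_) n hn
    rw [hf] at h
    rcases hi with rfl | rfl | rfl | rfl
    · exact absurd (by
        simp [Fin.sum_univ_succ, matWrF, vWr, Y.T.St_D a b hab, Y.T.dt_D]) h
    · have h' : (1 - (m.μ a : ℂ) ^ m.h) * (1 - (m.μ b : ℂ) ^ m.h) ≠ 0 := fun e => h (by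
        rw [← e]
        simp [Fin.sum_univ_succ, matWrF, vWr, cv, Y.T.St_D a b hab, Y.T.dt_D, Y.T.PS_D _ _ a b hp1 hab]
        ring)
      obtain ⟨h1, h2⟩ := mul_ne_zero_iff.1 h'
      obtain ⟨r, hr, ea⟩ := hμh a fun e => h1 (by rw [e, sub_self])
      obtain ⟨r', hr', eb⟩ := hμh b fun e => h2 (by rw [e, sub_self])
      have hE : ∀ k : ℕ, Odd k → Y.e ^ k = Y.e := fun k ⟨t, ht⟩ => by
        rw [ht, pow_succ, pow_mul, sq, Y.e_sq, one_pow, one_mul]
      exact ⟨m.h * r * r', by rw [pow_mul, ea, hE _ hr'],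
        by rw [mul_right_comm, pow_mul, eb, hE _ hr]⟩
    · exact absurd (by simp [Fin.sum_univ_succ, matWrF, vWr, Y.T.St_D a b hab, Y.T.DS_D _ a b hθ hab]) h
    · exact absurd (by simp [Fin.sum_univ_succ, matWrF, vWr, Y.T.St_D a b hab, Y.T.DS_D _ a b hθ' hab]) h
  -- inner products on `H`
  have hk0 : (Nat.card Y.π.ker : ℂ) ≠ 0 := Nat.cast_ne_zero.2 Nat.card_pos.ne'
  have hpull : ∀ φ ψ : s.π.range → ℂ, classInner φ ψ = classInner (fun g => φ (Y.π g)) (fun g => ψ (Y.π g)) :=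
    fun φ ψ => by
      have h := sum_comp_surjective Y.π Y.surj (fun n => φ n * conj (ψ n))
      simp only [classInner]
      rw [h, ← mul_assoc]
      refine congrArg (· * _) ?_
      have hc : Nat.card H = Nat.card Y.π.ker * Nat.card s.π.range := by
        rw [← Y.π.ker.card_mul_index, Subgroup.index_ker, MonoidHom.range_eq_top.2 Y.surj, Subgroup.card_top]
      rw [hc, Nat.cast_mul, mul_inv_rev, mul_assoc, inv_mul_cancel₀ hk0, mul_one]
  have hb := Y.T.big
  have hdist : ∀ {p q : H → ℂ}, SgnIrr H p → SgnIrr H q → p 1 ≠ q 1 → p 1 ≠ -q 1 → classInner p q = 0 :=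
    fun hp hq h1 h2 => hp.inner_ne hq (fun e => h1 (congrFun e 1)) fun e => h2 (congrFun e 1)
  have hdist' : ∀ {p q : H → ℂ} (r : H), SgnIrr H p → SgnIrr H q → p r ≠ q r → p 1 ≠ -q 1 → classInner p q = 0 :=
    fun r hp hq h1 h2 => hp.inner_ne hq (fun e => h1 (congrFun e r)) fun e => h2 (congrFun e 1)
  have hγ1 : m.γ ≠ 1 := fun e => by
    have h := m.γo
    rw [e, orderOf_one] at h
    have := m.h0
    omega
  have hpne : ∀ j k : ℕ, j < 2 * m.h → k < 2 * m.h → j ≠ k → (m.μ m.γ : ℂ) ^ j ≠ (m.μ m.γ : ℂ) ^ k :=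
    fun j k hj hk hjk e => by
      refine m.gamma_zpow (k := (j : ℤ) - k) (fun hd => hjk ?_) ?_
      · have := Int.eq_zero_of_abs_lt_dvd hd (abs_lt.2 ⟨by omega, by omega⟩)
        omega
      · rw [zpow_sub, zpow_natCast, zpow_natCast, mul_inv_eq_one]
        exact Units.ext (by rw [Units.val_pow_eq_pow_val, Units.val_pow_eq_pow_val, e])
  have hLγ : ∀ j, L j (Y.T.D (m.γ, 1)) = (m.μ m.γ : ℂ) ^ j := fun j => by simp [L, Y.T.dt_D]
  have hLSγ : ∀ j, LS j (Y.T.D (m.γ, 1)) = (m.μ m.γ : ℂ) ^ j := fun j => by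
    simp [LS, Y.T.dt_D, Y.T.St_D _ _ hγ1]
  have hL1 : ∀ j, L j 1 = 1 ∧ LS j 1 = (Q : ℂ) := fun j => by simp [L, LS, Y.T.St_one]
  have hQ0 : (Q : ℂ) ≠ 1 ∧ (Q : ℂ) ≠ -1 ∧ (Q : ℂ) ≠ 0 :=
    ⟨by exact_mod_cast Y.T.ne_one, by exact_mod_cast Y.T.ne_neg_one, by exact_mod_cast Y.T.ne_zero⟩
  have hQQ : (Q : ℂ) ≠ -(Q : ℂ) := fun e => hQ0.2.2 (by linear_combination e / 2)
  -- among themselves
  have o1 : ∀ j k, classInner (L j) (LS k) = 0 := fun j k => hdist (hL j) (hLS k)
    (by rw [(hL1 j).1, (hL1 k).2]; exact hQ0.1.symm)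
    (by rw [(hL1 j).1, (hL1 k).2]; exact fun e => hQ0.2.1 (by linear_combination e))
  have o2 : ∀ j k, j < 2 * m.h → k < 2 * m.h → j ≠ k → classInner (L j) (L k) = 0 := fun j k hj hk hjk =>
    hdist' (Y.T.D (m.γ, 1)) (hL j) (hL k) (by rw [hLγ, hLγ]; exact hpne j k hj hk hjk)
      (by rw [(hL1 j).1, (hL1 k).1]; norm_num)
  have o3 : ∀ j k, j < 2 * m.h → k < 2 * m.h → j ≠ k → classInner (LS j) (LS k) = 0 := fun j k hj hk hjk =>
    hdist' (Y.T.D (m.γ, 1)) (hLS j) (hLS k) (by rw [hLSγ, hLSγ]; exact hpne j k hj hk hjk)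
      (by rw [(hL1 j).2, (hL1 k).2]; exact hQQ)
  have o1' : ∀ j k, classInner (LS j) (L k) = 0 := fun j k => by rw [← classInner_conj_symm, o1, map_zero]
  -- the vector of a function of the family
  have hvec : ∀ j, 0 < j → j < 2 * m.h → j ≠ m.h → D.coef M (indFun s.π.range (A j)) χ = 0 := by
    intro j hj0 hj hjh
    have h0h : 0 < 2 * m.h := by omega
    have hhh : m.h < 2 * m.h := by omega
    have eA : (fun g => A j (Y.π g)) = L 0 - LS 0 - L j + LS j := funext fun g => by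
      simp only [Pi.sub_apply, Pi.add_apply, hAπ, L, LS]; ring
    have e0L : classInner (L 0) (L 0) = 1 ∧ classInner (LS 0) (LS 0) = 1 ∧ classInner (L j) (L j) = 1 ∧
        classInner (LS j) (LS j) = 1 :=
      ⟨(hL 0).inner_self, (hLS 0).inner_self, (hL j).inner_self, (hLS j).inner_self⟩
    have hone : (fun _ : H => (1 : ℂ)) = L 0 := funext fun g => by simp [L]
    have hnorm : classInner (A j) (A j) = 4 ∧ classInner (A j) (fun _ => 1) = 1 := by
      rw [hpull, hpull (A j) fun _ => 1, hone, eA]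
      simp only [classInner_add_left, classInner_sub_left, classInner_add_right, classInner_sub_right, o1, o1',
        o2 0 j h0h hj hj0.ne, o2 j 0 hj h0h hj0.ne', o3 0 j h0h hj hj0.ne, o3 j 0 hj h0h hj0.ne', e0L.1, e0L.2.1,
        e0L.2.2.1, e0L.2.2.2]
      norm_num
    -- against an atom of the rows
    have hatom : ∀ l : Fin 13, (l : ℕ) ≤ 6 → classInner (fun g => A j (Y.π g)) (vWr Y.T m θ l) =
        if (l : ℕ) = 0 then 1 else if (l : ℕ) = 1 then -1 else 0 := by
      intro l hl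
      have e2 : vWr Y.T m θ 2 = L m.h := funext fun g => by simp [vWr, L]
      have e3 : vWr Y.T m θ 3 = LS m.h := funext fun g => by simp [vWr, LS]
      have e0 : vWr Y.T m θ 0 = L 0 := funext fun g => by simp [vWr, L]
      have e1 : vWr Y.T m θ 1 = LS 0 := funext fun g => by simp [vWr, LS]
      have hother : ∀ {p : H → ℂ}, SgnIrr H p → p 1 ≠ 1 → p 1 ≠ -1 → p 1 ≠ (Q : ℂ) → p 1 ≠ -(Q : ℂ) →
          classInner (fun g => A j (Y.π g)) p = 0 := fun {p} hp h1 h2 h3 h4' => by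
        rw [eA, classInner_add_left, classInner_sub_left, classInner_sub_left]
        have hz1 : ∀ k, classInner (L k) p = 0 := fun k => hdist (hL k) hp
          (by rw [(hL1 k).1]; exact h1.symm) (by rw [(hL1 k).1]; exact fun e => h2 (by linear_combination e))
        have hz2 : ∀ k, classInner (LS k) p = 0 := fun k => hdist (hLS k) hp
          (by rw [(hL1 k).2]; exact h3.symm) (by rw [(hL1 k).2]; exact fun e => h4' (by linear_combination e))
        rw [hz1, hz1, hz2, hz2]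
        ring
      have hbig : 3 ≤ Q ∨ Q ≤ -3 := by omega
      have hI : ∀ {a b : ℤ}, a ≠ b → (a : ℂ) ≠ (b : ℂ) := fun h e => h (Int.cast_injective e)
      rcases l with ⟨l, hl'⟩
      simp only at hl ⊢
      interval_cases l
      · show classInner _ (vWr Y.T m θ 0) = _
        rw [e0, eA]
        simp [classInner_add_left, classInner_sub_left, o1', e0L.1, o2 j 0 hj h0h hj0.ne']
      · show classInner _ (vWr Y.T m θ 1) = _
        rw [e1, eA]
        simp [classInner_add_left, classInner_sub_left, o1, e0L.2.1, o3 j 0 hj h0h hj0.ne']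
      · show classInner _ (vWr Y.T m θ 2) = _
        rw [e2, eA]
        simp [classInner_add_left, classInner_sub_left, o1', o2 j m.h hj hhh hjh,
          o2 0 m.h h0h hhh (Ne.symm m.h0)]
      · show classInner _ (vWr Y.T m θ 3) = _
        rw [e3, eA]
        simp [classInner_add_left, classInner_sub_left, o1, o3 j m.h hj hhh hjh,
          o3 0 m.h h0h hhh (Ne.symm m.h0)]
      · show classInner _ (vWr Y.T m θ 4) = _
        simp only [show ((4 : ℕ) = 0) = False by simp, show ((4 : ℕ) = 1) = False by simp, if_false]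
        have h1 : Y.T.PS 1 ((powMonoidHom m.h).comp m.μ) 1 = ((Q + 1 : ℤ) : ℂ) := by
          rw [Y.T.PS_one hp1]; push_cast; rfl
        refine hother (p := vWr Y.T m θ 4) (Y.T.PS_irr _ _ hp1) ?_ ?_ ?_ ?_ <;>
          simp only [vWr, Matrix.cons_val] <;> rw [h1]
        · exact_mod_cast hI (show Q + 1 ≠ 1 by omega)
        · exact_mod_cast hI (show Q + 1 ≠ -1 by omega)
        · exact_mod_cast hI (show Q + 1 ≠ Q by omega)
        · exact_mod_cast hI (show Q + 1 ≠ -Q by omega)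
      · show classInner _ (vWr Y.T m θ 5) = _
        simp only [show ((5 : ℕ) = 0) = False by simp, show ((5 : ℕ) = 1) = False by simp, if_false]
        have h1 : Y.T.DS θ 1 = ((1 - Q : ℤ) : ℂ) := by rw [Y.T.DS_one hθ]; push_cast; rfl
        refine hother (p := vWr Y.T m θ 5) (Y.T.DS_irr _ hθ) ?_ ?_ ?_ ?_ <;>
          simp only [vWr, Matrix.cons_val] <;> rw [h1]
        · exact_mod_cast hI (show 1 - Q ≠ 1 by omega)
        · exact_mod_cast hI (show 1 - Q ≠ -1 by omega)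
        · exact_mod_cast hI (show 1 - Q ≠ Q by omega)
        · exact_mod_cast hI (show 1 - Q ≠ -Q by omega)
      · show classInner _ (vWr Y.T m θ 6) = _
        simp only [show ((6 : ℕ) = 0) = False by simp, show ((6 : ℕ) = 1) = False by simp, if_false]
        have h1 : Y.T.DS θ⁻¹ 1 = ((1 - Q : ℤ) : ℂ) := by rw [Y.T.DS_one hθ']; push_cast; rfl
        refine hother (p := vWr Y.T m θ 6) (Y.T.DS_irr _ hθ') ?_ ?_ ?_ ?_ <;>
          simp only [vWr, Matrix.cons_val] <;> rw [h1]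
        · exact_mod_cast hI (show 1 - Q ≠ 1 by omega)
        · exact_mod_cast hI (show 1 - Q ≠ -1 by omega)
        · exact_mod_cast hI (show 1 - Q ≠ Q by omega)
        · exact_mod_cast hI (show 1 - Q ≠ -Q by omega)
    have hin : ∀ i : Fin 8, i = 0 ∨ i = 1 ∨ i = 2 ∨ i = 3 →
        classInner (A j) (f i) = ((![2, 1, 2, 2, 0, 0, 0, 0] : Fin 8 → ℤ) i : ℂ) := by
      intro i hi
      rw [hpull, show (fun g => f i (Y.π g)) = ∑ l, (matWrF i l : ℂ) • vWr Y.T m θ l from
        funext fun g => by simp [hf, Finset.sum_apply], classInner_sum_right]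
      have hl : ∀ l : Fin 13, classInner (fun g => A j (Y.π g)) ((matWrF i l : ℂ) • vWr Y.T m θ l) =
          ((matWrF i l * (if (l : ℕ) = 0 then 1 else if (l : ℕ) = 1 then -1 else 0) : ℤ) : ℂ) := fun l => by
        rw [classInner_smul_right, map_intCast]
        by_cases h6 : (l : ℕ) ≤ 6
        · rw [hatom l h6]
          push_cast
          rfl
        · have h0' : matWrF i l = 0 := by
            rcases hi with rfl | rfl | rfl | rfl <;> fin_cases l <;> simp at h6 <;> rfl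
          rw [h0', Int.cast_zero, zero_mul, zero_mul, Int.cast_zero]
      rw [Finset.sum_congr rfl fun l _ => hl l, ← Int.cast_sum]
      congr 1
      rcases hi with rfl | rfl | rfl | rfl <;> decide
    obtain ⟨v, hvA, hvo⟩ := D.exists_rootVec s.π.range hM hN (hroot j)
    have hvo' : v V.o = 1 := by
      rw [hVo]
      exact_mod_cast hvo.trans hnorm.2
    have hsumv : ∀ i : Fin 8, i = 0 ∨ i = 1 ∨ i = 2 ∨ i = 3 →
        ∑ ψ, v ψ * V.v i ψ = (![2, 1, 2, 2, 0, 0, 0, 0] : Fin 8 → ℤ) i := fun i hi => by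
      have h := D.inner_rootFun s.π.range hM hN (hroot j) (hrow i hi)
      simp only [← hvA, ← hv, map_intCast, hin i hi] at h
      exact_mod_cast h
    have hnv : ∑ ψ, v ψ * v ψ = 4 := by
      have h := D.inner_rootFun s.π.range hM hN (hroot j) (hroot j)
      simp only [← hvA, map_intCast, hnorm.1] at h
      exact_mod_cast h
    set v' : IrrCharacter G → ℤ := fun ψ => if ψ = V.o then 0 else v ψ with hv'
    have hred : ∀ i : Fin 8, ∑ ψ, v' ψ * V.w i ψ = ∑ ψ, v ψ * V.v i ψ - trWrF i := fun i => by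
      rw [← Finset.add_sum_erase Finset.univ (fun ψ => v ψ * V.v i ψ) (Finset.mem_univ V.o),
        ← Finset.add_sum_erase Finset.univ (fun ψ => v' ψ * V.w i ψ) (Finset.mem_univ V.o), hvo', V.v_o, one_mul,
        add_sub_cancel_left, V.w_o, mul_zero, zero_add]
      exact Finset.sum_congr rfl fun ψ hψ => by
        simp [hv', Vecs.w, (Finset.mem_erase.1 hψ).1]
    have h3 : ∑ ψ, v' ψ * v' ψ = 3 := by
      rw [← Finset.add_sum_erase Finset.univ (fun ψ => v ψ * v ψ) (Finset.mem_univ V.o), hvo'] at hnv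
      rw [← Finset.add_sum_erase Finset.univ (fun ψ => v' ψ * v' ψ) (Finset.mem_univ V.o),
        show v' V.o = 0 from if_pos rfl, mul_zero, zero_add,
        Finset.sum_congr rfl fun ψ hψ => by
          show v' ψ * v' ψ = v ψ * v ψ
          simp [hv', (Finset.mem_erase.1 hψ).1]]
      omega
    have hz0 := hcon v' h3.le (by rw [hred, hsumv 0 (by tauto)]; rfl) (by rw [hred, hsumv 1 (by tauto)]; rfl)
      (by rw [hred, hsumv 2 (by tauto)]; rfl) (by rw [hred, hsumv 3 (by tauto)]; rfl)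
    rw [hv'] at hz0
    simp only [if_neg hχo] at hz0
    rw [← hvA, hz0, Int.cast_zero]
  -- all vanish
  have hzero : ∀ j, j < 2 * m.h → ∑ n : s.π.range, A j n * conj (D.fsum (χ : G → ℂ) n) = 0 := by
    intro j hj
    rcases eq_or_ne j 0 with rfl | hj0
    · refine Finset.sum_eq_zero fun n _ => ?_
      obtain ⟨g, rfl⟩ := Y.surj n
      rw [hAπ, pow_zero, sub_self, zero_mul, zero_mul]
    rcases eq_or_ne j m.h with rfl | hjh
    · have e : A m.h = f 0 := funext fun n => by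
        obtain ⟨g, rfl⟩ := Y.surj n
        rw [hAπ, hf]
        simp [Fin.sum_univ_succ, matWrF, vWr]
        ring
      rw [e]
      exact D.coef_ind_zero _ _ hχ (by rw [← hv, hA, Int.cast_zero])
    exact D.coef_ind_zero _ _ hχ (hvec j (Nat.pos_of_ne_zero hj0) hj hjh)
  let φ : s.π.range → ℂ := fun n => (-(2 * m.h : ℂ))⁻¹ * ∑ j ∈ Finset.range (2 * m.h), (-1 : ℂ) ^ j * A j n
  refine outer_zero Y hQ hodd h4 hT rel m.μ m.odd hker he (φ := φ) (fun g => ?_) ?_
  · simp only [φ, hAπ]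
    rw [Finset.sum_congr rfl fun j _ => (mul_assoc ((-1 : ℂ) ^ j) _ _).symm, ← Finset.sum_mul,
      alt_sum _ (by rw [← Units.val_pow_eq_pow_val, hsq, Units.val_one])]
    have h0 : (-(2 * m.h : ℂ)) ≠ 0 := neg_ne_zero.2 (mul_ne_zero two_ne_zero (Nat.cast_ne_zero.2 m.h0))
    split_ifs with h1
    · rw [← mul_assoc, inv_mul_cancel₀ h0, one_mul]
    · rw [zero_mul, mul_zero]
  · simp only [φ, mul_assoc, Finset.sum_mul, ← Finset.mul_sum]
    rw [Finset.sum_comm]
    simp only [← Finset.mul_sum]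
    rw [Finset.sum_eq_zero fun j hj => by rw [hzero j (Finset.mem_range.1 hj), mul_zero], mul_zero]

/-- The semidihedral case. -/
theorem sd_outer (hQ : Q = -(Fintype.card F : ℤ)) (hodd : Odd (Fintype.card F)) (h4 : 4 ≤ Fintype.card F)
    (hT : Y.T = s.M.T)
    (rel : ∀ g : H, ∃ a : scal K Q, (Y.π g : X) = s.π (g * s.M.T.D (a, a)) ∧ (s.M.T.dt g = 1 → a = 1))
    (hQ3 : Q % 4 = 3) (lam : scal K Q →* ℂˣ) (hlodd : ∀ a, Odd (orderOf a) → lam a = 1)
    (hle : lam Y.e = -1) (f : s.π.range → ℂ)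
    (hf : ∀ g, f (Y.π g) = (1 - (lam (Y.T.dt g) : ℂ)) * (1 - Y.T.St g)) {χ : IrrCharacter G}
    (hχ : χ ∈ principalBlock M G) (h0 : D.coef M (indFun s.π.range f) χ = 0) : OuterZero D s (χ : G → ℂ) := by
  haveI := Y.T.finiteK
  have hker : ∀ a : scal K Q, lam a = 1 → Odd (orderOf a) := fun a ha => by
    obtain ⟨r, hr, k, hk⟩ := exists_two_pow a (isOfFinOrder_of_finite a)
    rcases Y.two_eq hQ3 ⟨k, hk⟩ with h | h
    · exact odd_of_pow hr h
    · exfalso
      have h1 : (lam (a ^ r) : ℂ) = 1 := by rw [map_pow, ha, one_pow, Units.val_one]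
      rw [h, hle, Units.val_neg, Units.val_one] at h1
      norm_num at h1
  have hpm : ∀ a : scal K Q, (lam a : ℂ) = 1 ∨ (lam a : ℂ) = -1 := fun a => by
    obtain ⟨r, hr, k, hk⟩ := exists_two_pow a (isOfFinOrder_of_finite a)
    have h2 : (a * a) ^ r = 1 := by
      rcases Y.two_eq hQ3 ⟨k, hk⟩ with h | h <;> rw [mul_pow, h]
      · exact mul_one _
      · exact Y.e_sq
    have h3 := congrArg Units.val (hlodd _ (odd_of_pow hr h2))
    rw [map_mul, Units.val_mul, Units.val_one] at h3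
    exact mul_self_eq_one_iff.1 h3
  refine outer_zero Y hQ hodd h4 hT rel lam hlodd hker hle (φ := fun n => f n / 2) (fun g => ?_) ?_
  · simp only [hf]
    rcases hpm (Y.T.dt g) with h | h <;> rw [h]
    · rw [if_neg (by norm_num)]; ring
    · rw [if_pos rfl]; ring
  · simp only [div_mul_eq_mul_div, ← Finset.sum_div]
    rw [D.coef_ind_zero _ _ hχ h0, zero_div]

end Outer

end Cfsg.Agent.Invol.AbgOrder
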