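import Cfsg.Agent.Lib.Invol.AbgOrder.AlgWr
import Cfsg.Agent.Lib.Invol.AbgOrder.OrdWrFuns
import Cfsg.Agent.Lib.Invol.BrauerL3.ShapeWr

/-!
# The shape of the eight vectors in the wreathed case

Apart from the trivial character they are `a+b+c`, `b+i`, `a+e`, `a+e'`, `a+x+y`, its conjugate `a+x'+y'`,
`-x+y'+j` and `i+x`; so `x` has the degree of `b`, and the value of `x` exceeds that of `b` by `2 (Q + 1)`.
-/

set_option autoImplicit false
set_option linter.unusedSectionVars false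
set_option linter.unusedVariables false

open scoped Classical

namespace Cfsg.Agent.Invol.AbgOrder

open Cfsg.Agent.Invol.BrauerL3

universe u

variable {ι : Type u} [Fintype ι]

/-- A coefficient up to the sign of the element. -/
def sco (v : ι → ℤ) (x : ι × ℤ) : ℤ := x.2 * v x.1

theorem sco_small {v : ι → ℤ} (hn : ∑ χ, v χ * v χ ≤ 3) {x : ι × ℤ} (hx : IsSigned x) :
    sco v x = -1 ∨ sco v x = 0 ∨ sco v x = 1 := by
  rcases small_of_norm hn x.1 with p | p | p <;> rcases hx with q | q <;> simp [sco, p, q]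

theorem sco_ne {v : ι → ℤ} {x : ι × ℤ} (h : sco v x ≠ 0) : v x.1 ≠ 0 := fun e => h (by rw [sco, e, mul_zero])

theorem sco_one {v : ι → ℤ} {x : ι × ℤ} (hx : IsSigned x) (h : sco v x = 1) : v x.1 = x.2 := by
  rcases hx with q | q <;> simp [sco, q] at h ⊢ <;> omega

theorem sco_neg_one {v : ι → ℤ} {x : ι × ℤ} (hx : IsSigned x) (h : sco v x = -1) : v x.1 = -x.2 := by
  rcases hx with q | q <;> simp [sco, q] at h ⊢ <;> omega

theorem sco_zero {v : ι → ℤ} {x : ι × ℤ} (hx : IsSigned x) (h : sco v x = 0) : v x.1 = 0 :=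
  mul_zero_of_small hx.ne_zero h

theorem signed_neg {x : ι × ℤ} (hx : IsSigned x) : IsSigned ((x.1, -x.2) : ι × ℤ) := by
  rcases hx with q | q <;> simp [IsSigned, q]

theorem eq_two {v : ι → ℤ} (hn : ∑ χ, v χ * v χ = 2) {x y : ι × ℤ} (hx : IsSigned x) (hy : IsSigned y)
    (hxy : x.1 ≠ y.1) (h1 : v x.1 = x.2) (h2 : v y.1 = y.2) : v = sv x + sv y := by
  funext χ
  by_cases hc : χ = x.1
  · rw [hc, h1]; simp [sv, hxy]
  by_cases hd : χ = y.1
  · rw [hd, h2]; simp [sv, hxy.symm]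
  have h := sum_sq_le (v := v) {x.1, y.1} (fun z hz => by
    simp only [Finset.mem_insert, Finset.mem_singleton] at hz
    rcases hz with rfl | rfl <;> [rw [h1]; rw [h2]] <;> [exact hx.ne_zero; exact hy.ne_zero])
  by_contra hne
  have h0 : v χ ≠ 0 := by simpa [sv, hc, hd] using hne
  have h' := sum_sq_le (v := v) {χ, x.1, y.1} (fun z hz => by
    simp only [Finset.mem_insert, Finset.mem_singleton] at hz
    rcases hz with rfl | rfl | rfl
    · exact h0
    · rw [h1]; exact hx.ne_zero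
    · rw [h2]; exact hy.ne_zero)
  rw [show ({χ, x.1, y.1} : Finset ι).card = 3 by simp [hc, hd, hxy], hn] at h'
  omega

theorem eq_three {v : ι → ℤ} (hn : ∑ χ, v χ * v χ = 3) {x y z : ι × ℤ} (hx : IsSigned x) (hy : IsSigned y)
    (hz : IsSigned z) (hxy : x.1 ≠ y.1) (hxz : x.1 ≠ z.1) (hyz : y.1 ≠ z.1) (h1 : v x.1 = x.2) (h2 : v y.1 = y.2)
    (h3 : v z.1 = z.2) : v = sv x + sv y + sv z := by
  funext χ
  by_cases hc : χ = x.1
  · rw [hc, h1]; simp [sv, hxy, hxz]
  by_cases hd : χ = y.1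
  · rw [hd, h2]; simp [sv, hxy.symm, hyz]
  by_cases he : χ = z.1
  · rw [he, h3]; simp [sv, hxz.symm, hyz.symm]
  by_contra hne
  refine four_supp (v := v) hn.le hc hd he hxy hxz hyz (by simpa [sv, hc, hd, he] using hne) ?_ ?_ ?_
  · rw [h1]; exact hx.ne_zero
  · rw [h2]; exact hy.ne_zero
  · rw [h3]; exact hz.ne_zero

theorem three_supp {v : ι → ℤ} {p q r : ι} (hn : ∑ χ, v χ * v χ ≤ 2) (h1 : p ≠ q) (h2 : p ≠ r) (h3 : q ≠ r)
    (hp : v p ≠ 0) (hq : v q ≠ 0) (hr : v r ≠ 0) : False := by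
  have h := sum_sq_le (v := v) {p, q, r} (fun χ hχ => by
    simp only [Finset.mem_insert, Finset.mem_singleton] at hχ
    rcases hχ with rfl | rfl | rfl <;> assumption)
  rw [show ({p, q, r} : Finset ι).card = 3 by simp [h1, h2, h3]] at h
  omega

/-- The equations in the wreathed case and the second term `i` of the vector `o`. -/
theorem wrF_shape (Q : ℤ) (V : Vecs ι gramWrF trWrF (valWrF Q) (prWrF Q)) (π : ι ≃ ι)
    (hπ : ∀ χ, V.v 5 χ = V.v 4 (π χ)) (hπd : ∀ χ, V.deg (π χ) = V.deg χ) (hπv : ∀ χ, V.val (π χ) = V.val χ) :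
    ∃ E : WrEqsF Q V.R, E.x = E.b ∧ E.X = E.B + 2 * (Q + 1) ∧
      ∃ i : ι × ℤ, IsSigned i ∧ V.w 1 i.1 ≠ 0 ∧ V.dg i = -1 - E.b ∧ V.vl i = -1 - E.B ∧ V.w 0 i.1 = 0 ∧
        ∀ v : ι → ℤ, ∑ χ, v χ * v χ ≤ 3 → ∑ χ, v χ * V.w 0 χ = 1 → ∑ χ, v χ * V.w 1 χ = 0 →
          ∑ χ, v χ * V.w 2 χ = 1 → ∑ χ, v χ * V.w 3 χ = 1 → v i.1 = 0 := by
  have nA : ∑ χ, V.w 0 χ * V.w 0 χ = 3 := by rw [V.inner_w]; rfl
  have no : ∑ χ, V.w 1 χ * V.w 1 χ = 2 := by rw [V.inner_w]; rfl
  have nM : ∑ χ, V.w 4 χ * V.w 4 χ = 3 := by rw [V.inner_w]; rfl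
  have nM' : ∑ χ, V.w 5 χ * V.w 5 χ = 3 := by rw [V.inner_w]; rfl
  have nW : ∑ χ, V.w 6 χ * V.w 6 χ = 3 := by rw [V.inner_w]; rfl
  have nf : ∑ χ, V.w 7 χ * V.w 7 χ = 2 := by rw [V.inner_w]; rfl
  obtain ⟨b, i, hb, hi, hbi, e0, hAb, hAi⟩ := split_two (v := V.w 0) (O := V.w 1) nA.le no
    (by rw [V.inner_w]; rfl)
  obtain ⟨a, e, ha, he, hae, eF, hAa, hAe⟩ := split_two (v := V.w 0) (O := V.w 2) nA.le
    (by rw [V.inner_w]; rfl) (by rw [V.inner_w]; rfl)
  obtain ⟨a', e', ha', he', hae', eF', hAa', hAe'⟩ := split_two (v := V.w 0) (O := V.w 3) nA.le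
    (by rw [V.inner_w]; rfl) (by rw [V.inner_w]; rfl)
  obtain ⟨d0, v0, q0⟩ := V.sum_two hb hi e0
  obtain ⟨dF, vF, qF⟩ := V.sum_two ha he eF
  obtain ⟨dF', vF', qF'⟩ := V.sum_two ha' he' eF'
  have ne_of : ∀ {p q : ι × ℤ}, IsSigned p → V.w 0 p.1 = p.2 → V.w 0 q.1 = 0 → p.1 ≠ q.1 :=
    fun hp h1 h2 e => hp.ne_zero (by rw [← h1, e, h2])
  have hb0 : b.1 ≠ V.o := V.ne_o (i := 0) (by rw [hAb]; exact hb.ne_zero)
  have ha0 : a.1 ≠ V.o := V.ne_o (i := 0) (by rw [hAa]; exact ha.ne_zero)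
  have hi0 : i.1 ≠ V.o := V.ne_o (i := 1) (by
    rw [e0, Pi.add_apply, sv_of_ne hbi.symm, sv_self, zero_add]; exact hi.ne_zero)
  -- `o` and `F` are disjoint
  have sep : ∀ {a e : ι × ℤ} {l : Fin 8}, IsSigned a → IsSigned e → a.1 ≠ e.1 → V.w l = sv a + sv e →
      V.w 0 a.1 = a.2 → V.w 0 e.1 = 0 → gramWrF 1 l - trWrF 1 * trWrF l = 0 → V.dg a + V.dg e = -1 →
      a.1 ≠ b.1 ∧ a.1 ≠ i.1 ∧ e.1 ≠ b.1 ∧ e.1 ≠ i.1 := by
    intro a e l ha he hae eF hAa hAe hg dF
    have h1 := ne_of ha hAa hAi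
    have h2 := (ne_of hb hAb hAe).symm
    have h := V.inner_w 1 l
    rw [hg, eF, sum_mul_two, e0] at h
    simp only [Pi.add_apply, sv_of_ne h1, sv_of_ne h2, add_zero, zero_add] at h
    have h3 : a.1 ≠ b.1 := fun h3 => by
      have s1 : a.2 = b.2 := by rw [← hAa, h3, hAb]
      rw [h3, sv_self, s1, hb.sq] at h
      by_cases h4 : e.1 = i.1
      · rw [h4, sv_self] at h
        have s2 : e.2 = -i.2 := by
          rcases hi with p | p <;> rcases he with r | r <;> rw [p, r] at h ⊢ <;> omega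
        simp only [show (trWrF 1 : ℤ) = 1 from rfl] at d0
        simp only [Vecs.dg, h3, s1, h4, s2, neg_mul] at dF
        simp only [Vecs.dg] at d0
        exact (V.dg_ne hi hi0).1 (by simp only [Vecs.dg]; omega)
      · rw [sv_of_ne h4] at h
        omega
    refine ⟨h3, h1, h2, fun h4 => ?_⟩
    rw [sv_of_ne h3, h4, sv_self] at h
    rcases hi with p | p <;> rcases he with r | r <;> rw [p, r] at h <;> omega
  obtain ⟨hab, hai, heb, hei⟩ := sep (l := 2) ha he hae eF hAa hAe rfl dF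
  obtain ⟨hab', hai', heb', hei'⟩ := sep (l := 3) ha' he' hae' eF' hAa' hAe' rfl dF'
  -- the inner products with the four
  have i0 : ∀ j, sco (V.w j) b + sco (V.w j) i = gramWrF j 1 - trWrF j * trWrF 1 := fun j => by
    rw [← V.inner_w, e0, sum_mul_two]; rfl
  have iF : ∀ j, sco (V.w j) a + sco (V.w j) e = gramWrF j 2 - trWrF j * trWrF 2 := fun j => by
    rw [← V.inner_w, eF, sum_mul_two]; rfl
  have iF' : ∀ j, sco (V.w j) a' + sco (V.w j) e' = gramWrF j 3 - trWrF j * trWrF 3 := fun j => by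
    rw [← V.inner_w, eF', sum_mul_two]; rfl
  have haa : a = a' := by
    by_contra hne
    have hne' : a.1 ≠ a'.1 := fun h => hne (Prod.ext h (by rw [← hAa, h, hAa']))
    have hae1 := ne_of ha hAa hAe'
    have hae2 := ne_of ha' hAa' hAe
    have hee : e = e' := by
      have h := V.inner_w 2 3
      rw [eF', sum_mul_two, eF] at h
      simp only [Pi.add_apply, sv_of_ne hne'.symm, sv_of_ne hae2, sv_of_ne hae1.symm, add_zero, zero_add,
        mul_zero] at h
      by_cases h4 : e'.1 = e.1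
      · refine (Prod.ext h4 ?_).symm
        rw [h4, sv_self] at h
        rw [show gramWrF 2 3 - trWrF 2 * trWrF 3 = 1 from rfl] at h
        rcases he with p | p <;> rcases he' with r | r <;> rw [p, r] at h ⊢ <;> omega
      · rw [sv_of_ne h4, mul_zero] at h
        exact absurd h (by decide)
    subst hee
    have eA := eq_three nA hb ha ha' hab.symm hab'.symm hne' hAb hAa hAa'
    have hM : ∀ j : Fin 8, j = 4 ∨ j = 5 → V.w j = sv b + sv (i.1, -i.2) + sv e := by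
      intro j hj
      have hn : ∑ χ, V.w j χ * V.w j χ = 3 := by rcases hj with rfl | rfl <;> assumption
      have h1 := i0 j
      have h2 := iF j
      have h3 := iF' j
      have h4 : sco (V.w j) b + sco (V.w j) a + sco (V.w j) a' = gramWrF j 0 - trWrF j * trWrF 0 := by
        rw [← V.inner_w, eA, sum_mul_three]; rfl
      rw [show gramWrF j 1 - trWrF j * trWrF 1 = 0 by rcases hj with rfl | rfl <;> rfl] at h1
      rw [show gramWrF j 2 - trWrF j * trWrF 2 = 1 by rcases hj with rfl | rfl <;> rfl] at h2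
      rw [show gramWrF j 3 - trWrF j * trWrF 3 = 1 by rcases hj with rfl | rfl <;> rfl] at h3
      rw [show gramWrF j 0 - trWrF j * trWrF 0 = 1 by rcases hj with rfl | rfl <;> rfl] at h4
      have sb := sco_small hn.le hb
      have sa := sco_small hn.le ha
      by_cases hg : sco (V.w j) a = 0
      · exact eq_three hn hb (signed_neg hi) he hbi heb.symm hei.symm (sco_one hb (by omega))
          (sco_neg_one hi (by omega)) (sco_one he (by omega))
      · exfalso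
        exact four_supp hn.le hne' hab hai hab' hai' hbi (sco_ne hg) (sco_ne (x := a') (by omega))
          (sco_ne (x := b) (by omega)) (sco_ne (x := i) (by omega))
    have h := V.inner_w 4 5
    rw [hM 5 (Or.inr rfl), ← hM 4 (Or.inl rfl), nM] at h
    exact absurd h (by decide)
  subst haa
  have hee : e.1 ≠ e'.1 := fun h => by
    have h1 := V.inner_w 2 3
    rw [eF', sum_mul_two, eF] at h1
    simp only [← h, Pi.add_apply, sv_self, sv_of_ne hae, sv_of_ne hae.symm, add_zero, zero_add, ha.sq] at h1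
    rw [show gramWrF 2 3 - trWrF 2 * trWrF 3 = 1 from rfl] at h1
    rcases he with p | p <;> rcases he' with r | r <;> rw [p, r] at h1 <;> omega
  obtain ⟨c, hc, hac, hbc, eA⟩ : ∃ c : ι × ℤ, IsSigned c ∧ a.1 ≠ c.1 ∧ b.1 ≠ c.1 ∧
      V.w 0 = sv a + sv b + sv c := by
    obtain ⟨p, q, hp, hq, hpq, hap, haq, eA⟩ := norm_three nA ha hAa
    have hb' := hAb
    rw [eA, Pi.add_apply, Pi.add_apply, sv_of_ne hab.symm, zero_add] at hb'
    by_cases hp' : p.1 = b.1
    · refine ⟨q, hq, haq, hp' ▸ hpq, ?_⟩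
      rw [← hp', sv_self, sv_of_ne hpq, add_zero] at hb'
      rw [eA, show p = b from Prod.ext hp' hb']
    · by_cases hq' : q.1 = b.1
      · refine ⟨p, hp, hap, fun h => hp' h.symm, ?_⟩
        rw [← hq', sv_self, sv_of_ne hpq.symm, zero_add] at hb'
        rw [eA, show q = b from Prod.ext hq' hb', add_right_comm]
      · rw [sv_of_ne (Ne.symm hp'), sv_of_ne (Ne.symm hq')] at hb'
        exact absurd (hb'.symm.trans (add_zero 0)) hb.ne_zero
  have hAc : V.w 0 c.1 = c.2 := by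
    rw [eA]; simp [sv, hac.symm, hbc.symm]
  have hco : c.1 ≠ V.o := V.ne_o (i := 0) (by rw [hAc]; exact hc.ne_zero)
  have hci := ne_of hc hAc hAi
  have hce := ne_of hc hAc hAe
  have hce' := ne_of hc hAc hAe'
  have iA : ∀ j, sco (V.w j) a + sco (V.w j) b + sco (V.w j) c = gramWrF j 0 - trWrF j * trWrF 0 := fun j => by
    rw [← V.inner_w, eA, sum_mul_three]; rfl
  -- the two possibilities for `M` and `M'`
  have opt : ∀ j : Fin 8, j = 4 ∨ j = 5 →
      (V.w j a.1 = a.2 ∧ V.w j b.1 = 0 ∧ V.w j c.1 = 0 ∧ V.w j i.1 = 0) ∨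
        V.w j = sv c + sv e + sv e' := by
    intro j hj
    have hn : ∑ χ, V.w j χ * V.w j χ = 3 := by rcases hj with rfl | rfl <;> assumption
    have h1 := i0 j
    have h2 := iF j
    have h3 := iF' j
    have h4 := iA j
    rw [show gramWrF j 1 - trWrF j * trWrF 1 = 0 by rcases hj with rfl | rfl <;> rfl] at h1
    rw [show gramWrF j 2 - trWrF j * trWrF 2 = 1 by rcases hj with rfl | rfl <;> rfl] at h2
    rw [show gramWrF j 3 - trWrF j * trWrF 3 = 1 by rcases hj with rfl | rfl <;> rfl] at h3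
    rw [show gramWrF j 0 - trWrF j * trWrF 0 = 1 by rcases hj with rfl | rfl <;> rfl] at h4
    have sa := sco_small hn.le ha
    have sb := sco_small hn.le hb
    have sc := sco_small hn.le hc
    have se := sco_small hn.le he
    by_cases hsb : sco (V.w j) b = 0
    · rcases sa with p | p | p
      · omega
      · exact Or.inr (eq_three hn hc he he' hce hce' hee (sco_one hc (by omega)) (sco_one he (by omega))
          (sco_one he' (by omega)))
      · exact Or.inl ⟨sco_one ha p, sco_zero hb hsb, sco_zero hc (by omega), sco_zero hi (by omega)⟩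
    · exfalso
      have hsi : sco (V.w j) i ≠ 0 := by omega
      rcases sa with p | p | p
      · omega
      · exact four_supp hn.le hee heb hei heb' hei' hbi (sco_ne (x := e) (by omega))
          (sco_ne (x := e') (by omega)) (sco_ne hsb) (sco_ne hsi)
      · exact four_supp hn.le hab hac hai hbc hbi hci (sco_ne (x := a) (by omega)) (sco_ne hsb)
          (sco_ne (x := c) (by omega)) (sco_ne hsi)
  -- `W` avoids `a`
  obtain ⟨hWa, hWe, hWe', hWc, hWi⟩ : sco (V.w 6) a = 0 ∧ sco (V.w 6) e = 0 ∧ sco (V.w 6) e' = 0 ∧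
      sco (V.w 6) c = -sco (V.w 6) b ∧ sco (V.w 6) i = -sco (V.w 6) b := by
    have h1 := i0 6
    have h2 := iF 6
    have h3 := iF' 6
    have h4 := iA 6
    simp only [show gramWrF 6 1 - trWrF 6 * trWrF 1 = 0 from rfl, show gramWrF 6 2 - trWrF 6 * trWrF 2 = 0 from rfl,
      show gramWrF 6 3 - trWrF 6 * trWrF 3 = 0 from rfl, show gramWrF 6 0 - trWrF 6 * trWrF 0 = 0 from rfl]
      at h1 h2 h3 h4
    by_cases p : sco (V.w 6) a = 0
    · omega
    · exfalso
      by_cases q : sco (V.w 6) b = 0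
      · exact four_supp nW.le hae hae' hac hee hce.symm hce'.symm (sco_ne p) (sco_ne (x := e) (by omega))
          (sco_ne (x := e') (by omega)) (sco_ne (x := c) (by omega))
      · exact four_supp nW.le hae hae' hab hee heb heb' (sco_ne p) (sco_ne (x := e) (by omega))
          (sco_ne (x := e') (by omega)) (sco_ne q)
  -- `W` supported at `b`, `c`, `i` is orthogonal to `a + x + y`
  have eW : sco (V.w 6) b ≠ 0 → ∀ j : Fin 8, V.w j b.1 = 0 ∧ V.w j c.1 = 0 ∧ V.w j i.1 = 0 →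
      ∑ χ, V.w 6 χ * V.w j χ = 0 := by
    intro hq j hz
    have hq' := sco_small nW.le hb
    obtain ⟨b2, c2, i2, hb2, hc2, hi2, e1, e2, e3⟩ : ∃ b2 c2 i2 : ι × ℤ, IsSigned b2 ∧ IsSigned c2 ∧ IsSigned i2 ∧
        (b2.1 = b.1 ∧ V.w 6 b2.1 = b2.2) ∧ (c2.1 = c.1 ∧ V.w 6 c2.1 = c2.2) ∧
        (i2.1 = i.1 ∧ V.w 6 i2.1 = i2.2) := by
      have nz : ∀ x : ι × ℤ, IsSigned x → sco (V.w 6) x ≠ 0 → IsSigned ((x.1, V.w 6 x.1) : ι × ℤ) := fun x hx h => by
        rcases small_of_norm nW.le x.1 with p | p | p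
        · exact Or.inr p
        · exact absurd p (sco_ne h)
        · exact Or.inl p
      exact ⟨_, _, _, nz b hb hq, nz c hc (by omega), nz i hi (by omega), ⟨rfl, rfl⟩, ⟨rfl, rfl⟩, ⟨rfl, rfl⟩⟩
    rw [eq_three nW hb2 hc2 hi2 (by rw [e1.1, e2.1]; exact hbc) (by rw [e1.1, e3.1]; exact hbi)
      (by rw [e2.1, e3.1]; exact hci) e1.2 e2.2 e3.2]
    simp only [Pi.add_apply, add_mul, Finset.sum_add_distrib, sum_sv_mul, e1.1, e2.1, e3.1, hz.1, hz.2.1, hz.2.2,
      mul_zero, add_zero]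
  -- both are `a + x + y`
  obtain ⟨⟨h4a, h4b, h4c, h4i⟩, ⟨h5a, h5b, h5c, h5i⟩⟩ :
      (V.w 4 a.1 = a.2 ∧ V.w 4 b.1 = 0 ∧ V.w 4 c.1 = 0 ∧ V.w 4 i.1 = 0) ∧
        (V.w 5 a.1 = a.2 ∧ V.w 5 b.1 = 0 ∧ V.w 5 c.1 = 0 ∧ V.w 5 i.1 = 0) := by
    have w4 := V.inner_w 6 4
    have w5 := V.inner_w 6 5
    rw [show gramWrF 6 4 - trWrF 6 * trWrF 4 = -1 from rfl] at w4
    rw [show gramWrF 6 5 - trWrF 6 * trWrF 5 = 1 from rfl] at w5
    have two : ∀ j, V.w j = sv c + sv e + sv e' → ∑ χ, V.w 6 χ * V.w j χ = sco (V.w 6) c := fun j hj => by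
      rw [hj, sum_mul_three]; show sco (V.w 6) c + sco (V.w 6) e + sco (V.w 6) e' = _; omega
    rcases opt 4 (Or.inl rfl) with o4 | o4 <;> rcases opt 5 (Or.inr rfl) with o5 | o5
    · exact ⟨o4, o5⟩
    all_goals exfalso
    · rw [two 5 o5] at w5
      rw [eW (by omega) 4 o4.2] at w4
      omega
    · rw [two 4 o4] at w4
      rw [eW (by omega) 5 o5.2] at w5
      omega
    · rw [two 4 o4] at w4
      rw [two 5 o5] at w5
      omega
  obtain ⟨x, y, hx, hy, hxy, hax, hay, e4⟩ := norm_three nM ha h4a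
  obtain ⟨x', y', hx', hy', hxy', hax', hay', e5⟩ := norm_three nM' ha h5a
  -- the last vector
  obtain ⟨hfa, hfb, hfc, hfi⟩ : sco (V.w 7) a = 0 ∧ sco (V.w 7) b = 0 ∧ sco (V.w 7) c = 0 ∧ sco (V.w 7) i = 1 := by
    have h1 := i0 7
    have h2 := iF 7
    have h3 := iF' 7
    have h4 := iA 7
    simp only [show gramWrF 7 1 - trWrF 7 * trWrF 1 = 1 from rfl, show gramWrF 7 2 - trWrF 7 * trWrF 2 = 0 from rfl,
      show gramWrF 7 3 - trWrF 7 * trWrF 3 = 0 from rfl, show gramWrF 7 0 - trWrF 7 * trWrF 0 = 0 from rfl]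
      at h1 h2 h3 h4
    have sb := sco_small (by omega : ∑ χ, V.w 7 χ * V.w 7 χ ≤ 3) hb
    by_cases p : sco (V.w 7) a = 0
    · by_cases q : sco (V.w 7) b = 0
      · omega
      · exfalso
        by_cases r : sco (V.w 7) i = 0
        · have hcn : sco (V.w 7) c = -1 := by omega
          have ef := eq_two nf hb (signed_neg hc) hbc (sco_one hb (by omega)) (sco_neg_one hc hcn)
          have h := V.inner_w 4 7
          rw [ef, sum_mul_two, h4b, show V.w 4 ((c.1, -c.2) : ι × ℤ).1 = 0 from h4c, mul_zero, mul_zero] at h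
          exact absurd h (by decide)
        · exact three_supp nf.le hbc hbi hci (sco_ne q) (sco_ne (x := c) (by omega)) (sco_ne r)
    · exfalso
      exact three_supp nf.le hae hae' hee (sco_ne p) (sco_ne (x := e) (by omega)) (sco_ne (x := e') (by omega))
  have hxi : x.1 ≠ i.1 ∧ y.1 ≠ i.1 := by
    constructor <;> intro h <;> rw [← h, e4] at h4i <;>
      simp [sv, hax.symm, hay.symm, hxy, hxy.symm] at h4i <;> [exact hx.ne_zero h4i; exact hy.ne_zero h4i]
  obtain ⟨x, y, hx, hy, hxy, hax, hay, e4, hix, f7, hyf⟩ : ∃ x y : ι × ℤ, IsSigned x ∧ IsSigned y ∧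
      x.1 ≠ y.1 ∧ a.1 ≠ x.1 ∧ a.1 ≠ y.1 ∧ V.w 4 = sv a + sv x + sv y ∧ i.1 ≠ x.1 ∧
      V.w 7 = sv i + sv x ∧ V.w 7 y.1 = 0 := by
    have h := V.inner_w 7 4
    rw [e4, sum_mul_three, show gramWrF 7 4 - trWrF 7 * trWrF 4 = 1 from rfl] at h
    change sco (V.w 7) a + sco (V.w 7) x + sco (V.w 7) y = 1 at h
    have hi1 := sco_one hi hfi
    have hor : sco (V.w 7) x = 0 ∨ sco (V.w 7) y = 0 := by
      by_contra hno
      push Not at hno
      exact three_supp nf.le hxi.1.symm hxi.2.symm hxy (by rw [hi1]; exact hi.ne_zero) (sco_ne hno.1) (sco_ne hno.2)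
    rcases hor with p | p
    · exact ⟨y, x, hy, hx, hxy.symm, hay, hax, e4.trans (add_right_comm _ _ _), hxi.2.symm,
        eq_two nf hi hy hxi.2.symm hi1 (sco_one hy (by omega)), sco_zero hx p⟩
    · exact ⟨x, y, hx, hy, hxy, hax, hay, e4, hxi.1.symm,
        eq_two nf hi hx hxi.1.symm hi1 (sco_one hx (by omega)), sco_zero hy p⟩
  have h5x : V.w 5 x.1 = 0 := by
    have h := V.inner_w 5 7
    rw [f7, sum_mul_two, h5i, mul_zero, zero_add, show gramWrF 5 7 - trWrF 5 * trWrF 7 = 0 from rfl] at h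
    exact mul_zero_of_small hx.ne_zero h
  have hWb : sco (V.w 6) b = 0 := by
    by_contra h
    have := V.inner_w 6 4
    rw [eW h 4 ⟨h4b, h4c, h4i⟩] at this
    exact absurd this (by decide)
  have wx : V.w 6 x.1 = -x.2 := by
    have h := V.inner_w 6 7
    rw [f7, sum_mul_two, show gramWrF 6 7 - trWrF 6 * trWrF 7 = -1 from rfl] at h
    change sco (V.w 6) i + sco (V.w 6) x = -1 at h
    exact sco_neg_one hx (by omega)
  obtain ⟨x', y', hx', hy', hxy', hax', hay', e5, wy⟩ : ∃ x' y' : ι × ℤ, IsSigned x' ∧ IsSigned y' ∧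
      x'.1 ≠ y'.1 ∧ a.1 ≠ x'.1 ∧ a.1 ≠ y'.1 ∧ V.w 5 = sv a + sv x' + sv y' ∧ V.w 6 y'.1 = y'.2 := by
    have h := V.inner_w 6 5
    rw [e5, sum_mul_three, show gramWrF 6 5 - trWrF 6 * trWrF 5 = 1 from rfl] at h
    change sco (V.w 6) a + sco (V.w 6) x' + sco (V.w 6) y' = 1 at h
    have s1 := sco_small nW.le hx'
    have s2 := sco_small nW.le hy'
    by_cases p : sco (V.w 6) y' = 1
    · exact ⟨x', y', hx', hy', hxy', hax', hay', e5, sco_one hy' p⟩
    · exact ⟨y', x', hy', hx', hxy'.symm, hay', hax', e5.trans (add_right_comm _ _ _), sco_one hx' (by omega)⟩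
  have hxy1 : x.1 ≠ y'.1 := by
    intro h
    rw [h, e5] at h5x
    simp [sv, hay'.symm, hxy'.symm] at h5x
    exact hy'.ne_zero h5x
  -- the conjugate
  have val4 : ∀ {z : ι × ℤ}, z = a ∨ z = x ∨ z = y → V.w 4 z.1 = z.2 := by
    intro z hz
    rw [e4]
    rcases hz with rfl | rfl | rfl <;> simp only [Pi.add_apply, sv_self] <;>
      simp [sv, hax, hay, hxy, hax.symm, hay.symm, hxy.symm]
  have ho4 : ∀ {z : ι × ℤ}, IsSigned z → z = a ∨ z = x ∨ z = y → z.1 ≠ V.o := fun hs h =>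
    V.ne_o (i := 4) (by rw [val4 h]; exact hs.ne_zero)
  have hπo : π V.o = V.o := V.linear _ (by rw [hπd, V.deg_o])
  have hw : ∀ χ, V.w 5 χ = V.w 4 (π χ) := by
    intro χ
    by_cases h : χ = V.o
    · subst h; rw [hπo, V.w_o, V.w_o]
    · have h' : π χ ≠ V.o := fun e => h (π.injective (e.trans hπo.symm))
      simp only [Vecs.w, if_neg h, if_neg h', hπ]
  have hpair : ∀ {z : ι × ℤ}, IsSigned z → V.w 5 z.1 = z.2 → ∃ w : ι × ℤ, (w = a ∨ w = x ∨ w = y) ∧
      π z.1 = w.1 ∧ V.dg z = V.dg w ∧ V.vl z = V.vl w := by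
    intro z hz hz5
    rw [hw] at hz5
    have hne : V.w 4 (π z.1) ≠ 0 := hz5 ▸ hz.ne_zero
    rcases (show π z.1 = a.1 ∨ π z.1 = x.1 ∨ π z.1 = y.1 by
      by_contra h
      push Not at h
      exact hne (by rw [e4]; simp [sv, h.1, h.2.1, h.2.2])) with h | h | h
    on_goal 1 => refine ⟨a, Or.inl rfl, h, ?_⟩
    on_goal 2 => refine ⟨x, Or.inr (Or.inl rfl), h, ?_⟩
    on_goal 3 => refine ⟨y, Or.inr (Or.inr rfl), h, ?_⟩
    all_goals
      rw [h, val4 (by simp)] at hz5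
      simp only [Vecs.dg, Vecs.vl, ← hπd z.1, ← hπv z.1, h, hz5, and_self]
  have v5 : V.w 5 y'.1 = y'.2 := by
    rw [e5]; simp [sv, hay'.symm, hxy'.symm]
  have hPy : (V.dg y' = V.dg x ∧ V.vl y' = V.vl x) ∨ (V.dg y' = V.dg y ∧ V.vl y' = V.vl y) := by
    obtain ⟨w, hw, hpw, hd, hv⟩ := hpair hy' v5
    obtain ⟨w', hw', hpw', hd', hv'⟩ := hpair ha h5a
    rcases hw with rfl | rfl | rfl
    · rcases hw' with rfl | rfl | rfl
      · exact absurd (π.injective (hpw'.trans hpw.symm)) hay'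
      · exact Or.inl ⟨hd.trans hd', hv.trans hv'⟩
      · exact Or.inr ⟨hd.trans hd', hv.trans hv'⟩
    · exact Or.inl ⟨hd, hv⟩
    · exact Or.inr ⟨hd, hv⟩
  -- the third term of `W`
  obtain ⟨p, q, hp, hq, hpq, hxp, hxq, e6⟩ := norm_three nW (x := (x.1, -x.2)) (signed_neg hx) wx
  obtain ⟨j, hj, hyj, e6⟩ : ∃ j : ι × ℤ, IsSigned j ∧ y'.1 ≠ j.1 ∧ V.w 6 = sv (x.1, -x.2) + sv y' + sv j := by
    have h := wy
    rw [e6, Pi.add_apply, Pi.add_apply, sv_of_ne (x := (x.1, -x.2)) hxy1.symm, zero_add] at h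
    by_cases hp' : p.1 = y'.1
    · refine ⟨q, hq, hp' ▸ hpq, ?_⟩
      rw [← hp', sv_self, sv_of_ne hpq, add_zero] at h
      rw [e6, show p = y' from Prod.ext hp' h]
    · by_cases hq' : q.1 = y'.1
      · refine ⟨p, hp, fun e => hp' e.symm, ?_⟩
        rw [← hq', sv_self, sv_of_ne hpq.symm, zero_add] at h
        rw [e6, show q = y' from Prod.ext hq' h, add_right_comm]
      · rw [sv_of_ne (Ne.symm hp'), sv_of_ne (Ne.symm hq')] at h
        exact absurd (h.symm.trans (add_zero 0)) hy'.ne_zero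
  have hjo : j.1 ≠ V.o := by
    intro h
    have h0 := V.w_o 6
    rw [e6, ← h] at h0
    have hxo := ho4 hx (Or.inr (Or.inl rfl))
    rw [← h] at hxo
    simp [sv, hxo.symm, hyj.symm] at h0
    exact hj.ne_zero h0
  obtain ⟨dA, vA, qA⟩ := V.sum_three ha hb hc eA
  obtain ⟨dM, vM, qM⟩ := V.sum_three ha hx hy e4
  obtain ⟨df, vf, qf⟩ := V.sum_two hi hx f7
  obtain ⟨dW, vW, qW⟩ := V.sum_three (signed_neg hx) hy' hj e6
  have en : V.dg (x.1, -x.2) = -V.dg x ∧ V.vl (x.1, -x.2) = -V.vl x := by simp [Vecs.dg, Vecs.vl]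
  simp only [show trWrF 0 = 1 from rfl, show trWrF 1 = 1 from rfl, show trWrF 2 = 1 from rfl,
    show trWrF 4 = 1 from rfl, show trWrF 6 = 0 from rfl, show trWrF 7 = 1 from rfl,
    show valWrF Q 0 = 0 from rfl, show valWrF Q 1 = 0 from rfl, show valWrF Q 2 = 2 * (1 - Q) from rfl,
    show valWrF Q 4 = 0 from rfl, show valWrF Q 6 = 0 from rfl, show valWrF Q 7 = 2 * (Q + 1) from rfl,
    show prWrF Q 0 = 0 from rfl, show prWrF Q 1 = ((Q : ℚ) - 1) ^ 2 / (Q * (Q + 1)) from rfl,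
    show prWrF Q 2 = ((Q : ℚ) - 1) / Q from rfl, show prWrF Q 4 = 0 from rfl,
    show prWrF Q 6 = ((Q : ℚ) - 1) ^ 2 / (Q * (Q + 1)) from rfl,
    en.1, en.2, Int.cast_one, Int.cast_zero, Int.cast_neg, mul_zero, neg_sq]
    at dA vA qA d0 v0 q0 dF vF qF dM vM qM df vf dW vW qW
  have h2 := fun {z : ι × ℤ} (h : IsSigned z) (ho : z.1 ≠ V.o) => V.dg_ne h ho
  have ne_j := (h2 hj hjo).1
  rcases hPy with ⟨hd, hv⟩ | ⟨hd, hv⟩
  · exact absurd (show V.dg j = 0 by omega) ne_j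
  have hc' : V.dg c = -1 - V.dg a - V.dg b := by omega
  have hi' : V.dg i = -1 - V.dg b := by omega
  have he' : V.dg e = -1 - V.dg a := by omega
  have hC : V.vl c = -1 - V.vl a - V.vl b := by omega
  have hI : V.vl i = -1 - V.vl b := by omega
  have hE : V.vl e = 2 * (1 - Q) - 1 - V.vl a := by omega
  have hj' : V.dg j = V.dg x - V.dg y := by omega
  have hJ : V.vl j = V.vl x - V.vl y := by omega
  rw [hc', hC] at qA
  rw [hi', hI] at q0
  rw [he', hE] at qF
  rw [hd, hv, hj', hJ] at qW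
  push_cast at qA q0 qF qW
  exact ⟨{ a := V.dg a, b := V.dg b, x := V.dg x, y := V.dg y, A := V.vl a, B := V.vl b,
           X := V.vl x, Y := V.vl y, a0 := (h2 ha ha0).1, a1 := (h2 ha ha0).2.2,
           b0 := (h2 hb hb0).1, b1 := (h2 hb hb0).2.2, ab := fun e => (h2 hc hco).1 (by omega),
           x0 := (h2 hx (ho4 hx (by simp))).1, y0 := (h2 hy (ho4 hy (by simp))).1, xy := by omega,
           sum_d := by omega, sum_v := by omega, eqA := qA, eq0 := q0, eqF := qF, eqM := qM,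
           eqW := by rw [div_neg] at qW; linear_combination qW },
    show V.dg x = V.dg b by omega, show V.vl x = V.vl b + 2 * (Q + 1) by omega,
    i, hi, by rw [e0, Pi.add_apply, sv_of_ne hbi.symm, sv_self, zero_add]; exact hi.ne_zero, hi', hI, hAi,
    fun v hn h4 h1 h2' h3 => by
      rw [eA, sum_mul_three] at h4
      rw [e0, sum_mul_two] at h1
      rw [eF, sum_mul_two] at h2'
      rw [eF', sum_mul_two] at h3
      change sco v a + sco v b + sco v c = 1 at h4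
      change sco v b + sco v i = 0 at h1
      change sco v a + sco v e = 1 at h2'
      change sco v a + sco v e' = 1 at h3
      by_contra hne
      have hsi : sco v i ≠ 0 := fun h => hne (sco_zero hi h)
      rcases sco_small hn ha with p | p | p
      · exact four_supp hn hee heb hei heb' hei' hbi (sco_ne (x := e) (by omega)) (sco_ne (x := e') (by omega))
          (sco_ne (x := b) (by omega)) (sco_ne hsi)
      · exact four_supp hn hee heb hei heb' hei' hbi (sco_ne (x := e) (by omega)) (sco_ne (x := e') (by omega))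
          (sco_ne (x := b) (by omega)) (sco_ne hsi)
      · exact four_supp hn hab hac hai hbc hbi hci (sco_ne (x := a) (by omega)) (sco_ne (x := b) (by omega))
          (sco_ne (x := c) (by omega)) (sco_ne hsi)⟩

/-- The equations in the wreathed case. -/
theorem wrF_eqs (Q : ℤ) (V : Vecs ι gramWrF trWrF (valWrF Q) (prWrF Q)) (π : ι ≃ ι)
    (hπ : ∀ χ, V.v 5 χ = V.v 4 (π χ)) (hπd : ∀ χ, V.deg (π χ) = V.deg χ) (hπv : ∀ χ, V.val (π χ) = V.val χ) :
    ∃ E : WrEqsF Q V.R, E.x = E.b ∧ E.X = E.B + 2 * (Q + 1) :=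
  let ⟨E, h, h', _⟩ := wrF_shape Q V π hπ hπd hπv
  ⟨E, h, h'⟩

end Cfsg.Agent.Invol.AbgOrder
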