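import Cfsg.Agent.Lib.Invol.AbgOrder.Shape0Local
import Cfsg.Agent.Lib.Invol.AbgOrder.OrdShape
import Cfsg.Agent.Lib.Invol.AbgOrder.OrdSdFuns
import Cfsg.Agent.Lib.Invol.AbgOrder.OrdOuter
import Cfsg.Agent.Lib.Invol.AbgOrder.ExcUnitPsi
import Cfsg.Agent.Lib.Invol.AbgOrder.FinalPre
import Cfsg.Agent.Lib.Invol.AbgOrder.AlgSd
import Cfsg.Agent.Lib.Invol.BrauerL3.LocalFrames
import Cfsg.Agent.Lib.Invol.QDWCentralizer
import Cfsg.Agent.Lib.Invol.RealizeWreathedLocal
import Cfsg.Agent.Lib.Char.ModP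
import Cfsg.Agent.S3116

/-!
# The order formula

`|G| = |C| a₀² Q² (Q² + Q + 1)` and `|C| = |C(U)| a₀ Q (Q + 1)` with `Q = ± q`; in the semidihedral case the
`p`-part of `|G|` is assumed large, in the wreathed case nothing is assumed.
-/

set_option autoImplicit false
set_option linter.unusedSectionVars false
set_option linter.style.haveILetI false

open scoped ComplexConjugate Classical

namespace Cfsg.Agent.Invol.AbgOrder

open Cfsg Cfsg.Agent.Char Cfsg.Agent.Block
open Cfsg.Agent.Invol.BrauerL3 (scal MatModel matModel_GL matModel_GU Vecs sd_eqs)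

universe u v w x y

attribute [local instance] oddCore_normal

section Helpers

variable {G : Type u} [Group G] [Finite G] [IsSimpleGroup G]

theorem no_index_two_of_simple (hna : ¬ IsMulCommutative G) (H : Subgroup G) : H.index ≠ 2 := by
  intro h
  rcases (Subgroup.normal_of_index_eq_two h).eq_bot_or_eq_top with e | e
  · rw [e, Subgroup.index_bot] at h
    refine hna ?_
    haveI : Fact (Nat.Prime 2) := ⟨Nat.prime_two⟩
    haveI := isCyclic_of_prime_card h
    exact ⟨⟨fun a b => IsCyclic.commGroup.mul_comm a b⟩⟩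
  · rw [e, Subgroup.index_top] at h
    omega

/-- All involutions are conjugate. -/
theorem one_class_ord (hna : ¬ IsMulCommutative G) (S : Sylow 2 G)
    (hS : Cfsg.IsQuasiDihedral (S : Subgroup G) ∨ Cfsg.IsWreathed (S : Subgroup G)) {a b : G}
    (ha : orderOf a = 2) (hb : orderOf b = 2) : IsConj a b := by
  have hG := no_index_two_of_simple hna
  rcases hS with hS | hS
  · obtain ⟨n, x, y, h⟩ := Invol.exists_qd hS
    exact (h.all_conj hG ha).symm.trans (h.all_conj hG hb)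
  · obtain ⟨n, x, y, z, h⟩ := Invol.exists_wr hS
    exact (h.all_conj hG ha).symm.trans (h.all_conj hG hb)

end Helpers

/-- Complex conjugation and induction. -/
theorem conj_indFun {X : Type u} [Group X] [Fintype X] (N : Subgroup X) {f g : N → ℂ}
    (h : ∀ n, conj (f n) = g n) (q : X) : conj (indFun N f q) = indFun N g q := by
  simp only [indFun, map_mul, map_inv₀, map_natCast, map_sum]
  refine congrArg _ (Finset.sum_congr rfl fun y _ => ?_)
  by_cases hm : y⁻¹ * q * y ∈ N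
  · rw [extendByZero_of_mem _ hm, extendByZero_of_mem _ hm, h]
  · have hm' : ∀ a : N, (a : X) ≠ y⁻¹ * q * y := fun a e => hm (e ▸ a.2)
    rw [extendByZero, extendByZero, Function.extend_apply' _ _ _ (fun ⟨a, e⟩ => hm' a e),
      Function.extend_apply' _ _ _ (fun ⟨a, e⟩ => hm' a e), Pi.zero_apply, map_zero]

/-- The conjugation of the irreducible characters. -/
noncomputable def galStar (G : Type u) [Group G] [Fintype G] : IrrCharacter G ≃ IrrCharacter G :=
  Function.Involutive.toPerm (PrinCol.galIrr (starRingAut : RingAut ℂ)) fun χ =>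
    Subtype.ext (funext fun g => by simp [PrinCol.galIrr])

variable {G : Type u} [Group G] [Finite G] [IsSimpleGroup G] {F : Type v} [Field F] [Fintype F]
  {H : Type w} [Group H] {K : Type x} [CommGroup K] {Q : ℤ}

/-- What is proved. -/
def Formula (G : Type u) [Group G] (z : G) (U : Subgroup G) (Q : ℤ) (a0 : ℕ) : Prop :=
  a0 ≠ 0 ∧
    (Nat.card ↥(Subgroup.centralizer (U : Set G)) : ℤ) * ((a0 : ℤ) * (Q * (Q + 1))) =
      Nat.card ↥(Subgroup.centralizer ({z} : Set G)) ∧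
    (Nat.card G : ℤ) =
      Nat.card ↥(Subgroup.centralizer ({z} : Set G)) * ((a0 : ℤ) ^ 2 * Q ^ 2 * (Q ^ 2 + Q + 1))

/-- The order of the model. -/
theorem cardH_eq (M : Mdl F H K Q) (h : Q = (Fintype.card F : ℤ) ∨ Q = -(Fintype.card F : ℤ)) :
    (Nat.card H : ℤ) = Q * (Q ^ 2 - 1) * (Q - 1) := by
  have hq : 1 < Fintype.card F := Fintype.one_lt_card
  haveI := M.T.finiteK
  haveI := M.T.cyc
  rw [M.card, Fus.PSLTwo.natCard_SL_two, BrauerL3.natAbs_card_scal M.T.card]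
  rcases h with h | h <;> rw [h]
  · push_cast [Nat.cast_sub hq.le, Int.natAbs_of_nonneg (show (0 : ℤ) ≤ (Fintype.card F : ℤ) - 1 by omega)]
    ring
  · push_cast [Nat.cast_sub hq.le, abs_of_nonpos (show -(Fintype.card F : ℤ) - 1 ≤ 0 by omega)]
    ring

/-- Valuations in `|C(U)| a₀ Q (Q + 1) = |C|`. -/
theorem val_card {p n cU c a0 : ℕ} (hp : p.Prime) (hQ : Q = (p : ℤ) ^ n ∨ Q = -(p : ℤ) ^ n) (ha0 : a0 ≠ 0)
    (hcU : cU ≠ 0) (hn : 0 < n) (h : (cU : ℤ) * ((a0 : ℤ) * (Q * (Q + 1))) = c) :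
    padicValNat p c = padicValNat p cU + padicValNat p a0 + n := by
  haveI := Fact.mk hp
  have hQ' : Q.natAbs = p ^ n := BrauerL3.abs_pow_of hQ
  have hdvd : (p : ℤ) ∣ Q := by rcases hQ with h | h <;> rw [h] <;> simp [dvd_pow_self _ hn.ne']
  have hQp : ¬ p ∣ (Q + 1).natAbs := fun h' => hp.not_dvd_one (Int.natCast_dvd_natCast.1 (by
    simpa using dvd_sub (Int.natCast_dvd.2 h') hdvd))
  have h' := congrArg Int.natAbs h
  simp only [Int.natAbs_mul, Int.natAbs_natCast, hQ'] at h'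
  rw [← h', padicValNat.mul hcU (mul_ne_zero ha0 (mul_ne_zero (pow_ne_zero _ hp.ne_zero) fun e => hQp (by rw [e]; exact dvd_zero _))),
    padicValNat.mul ha0 (mul_ne_zero (pow_ne_zero _ hp.ne_zero) fun e => hQp (by rw [e]; exact dvd_zero _)),
    padicValNat.mul (pow_ne_zero _ hp.ne_zero) (fun e => hQp (by rw [e]; exact dvd_zero _)),
    padicValNat.prime_pow, padicValNat.eq_zero_of_not_dvd hQp, add_zero, add_assoc]

/-- What the vectors of the functions carry. -/
structure VecsOf [Fintype G] (M : Ideal AlgInt) (z : G) (Q : ℤ) (a0 : ℕ) {k : ℕ} {gram : Fin k → Fin k → ℤ}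
    {tr tv : Fin k → ℤ} {pr : Fin k → ℚ} (V : Vecs (IrrCharacter G) gram tr tv pr) : Prop where
  R_eq : V.R * (Nat.card G : ℚ) =
    (Nat.card ↥(Subgroup.centralizer ({z} : Set G)) : ℚ) * ((a0 : ℚ) * ((Q : ℚ) * ((Q : ℚ) + 1))) ^ 2
  chars : ∀ χ : IrrCharacter G, (V.deg χ : ℂ) = (χ : G → ℂ) 1 ∧ (V.val χ : ℂ) = (χ : G → ℂ) z
  block : ∀ i χ, V.v i χ ≠ 0 → χ ∈ principalBlock M G

/-- The number of liftings of a noncentral involution of `C(z) / O(C(z))`. -/
def IsLiftNum (z : G) (a0 : ℕ) : Prop :=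
  (∃ w : ↥(Subgroup.centralizer ({z} : Set G)), orderOf w = 2 ∧ (w : G) ≠ z) ∧
    ∀ w : ↥(Subgroup.centralizer ({z} : Set G)), orderOf w = 2 → (w : G) ≠ z →
      ((Subgroup.centralizer ({w} : Set ↥(Subgroup.centralizer ({z} : Set G)))).subgroupOf
        (Cfsg.oddCore ↥(Subgroup.centralizer ({z} : Set G)))).index = a0

/-- The sum against the fixed points of the coset of the noncentral involution of `C(z) / O(C(z))` vanishes. -/
def OuterVanish [Fintype G] (z : G) (S0 : Shape0 (CQ z) F H K Q) (χ : G → ℂ) : Prop :=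
  ∀ [Fintype (CQ z)] (hz : orderOf z = 2), OuterZero (coreData z hz) S0 χ

/-- With nine elements the field automorphism is trivial. -/
theorem Shape0.orderOf_f_nine {X : Type*} [Group X] (s : Shape0 X F H K Q) (h : Fintype.card F = 9) :
    orderOf s.f = 1 := by
  haveI : Fact (Nat.Prime 3) := ⟨Nat.prime_three⟩
  have h9 : Fintype.card F = 3 ^ 2 := by rw [h]; rfl
  obtain ⟨j, hj, hσ⟩ := ringAut_exists_pow s.σ h9
  have hsq : s.σ ^ 2 = 1 := RingEquiv.ext fun x => by
    rw [pow_two, RingAut.mul_apply, hσ, hσ, ← pow_mul, ← pow_add, RingAut.one_apply]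
    interval_cases j
    · simp
    · rw [show (3 : ℕ) ^ (1 + 1) = Fintype.card F from h9.symm, FiniteField.pow_card]
  rw [s.orderOf_f]
  rcases (Nat.dvd_prime Nat.prime_two).1 (orderOf_dvd_of_pow_eq_one hsq) with h | h
  · exact h
  · exact absurd (h ▸ s.σ_odd) (by decide)

/-- An irreducible character of degree ten of `C(z) / O(C(z))`, ten at `z`, zero at the other involutions, below `χ`. -/
def TenBelow [Fintype G] (z : G) (χ : G → ℂ) : Prop :=
  ∀ [Fintype (CQ z)] (hz : orderOf z = 2), ∃ ψ : CQ z → ℂ, IsIrrCharacter (CQ z) ψ ∧ ψ 1 = 10 ∧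
    ψ (coreData z hz).zbar = 10 ∧ (∀ x, orderOf x = 2 → x ≠ (coreData z hz).zbar → ψ x = 0) ∧
      classInner (fun c : (coreData z hz).C => χ c) (fun c => ψ ((coreData z hz).π c)) ≠ 0

/-- The vectors from the shape of the centraliser. -/
theorem vecs_of_shape [Fintype G] (hna : ¬ IsMulCommutative G) (S : Sylow 2 G) (z : G) (hz : orderOf z = 2)
    (hzc : ∀ s ∈ (S : Subgroup G), s * z = z * s)
    (hS : Cfsg.IsQuasiDihedral (S : Subgroup G) ∨ Cfsg.IsWreathed (S : Subgroup G))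
    (S0 : Shape0 (↥(Subgroup.centralizer ({z} : Set G)) ⧸ Cfsg.oddCore ↥(Subgroup.centralizer ({z} : Set G)))
      F H K Q) {L : Type y} [Field L] {pp : ℕ} (MM : MatModel H L pp Q)
    (hFQ : Q = (Fintype.card F : ℤ) ∨ Q = -(Fintype.card F : ℤ))
    (hpar : (Cfsg.IsQuasiDihedral (S : Subgroup G) ∧ Q % 4 = 3) ∨
      (Cfsg.IsWreathed (S : Subgroup G) ∧ Q % 4 = 1))
    {M : Ideal AlgInt} (hM : IsPModular 2 M) :
    ∃ a0 : ℕ, a0 ≠ 0 ∧ Odd a0 ∧ IsLiftNum z a0 ∧
      ((Cfsg.IsQuasiDihedral (S : Subgroup G) ∧ Q % 4 = 3 ∧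
          ∃ V : Vecs (IrrCharacter G) BrauerL3.gramSd (fun _ => 1) (BrauerL3.valSd Q) (BrauerL3.pairSd Q),
            VecsOf M z Q a0 V ∧ (∀ χ ∈ principalBlock M G, V.v 0 χ = 0 → Q = -(Fintype.card F : ℤ) →
              4 ≤ Fintype.card F → OuterVanish z S0 (χ : G → ℂ)) ∧
              ∀ χ : IrrCharacter G, χ ≠ V.o → V.v 0 χ = 0 → V.v 2 χ = 1 → Q = -9 →
                TenBelow z (χ : G → ℂ)) ∨
        (Cfsg.IsWreathed (S : Subgroup G) ∧ Q % 4 = 1 ∧
          ∃ (V : Vecs (IrrCharacter G) gramWrF trWrF (valWrF Q) (prWrF Q)) (π : IrrCharacter G ≃ IrrCharacter G),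
            VecsOf M z Q a0 V ∧ (∀ χ, V.v 5 χ = V.v 4 (π χ)) ∧ (∀ χ, V.deg (π χ) = V.deg χ) ∧
              (∀ χ, V.val (π χ) = V.val χ) ∧
              ∀ χ ∈ principalBlock M G, χ ≠ V.o → V.v 0 χ = 0 →
                (∀ v : IrrCharacter G → ℤ, ∑ ψ, v ψ * v ψ ≤ 3 → ∑ ψ, v ψ * V.w 0 ψ = 1 → ∑ ψ, v ψ * V.w 1 ψ = 0 →
                  ∑ ψ, v ψ * V.w 2 ψ = 1 → ∑ ψ, v ψ * V.w 3 ψ = 1 → v χ = 0) →
                Q = -(Fintype.card F : ℤ) → 4 ≤ Fintype.card F → OuterVanish z S0 (χ : G → ℂ))) := by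
  haveI : Fact (Nat.Prime 2) := ⟨Nat.prime_two⟩
  let C := Subgroup.centralizer ({z} : Set G)
  haveI hXf : Fintype (C ⧸ Cfsg.oddCore C) := Fintype.ofFinite _
  haveI : Finite H := S0.M.finite
  haveI : Finite K := S0.M.T.finiteK
  haveI := Fintype.ofFinite (scal K Q)
  have hoddO : ¬ 2 ∣ Nat.card (Cfsg.oddCore C) := fun h =>
    absurd (Nat.eq_one_of_dvd_coprimes (Grp.pPrimeCore_coprime (p := 2) (G := C)) h dvd_rfl) (by norm_num)
  let D : PData G (C ⧸ Cfsg.oddCore C) :=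
    ⟨z, hz, QuotientGroup.mk' _, QuotientGroup.mk'_surjective _, by rw [QuotientGroup.ker_mk']; exact hoddO⟩
  have hcls : ∀ i : G, orderOf i = 2 → IsConj D.z i := fun i hi => one_class_ord hna S hS hz hi
  -- the normal subgroup
  set N := S0.π.range with hNdef
  haveI := S0.range_normal
  have hker : S0.π.rangeRestrict.ker = S0.π.ker := S0.π.ker_rangeRestrict
  have hko : Odd (Nat.card S0.π.rangeRestrict.ker) := by rw [hker]; exact S0.ker_odd
  have hkc : S0.π.rangeRestrict.ker ≤ Subgroup.center H := hker.le.trans S0.ker_central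
  have hcardH := cardH_eq S0.M hFQ
  let Y : NSys N H K Q :=
    { T := S0.M.T, π := S0.π.rangeRestrict, surj := S0.π.rangeRestrict_surjective, ker_central := hkc,
      ker_odd := hko, ker_all := fun h hh ho => Subtype.ext (S0.ker_all h hh ho), cardH := hcardH,
      comm := fun g hg x x' hx hx' => by
        obtain ⟨g, rfl⟩ := S0.π.rangeRestrict_surjective g
        obtain ⟨a, rfl⟩ := S0.π.rangeRestrict_surjective x
        obtain ⟨b, rfl⟩ := S0.π.rangeRestrict_surjective x'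
        exact (MM.cent_comm (fun h => hg ((MM.center_iff _ S0.π.rangeRestrict_surjective hkc hko).2 h))
          (MM.lift_comm _ hkc hko hx) (MM.lift_comm _ hkc hko hx')).map _ }
  obtain ⟨hO, S', eS, -⟩ := quotient_setup S z hzc
  have hNo : ¬ 2 ∣ N.index := by
    have h1 : N.index * Nat.card N = orderOf S0.f * Nat.card N := by
      rw [N.index_mul_card]; exact S0.card_eq
    rw [Nat.eq_of_mul_eq_mul_right Nat.card_pos h1, S0.orderOf_f]
    exact fun h => (Nat.not_even_iff_odd.2 S0.σ_odd) (even_iff_two_dvd.2 h)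
  have hN : NHyp N := by
    refine nhyp_of_aut N hNo S' ?_
    rcases hS with h | h
    · exact S3116.result S'.isPGroup' (Or.inr ((sylShape_congr eS).1 h))
    · obtain ⟨_, _, _, _, h'⟩ := Invol.exists_wr ((sylShape_congr eS).2 h)
      exact h'.isPGroup_mulAut
  obtain ⟨Sp₀⟩ := Y.exists_split
  obtain ⟨Y', Sp, L', hT', hrel, gs, gt, hgs, hgt⟩ := exists_straight hN D hcls Sp₀
  have hrel' : ∀ g : H, ∃ a : scal K Q, (Y'.π g : C ⧸ Cfsg.oddCore C) = S0.π (g * S0.M.T.D (a, a)) ∧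
      (S0.M.T.dt g = 1 → a = 1) := fun g => (hrel g).imp fun a h => ⟨congrArg Subtype.val h.1, h.2⟩
  let Fr : Frm D Sp := ⟨hN, L', gs, gt, hgs, hgt⟩
  -- the involutions of the quotient
  obtain ⟨e, -, -, -, he2, hec, hu2, hucard, hcases⟩ := S0.exists_invols
  have hzbar : D.zbar = S0.π (S0.M.T.D (e, e)) := S0.central_unique D.zbar_order he2
    (Subgroup.mem_center_iff.2 fun k => (D.zbar_central k).eq) hec
  have hK1 : ∀ a b : C ⧸ Cfsg.oddCore C, orderOf a = 2 → a ≠ D.zbar → orderOf b = 2 → b ≠ D.zbar → IsConj a b :=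
    fun a b ha ha' hb hb' => by
      rw [hzbar] at ha' hb'
      exact ((hcases a ha).resolve_left ha').symm.trans ((hcases b hb).resolve_left hb')
  have hinv : ((invol' D.zbar).card : ℤ) = Q * (Q + 1) := by
    rw [← hucard, Nat.cast_inj, Nat.card_eq_fintype_card, Fintype.card_subtype]
    refine congrArg Finset.card (Finset.ext fun y => ?_)
    simp only [invol', Finset.mem_filter, Finset.mem_univ, true_and]
    refine ⟨fun h => (hcases y h.1).resolve_left (hzbar ▸ h.2), fun h => ?_⟩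
    obtain ⟨c, rfl⟩ := isConj_iff.1 h
    refine ⟨by rw [← MulAut.conj_apply, MulEquiv.orderOf_eq, hu2], fun h' => ?_⟩
    have hc' : S0.π (S0.M.T.D (1, e)) = D.zbar := by
      calc _ = c⁻¹ * (c * S0.π (S0.M.T.D (1, e)) * c⁻¹) * c := by group
        _ = c⁻¹ * D.zbar * c := by rw [h']
        _ = D.zbar := by rw [mul_assoc, ← (D.zbar_central c).eq, inv_mul_cancel_left]
    have h1 : Nat.card {y // IsConj (S0.π (S0.M.T.D (1, e))) y} = 1 := by
      refine Nat.card_eq_one_iff_unique.2 ⟨⟨fun a b => Subtype.ext ?_⟩, ⟨⟨_, IsConj.refl _⟩⟩⟩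
      have key : ∀ y, IsConj D.zbar y → y = D.zbar := fun y hy => by
        obtain ⟨d, rfl⟩ := isConj_iff.1 hy
        rw [(D.zbar_central d).eq, mul_inv_cancel_right]
      rw [key a (hc' ▸ a.2), key b (hc' ▸ b.2)]
    rw [h1, Nat.cast_one] at hucard
    have hbig := S0.M.T.big
    rcases Int.eq_one_or_neg_one_of_mul_eq_one hucard.symm with h2 | h2 <;> omega
  have hn0 : (invol' D.zbar).Nonempty := Finset.card_pos.1 (Nat.pos_of_ne_zero fun h => by
    rw [h, Nat.cast_zero] at hinv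
    have hbig := S0.M.T.big
    rcases mul_eq_zero.1 hinv.symm with h2 | h2 <;> omega)
  obtain ⟨a0, ha0, ha0c, ha0i⟩ := D.exists_a0 hK1
  have hker' : D.π.ker = Cfsg.oddCore C := QuotientGroup.ker_mk' _
  have hlift : IsLiftNum z a0 := by
    obtain ⟨k, hk⟩ := hn0
    simp only [invol', Finset.mem_filter, Finset.mem_univ, true_and] at hk
    obtain ⟨c, hc, hco⟩ := D.exists_invol_over hk.1
    refine ⟨⟨c, hco, fun h => hk.2 ?_⟩, fun w hwo hwz => ?_⟩
    · rw [← hc]; exact congrArg D.π (Subtype.ext h)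
    · rw [← ha0i w hwo fun h => hwz (congrArg Subtype.val (D.eq_z hwo h))]
      exact congrArg (fun N : Subgroup C => ((Subgroup.centralizer ({w} : Set C)).subgroupOf N).index) hker'.symm
  have hao : Odd a0 := by
    obtain ⟨⟨w, hwo, hwz⟩, hw⟩ := hlift
    rw [← hw w hwo hwz]
    exact (Nat.odd_iff.2 (Nat.two_dvd_ne_zero.1 hoddO)).of_dvd_nat (Subgroup.index_dvd_card _)
  have hR : ∀ R : ℚ, R = (Nat.card C : ℚ) / (Nat.card G : ℚ) * ((a0 : ℚ) * (invol' D.zbar).card) ^ 2 →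
      R * Nat.card G = (Nat.card C : ℚ) * ((a0 : ℚ) * (Q * (Q + 1))) ^ 2 := fun R hR => by
    have h : ((invol' D.zbar).card : ℚ) = (Q : ℚ) * (Q + 1) := by exact_mod_cast hinv
    rw [hR, h]
    field_simp
  have hblock : ∀ (f : C ⧸ Cfsg.oddCore C → ℂ) (χ : IrrCharacter G) (m : ℤ),
      (m : ℂ) = D.coef M f χ → m ≠ 0 → χ ∈ principalBlock M G := fun f χ m h hm => by
    by_contra hb
    rw [D.coef_eq_zero M f hb] at h
    exact hm (by exact_mod_cast h)
  refine ⟨a0, ha0, hao, hlift, ?_⟩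
  rcases hpar with ⟨hqd, h4⟩ | ⟨hwr, h4⟩
  · refine Or.inl ⟨hqd, h4, ?_⟩
    obtain ⟨T3⟩ := Y'.exists_sd3 h4
    obtain ⟨P, hPB, hP⟩ := Fr.exists_sdFuns3 h4 hM T3
    obtain ⟨P', hP'⟩ := D.exists_pfuns hN P
    obtain ⟨V, hVR, hVdeg, hVv, -⟩ := D.exists_vecs hM hna hcls ha0 ha0c hn0 P'
    refine ⟨V, ⟨hR _ hVR, hVdeg, fun i χ => hblock _ χ _ (hVv i χ)⟩, fun χ hχ hA hQq hq4 inst _ => ?_,
      fun χ hχo hA hT hQ9 inst _ => ?_⟩
    · obtain rfl : inst = hXf := Subsingleton.elim _ _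
      have h0 : D.coef M (indFun N (P.f 0)) χ = 0 := by rw [← hP' 0, ← hVv, hA, Int.cast_zero]
      exact sd_outer (D := D) Y' hQq (Nat.odd_iff.2 (by omega)) hq4 hT' hrel' h4 T3.lam T3.hlodd T3.hle (P.f 0)
        (fun g => by rw [hP]; simp [Fin.sum_univ_succ, BrauerL3.matSd, Sd3.vH]; ring) hχ h0
    · obtain rfl : inst = hXf := Subsingleton.elim _ _
      obtain ⟨ψ, hψ, h1, hzv, huv, hne⟩ := Fr.exists_constituent hQ9 hM hna hcls ha0 ha0c hn0 hPB hP V
        (fun φ => (hVdeg φ).1) (fun i φ => by rw [hVv, hP']) hχo hA hT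
      have hf9 : orderOf S0.f = 1 := S0.orderOf_f_nine (by rcases hFQ with h | h <;> omega)
      have htop : N = ⊤ := by
        refine Subgroup.index_eq_one.1 (Nat.eq_of_mul_eq_mul_right (Nat.card_pos (α := N)) ?_)
        rw [← hf9, N.index_mul_card, S0.card_eq]
      let toN : C ⧸ Cfsg.oddCore C →* N := MonoidHom.codRestrict (MonoidHom.id _) N fun x => htop ▸ Subgroup.mem_top x
      have hind : ∀ x, indFun N ψ x = ψ (toN x) := fun x => by
        have hc : Nat.card N = Nat.card (C ⧸ Cfsg.oddCore C) := by rw [htop, Subgroup.card_top]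
        have he : ∀ y : C ⧸ Cfsg.oddCore C, extendByZero N ψ (y⁻¹ * x * y) = ψ (toN x) := fun y => by
          rw [extendByZero_of_mem _ (htop ▸ Subgroup.mem_top _)]
          have h := IsIrr.classFun hψ (toN x) (toN y)⁻¹
          rw [inv_inv] at h
          exact h
        simp only [indFun, he, Finset.sum_const, Finset.card_univ, nsmul_eq_mul, ← Nat.card_eq_fintype_card]
        rw [hc, inv_mul_cancel_left₀ (Nat.cast_ne_zero.2 Nat.card_pos.ne')]
      have hzt : toN D.zbar = Sp.τ (Y'.e, Y'.e) := Subtype.ext (L'.zbar_tau hN)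
      refine ⟨fun x => ψ (toN x), IsIrr.comp_surjective toN (fun n => ⟨n, Subtype.ext rfl⟩) hψ,
        (congrArg ψ (map_one toN)).trans h1, (congrArg ψ hzt).trans hzv, fun x hx hxz => ?_, ?_⟩
      · have hu : orderOf ((Sp.τ (1, Y'.e) : N) : C ⧸ Cfsg.oddCore C) = 2 := by
          rw [Subgroup.orderOf_coe]
          refine orderOf_eq_prime ?_ fun h => ?_
          · rw [← map_pow, pow_two, Prod.mk_mul_mk, one_mul, Y'.e_sq, ← Prod.one_eq_mk, map_one]
          · exact Y'.e_ne (Sp.eq_one_iff.1 h).1.symm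
        have hunz : ((Sp.τ (1, Y'.e) : N) : C ⧸ Cfsg.oddCore C) ≠ D.zbar := fun h => by
          have h' : Sp.τ (1, Y'.e) = Sp.τ (Y'.e, Y'.e) := Subtype.ext (h.trans (L'.zbar_tau hN))
          exact Y'.e_ne (Sp.central_iff.1 (h' ▸ Sp.diag_central Y'.e)).symm
        obtain ⟨g, hg⟩ := isConj_iff.1 (hK1 _ x hu hunz hx hxz)
        rw [← hg]
        show ψ (toN _) = 0
        rw [show toN (g * ((Sp.τ (1, Y'.e) : N) : C ⧸ Cfsg.oddCore C) * g⁻¹) =
          toN g * Sp.τ (1, Y'.e) * (toN g)⁻¹ from Subtype.ext rfl, IsIrr.classFun hψ]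
        exact huv
      · show classInner _ (fun c : D.C => ψ (toN (D.π c))) ≠ 0
        rw [← show (fun c : D.C => indFun N ψ (D.π c)) = (fun c => ψ (toN (D.π c))) from funext fun c => hind _]
        exact hne
  · refine Or.inr ⟨hwr, h4, ?_⟩
    obtain ⟨P, ⟨hP2, hP4⟩, hPB, m, θ, he, hθ, hθ', hf⟩ := Fr.exists_wrFuns h4 hM
    obtain ⟨P', hP'⟩ := D.exists_pfuns hN P
    obtain ⟨V, hVR, hVdeg, hVv, hVconj⟩ := D.exists_vecs hM hna hcls ha0 ha0c hn0 P'
    have hconj : ∀ q, conj (P'.f 5 q) = P'.f 4 q := fun q => by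
      rw [hP', hP']
      exact conj_indFun N (fun m => by rw [← hP4, Complex.conj_conj]) q
    refine ⟨V, galStar G, ⟨hR _ hVR, hVdeg, fun i χ => hblock _ χ _ (hVv i χ)⟩,
      fun χ => (hVconj 5 4 hconj χ).symm, fun χ => Int.cast_injective (α := ℂ) ?_,
      fun χ => Int.cast_injective (α := ℂ) ?_, fun χ hχ hχo hA hcon hQq hq4 inst _ => ?_⟩
    · rw [(hVdeg _).1, show ((galStar G χ : IrrCharacter G) : G → ℂ) 1 = conj ((χ : G → ℂ) 1) from rfl,
        ← (hVdeg χ).1, map_intCast]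
    · rw [(hVdeg _).2, show ((galStar G χ : IrrCharacter G) : G → ℂ) D.z = conj ((χ : G → ℂ) D.z) from rfl,
        ← (hVdeg χ).2, map_intCast]
    · have hVo : V.o = trivialIrr G := (V.linear _ (Int.cast_injective (α := ℂ)
        ((hVdeg _).1.trans Int.cast_one.symm))).symm
      obtain rfl : inst = hXf := Subsingleton.elim _ _
      exact wr_outer (D := D) Y' Sp hM hN hQq (Nat.odd_iff.2 (by omega)) hq4 hT' hrel' (L'.zbar_tau hN) m he θ hθ
        hθ' P.f P.gen P.odd hPB hf V hVo (fun i ψ => (hVv i ψ).trans (by rw [hP' i])) hχ hχo hA hcon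

/-- The formula from the shape of the centraliser. -/
theorem formula_of_shape (hna : ¬ IsMulCommutative G) (S : Sylow 2 G) (z : G) (hz : orderOf z = 2) (hzS : z ∈ S)
    (hzc : ∀ s ∈ (S : Subgroup G), s * z = z * s) (U : Subgroup G) (hUS : U ≤ S) (hU : IsKleinFour U)
    (hS : Cfsg.IsQuasiDihedral (S : Subgroup G) ∨ Cfsg.IsWreathed (S : Subgroup G))
    (S0 : Shape0 (↥(Subgroup.centralizer ({z} : Set G)) ⧸ Cfsg.oddCore ↥(Subgroup.centralizer ({z} : Set G)))
      F H K Q) {L : Type y} [Field L] {pp : ℕ} (MM : MatModel H L pp Q)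
    {p n : ℕ} (hp : p.Prime) (hn : 0 < n) (hQ : Q = (p : ℤ) ^ n ∨ Q = -(p : ℤ) ^ n)
    (hpar : (Cfsg.IsQuasiDihedral (S : Subgroup G) ∧ Q % 4 = 3) ∨
      (Cfsg.IsWreathed (S : Subgroup G) ∧ Q % 4 = 1))
    (hFQ : Q = (Fintype.card F : ℤ) ∨ Q = -(Fintype.card F : ℤ))
    (hreg : Cfsg.IsQuasiDihedral (S : Subgroup G) → 3 * padicValNat p (Nat.card ↥(Subgroup.centralizer ({z} : Set G))) ≤
      padicValNat p (Nat.card G) + 2 * padicValNat p (Nat.card ↥(Subgroup.centralizer (U : Set G)))) :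
    ∃ a0 : ℕ, Formula G z U Q a0 := by
  haveI : Fact (Nat.Prime 2) := ⟨Nat.prime_two⟩
  haveI : Fact p.Prime := ⟨hp⟩
  haveI := Fintype.ofFinite G
  set C := Subgroup.centralizer ({z} : Set G) with hCdef
  obtain ⟨M, hM⟩ := Char.exists_isPModular 2 Nat.prime_two
  obtain ⟨a0, ha0, hao, ⟨-, hlift⟩, hcases⟩ := vecs_of_shape hna S z hz hzc hS S0 MM hFQ hpar hM
  -- the centraliser of the four-group
  obtain ⟨w, -, hwo, hwz, -, hUcard⟩ := card_centralizer_four S hS z hz hzS hzc U hUS hU S0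
  have hidx := hlift w hwo hwz
  have hO0 : a0 * Nat.card ↥(Cfsg.oddCore C ⊓ Subgroup.centralizer ({w} : Set C)) = Nat.card (Cfsg.oddCore C) := by
    have h1 := ((Subgroup.centralizer ({w} : Set C)).subgroupOf (Cfsg.oddCore C)).index_mul_card
    rw [hidx, ← Subgroup.card_subtype _ ((Subgroup.centralizer ({w} : Set C)).subgroupOf (Cfsg.oddCore C)),
      Subgroup.subgroupOf_map_subtype, inf_comm] at h1
    exact h1
  have hCU : (Nat.card ↥(Subgroup.centralizer (U : Set G)) : ℤ) * ((a0 : ℤ) * (Q * (Q + 1))) = Nat.card C := by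
    rw [card_centralizer_z S0, ← hO0, mul_left_comm, hUcard]
    push_cast
    ring
  refine ⟨a0, ha0, hCU, ?_⟩
  rcases hcases with ⟨hqd, h4, V, hV, -⟩ | ⟨-, h4, V, π, hV, hπ, hπd, hπv, -⟩
  · -- semidihedral
    obtain ⟨E⟩ := sd_eqs Q V
    have hgC : Nat.card C * C.index = Nat.card G := by rw [mul_comm]; exact C.index_mul_card
    have hidx0 : C.index ≠ 0 := Subgroup.index_ne_zero_of_finite
    have hgo : Odd C.index := Nat.odd_iff.2 (Nat.two_dvd_ne_zero.1 fun h => S.not_dvd_index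
      (h.trans (Subgroup.index_dvd_of_le fun s hs => Subgroup.mem_centralizer_singleton_iff.2 (hzc s hs))))
    have hg : V.R * ((C.index : ℤ) : ℚ) = (((a0 : ℤ) : ℚ) * (Q * (Q + 1))) ^ 2 := by
      have h := hV.R_eq
      rw [← hgC, Nat.cast_mul] at h
      push_cast
      refine mul_left_cancel₀ (Nat.cast_ne_zero.2 (Nat.card_pos (α := C)).ne' : (Nat.card C : ℚ) ≠ 0) ?_
      linear_combination h
    have hv : (p : ℤ) ^ (2 * padicValInt p (a0 : ℤ) + 2 * n) ∣ (C.index : ℤ) := by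
      have h1 : p ^ (2 * padicValNat p a0 + 2 * n) ∣ C.index := by
        refine (pow_dvd_pow p ?_).trans pow_padicValNat_dvd
        have hG' : padicValNat p (Nat.card G) = padicValNat p (Nat.card C) + padicValNat p C.index := by
          rw [← hgC, padicValNat.mul Nat.card_pos.ne' hidx0]
        have hC' := val_card hp hQ ha0 Nat.card_pos.ne' hn hCU
        have := hreg hqd
        omega
      rw [show padicValInt p (a0 : ℤ) = padicValNat p a0 from padicValInt.of_nat]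
      exact_mod_cast h1
    obtain ⟨-, -, -, -, hsol⟩ := sd_solve E V.R_ne hp hn hQ h4 hg (by exact_mod_cast hgo) (by exact_mod_cast hao) hv
    rw [← hsol, ← hgC]
    push_cast
    ring
  · -- wreathed
    obtain ⟨E, hxb, hX⟩ := wrF_eqs Q V π hπ hπd hπv
    have hb := S0.M.T.big
    have hsol := (E.solve V.R_ne (by omega) (by omega) (by omega) hxb hX).R_eq
    have h := hV.R_eq
    have hQ1 : (Q : ℚ) + 1 ≠ 0 := by exact_mod_cast (show Q + 1 ≠ 0 by omega)
    have h' : (Nat.card G : ℚ) = (Nat.card C : ℚ) * ((a0 : ℚ) ^ 2 * (Q : ℚ) ^ 2 * ((Q : ℚ) ^ 2 + Q + 1)) := by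
      refine mul_left_cancel₀ (pow_ne_zero 2 hQ1) ?_
      linear_combination ((Q : ℚ) ^ 2 + Q + 1) * h - (Nat.card G : ℚ) * hsol
    exact_mod_cast h'

end Cfsg.Agent.Invol.AbgOrder
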