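import Cfsg.Agent.Lib.Invol.AbgOrder.BudgetUAdapt
import Cfsg.Agent.Lib.Invol.AbgOrder.OrdMain

/-!
# The sum over the outer elements fixing a point

Every point is fixed by as many elements of the coset of the noncentral involution modulo `SL(2, q)`, with the same
values of a class function; so the sum against the fixed-point count is `q + 1` times the sum over the elements fixing
infinity.  On these a character of the principal block is constant modulo the core.
-/

set_option autoImplicit false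
set_option linter.unusedSectionVars false
set_option linter.style.haveILetI false

open scoped ComplexConjugate Classical

namespace Cfsg.Agent.Invol.AbgOrder

open Cfsg Cfsg.Agent.Char Cfsg.Agent.Block Matrix
open Cfsg.Agent.Invol.BrauerL3 (scal)

universe u v w x

attribute [local instance] oddCore_normal

section Points

variable {X : Type u} [Group X] [Fintype X] {F : Type v} [Field F] [Fintype F] [DecidableEq F] {H : Type w} [Group H]
  {K : Type x} [CommGroup K] {Q : ℤ}

local notation "SL₂" => Matrix.SpecialLinearGroup (Fin 2) F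
local notation "M₂" => Matrix (Fin 2) (Fin 2) F

/-- If the sum against the fixed points vanishes, so does the sum over the elements fixing infinity. -/
theorem Shape0.sum_fix_inf (s : Shape0 X F H K Q) (u₀ : H) (φ : X → ℂ) (hφ : ∀ a b, φ (b * a * b⁻¹) = φ a)
    (h : ∑ t : SL₂, (s.refSt (s.π (s.M.ι t * u₀)) + 1) * φ (s.π (s.M.ι t * u₀)) = 0) :
    ∑ t ∈ Finset.univ.filter (fun t : SL₂ => s.ψ (s.π (s.M.ι t * u₀)) • infP F = infP F),
      φ (s.π (s.M.ι t * u₀)) = 0 := by
  haveI := Fintype.ofFinite (P1 F)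
  set x : SL₂ → X := fun t => s.π (s.M.ι t * u₀) with hx
  set B := ∑ t ∈ Finset.univ.filter (fun t : SL₂ => s.ψ (x t) • infP F = infP F), φ (x t)
  have key : ∀ P : P1 F, ∑ t ∈ Finset.univ.filter (fun t : SL₂ => s.ψ (x t) • P = P), φ (x t) = B := by
    intro P
    obtain ⟨g, hg⟩ := P.2
    obtain ⟨y, hy⟩ := s.M.onto g
    have hψ : s.ψ (s.π y) • infP F = P := Subtype.ext (by
      rw [smul_val, show s.ψ (s.π y) = inn g from s.act₂_eq fun t => by
        rw [← map_inv, ← map_mul, ← map_mul, hy]]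
      exact hg.symm)
    have hex : ∀ (y : H) (t : SL₂), ∃ t', s.M.ι t' * u₀ = y * (s.M.ι t * u₀) * y⁻¹ := fun y t => by
      obtain ⟨t', ht'⟩ := s.M.exists_of_dt (h := y * (s.M.ι t * u₀) * y⁻¹ * u₀⁻¹) (by
        rw [map_mul, map_mul, map_mul, map_mul, map_inv, map_inv, s.M.dt_ι, one_mul, mul_comm (s.M.T.dt y),
          mul_inv_cancel_right, mul_inv_cancel])
      exact ⟨t', by rw [← ht', inv_mul_cancel_right]⟩
    choose σ hσ using hex
    have hback : ∀ (y : H) (t : SL₂), σ y⁻¹ (σ y t) = t := fun y t => by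
      refine s.M.ι_inj (mul_right_cancel (b := u₀) ?_)
      rw [hσ, hσ]
      group
    have hxσ : ∀ (y : H) (t : SL₂), x (σ y t) = s.π y * x t * (s.π y)⁻¹ := fun y t => by
      show s.π _ = _
      rw [hσ, map_mul, map_mul, map_inv]
    refine Finset.sum_bij' (fun t _ => σ y⁻¹ t) (fun t _ => σ y t) (fun t ht => ?_) (fun t ht => ?_)
      (fun t _ => by simpa using hback y⁻¹ t) (fun t _ => hback y t) (fun t _ => ?_)
    · simp only [Finset.mem_filter, Finset.mem_univ, true_and] at ht ⊢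
      rw [hxσ, map_mul, map_mul, map_inv, map_inv, inv_inv, mul_smul, mul_smul, hψ, ht, inv_smul_eq_iff, hψ]
    · simp only [Finset.mem_filter, Finset.mem_univ, true_and] at ht ⊢
      rw [hxσ, map_mul, map_mul, mul_smul, mul_smul, map_inv, show (s.ψ (s.π y))⁻¹ • P = infP F from
        inv_smul_eq_iff.2 hψ.symm, ht, hψ]
    · rw [hxσ, map_inv, inv_inv]
      exact (hφ (x t) (s.π y)⁻¹).symm.trans (by rw [inv_inv])
  have h' : ∑ P : P1 F, B = 0 := by
    rw [← Finset.sum_congr rfl fun P _ => key P, ← h]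
    simp only [Finset.sum_filter]
    rw [Finset.sum_comm]
    refine Finset.sum_congr rfl fun t _ => ?_
    rw [s.refSt_fixed, Nat.card_eq_fintype_card, Fintype.card_subtype, ← Finset.sum_filter, Finset.sum_const,
      nsmul_eq_mul]
  rw [Finset.sum_const, nsmul_eq_mul, mul_eq_zero] at h'
  refine h'.resolve_left (Nat.cast_ne_zero.2 ?_)
  rw [Finset.card_univ]
  exact (Fintype.card_pos_iff.2 ⟨infP F⟩).ne'

/-- An outer element fixing infinity has a root of the central involution among its powers. -/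
theorem Frame.outer_root {s : Shape0 X F H K Q} (k : Frame s) (hodd : Odd (Fintype.card F)) {ν : F}
    {g : GL (Fin 2) F} (hns : ¬ IsSquare ν) (hmem : (g : M₂) ∈ Ell ν)
    (hconj : ∀ t, k.u * s.π (s.M.ι t) = s.π (s.M.ι (inn g t)) * k.u) {t : SL₂}
    (ht : ((t : M₂) * (g : M₂)) 1 0 = 0) :
    ∃ n : ℕ, (s.π (s.M.ι t) * k.u) ^ (2 * n) = s.π (s.M.ι (-1)) := by
  set q := Fintype.card F
  set T : M₂ := (t : M₂) * (g : M₂) with hT
  have hν : ν ≠ 0 := fun h => hns (h ▸ IsSquare.zero)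
  have hdet : T 0 0 * T 1 1 = -ν := by
    have : T.det = -ν := by rw [hT, det_mul, Matrix.SpecialLinearGroup.det_coe, one_mul, hmem.2]
    rw [det_fin_two, ht, mul_zero, sub_zero] at this
    exact this
  set r := ν⁻¹ * (T 0 0 * T 0 0) with hr
  have ha : T 0 0 ≠ 0 := fun h => neg_ne_zero.2 hν (by rw [← hdet, h, zero_mul])
  have hr0 : r ≠ 0 := mul_ne_zero (inv_ne_zero hν) (mul_self_ne_zero.2 ha)
  have hnsr : ¬ IsSquare r := by
    rintro ⟨c, hc⟩
    refine hns ⟨T 0 0 / c, ?_⟩
    have hc0 : c ≠ 0 := fun h => hr0 (by rw [hc, h, zero_mul])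
    rw [hr] at hc
    field_simp at hc ⊢
    linear_combination -hc
  set v : SL₂ := t * inn g t
  have hv : (v : M₂) = ν⁻¹ • (T * T) := by
    have hg' : ((g⁻¹ : GL (Fin 2) F) : M₂) = ν⁻¹ • (g : M₂) := by
      calc ((g⁻¹ : GL (Fin 2) F) : M₂) = ν⁻¹ • (ν • (1 : M₂)) * ((g⁻¹ : GL (Fin 2) F) : M₂) := by
            rw [smul_smul, inv_mul_cancel₀ hν, one_smul, one_mul]
        _ = _ := by rw [← Ell.mul_self hmem, Matrix.smul_mul, mul_assoc, Units.mul_inv, mul_one]
    rw [Matrix.SpecialLinearGroup.coe_mul, inn_coe, hg', hT]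
    simp [Matrix.mul_assoc]
  have h10 : ∀ n : ℕ, ((v ^ n : SL₂) : M₂) 1 0 = 0 ∧ ((v ^ n : SL₂) : M₂) 0 0 = r ^ n := by
    intro n
    induction n with
    | zero => simp
    | succ n ih =>
      rw [pow_succ, Matrix.SpecialLinearGroup.coe_mul, hv]
      constructor <;> simp only [Matrix.mul_apply, Fin.sum_univ_two, Matrix.smul_apply, smul_eq_mul, ht, ih.1]
      · ring
      · rw [ih.2, pow_succ, hr]; ring
  have hrq : r ^ (q / 2) = -1 := by
    have hch : ringChar F ≠ 2 := fun h => BrauerL3.two_ne_zero_of_odd (F := F) hodd (by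
      haveI := ringChar.of_eq h
      exact_mod_cast CharP.cast_eq_zero F 2)
    exact (FiniteField.pow_dichotomy hch hr0).resolve_left fun h => hnsr ((FiniteField.isSquare_iff hch hr0).2 h)
  set u : SL₂ := v ^ (q / 2)
  have h00 : (u : M₂) 0 0 = -1 := by rw [(h10 _).2, hrq]
  have h10' : (u : M₂) 1 0 = 0 := (h10 _).1
  have h11 : (u : M₂) 1 1 = -1 := by
    have hd : (u : M₂).det = 1 := u.2
    rw [det_fin_two, h00, h10', mul_zero, sub_zero] at hd
    linear_combination -hd
  have hu : u = -Grp.SL2.up (-(u : M₂) 0 1) := by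
    refine Subtype.ext (Matrix.ext fun i j => ?_)
    rw [show ((-Grp.SL2.up (-(u : M₂) 0 1) : SL₂) : M₂) = -!![1, -(u : M₂) 0 1; 0, 1] from rfl]
    fin_cases i <;> fin_cases j <;> simp [h00, h10', h11]
  refine ⟨q / 2 * q, ?_⟩
  have hsq : (s.π (s.M.ι t) * k.u) ^ 2 = s.π (s.M.ι v) := by
    rw [pow_two, show s.π (s.M.ι t) * k.u * (s.π (s.M.ι t) * k.u) =
      s.π (s.M.ι t) * (k.u * s.π (s.M.ι t)) * k.u by group, hconj, map_mul, map_mul, mul_assoc, mul_assoc _ k.u,
      k.u_sq, mul_one]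
  rw [pow_mul, hsq, ← map_pow, ← map_pow, pow_mul]
  refine congrArg _ (congrArg _ ?_)
  show u ^ q = -1
  rw [hu, hodd.neg_pow, Grp.SL2.up_pow, Nat.cast_card_eq_zero, zero_mul, Grp.SL2.up_zero]

end Points

namespace PreSetup

variable {G : Type u} [Group G] [Fintype G] {F : Type v} [Field F] [Fintype F] {H : Type w} [Group H] {K : Type x}
  [CommGroup K] {Q : ℤ} (c : PreSetup G F H K Q) {M : Ideal AlgInt}
include c

local notation "SL₂" => Matrix.SpecialLinearGroup (Fin 2) F

/-- The hypothesis on the Borel subgroup in `udata`. -/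
theorem borel_of_outer (hQ : Q = -(Fintype.card F : ℤ)) (hM : IsPModular 2 M) {χ : IrrCharacter G}
    (hχ : χ ∈ principalBlock M G) (hout : OuterVanish c.z c.s (χ : G → ℂ))
    (g : SL₂ → ↥(Subgroup.centralizer ({c.z} : Set G))) (hg : ∀ t, c.σU (g t) = c.s.π (c.s.M.ι t) * c.σU c.wC) :
    ∑ t ∈ Finset.univ.filter (fun t : SL₂ =>
      ((t : Matrix (Fin 2) (Fin 2) F) * ((c.k.exists_gw hQ).choose_spec.choose : Matrix (Fin 2) (Fin 2) F)) 1 0 = 0),
      (χ : G → ℂ) (g t) = 0 := by
  haveI := Fintype.ofFinite (CQ c.z)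
  let D := coreData c.z c.order_z
  obtain ⟨hns, hmem, hconj⟩ := (c.k.exists_gw hQ).choose_spec.choose_spec
  set gw := (c.k.exists_gw hQ).choose_spec.choose
  have hu : c.σU c.wC = c.k.u := c.hw
  let e : scal K Q := c.k.e
  have hx : ∀ t, c.s.π (c.s.M.ι t * c.s.M.T.D (1, c.k.e)) = c.σU (g t) := fun t => by
    rw [hg, hu, map_mul]; rfl
  have h := c.s.sum_fix_inf (c.s.M.T.D (1, c.k.e)) (D.fsum (χ : G → ℂ))
    (fun a b => (starRingEnd ℂ).injective (D.fsum_class χ a b)) (hout c.order_z c.k.e c.k.e_sq c.k.e_ne)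
  have hfil : ∀ t : SL₂, c.s.ψ (c.s.π (c.s.M.ι t * c.s.M.T.D (1, c.k.e))) • infP F = infP F ↔
      ((t : Matrix (Fin 2) (Fin 2) F) * (gw : Matrix (Fin 2) (Fin 2) F)) 1 0 = 0 := fun t => by
    have e1 : c.s.ψ (c.s.π (c.s.M.ι t)) = inn (Matrix.SpecialLinearGroup.toGL t) := c.s.act₂_eq fun r => by
      rw [inn_toGL, MulAut.conj_apply, map_mul, map_mul, map_inv, map_mul, map_mul, map_inv]
    have e2 : c.s.ψ c.k.u = inn gw := c.s.act₂_eq fun r => by rw [hconj, mul_inv_cancel_right]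
    rw [map_mul, map_mul, e1, show c.s.π (c.s.M.T.D (1, c.k.e)) = c.k.u from rfl, e2, ← map_mul, inn_smul_inf]
    rfl
  have hconst : ∀ t : SL₂, ((t : Matrix (Fin 2) (Fin 2) F) * (gw : Matrix (Fin 2) (Fin 2) F)) 1 0 = 0 →
      D.fsum (χ : G → ℂ) (c.s.π (c.s.M.ι t * c.s.M.T.D (1, c.k.e))) =
        (Nat.card c.σU.ker : ℂ) * (χ : G → ℂ) (g t) := by
    intro t ht
    have hroot : ∃ n : ℕ, c.σU (g t) ^ (2 * n) = c.σU ⟨c.z, mem_cent.2 rfl⟩ := by
      rw [hg, hu, ← (c.q_z).symm.trans c.σU_z.symm]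
      exact c.k.outer_root c.odd_card hns hmem hconj ht
    rw [hx, show D.fsum (χ : G → ℂ) (c.σU (g t)) = ∑ a ∈ Finset.univ.filter
        (fun a : ↥(Subgroup.centralizer ({c.z} : Set G)) => c.σU a = c.σU (g t)), (χ : G → ℂ) a by
      rw [PData.fsum, Finset.sum_filter, Finset.sum_filter]
      exact Finset.sum_congr rfl fun a _ => by convert rfl <;> rfl]
    have hbij : ∀ a ∈ Finset.univ.filter (fun a : ↥(Subgroup.centralizer ({c.z} : Set G)) => c.σU a = c.σU (g t)),
        (χ : G → ℂ) a = (χ : G → ℂ) (g t) := fun a ha => by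
      have h1 := c.root_values hM hχ (g t) hroot (a * (g t)⁻¹) (by
        rw [MonoidHom.mem_ker, map_mul, map_inv, (Finset.mem_filter.1 ha).2, mul_inv_cancel])
      rwa [inv_mul_cancel_right] at h1
    rw [Finset.sum_congr rfl hbij, Finset.sum_const, nsmul_eq_mul, ← Fintype.card_subtype,
      ← Nat.card_eq_fintype_card]
    refine congrArg (fun n : ℕ => (n : ℂ) * _) (Nat.card_congr
      { toFun := fun a => ⟨a.1 * (g t)⁻¹, by
          rw [MonoidHom.mem_ker, map_mul, map_inv, a.2, mul_inv_cancel]⟩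
        invFun := fun o => ⟨o.1 * g t, by rw [map_mul, MonoidHom.mem_ker.1 o.2, one_mul]⟩
        left_inv := fun a => Subtype.ext (inv_mul_cancel_right _ _)
        right_inv := fun o => Subtype.ext (mul_inv_cancel_right _ _) })
  rw [Finset.filter_congr fun t _ => hfil t, Finset.sum_congr rfl fun t ht => hconst t (Finset.mem_filter.1 ht).2,
    ← Finset.mul_sum, mul_eq_zero] at h
  exact h.resolve_left (Nat.cast_ne_zero.2 Nat.card_pos.ne')

end PreSetup

end Cfsg.Agent.Invol.AbgOrder
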