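import Cfsg.Agent.Lib.Invol.AbgOrder.BudgetDickson
import Cfsg.Agent.Lib.Invol.AbgOrder.BudgetEllSet
import Cfsg.Agent.Lib.Invol.AbgOrder.BudgetAct
import Cfsg.Agent.Lib.Invol.AbgOrder.Shape0Aut
import Cfsg.Agent.Lib.Classical.DicksonMaxFacts

/-!
# The trace zero matrices normalising a proper subgroup

Apart from three small cases a coset of them has fewer than `2 q` members; in those cases they pair off.
-/

set_option autoImplicit false
set_option linter.unusedSectionVars false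

namespace Cfsg.Agent.Invol.AbgOrder

open Matrix Cfsg.Agent.Grp.SL2 Cfsg.Agent.PSL2Spec Cfsg.Agent.Dickson

variable {F : Type*} [Field F] [Fintype F]

local notation "SL₂" => Matrix.SpecialLinearGroup (Fin 2) F
local notation "M₂" => Matrix (Fin 2) (Fin 2) F
local notation "PSL₂" => Matrix.ProjectiveSpecialLinearGroup (Fin 2) F
local notation "cj" => Cfsg.Agent.Grp.SL2.conjHom

/-- What the members over a subgroup satisfy. -/
structure EllClosed {ν : F} (K₀ : Subgroup SL₂) (S : Set (Ell ν)) : Prop where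
  neg : (-1 : SL₂) ∈ K₀
  rel : ∀ A ∈ S, ∀ B ∈ S, ∃ s ∈ K₀, (B : M₂) = (A : M₂) * (s : M₂)
  mem : ∀ A ∈ S, ∀ B : Ell ν, ∀ s ∈ K₀, (B : M₂) = (A : M₂) * (s : M₂) → B ∈ S
  normal : ∀ A ∈ S, ∀ s ∈ K₀, ∃ t ∈ K₀, (t : M₂) * (A : M₂) = (A : M₂) * (s : M₂)

/-- The image in `PSL(2, q)`. -/
local notation "H[" K "]" => Subgroup.map (proj (F := F)) K

theorem neg_ne_self (h2 : (2 : F) ≠ 0) (x : SL₂) : -x ≠ x := fun h => by
  have e : (-1 : SL₂) = 1 := mul_right_cancel (b := x) (by rw [neg_one_mul, one_mul, h])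
  have := congrArg (fun m : SL₂ => (m : M₂) 0 0) e
  simp at this
  exact h2 (by linear_combination -this)

/-- The fibres of the image are pairs. -/
theorem exists_lift_equiv (h2 : (2 : F) ≠ 0) (K₀ : Subgroup SL₂) (hneg : (-1 : SL₂) ∈ K₀) :
    ∃ φ : H[K₀] × Bool ≃ K₀, ∀ x, proj (φ x : SL₂) = (x.1 : PSL₂) := by
  classical
  choose l hl hle using fun x : H[K₀] => Subgroup.mem_map.1 x.2
  let φ : H[K₀] × Bool → K₀ := fun x => if x.2 then ⟨l x.1, hl x.1⟩ else ⟨-l x.1, by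
    rw [← neg_one_mul]; exact K₀.mul_mem hneg (hl x.1)⟩
  have hp : ∀ x, proj (φ x : SL₂) = (x.1 : PSL₂) := by
    rintro ⟨x, i⟩
    cases i
    · show proj (-l x) = _
      rw [← hle x]
      exact proj_eq_iff.2 (Or.inr (neg_neg _).symm)
    · exact hle x
  refine ⟨Equiv.ofBijective φ ⟨?_, fun s => ?_⟩, hp⟩
  · rintro ⟨x, i⟩ ⟨y, j⟩ h
    have hxy : x = y := Subtype.ext (by rw [← hp (x, i), ← hp (y, j), h])
    subst hxy
    have h' := congrArg Subtype.val h
    cases i <;> cases j <;> simp only [φ] at h' <;> first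
      | rfl
      | exact absurd h' (neg_ne_self h2 _)
      | exact absurd h'.symm (neg_ne_self h2 _)
  · have hs : proj (s : SL₂) ∈ H[K₀] := Subgroup.mem_map_of_mem _ s.2
    rcases proj_eq_iff.1 (hle ⟨_, hs⟩) with e | e
    · exact ⟨(⟨_, hs⟩, true), Subtype.ext e.symm⟩
    · exact ⟨(⟨_, hs⟩, false), Subtype.ext e.symm⟩

theorem card_lift (h2 : (2 : F) ≠ 0) {K₀ : Subgroup SL₂} (hneg : (-1 : SL₂) ∈ K₀) (P : K₀ → Prop)
    (Q : H[K₀] → Prop) (h : ∀ s : K₀, P s ↔ Q ⟨proj (s : SL₂), Subgroup.mem_map_of_mem _ s.2⟩) :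
    Nat.card {s : K₀ // P s} = 2 * Nat.card {x : H[K₀] // Q x} := by
  obtain ⟨φ, hφ⟩ := exists_lift_equiv h2 K₀ hneg
  have key : ∀ x, P (φ x) ↔ Q x.1 := fun x => by
    rw [h]
    exact iff_of_eq (congrArg Q (Subtype.ext (hφ x)))
  rw [← Nat.card_congr (φ.subtypeEquiv (p := fun x => Q x.1) fun x => (key x).symm),
    Nat.card_congr (Equiv.prodSubtypeFstEquivSubtypeProd (p := Q)), Nat.card_prod, mul_comm]
  simp

theorem card_lift_pairs (h2 : (2 : F) ≠ 0) {K₀ : Subgroup SL₂} (hneg : (-1 : SL₂) ∈ K₀) (P : K₀ → K₀ → Prop)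
    (Q : H[K₀] → H[K₀] → Prop) (h : ∀ s t : K₀, P s t ↔
      Q ⟨proj (s : SL₂), Subgroup.mem_map_of_mem _ s.2⟩ ⟨proj (t : SL₂), Subgroup.mem_map_of_mem _ t.2⟩) :
    Nat.card {s : K₀ × K₀ // P s.1 s.2} = 4 * Nat.card {x : H[K₀] × H[K₀] // Q x.1 x.2} := by
  obtain ⟨φ, hφ⟩ := exists_lift_equiv h2 K₀ hneg
  let e : ((H[K₀] × H[K₀]) × (Bool × Bool)) ≃ K₀ × K₀ := (Equiv.prodProdProdComm _ _ _ _).trans (φ.prodCongr φ)
  have key : ∀ x : (H[K₀] × H[K₀]) × (Bool × Bool), P (e x).1 (e x).2 ↔ Q x.1.1 x.1.2 := fun x => by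
    rw [h]
    exact iff_of_eq (congrArg₂ Q (Subtype.ext (hφ _)) (Subtype.ext (hφ _)))
  rw [← Nat.card_congr (e.subtypeEquiv (p := fun x => Q x.1.1 x.1.2) fun x => (key x).symm),
    Nat.card_congr (Equiv.prodSubtypeFstEquivSubtypeProd (p := fun x : H[K₀] × H[K₀] => Q x.1 x.2)),
    Nat.card_prod, mul_comm]
  simp

theorem card_eq_two_mul_image (h2 : (2 : F) ≠ 0) {K₀ : Subgroup SL₂} (hneg : (-1 : SL₂) ∈ K₀) :
    Nat.card K₀ = 2 * Nat.card H[K₀] := by
  obtain ⟨φ, -⟩ := exists_lift_equiv h2 K₀ hneg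
  rw [← Nat.card_congr φ, Nat.card_prod, mul_comm]
  simp

/-- An involution of the image is an element with square `-1`. -/
def IsInv {G : Type*} [Group G] (x : G) : Prop := x * x = 1 ∧ x ≠ 1

theorem sq_neg_one_iff (h2 : (2 : F) ≠ 0) (s : SL₂) : s * s = -1 ↔ IsInv (proj s) := by
  constructor
  · intro h
    refine ⟨by rw [← map_mul, h]; exact proj_one_iff.2 (Or.inr rfl), fun h1 => ?_⟩
    rcases proj_one_iff.1 h1 with e | e <;> rw [e] at h <;> simp at h <;>
      exact neg_ne_self h2 (1 : SL₂) h.symm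
  · rintro ⟨h, h1⟩
    rw [← map_mul] at h
    rcases proj_one_iff.1 h with e | e
    · exact absurd (proj_one_iff.2 (mul_self_eq_one h2 e)) h1
    · exact e

theorem isInv_map {G H : Type*} [Group G] [Group H] (i : G ≃* H) (x : G) : IsInv (i x) ↔ IsInv x := by
  rw [IsInv, IsInv, ← map_mul, map_eq_one_iff _ i.injective, Ne, map_eq_one_iff _ i.injective]

theorem isInv_coe {G : Type*} [Group G] {H : Subgroup G} (x : H) : IsInv (x : G) ↔ IsInv x := by
  simp only [IsInv, Ne, ← Subgroup.coe_mul, OneMemClass.coe_eq_one]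

/-- Anticommuting is commuting of distinct images. -/
theorem anti_iff (h2 : (2 : F) ≠ 0) {s t : SL₂} (hs : s * s = -1) (ht : t * t = -1) :
    s * t = -(t * s) ↔ Commute (proj s) (proj t) ∧ proj t ≠ proj s := by
  constructor
  · intro h
    refine ⟨?_, fun he => ?_⟩
    · show proj s * proj t = proj t * proj s
      rw [← map_mul, ← map_mul]
      exact proj_eq_iff.2 (Or.inr (by rw [h, neg_neg]))
    · rcases proj_eq_iff.1 he with e | e <;> subst e <;> simp [hs, ht] at h <;>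
        exact neg_ne_self h2 (1 : SL₂) (by first | exact h | exact h.symm)
  · rintro ⟨hc, hne⟩
    rcases proj_eq_iff.1 (show proj (t * s) = proj (s * t) by rw [map_mul, map_mul]; exact hc.eq.symm) with e | e
    swap
    · exact e
    exfalso
    have h1 : s * t * (s * t) = 1 := by
      calc s * t * (s * t) = s * (t * s) * t := by simp only [mul_assoc]
        _ = s * (s * t) * t := by rw [← e]
        _ = (s * s) * (t * t) := by simp only [mul_assoc]
        _ = 1 := by rw [hs, ht, neg_mul_neg, one_mul]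
    apply hne
    have h3 := proj_one_iff.2 (mul_self_eq_one h2 h1)
    rw [map_mul, mul_eq_one_iff_eq_inv'] at h3
    exact h3.trans (inv_eq_of_mul_eq_one_right ((sq_neg_one_iff h2 s).1 hs).1)

open _root_.Classical in
/-- Few members, or pairs. -/
theorem pair_bound {ν : F} [Fintype (Ell ν)] (h2 : (2 : F) ≠ 0) {K₀ : Subgroup SL₂} {S : Set (Ell ν)}
    (hC : EllClosed K₀ S) {f : Ell ν → ℝ} {n : ℝ} (hf : ∀ A, 0 ≤ f A)
    (hpair : ∀ A ∈ S, ∀ B ∈ S, (A : M₂) * (B : M₂) = -((B : M₂) * (A : M₂)) → f A + f B ≤ n) (hn : 0 ≤ n)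
    {k E : ℕ}
    (hdeg : ∀ A ∈ S, k ≤ Nat.card {t : K₀ // (t : SL₂) * t = -1 ∧
      (A : M₂) * ((t : SL₂) : M₂) = -(((t : SL₂) : M₂) * (A : M₂))})
    (hE : Nat.card {p : S × K₀ // (p.2 : SL₂) * p.2 = -1 ∧
      ((p.1 : Ell ν) : M₂) * ((p.2 : SL₂) : M₂) = -(((p.2 : SL₂) : M₂) * ((p.1 : Ell ν) : M₂))} ≤ E) :
    2 * (k : ℝ) * ∑ A ∈ Finset.univ.filter (fun A => A ∈ S), f A ≤ n * E := by
  haveI : Fintype S := Fintype.ofFinite _
  haveI : Fintype K₀ := Fintype.ofFinite _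
  set T : S → K₀ → Prop := fun A t => (t : SL₂) * t = -1 ∧
    ((A : Ell ν) : M₂) * ((t : SL₂) : M₂) = -(((t : SL₂) : M₂) * ((A : Ell ν) : M₂))
  set P := Finset.univ.filter fun p : S × K₀ => T p.1 p.2 with hP
  have hmul : ∀ A t, T A t → ∃ B : S, ((B : Ell ν) : M₂) = ((A : Ell ν) : M₂) * ((t : SL₂) : M₂) ∧ T B t := by
    rintro A t ⟨ht, ha⟩
    have ht' : ((t : SL₂) : M₂) * ((t : SL₂) : M₂) = -1 := by
      rw [← Matrix.SpecialLinearGroup.coe_mul, ht]; rfl
    have hE' : ((A : Ell ν) : M₂) * ((t : SL₂) : M₂) ∈ Ell ν := by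
      refine ⟨?_, by rw [det_mul, Matrix.SpecialLinearGroup.det_coe, mul_one, (A : Ell ν).2.2]⟩
      have h := congrArg Matrix.trace ha
      rw [Matrix.trace_neg, Matrix.trace_mul_comm ((t : SL₂) : M₂), Matrix.trace_fin_two] at h
      exact (mul_eq_zero.1 (show (2 : F) * _ = 0 by linear_combination h)).resolve_left h2
    refine ⟨⟨⟨_, hE'⟩, hC.mem _ A.2 ⟨_, hE'⟩ _ t.2 rfl⟩, rfl, ht, ?_⟩
    show ((A : Ell ν) : M₂) * ((t : SL₂) : M₂) * ((t : SL₂) : M₂) = -(((t : SL₂) : M₂) * (((A : Ell ν) : M₂) * ((t : SL₂) : M₂)))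
    rw [← Matrix.mul_assoc ((t : SL₂) : M₂), ← Matrix.neg_mul, ← ha]
  choose g hg hgT using hmul
  let τ : S × K₀ → S × K₀ := fun p => if h : T p.1 p.2 then (g p.1 p.2 h, p.2) else p
  have hsum : ∑ p ∈ P, f (τ p).1 = ∑ p ∈ P, f p.1 := by
    have hinj : Set.InjOn τ P := by
      intro p hp p' hp' he
      have hp1 := (Finset.mem_filter.1 hp).2
      have hp2 := (Finset.mem_filter.1 hp').2
      simp only [τ, dif_pos hp1, dif_pos hp2, Prod.mk.injEq] at he
      obtain ⟨e1, e2⟩ := he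
      refine Prod.ext (Subtype.ext (Subtype.ext ?_)) e2
      have h1 := congrArg (fun B : S => ((B : Ell ν) : M₂) * (((p.2 : SL₂)⁻¹ : SL₂) : M₂)) e1
      simp only [hg, e2, Matrix.mul_assoc, ← Matrix.SpecialLinearGroup.coe_mul, mul_inv_cancel,
        Matrix.SpecialLinearGroup.coe_one, Matrix.mul_one] at h1
      exact h1
    have himg : P.image τ = P := Finset.eq_of_subset_of_card_le (fun x hx => by
      obtain ⟨p, hp, rfl⟩ := Finset.mem_image.1 hx
      simp only [τ, dif_pos (Finset.mem_filter.1 hp).2]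
      exact Finset.mem_filter.2 ⟨Finset.mem_univ _, hgT _ _ _⟩)
      (le_of_eq (Finset.card_image_of_injOn hinj).symm)
    exact (Finset.sum_image (f := fun p : S × K₀ => f p.1) hinj).symm.trans (by rw [himg])
  have h1 : 2 * ∑ p ∈ P, f p.1 ≤ n * E := by
    calc 2 * ∑ p ∈ P, f p.1 = ∑ p ∈ P, (f p.1 + f (τ p).1) := by rw [Finset.sum_add_distrib, hsum, two_mul]
      _ ≤ ∑ p ∈ P, n := Finset.sum_le_sum fun p hp => by
          have hp' := (Finset.mem_filter.1 hp).2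
          simp only [τ, dif_pos hp']
          refine hpair _ p.1.2 _ (g p.1 p.2 hp').2 ?_
          rw [hg]
          conv_lhs => rw [hp'.2, Matrix.mul_neg]
          rw [← Matrix.mul_assoc]
      _ ≤ n * E := by
          rw [Finset.sum_const, nsmul_eq_mul, mul_comm]
          refine mul_le_mul_of_nonneg_left (Nat.cast_le.2 (le_trans (le_of_eq ?_) hE)) hn
          rw [hP, Nat.card_eq_fintype_card, Fintype.card_subtype]
  refine le_trans ?_ h1
  rw [mul_assoc]
  refine mul_le_mul_of_nonneg_left ?_ (by norm_num)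
  rw [Finset.mul_sum,
    Finset.sum_subtype (Finset.univ.filter fun A => A ∈ S) (p := fun A => A ∈ S) (fun A => by simp)
      fun A => (k : ℝ) * f A, hP, Finset.sum_filter, Fintype.sum_prod_type]
  refine Finset.sum_le_sum fun A _ => ?_
  show (k : ℝ) * f A ≤ ∑ t : K₀, if T A t then f A else 0
  rw [← Finset.sum_filter, Finset.sum_const, nsmul_eq_mul]
  refine mul_le_mul_of_nonneg_right (Nat.cast_le.2 ((hdeg A A.2).trans (le_of_eq ?_))) (hf _)
  rw [Nat.card_eq_fintype_card, Fintype.card_subtype]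

section Card

variable {ν : F} {K₀ : Subgroup (Matrix.SpecialLinearGroup (Fin 2) F)} {S : Set (Ell ν)}

theorem index_mul_card_sl : (K₀.index : ℤ) * Nat.card K₀ = (Fintype.card F : ℤ) * ((Fintype.card F : ℤ) ^ 2 - 1) := by
  rw [← Nat.cast_mul, Subgroup.index_mul_card, card_sl2_bruhat, Nat.cast_mul, Nat.cast_sub Fintype.card_pos]
  push_cast
  ring

/-- The numeric criterion. -/
theorem card_lt_of_num (h2 : (2 : F) ≠ 0) (hν : ¬ IsSquare ν) (hC : EllClosed K₀ S) {u₀ : ℕ}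
    (hu : u₀ ≤ Nat.card {s : SL₂ // s ∈ K₀ ∧ ¬ IsCen s ∧ tr s ^ 2 = 4}) {K : ℕ} (hK : Nat.card K₀ = K)
    (hq : (K : ℤ) * Fintype.card F ≤ 2 * ((Fintype.card F : ℤ) * ((Fintype.card F : ℤ) ^ 2 - 1)))
    (hnum : (K : ℤ) * (6 * (Fintype.card F : ℤ) ^ 2 - 8 * Fintype.card F + 2) <
      2 * ((Fintype.card F : ℤ) * ((Fintype.card F : ℤ) ^ 2 - 1)) * ((Fintype.card F : ℤ) + 1) + (K : ℤ) * K +
        ((Fintype.card F : ℤ) * ((Fintype.card F : ℤ) ^ 2 - 1) - K) * u₀) :
    Nat.card S < 2 * Fintype.card F := by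
  classical
  haveI : Fintype SL₂ := Fintype.ofFinite _
  have hrK := index_mul_card_sl (K₀ := K₀)
  rw [hK] at hrK
  set q := Fintype.card F
  have hKpos : (0 : ℤ) < K := by rw [← hK]; exact_mod_cast Nat.card_pos
  have hq1 : 1 ≤ q := Fintype.card_pos
  rw [← Nat.card_image_of_injective Subtype.val_injective S]
  refine ell_set_lt h2 hν K₀ hC.neg hu _ (by rintro _ ⟨A, -, rfl⟩; exact A.2) ?_ ?_ ?_
  · rintro _ ⟨A, hA, rfl⟩ _ ⟨B, hB, rfl⟩
    exact hC.rel A hA B hB
  · have h : (q : ℤ) * ((q : ℤ) - 1) ≤ (K₀.index : ℤ) * (2 * q) := by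
      have h1 : (q : ℤ) ≤ 2 * K₀.index := le_of_mul_le_mul_left (a := (K : ℤ)) (by linarith) hKpos
      nlinarith
    have h' : ((q * (q - 1) : ℕ) : ℤ) ≤ ((K₀.index * (2 * q) : ℕ) : ℤ) := by
      push_cast [Nat.cast_sub hq1]
      exact h
    exact_mod_cast h'
  · rw [hK]
    set r : ℤ := (K₀.index : ℤ)
    have hD : (0 : ℤ) < 2 * r * (q + 1) + K + (r - 1) * u₀ - (6 * (q : ℤ) ^ 2 - 8 * q + 2) := by
      refine pos_of_mul_pos_right (a := (K : ℤ)) ?_ hKpos.le
      rw [← hrK] at hnum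
      linarith
    have hqD := mul_pos (show (0 : ℤ) < q by exact_mod_cast hq1) hD
    have hqr := congrArg (fun x : ℤ => (q : ℤ) * x) hrK
    push_cast
    linarith

/-- The sum over the members in terms of their number. -/
theorem sum_lt_of_card [Fintype (Ell ν)] [DecidablePred (· ∈ S)] {f : Ell ν → ℝ} {n : ℝ}
    (hb : ∀ A ∈ S, f A ≤ n) (hn : 0 < n) (h : Nat.card S < 2 * Fintype.card F) :
    ∑ A ∈ Finset.univ.filter (fun A => A ∈ S), f A < 2 * (Fintype.card F : ℝ) * n := by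
  refine (Finset.sum_le_sum fun A hA => hb A (Finset.mem_filter.1 hA).2).trans_lt ?_
  rw [Finset.sum_const, nsmul_eq_mul]
  refine mul_lt_mul_of_pos_right ?_ hn
  rw [← Fintype.card_subtype, ← Nat.card_eq_fintype_card]
  exact_mod_cast h

/-- With a fixed point there are no members. -/
theorem empty_of_borel (p : ℕ) [Fact p.Prime] [CharP F p] (hν : ¬ IsSquare ν) (hC : EllClosed K₀ S) {a : PSL₂}
    (ha : a ∈ H[K₀]) (ha1 : a ≠ 1) (hap : a ^ p = 1)
    (h : H[K₀] ≤ Subgroup.normalizer (tor a : Set PSL₂)) (A : Ell ν) : A ∉ S := by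
  intro hA
  obtain ⟨P, hP, e⟩ := uni_frame p ha1 hap
  have hu : cj P hP (up 1) ∈ K₀ := by
    obtain ⟨k, hk, hke⟩ := ha
    rw [e] at hke
    rcases proj_eq_iff.1 hke with h' | h'
    · exact h' ▸ hk
    · rw [h', ← neg_one_mul]
      exact K₀.mul_mem hC.neg hk
  obtain ⟨t, ht, hte⟩ := hC.normal A hA _ hu
  obtain ⟨y, rfl⟩ := conjHom_surjective P hP t
  have hy : (y : M₂) 1 0 = 0 := by
    have hn := ((pslData (F := F) p).mem_normalizer_iff ha1).1 (h (Subgroup.mem_map_of_mem _ ht))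
    change proj (cj P hP y) * a * (proj (cj P hP y))⁻¹ ∈ tor a at hn
    rwa [e, conj_mem_tor_iff, ← map_inv, ← map_mul, ← map_mul, commute_map_iff (conjHom_injective P hP),
      lower_entry_iff] at hn
  set A' : M₂ := P⁻¹ * (A : M₂) * P with hA'
  have hE : A' ∈ Ell ν := by
    refine ⟨?_, ?_⟩
    · rw [← Matrix.trace_fin_two, hA', Matrix.trace_mul_cycle, Matrix.mul_nonsing_inv P hP, Matrix.one_mul,
        Matrix.trace_fin_two]
      exact A.2.1
    · rw [hA', det_mul, det_mul, A.2.2, mul_comm, ← mul_assoc, ← det_mul, Matrix.mul_nonsing_inv P hP, det_one,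
        one_mul]
  have h1 : (y : M₂) * A' = A' * (up (1 : F) : SL₂) := by
    have h' := congrArg (fun M => P⁻¹ * M * P) hte
    simp only [conjHom_coe] at h'
    have hPP : P⁻¹ * P = 1 := Matrix.nonsing_inv_mul P hP
    simp only [Matrix.mul_assoc, hPP, Matrix.mul_one] at h'
    simp only [← Matrix.mul_assoc, hPP, Matrix.one_mul] at h'
    simp only [hA', ← Matrix.mul_assoc]
    exact h'
  have e10 := congrFun (congrFun h1 1) 0
  have e11 := congrFun (congrFun h1 1) 1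
  have hne := Ell.lower_ne hν hE
  simp [Matrix.mul_apply, Fin.sum_univ_two, hy, up] at e10 e11
  exact hne (by
    have hy1 : (y : M₂) 1 1 = 1 := by simpa [hne] using e10
    rw [hy1, one_mul] at e11
    linear_combination -e11)

theorem two_card_tor_le (p : ℕ) [Fact p.Prime] [CharP F p] (h2 : (2 : F) ≠ 0) {a : PSL₂} (ha : a ≠ 1)
    (hap : a ^ p ≠ 1) : 2 * Nat.card (tor a) ≤ Fintype.card F + 1 := by
  have hodd : Fintype.card F % 2 = 1 := FiniteField.odd_card_of_char_ne_two fun h => h2 (by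
    haveI := ringChar.of_eq h
    exact_mod_cast CharP.cast_eq_zero F 2)
  have hq := Fintype.one_lt_card (α := F)
  have hg : Nat.gcd 2 (Fintype.card F - 1) = 2 := Nat.gcd_eq_left (by omega)
  rcases card_tor_dvd p ha hap with h | h <;> rw [hg] at h <;>
    have := Nat.le_of_dvd (by omega) h <;> omega

end Card

end Cfsg.Agent.Invol.AbgOrder
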