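import Cfsg.Agent.Lib.Invol.AbgOrder.BudgetData
import Cfsg.Agent.Lib.Invol.AbgOrder.BudgetEllY
import Cfsg.Agent.Lib.Invol.AbgOrder.Shape0Aut

/-!
# The data of the budget, unitary case

`ι` puts `SL(2, q)` into `X` and `σ w` acts on it as a matrix with square a nonsquare scalar, so without fixed points
on the line.  The character is known at `1`, at `z` and at `w`, `z w` times the elements of the core centralised by
`w`, is constant modulo the core on elements with a root of `z` among their powers, and has sum zero over the outer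
elements fixing a point.
-/

set_option autoImplicit false
set_option linter.unusedSectionVars false
set_option linter.style.haveILetI false

namespace Cfsg.Agent.Invol.AbgOrder

open Cfsg Cfsg.Agent.Char Matrix
open scoped ComplexConjugate

universe u v t

open _root_.Classical in
/-- The data of the budget (unitary case). -/
structure UData (C : Type u) [Group C] (X : Type v) [Group X] (F : Type t) [Field F] [Fintype F] where
  z : C
  w : C
  σ : C →* X
  surj : Function.Surjective σ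
  ker_odd : Odd (Nat.card σ.ker)
  z_central : ∀ c : C, c * z = z * c
  z2 : z * z = 1
  w2 : w * w = 1
  ι : Matrix.SpecialLinearGroup (Fin 2) F →* X
  ι_inj : Function.Injective ι
  range_normal : ι.range.Normal
  gz : ι (-1) = σ z
  ν : F
  ν_ns : ¬ IsSquare ν
  char2 : (2 : F) ≠ 0
  gw : GL (Fin 2) F
  gw_mem : (gw : Matrix (Fin 2) (Fin 2) F) ∈ Ell ν
  conj_w : ∀ s, σ w * ι s = ι (inn gw s) * σ w
  w_out : ∀ s, ι s ≠ σ w
  χ : C → ℂ
  isChar : IsCharacter C χ
  Dp : ℕ
  Dm : ℕ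
  χ_one : χ 1 = (Dp : ℂ) + Dm
  χ_z : χ z = (Dp : ℂ) - Dm
  χ_zo : ∀ o ∈ σ.ker, χ (z * o) = χ z
  e : ℕ
  πw : ↥(σ.ker ⊓ Subgroup.centralizer ({w} : Set C)) → ℂ
  πu : ↥(σ.ker ⊓ Subgroup.centralizer ({w} : Set C)) → ℂ
  πw_char : IsCharacter ↥(σ.ker ⊓ Subgroup.centralizer ({w} : Set C)) πw
  πu_char : IsCharacter ↥(σ.ker ⊓ Subgroup.centralizer ({w} : Set C)) πu
  πw_one : πw 1 = (Fintype.card F : ℂ) + 1
  πu_one : πu 1 = (Fintype.card F : ℂ) + 1
  χ_w : ∀ y : ↥(σ.ker ⊓ Subgroup.centralizer ({w} : Set C)), χ (w * y) = e - πw y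
  χ_zw : ∀ y : ↥(σ.ker ⊓ Subgroup.centralizer ({w} : Set C)), χ (z * w * y) = e - πu y
  root : ∀ g : C, (∃ k : ℕ, σ g ^ (2 * k) = σ z) → ∀ o ∈ σ.ker, χ (o * g) = χ g
  borel : ∀ g : Matrix.SpecialLinearGroup (Fin 2) F → C, (∀ s, σ (g s) = ι s * σ w) →
    ∑ s ∈ Finset.univ.filter (fun s : Matrix.SpecialLinearGroup (Fin 2) F =>
      ((s : Matrix (Fin 2) (Fin 2) F) * (gw : Matrix (Fin 2) (Fin 2) F)) 1 0 = 0), χ (g s) = 0

namespace UData

variable {C : Type u} [Group C] [Fintype C] {X : Type v} [Group X] {F : Type t} [Field F] [Fintype F]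
  (B : UData C X F)

local notation "SL₂" => Matrix.SpecialLinearGroup (Fin 2) F
local notation "M₂" => Matrix (Fin 2) (Fin 2) F

/-- The kernel. -/
abbrev O : Subgroup C := B.σ.ker

/-- The fixed points of `w` in the kernel. -/
abbrev R : Subgroup C := B.σ.ker ⊓ Subgroup.centralizer ({B.w} : Set C)

/-- The half with `z = 1`. -/
noncomputable def χp (g : C) : ℂ := (B.χ g + B.χ (B.z * g)) / 2

/-- The half with `z = -1`. -/
noncomputable def χm (g : C) : ℂ := (B.χ g - B.χ (B.z * g)) / 2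

theorem w_comm (y : B.R) : B.w * y = y * B.w :=
  (Subgroup.mem_centralizer_singleton_iff.1 y.2.2).symm

include B in
theorem neg_one_ne : (-1 : SL₂) ≠ 1 := fun h => by
  have := congrArg (fun m : SL₂ => (m : M₂) 0 0) h
  simp at this
  exact B.char2 (by linear_combination -this)

theorem σz_ne : B.σ B.z ≠ 1 := fun h =>
  B.neg_one_ne (B.ι_inj (by rw [B.gz, h, map_one]))

theorem σw_ne : B.σ B.w ≠ 1 := fun h => B.w_out 1 (by rw [map_one, h])

theorem z_ne : B.z ≠ 1 := fun h => B.σz_ne (by rw [h, map_one])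

theorem w_ne : B.w ≠ 1 := fun h => B.σw_ne (by rw [h, map_one])

theorem odd_of_ker {o : C} (ho : o ∈ B.O) : Odd (orderOf o) :=
  B.ker_odd.of_dvd_nat (B.O.orderOf_dvd_natCard ho)

theorem isChar_χp : IsCharacter C B.χp := by
  classical
  haveI : (Subgroup.zpowers B.z).Normal := ⟨fun x hx g => by
    obtain ⟨k, rfl⟩ := Subgroup.mem_zpowers_iff.1 hx
    rw [((Commute.zpow_right (B.z_central g) k)).eq, mul_inv_cancel_right]
    exact hx⟩
  haveI : Fintype (Subgroup.zpowers B.z) := Fintype.ofFinite _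
  have ho : orderOf B.z = 2 := orderOf_eq_prime (by rw [pow_two, B.z2]) B.z_ne
  have he : B.χp = Char.avgN (Subgroup.zpowers B.z) B.χ := by
    funext g
    have hu : (Finset.univ : Finset (Subgroup.zpowers B.z)) =
        {1, ⟨B.z, Subgroup.mem_zpowers B.z⟩} := by
      refine (Finset.eq_univ_of_card _ ?_).symm
      rw [Finset.card_pair fun e => B.z_ne (congrArg Subtype.val e).symm, ← Nat.card_eq_fintype_card,
        Nat.card_zpowers, ho]
    rw [Char.avgN, Nat.card_zpowers, ho, hu, Finset.sum_pair fun e => B.z_ne (congrArg Subtype.val e).symm,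
      χp]
    push_cast
    rw [one_mul]
    ring
  rw [he]
  exact IsChar.avgN _ B.isChar

theorem χp_add_χm : B.χp + B.χm = B.χ := funext fun g => by simp only [Pi.add_apply, χp, χm]; ring

theorem isChar_χm : IsCharacter C B.χm := by
  classical
  haveI : (Subgroup.zpowers B.z).Normal := ⟨fun x hx g => by
    obtain ⟨k, rfl⟩ := Subgroup.mem_zpowers_iff.1 hx
    rw [((Commute.zpow_right (B.z_central g) k)).eq, mul_inv_cancel_right]
    exact hx⟩
  haveI : Fintype (Subgroup.zpowers B.z) := Fintype.ofFinite _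
  have ho : orderOf B.z = 2 := orderOf_eq_prime (by rw [pow_two, B.z2]) B.z_ne
  have he : B.χm = B.χ - Char.avgN (Subgroup.zpowers B.z) B.χ := by
    funext g
    have hu : (Finset.univ : Finset (Subgroup.zpowers B.z)) =
        {1, ⟨B.z, Subgroup.mem_zpowers B.z⟩} := by
      refine (Finset.eq_univ_of_card _ ?_).symm
      rw [Finset.card_pair fun e => B.z_ne (congrArg Subtype.val e).symm, ← Nat.card_eq_fintype_card,
        Nat.card_zpowers, ho]
    rw [Pi.sub_apply, Char.avgN, Nat.card_zpowers, ho, hu,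
      Finset.sum_pair fun e => B.z_ne (congrArg Subtype.val e).symm, χm]
    push_cast
    rw [one_mul]
    ring
  rw [he]
  exact isChar_sub_avgN _ B.isChar

theorem χp_z (g : C) : B.χp (B.z * g) = B.χp g := by
  simp only [χp, ← mul_assoc, B.z2, one_mul]; ring

theorem χp_one : B.χp 1 = B.Dp := by
  rw [χp, mul_one, B.χ_one, B.χ_z]; ring

theorem χp_w (y : B.R) : B.χp (B.w * y) = B.e - (B.πw y + B.πu y) / 2 := by
  rw [χp, B.χ_w, ← mul_assoc, B.χ_zw]; ring

/-- An element with a root of `σ z` among its powers stays so after multiplication by `z`. -/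
theorem root_z {g : C} (h : ∃ k : ℕ, B.σ g ^ (2 * k) = B.σ B.z) : ∃ k : ℕ, B.σ (B.z * g) ^ (2 * k) = B.σ B.z := by
  obtain ⟨k, hk⟩ := h
  refine ⟨k, ?_⟩
  have hc : Commute (B.σ B.z) (B.σ g) := by
    show B.σ B.z * B.σ g = B.σ g * B.σ B.z
    rw [← map_mul, ← map_mul, B.z_central]
  rw [map_mul, hc.mul_pow, hk, pow_mul, pow_two, ← map_mul, B.z2, map_one, one_pow, one_mul]

theorem χp_root {g : C} (h : ∃ k : ℕ, B.σ g ^ (2 * k) = B.σ B.z) {o : C} (ho : o ∈ B.O) :
    B.χp (o * g) = B.χp g := by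
  rw [χp, χp, B.root g h o ho, ← mul_assoc, ← B.z_central o, mul_assoc, B.root _ (B.root_z h) o ho]

/-- `SL(2, q)` with `w`. -/
def Yw : Subgroup X := B.ι.range ⊔ Subgroup.zpowers (B.σ B.w)

theorem ι_mem_Yw (s : SL₂) : B.ι s ∈ B.Yw := Subgroup.mem_sup_left ⟨s, rfl⟩

theorem σw_mem_Yw : B.σ B.w ∈ B.Yw := Subgroup.mem_sup_right (Subgroup.mem_zpowers _)

theorem mem_Yw {y : X} : y ∈ B.Yw ↔ ∃ s, y = B.ι s ∨ y = B.ι s * B.σ B.w := by
  constructor
  · intro hy
    haveI := B.range_normal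
    obtain ⟨_, ⟨s, rfl⟩, v, hv, rfl⟩ := Subgroup.mem_sup_of_normal_left.1 hy
    obtain ⟨k, rfl⟩ := Subgroup.mem_zpowers_iff.1 hv
    have ho : orderOf (B.σ B.w) = 2 := orderOf_eq_prime (by rw [pow_two, ← map_mul, B.w2, map_one]) B.σw_ne
    rw [← zpow_mod_orderOf, ho]
    rcases Int.emod_two_eq_zero_or_one k with h | h <;> push_cast <;> rw [h]
    · exact ⟨s, Or.inl (by rw [zpow_zero, mul_one])⟩
    · exact ⟨s, Or.inr (by rw [zpow_one])⟩
  · rintro ⟨s, rfl | rfl⟩
    · exact B.ι_mem_Yw s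
    · exact B.Yw.mul_mem (B.ι_mem_Yw s) B.σw_mem_Yw

/-- The extended group. -/
noncomputable def ellY : EllY B.Yw F where
  ι := B.ι.codRestrict B.Yw B.ι_mem_Yw
  ι_inj := fun _ _ h => B.ι_inj (congrArg Subtype.val h)
  w := ⟨B.σ B.w, B.σw_mem_Yw⟩
  ν := B.ν
  ν_ns := B.ν_ns
  char2 := B.char2
  gw := B.gw
  gw_mem := B.gw_mem
  w2 := Subtype.ext (by show B.σ B.w * B.σ B.w = 1; rw [← map_mul, B.w2, map_one])
  «conj» s := Subtype.ext (B.conj_w s)
  dec y := by
    obtain ⟨s, h | h⟩ := B.mem_Yw.1 y.2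
    · exact ⟨s, Or.inl (Subtype.ext h)⟩
    · exact ⟨s, Or.inr (Subtype.ext h)⟩
  disj s h := B.w_out s (congrArg Subtype.val h)

/-- The element of `X` over a matrix of the class. -/
noncomputable def jX (A : Ell B.ν) : X := B.ι (B.ellY.toS A) * B.σ B.w

theorem jX_eq (A : Ell B.ν) : B.jX A = ((B.ellY.jOf A : B.Yw) : X) := rfl

end UData

end Cfsg.Agent.Invol.AbgOrder
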