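import Cfsg.Agent.Lib.Invol.AbgOrder.BudgetUAct
import Cfsg.Agent.Lib.Invol.AbgOrder.BudgetExtNine

/-!
# A character fixed by `SL(2, q)` and `w` extends to their preimage
-/

set_option autoImplicit false
set_option linter.unusedSectionVars false
set_option linter.style.haveILetI false

namespace Cfsg.Agent.Invol.AbgOrder

open Cfsg Cfsg.Agent.Char Matrix Cfsg.Agent.Lie.SLMult
open scoped ComplexConjugate

universe u v t

namespace UData

variable {C : Type u} [Group C] [Fintype C] {X : Type v} [Group X] {F : Type t} [Field F] [Fintype F]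
  (B : UData C X F)

local notation "SL₂" => Matrix.SpecialLinearGroup (Fin 2) F
local notation "M₂" => Matrix (Fin 2) (Fin 2) F

/-- The preimage of `SL(2, q)`. -/
def L : Subgroup C := B.ι.range.comap B.σ

/-- The preimage of `SL(2, q)` with `w`. -/
def Lw : Subgroup C := B.Yw.comap B.σ

theorem O_le_L : B.O ≤ B.L := fun o ho => by
  show B.σ o ∈ B.ι.range
  rw [MonoidHom.mem_ker.1 ho]
  exact one_mem _

theorem L_le_Lw : B.L ≤ B.Lw := Subgroup.comap_mono le_sup_left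

theorem O_le_Lw : B.O ≤ B.Lw := B.O_le_L.trans B.L_le_Lw

theorem w_mem_Lw : B.w ∈ B.Lw := B.σw_mem_Yw

theorem Gw_le_Lw : B.Gw ≤ B.Lw := Subgroup.comap_mono le_sup_right

theorem z_mem_L : B.z ∈ B.L := ⟨-1, B.gz⟩

theorem L_normal : B.L.Normal := by
  haveI := B.range_normal
  exact Subgroup.Normal.comap inferInstance B.σ

include B in
theorem card_ne_four : Fintype.card F ≠ 4 := fun h => by
  obtain ⟨p, hp⟩ := CharP.exists F
  obtain ⟨n, hpp, hn⟩ := FiniteField.card F p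
  rw [h] at hn
  have hp2 : p = 2 := (Nat.prime_dvd_prime_iff_eq hpp Nat.prime_two).1
    (hpp.dvd_of_dvd_pow (n := 2) (show p ∣ 2 ^ 2 by rw [show (2 : ℕ) ^ 2 = 4 from rfl, hn]; exact dvd_pow_self p n.ne_zero))
  subst hp2
  exact B.char2 (by exact_mod_cast CharP.cast_eq_zero F 2)

/-- An element over `w` scaling the root subgroup by the determinant. -/
theorem exists_diag : ∃ t : C, t ∈ B.Lw ∧ ∀ (x : F) (c : C), B.σ c = B.ι (tv 0 1 x) →
    B.σ (t * c * t⁻¹) = B.ι (tv 0 1 (-B.ν * x)) := by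
  have hν : -B.ν ≠ 0 := neg_ne_zero.2 fun h => B.ν_ns (h ▸ IsSquare.zero)
  have h01 : (0 : Fin 2) ≠ 1 := by decide
  set D : M₂ := !![(-B.ν)⁻¹, 0; 0, 1]
  have hs : ((B.gw : M₂) * D).det = 1 := by
    rw [det_mul, B.gw_mem.2, det_fin_two]
    simp [D, show B.ν ≠ 0 from B.ellY.ν_ne]
  set s : SL₂ := ⟨(B.gw : M₂) * D, hs⟩
  obtain ⟨t, ht⟩ := B.surj (B.ι s⁻¹ * B.σ B.w)
  refine ⟨t, ?_, fun x c hc => ?_⟩
  · show B.σ t ∈ B.Yw
    rw [ht]
    exact B.Yw.mul_mem (B.ι_mem_Yw _) B.σw_mem_Yw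
  · rw [map_mul, map_mul, map_inv, ht, hc, mul_assoc (B.ι s⁻¹), B.conj_w, _root_.mul_inv_rev, mul_assoc,
      mul_assoc (B.ι (inn B.gw (tv 0 1 x))), mul_inv_cancel_left, ← map_inv, ← map_mul, ← map_mul]
    refine congrArg B.ι ?_
    rw [inv_inv, inv_mul_eq_iff_eq_mul]
    refine Subtype.ext ?_
    rw [Matrix.SpecialLinearGroup.coe_mul, Matrix.SpecialLinearGroup.coe_mul, inn_coe]
    show (B.gw : M₂) * (tv 0 1 x : SL₂) * ((B.gw⁻¹ : GL (Fin 2) F) : M₂) * ((B.gw : M₂) * D) =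
      (B.gw : M₂) * D * (tv 0 1 (-B.ν * x) : SL₂)
    rw [Matrix.mul_assoc ((B.gw : M₂) * _), ← Matrix.mul_assoc ((B.gw⁻¹ : GL (Fin 2) F) : M₂), Units.inv_mul,
      Matrix.one_mul, Matrix.mul_assoc, Matrix.mul_assoc]
    congr 1
    rw [tv_coe h01, tv_coe h01]
    ext i j
    fin_cases i <;> fin_cases j <;>
      simp [D, Matrix.mul_apply, Fin.sum_univ_two, Matrix.transvection,
        show B.ν ≠ 0 from B.ellY.ν_ne]

theorem neg_ν_ns (h9 : Fintype.card F = 9) : ¬ IsSquare (-B.ν) := by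
  rintro ⟨r, hr⟩
  obtain ⟨i, hi⟩ := FiniteField.isSquare_neg_one_iff.2 (by rw [h9]; norm_num : Fintype.card F % 4 ≠ 3)
  exact B.ν_ns ⟨i * r, by linear_combination (r * r) * hi - hr⟩

variable [Fintype B.O]

/-- Extension to the preimage of `SL(2, q)` with `w`. -/
theorem exists_eta {θ : IrrCharacter B.O} (hfix : Char.conjN B.O B.w (θ : B.O → ℂ) = (θ : B.O → ℂ))
    (hL : B.Lfix (θ : B.O → ℂ)) (h5 : 5 ≤ Fintype.card F) :
    ∃ η : B.Lw → ℂ, IsIrrCharacter B.Lw η ∧ ∀ o : B.O, η ⟨o, B.O_le_Lw o.2⟩ = (θ : B.O → ℂ) o := by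
  classical
  haveI : Fintype B.Lw := Fintype.ofFinite _
  haveI := B.L_normal
  haveI := B.range_normal
  haveI : (B.O.subgroupOf B.L).Normal := Subgroup.Normal.subgroupOf inferInstance _
  haveI : Fintype B.L := Fintype.ofFinite _
  haveI : Fintype (B.O.subgroupOf B.L) := Fintype.ofFinite _
  set eO := Subgroup.subgroupOfEquivOfLe B.O_le_L
  let θ' : B.O.subgroupOf B.L → ℂ := fun x => (θ : B.O → ℂ) (eO x)
  have hθ' : IsIrrCharacter (B.O.subgroupOf B.L) θ' := IsIrr.comp_mulEquiv eO θ.2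
  have hinvL : ∀ g : B.L, Char.conjN B.O (g : C) (θ : B.O → ℂ) = (θ : B.O → ℂ) := fun g =>
    (B.lfix_iff (IsIrr.classFun θ.2)).1 hL _ g.2
  have hdec : ∀ x : B.Lw, ∃ k : ℤ, x * ((⟨B.w, B.w_mem_Lw⟩ : B.Lw) ^ k)⁻¹ ∈ B.L.subgroupOf B.Lw := by
    intro x
    obtain ⟨y, hy, v, hv, hyv⟩ := Subgroup.mem_sup_of_normal_left.1 (show B.σ x ∈ B.Yw from x.2)
    obtain ⟨k, rfl⟩ := Subgroup.mem_zpowers_iff.1 hv
    refine ⟨k, ?_⟩
    show B.σ ((x : C) * ((((⟨B.w, B.w_mem_Lw⟩ : B.Lw) ^ k : B.Lw)⁻¹ : B.Lw) : C)) ∈ B.ι.range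
    rw [Subgroup.coe_inv, Subgroup.coe_zpow, map_mul, map_inv, map_zpow, ← hyv, mul_inv_cancel_right]
    exact hy
  have hxθ : ∀ x : B.Lw, Char.conjN B.O (x : C) (θ : B.O → ℂ) = (θ : B.O → ℂ) := fun x => by
    obtain ⟨k, hk⟩ := hdec x
    rw [← mem_inertia]
    rw [show (x : C) = ((x * ((⟨B.w, B.w_mem_Lw⟩ : B.Lw) ^ k)⁻¹ : B.Lw) : C) * B.w ^ k by
      simp [Subgroup.coe_zpow]]
    exact (inertia B.O _).mul_mem ((mem_inertia B.O).2 (hinvL ⟨_, hk⟩))
      ((inertia B.O _).zpow_mem ((mem_inertia B.O).2 hfix) k)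
  -- onto `SL(2, q)`
  let e : SL₂ ≃* B.ι.range := MonoidHom.ofInjective B.ι_inj
  let σL : B.L →* SL₂ := e.symm.toMonoidHom.comp ((B.σ.comp B.L.subtype).codRestrict B.ι.range fun g => g.2)
  have hσι : ∀ g : B.L, B.ι (σL g) = B.σ g := fun g => congrArg Subtype.val (e.apply_symm_apply _)
  have hσs : Function.Surjective σL := fun s => by
    obtain ⟨c, hc⟩ := B.surj (B.ι s)
    exact ⟨⟨c, ⟨s, hc.symm⟩⟩, B.ι_inj (by rw [hσι]; exact hc)⟩
  have hσk : σL.ker = B.O.subgroupOf B.L := by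
    ext g
    rw [MonoidHom.mem_ker, Subgroup.mem_subgroupOf, MonoidHom.mem_ker, ← hσι]
    exact ⟨fun h => by rw [h, map_one], fun h => B.ι_inj (by rw [h, map_one])⟩
  obtain ⟨η₀, hη₀, hη₀r⟩ : ∃ η₀ : B.L → ℂ, IsIrrCharacter B.L η₀ ∧ ∀ n : B.O.subgroupOf B.L, η₀ n = θ' n := by
    by_cases h9 : Fintype.card F = 9
    swap
    · exact exists_ext_sl2 σL hσs hσk h5 B.card_ne_four h9 hθ' fun g n => congrFun (hinvL g) (eO n)
    haveI : (B.L.subgroupOf B.Lw).Normal := Subgroup.Normal.subgroupOf inferInstance _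
    haveI : (B.O.subgroupOf B.Lw).Normal := Subgroup.Normal.subgroupOf inferInstance _
    haveI : Fintype (B.O.subgroupOf B.Lw) := Fintype.ofFinite _
    set eL := Subgroup.subgroupOfEquivOfLe B.L_le_Lw
    set eW := Subgroup.subgroupOfEquivOfLe B.O_le_Lw
    obtain ⟨t, htw, ht⟩ := B.exists_diag
    obtain ⟨χ, hχ, hr⟩ := exists_ext_nine h9 (N := B.O.subgroupOf B.Lw) (H := B.L.subgroupOf B.Lw)
      (Subgroup.comap_mono B.O_le_L) (σL.comp eL.toMonoidHom) (hσs.comp eL.surjective) (by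
        ext g
        rw [MonoidHom.mem_ker, MonoidHom.comp_apply, ← MonoidHom.mem_ker, hσk]
        rfl) ⟨t, htw⟩ (B.neg_ν_ns h9) (fun x h hh => by
        refine B.ι_inj ?_
        rw [MonoidHom.comp_apply, hσι]
        refine Eq.trans ?_ (ht x ((h : B.Lw) : C) ?_)
        · rfl
        · rw [← hh, MonoidHom.comp_apply, hσι]
          rfl) (IsIrr.comp_mulEquiv eW θ.2) (fun g n => congrFun (hxθ g) (eW n))
    refine ⟨fun g => χ (eL.symm g), IsIrr.comp_mulEquiv eL.symm hχ, fun n => ?_⟩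
    exact hr ⟨⟨(n : B.L), B.L_le_Lw (n : B.L).2⟩, n.2⟩
  -- unique, hence invariant under `w`
  have huniq : ∀ η' : B.L → ℂ, IsIrrCharacter B.L η' → (∀ n : B.O.subgroupOf B.L, η' n = θ' n) → η' = η₀ := by
    intro η' hη' hr
    have h1 : (fun n : B.O.subgroupOf B.L => η₀ n) = θ' := funext hη₀r
    have h2 : (fun n : B.O.subgroupOf B.L => η' n) = θ' := funext hr
    obtain ⟨hLi, hmul⟩ := gallagher (N := B.O.subgroupOf B.L) hη₀ hη' (h1 ▸ hθ')
      (by rw [h1, h2, classInner_self_irr hθ']; exact one_ne_zero)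
    set Lc := Char.avgN (B.O.subgroupOf B.L) (η' * fun g => conj (η₀ g)) with hLc
    have e1 := congrFun hmul 1
    simp only [Pi.mul_apply] at e1
    have hL1 : Lc 1 = 1 := by
      refine mul_left_cancel₀ (IsIrr.one_ne_zero hη₀) ?_
      rw [e1, mul_one]
      exact ((hr 1).trans (hη₀r 1).symm)
    obtain ⟨l, hl⟩ := linearHom_of_isCharacter (IsIrr.isCharacter hLi) hL1
    have hlk : σL.ker ≤ l.ker := fun k hk => by
      rw [hσk] at hk
      rw [MonoidHom.mem_ker]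
      refine Units.ext ?_
      rw [← congrFun hl k, Units.val_one, ← hL1, ← mul_one k]
      exact avgN_mul_left _ _ ⟨k, hk⟩ 1
    have hl1 : l = 1 := by
      set l' : SL₂ →* ℂˣ := σL.liftOfSurjective hσs ⟨l, hlk⟩
      have hl' : ∀ g, l' (σL g) = l g := fun g =>
        MonoidHom.liftOfRightInverse_comp_apply σL _ _ ⟨l, hlk⟩ g
      have htop : commutator SL₂ ≤ l'.ker := Abelianization.commutator_subset_ker l'
      rw [commutator_sl2_eq_top h5] at htop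
      refine MonoidHom.ext fun g => ?_
      rw [← hl' g]
      exact htop (Subgroup.mem_top _)
    rw [← hmul, show Lc = fun g => (l g : ℂ) from hl, hl1]
    funext g
    simp
  haveI hLn : (B.L.subgroupOf B.Lw).Normal := Subgroup.Normal.subgroupOf inferInstance _
  haveI : Fintype (B.L.subgroupOf B.Lw) := Fintype.ofFinite _
  set eL := Subgroup.subgroupOfEquivOfLe B.L_le_Lw
  have hcyc : IsCyclic (B.Lw ⧸ B.L.subgroupOf B.Lw) := by
    refine ⟨⟨((⟨B.w, B.w_mem_Lw⟩ : B.Lw) : B.Lw ⧸ B.L.subgroupOf B.Lw), fun q => ?_⟩⟩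
    obtain ⟨x, rfl⟩ := QuotientGroup.mk_surjective q
    obtain ⟨k, hk⟩ := hdec x
    refine Subgroup.mem_zpowers_iff.2 ⟨k, ?_⟩
    rw [← QuotientGroup.mk_zpow, eq_comm, QuotientGroup.eq_iff_div_mem, div_eq_mul_inv]
    exact hk
  let η₁ : B.L.subgroupOf B.Lw → ℂ := fun x => η₀ (eL x)
  have hinvw : ∀ (x : B.Lw) (g : B.L.subgroupOf B.Lw),
      η₁ ⟨x * g * x⁻¹, hLn.conj_mem g g.2 x⟩ = η₁ g := by
    intro x g
    have h := huniq (fun y => η₀ (conjEquivN B.L (x : C) y)) (IsIrr.comp_mulEquiv (conjEquivN B.L (x : C)) hη₀)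
      fun n => by
        show _ = (θ : B.O → ℂ) (eO n)
        rw [← congrFun (hxθ x) (eO n)]
        show η₀ _ = _
        have e' : conjEquivN B.L (x : C) (n : B.L) =
            ((eO.symm ⟨(x : C) * (eO n : C) * (x : C)⁻¹, (inferInstance : B.O.Normal).conj_mem _ (eO n).2 _⟩ :
              B.O.subgroupOf B.L) : B.L) := by
          rw [conjEquivN_apply]
          rfl
        rw [e', hη₀r]
        rfl
    show η₀ (eL ⟨x * g * x⁻¹, _⟩) = η₀ (eL g)
    conv_rhs => rw [← h]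
    show η₀ _ = η₀ (conjEquivN B.L (x : C) (eL g))
    rw [conjEquivN_apply]
    rfl
  obtain ⟨η, hη, hηr⟩ := NearConst.exists_ext hcyc (IsIrr.comp_mulEquiv eL hη₀) hinvw
  exact ⟨η, hη, fun o => (hηr ⟨⟨o, B.O_le_Lw o.2⟩, B.O_le_L o.2⟩).trans (hη₀r ⟨⟨o, B.O_le_L o.2⟩, o.2⟩)⟩

end UData

end Cfsg.Agent.Invol.AbgOrder
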