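import Cfsg.Agent.Lib.Invol.AbgOrder.BudgetUExt
import Cfsg.Agent.Lib.Invol.AbgOrder.BudgetESpec

/-!
# A character fixed by `SL(2, q)`: the coefficient is at most `2 / (q - 1)` of the multiplicity

It extends to the preimage of `SL(2, q)` with `w`; the twisted average of the half is a character of the quotient
with sum zero over the outer elements fixing infinity.
-/

set_option autoImplicit false
set_option linter.unusedSectionVars false
set_option linter.style.haveILetI false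

namespace Cfsg.Agent.Invol.AbgOrder

open Cfsg Cfsg.Agent.Char Cfsg.Agent.Char.CycGlaub Matrix
open scoped ComplexConjugate

universe u v t

namespace UData

variable {C : Type u} [Group C] [Fintype C] {X : Type v} [Group X] {F : Type t} [Field F] [Fintype F]
  (B : UData C X F)

local notation "SL₂" => Matrix.SpecialLinearGroup (Fin 2) F
local notation "M₂" => Matrix (Fin 2) (Fin 2) F

include B in
theorem card_odd : Odd (Fintype.card F) := by
  rw [Nat.odd_iff]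
  refine FiniteField.odd_card_of_char_ne_two fun h => B.char2 ?_
  haveI := ringChar.of_eq h
  exact_mod_cast CharP.cast_eq_zero F 2

/-- An outer element fixing infinity has a root of `z` among its powers. -/
theorem outer_root {s : SL₂} (hs : ((s : M₂) * (B.gw : M₂)) 1 0 = 0) {g : C} (hg : B.σ g = B.ι s * B.σ B.w) :
    ∃ k : ℕ, B.σ g ^ (2 * k) = B.σ B.z := by
  classical
  set q := Fintype.card F
  set T : M₂ := (s : M₂) * (B.gw : M₂) with hT
  have hν : B.ν ≠ 0 := B.ellY.ν_ne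
  have hdet : T 0 0 * T 1 1 = -B.ν := by
    have : T.det = -B.ν := by rw [hT, det_mul, Matrix.SpecialLinearGroup.det_coe, one_mul, B.gw_mem.2]
    rw [det_fin_two, hs, mul_zero, sub_zero] at this
    exact this
  set r := B.ν⁻¹ * (T 0 0 * T 0 0) with hr
  have ha : T 0 0 ≠ 0 := fun h => neg_ne_zero.2 hν (by rw [← hdet, h, zero_mul])
  have hr0 : r ≠ 0 := mul_ne_zero (inv_ne_zero hν) (mul_self_ne_zero.2 ha)
  have hns : ¬ IsSquare r := by
    rintro ⟨c, hc⟩
    refine B.ν_ns ⟨T 0 0 / c, ?_⟩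
    have hc0 : c ≠ 0 := fun h => hr0 (by rw [hc, h, zero_mul])
    rw [hr] at hc
    field_simp at hc ⊢
    linear_combination -hc
  set v : SL₂ := s * inn B.gw s
  have hv : (v : M₂) = B.ν⁻¹ • (T * T) := B.ellY.mul_inn s s
  have h10 : ∀ n : ℕ, ((v ^ n : SL₂) : M₂) 1 0 = 0 ∧ ((v ^ n : SL₂) : M₂) 0 0 = r ^ n := by
    intro n
    induction n with
    | zero => simp
    | succ n ih =>
      rw [pow_succ, Matrix.SpecialLinearGroup.coe_mul, hv]
      constructor <;> simp only [Matrix.mul_apply, Fin.sum_univ_two, Matrix.smul_apply, smul_eq_mul, hs, ih.1]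
      · ring
      · rw [ih.2, pow_succ, hr]; ring
  have hrq : r ^ (q / 2) = -1 := by
    have hch : ringChar F ≠ 2 := fun h => B.char2 (by
      haveI := ringChar.of_eq h
      exact_mod_cast CharP.cast_eq_zero F 2)
    exact (FiniteField.pow_dichotomy hch hr0).resolve_left fun h => hns ((FiniteField.isSquare_iff hch hr0).2 h)
  set u : SL₂ := v ^ (q / 2)
  have h00 : (u : M₂) 0 0 = -1 := by rw [(h10 _).2, hrq]
  have h10' : (u : M₂) 1 0 = 0 := (h10 _).1
  have h11 : (u : M₂) 1 1 = -1 := by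
    have hd : (u : M₂).det = 1 := u.2
    rw [det_fin_two, h00, h10', mul_zero, sub_zero] at hd
    linear_combination -hd
  have hu : u = -Grp.SL2.up (-(u : M₂) 0 1) := by
    refine Subtype.ext (Matrix.ext fun i j => ?_)
    rw [show ((-Grp.SL2.up (-(u : M₂) 0 1) : SL₂) : M₂) = -!![1, -(u : M₂) 0 1; 0, 1] from rfl]
    fin_cases i <;> fin_cases j <;> simp [h00, h10', h11]
  refine ⟨q / 2 * q, ?_⟩
  have hsq : B.σ g ^ 2 = B.ι v := by
    rw [pow_two, hg]
    exact congrArg Subtype.val (B.ellY.ι_mul_w s s)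
  rw [pow_mul, hsq, ← map_pow, pow_mul, ← B.gz]
  refine congrArg B.ι ?_
  show u ^ q = -1
  rw [hu, (B.card_odd).neg_pow, Grp.SL2.up_pow, Nat.cast_card_eq_zero, zero_mul, Grp.SL2.up_zero]

variable [Fintype B.O] [Fintype B.R] [Fintype B.Gw]

/-- The twisted average at `w` of a character extending a fixed one. -/
theorem coset_value (W : B.WExp) {θ : IrrCharacter B.O}
    (hfix : Char.conjN B.O B.w (θ : B.O → ℂ) = (θ : B.O → ℂ)) (ψ : B.Gw → ℂ) (hψc : IsCharacter B.Gw ψ)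
    (hres : ∀ o : B.O, ψ ⟨o, B.O_le_Gw o.2⟩ = (θ : B.O → ℂ) o) :
    ∃ ε : ℤ, (ε = 1 ∨ ε = -1) ∧ (Nat.card B.O : ℂ)⁻¹ * ∑ o : B.O, B.χp ((o : C) * B.w) *
      conj (ψ (⟨o, B.O_le_Gw o.2⟩ * ⟨B.w, B.w_mem_Gw⟩)) = ((ε * W.a θ : ℤ) : ℂ) := by
  classical
  haveI : (B.O.subgroupOf B.Gw).Normal := Subgroup.Normal.subgroupOf inferInstance _
  haveI : Fintype (B.O.subgroupOf B.Gw) := Fintype.ofFinite _
  haveI : Fintype (B.R.subgroupOf B.Gw) := Fintype.ofFinite _
  have hψi : IsIrrCharacter B.Gw ψ := by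
    obtain ⟨φ, hφ⟩ := IsChar.exists_constituent' hψc
      (show ψ 1 ≠ 0 from by
        rw [show (1 : B.Gw) = ⟨((1 : B.O) : C), B.O_le_Gw (1 : B.O).2⟩ from rfl, hres]
        exact IsIrr.one_ne_zero θ.2)
    have hψO : (fun g : B.O.subgroupOf B.Gw => ψ g) =
        fun g => (θ : B.O → ℂ) (Subgroup.subgroupOfEquivOfLe B.O_le_Gw g) :=
      funext fun g => hres (Subgroup.subgroupOfEquivOfLe B.O_le_Gw g)
    have hθi : IsIrrCharacter (B.O.subgroupOf B.Gw) (fun g : B.O.subgroupOf B.Gw => ψ g) :=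
      hψO ▸ IsIrr.comp_mulEquiv (Subgroup.subgroupOfEquivOfLe B.O_le_Gw) θ.2
    obtain ⟨γ, hγ⟩ := IsChar.exists_constituent' (IsChar.res (IsIrr.isCharacter φ.2) (B.O.subgroupOf B.Gw))
      (show (φ : B.Gw → ℂ) ((1 : B.O.subgroupOf B.Gw) : B.Gw) ≠ 0 from IsIrr.one_ne_zero φ.2)
    have hγψ := NearConst.constituent_res hψc hφ γ.2 hγ
    obtain ⟨d, hd⟩ := IsChar.one_eq_nat hψc
    obtain ⟨d', hd'⟩ := IsChar.one_eq_nat (IsIrr.isCharacter φ.2)
    have hψγ := eq_of_constituent_irr hθi γ.2 hγψ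
    have h1 : d' ≤ d := degree_le_of_constituent hψc φ.2 hφ hd hd'
    have h2 : d ≤ d' := degree_le_of_constituent (IsChar.res (IsIrr.isCharacter φ.2) (B.O.subgroupOf B.Gw))
      γ.2 hγ hd' (by rw [← hψγ]; exact hd)
    rw [eq_of_constituent_degree hψc φ.2 hφ (by rw [hd, hd', le_antisymm h2 h1])]
    exact φ.2
  obtain ⟨ε, hε, hv⟩ := W.ext θ ψ hψi fun o => hres o
  refine ⟨ε, hε, ?_⟩
  have hFc : IsClassFunction B.Gw (fun g : B.Gw => B.χp g * conj (ψ g)) := fun a b => by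
    show B.χp ((b * a * b⁻¹ : B.Gw) : C) * conj (ψ (b * a * b⁻¹)) = _
    rw [IsIrr.classFun hψi a b, Subgroup.coe_mul, Subgroup.coe_mul, Subgroup.coe_inv,
      IsChar.classFun B.isChar_χp (a : C) (b : C)]
  have hsum := B.setup_w.sum_coset hFc
  have hGeq : ∑ g : B.O.subgroupOf B.Gw,
      B.χp (((g : B.Gw) * ⟨B.w, B.w_mem_Gw⟩ : B.Gw) : C) * conj (ψ ((g : B.Gw) * ⟨B.w, B.w_mem_Gw⟩)) =
      ∑ o : B.O, B.χp ((o : C) * B.w) * conj (ψ (⟨o, B.O_le_Gw o.2⟩ * ⟨B.w, B.w_mem_Gw⟩)) := by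
    exact Fintype.sum_equiv (Subgroup.subgroupOfEquivOfLe B.O_le_Gw).toEquiv _ _ fun g => rfl
  have hCeq : ∑ c : B.R.subgroupOf B.Gw,
      B.χp (((c : B.Gw) * ⟨B.w, B.w_mem_Gw⟩ : B.Gw) : C) * conj (ψ ((c : B.Gw) * ⟨B.w, B.w_mem_Gw⟩)) =
      (Nat.card B.R : ℂ) * ((ε : ℂ) * (W.a θ : ℂ)) := by
    rw [← W.coef θ hfix, classInner, ← mul_assoc (ε : ℂ), ← mul_assoc, mul_left_comm _ (ε : ℂ),
      mul_inv_cancel₀ (Nat.cast_ne_zero.2 Nat.card_pos.ne'), mul_one, Finset.mul_sum]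
    refine Fintype.sum_equiv
      (Subgroup.subgroupOfEquivOfLe (show B.R ≤ B.Gw from fun y hy => B.O_le_Gw hy.1)).toEquiv _ _ fun c => ?_
    set y : B.R := Subgroup.subgroupOfEquivOfLe (show B.R ≤ B.Gw from fun y hy => B.O_le_Gw hy.1) c with hy
    show B.χp ((y : C) * B.w) * conj (ψ ⟨(y : C) * B.w, _⟩) = (ε : ℂ) * (B.χp (B.w * y) * conj (W.β θ y))
    rw [hv y, map_mul, B.w_comm y, map_intCast]
    ring
  rw [hGeq, hCeq, Nat.card_congr (Subgroup.subgroupOfEquivOfLe B.O_le_Gw).toEquiv,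
    Nat.card_congr (Subgroup.subgroupOfEquivOfLe (show B.R ≤ B.Gw from fun y hy => B.O_le_Gw hy.1)).toEquiv]
    at hsum
  rw [inv_mul_eq_iff_eq_mul₀ (Nat.cast_ne_zero.2 (Nat.card_pos (α := B.O)).ne')]
  refine mul_left_cancel₀ (Nat.cast_ne_zero.2 (Nat.card_pos (α := B.R)).ne' : (Nat.card B.R : ℂ) ≠ 0) ?_
  push_cast
  linear_combination hsum

/-- An extension of a non-trivial character sums to zero on the cosets. -/
theorem sum_ext_zero {H : Subgroup C} [Fintype H] (hOH : B.O ≤ H) {θ : IrrCharacter B.O}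
    (hne : (θ : B.O → ℂ) ≠ fun _ => 1) {η : H → ℂ} (hη : IsIrrCharacter H η)
    (hres : ∀ o : B.O, η ⟨o, hOH o.2⟩ = (θ : B.O → ℂ) o) (g : H) : ∑ o : B.O, η (⟨o, hOH o.2⟩ * g) = 0 := by
  classical
  haveI : (B.O.subgroupOf H).Normal := Subgroup.Normal.subgroupOf inferInstance _
  haveI : Fintype (B.O.subgroupOf H) := Fintype.ofFinite _
  have havg : Char.avgN (B.O.subgroupOf H) η g = (Nat.card B.O : ℂ)⁻¹ * ∑ o : B.O, η (⟨o, hOH o.2⟩ * g) := by
    show (Nat.card (B.O.subgroupOf H) : ℂ)⁻¹ * _ = _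
    rw [Nat.card_congr (Subgroup.subgroupOfEquivOfLe hOH).toEquiv]
    congr 1
    exact Fintype.sum_equiv (Subgroup.subgroupOfEquivOfLe hOH).toEquiv _ _ fun o => rfl
  rcases avgN_irr (B.O.subgroupOf H) hη with ⟨-, e⟩ | ⟨hk, -⟩
  · rw [e, Pi.zero_apply, eq_comm, mul_eq_zero] at havg
    exact havg.resolve_left (inv_ne_zero (Nat.cast_ne_zero.2 Nat.card_pos.ne'))
  · exfalso
    apply hne
    have hval : ∀ o : B.O, (θ : B.O → ℂ) o = η 1 := fun o => by
      rw [← hres]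
      exact hk ⟨⟨o, hOH o.2⟩, o.2⟩
    have hn := classInner_self_irr θ.2
    rw [classInner] at hn
    simp only [hval, Finset.sum_const, Finset.card_univ, nsmul_eq_mul, ← Nat.card_eq_fintype_card] at hn
    rw [inv_mul_cancel_left₀ (Nat.cast_ne_zero.2 Nat.card_pos.ne' : (Nat.card B.O : ℂ) ≠ 0)] at hn
    obtain ⟨d, hd, hd1⟩ := IsIrr.one_eq_pos hη
    rw [hd1, map_natCast] at hn
    have : d = 1 := Nat.eq_one_of_mul_eq_one_left (show d * d = 1 by exact_mod_cast hn)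
    funext o
    rw [hval, hd1, this, Nat.cast_one]

open _root_.Classical in
theorem core_bound (W : B.WExp) {θ : IrrCharacter B.O}
    (hfix : Char.conjN B.O B.w (θ : B.O → ℂ) = (θ : B.O → ℂ)) (η : B.Lw → ℂ)
    (hη : IsIrrCharacter B.Lw η) (hres : ∀ o : B.O, η ⟨o, B.O_le_Lw o.2⟩ = (θ : B.O → ℂ) o)
    (hout : ∀ g : SL₂ → B.Lw, (∀ s, B.σ (g s : C) = B.ι s * B.σ B.w) →
      ∑ s ∈ Finset.univ.filter (fun s : SL₂ => ((s : M₂) * (B.gw : M₂)) 1 0 = 0),
        ∑ o : B.O, B.χp ((o : C) * g s) * conj (η (⟨o, B.O_le_Lw o.2⟩ * g s)) = 0) :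
    ((Fintype.card F : ℤ) - 1) * |W.a θ| ≤ 2 * B.n θ := by
  classical
  haveI : Fintype B.Lw := Fintype.ofFinite _
  haveI : (B.O.subgroupOf B.Lw).Normal := Subgroup.Normal.subgroupOf inferInstance _
  haveI : Fintype (B.O.subgroupOf B.Lw) := Fintype.ofFinite _
  set eO := Subgroup.subgroupOfEquivOfLe B.O_le_Lw with heO
  -- the twisted average
  let τ : B.Lw → ℂ := Char.avgN (B.O.subgroupOf B.Lw) ((fun g : B.Lw => B.χp g) * fun g => conj (η g))
  have hτc : IsCharacter B.Lw τ :=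
    IsChar.avgN _ (IsChar.mul (IsChar.res B.isChar_χp B.Lw) (IsChar.conj (IsIrr.isCharacter hη)))
  have hτe : ∀ g : B.Lw, τ g = (Nat.card B.O : ℂ)⁻¹ *
      ∑ o : B.O, B.χp ((o : C) * g) * conj (η (⟨o, B.O_le_Lw o.2⟩ * g)) := by
    intro g
    show (Nat.card (B.O.subgroupOf B.Lw) : ℂ)⁻¹ * _ = _
    rw [Nat.card_congr eO.toEquiv]
    congr 1
    exact Fintype.sum_equiv eO.toEquiv _ _ fun o => rfl
  haveI : Finite X := Finite.of_surjective _ B.surj
  let π : B.Lw →* B.Yw := (B.σ.comp B.Lw.subtype).codRestrict B.Yw fun g => g.2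
  have hπ : Function.Surjective π := fun y => by
    obtain ⟨c, hc⟩ := B.surj (y : X)
    exact ⟨⟨c, show B.σ c ∈ B.Yw from hc ▸ y.2⟩, Subtype.ext hc⟩
  obtain ⟨T, hT, hT'⟩ : ∃ T : B.Yw → ℂ, IsCharacter B.Yw T ∧ ∀ g, T (π g) = τ g :=
    IsChar.exists_factor hτc π hπ fun k hk => by
      have hk' : k ∈ B.O.subgroupOf B.Lw := congrArg Subtype.val (MonoidHom.mem_ker.1 hk)
      conv_lhs => rw [show k = ((⟨k, hk'⟩ : B.O.subgroupOf B.Lw) : B.Lw) * 1 from (mul_one k).symm]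
      exact avgN_mul_left _ _ _ _
  -- the average over the outer elements
  have hlift : ∀ s : SL₂, ∃ g : B.Lw, B.σ (g : C) = B.ι s * B.σ B.w := fun s => by
    obtain ⟨g, hg⟩ := hπ (B.ellY.ι s * B.ellY.w)
    exact ⟨g, congrArg Subtype.val hg⟩
  choose g hg using hlift
  haveI : Fintype B.Yw := Fintype.ofFinite _
  have h0 : B.ellY.outAvg T = 0 := by
    rw [EllY.outAvg]
    refine mul_eq_zero_of_right _ ?_
    have h1 : ∀ s, T (B.ellY.ι s * B.ellY.w) = τ (g s) := fun s => by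
      rw [← hT']
      exact congrArg T (Subtype.ext (hg s).symm)
    simp only [h1, hτe, ← Finset.mul_sum]
    exact mul_eq_zero_of_right _ (hout g hg)
  -- the dimension
  have hdim : T 1 = (B.n θ : ℂ) := by
    rw [← map_one π, hT', hτe, ← B.n_spec, classInner]
    congr 1
    refine Finset.sum_congr rfl fun o _ => ?_
    rw [mul_one, Subgroup.coe_one, mul_one, hres]
  -- the value at `w`
  obtain ⟨ε, hε, hval⟩ : ∃ ε : ℤ, (ε = 1 ∨ ε = -1) ∧ τ ⟨B.w, B.w_mem_Lw⟩ = ((ε * W.a θ : ℤ) : ℂ) := by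
    obtain ⟨ε, hε, hv⟩ := B.coset_value W hfix (fun g : B.Gw => η ⟨g, B.Gw_le_Lw g.2⟩)
      (IsChar.comp (Subgroup.inclusion B.Gw_le_Lw) (IsIrr.isCharacter hη)) hres
    refine ⟨ε, hε, ?_⟩
    rw [hτe, ← hv]
    rfl
  have h := B.ellY.bound hT
  rw [h0, sub_zero, show B.ellY.w = π ⟨B.w, B.w_mem_Lw⟩ from rfl, hT', hval, hdim, Complex.norm_intCast,
    Complex.natCast_re] at h
  have hε' : |ε| = 1 := by rcases hε with rfl | rfl <;> simp
  have h' : ((|ε * W.a θ| * ((Fintype.card F : ℤ) - 1) : ℤ) : ℝ) ≤ ((2 * B.n θ : ℤ) : ℝ) := by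
    push_cast at h ⊢
    exact h
  have h'' := Int.cast_le.1 h'
  rw [abs_mul, hε', one_mul] at h''
  linarith

/-- The bound at a fixed character. -/
theorem lfix_bound (W : B.WExp) {θ : IrrCharacter B.O}
    (hfix : Char.conjN B.O B.w (θ : B.O → ℂ) = (θ : B.O → ℂ)) (hL : B.Lfix (θ : B.O → ℂ))
    (h5 : 5 ≤ Fintype.card F) : ((Fintype.card F : ℤ) - 1) * |W.a θ| ≤ 2 * B.n θ := by
  classical
  haveI : Fintype B.Lw := Fintype.ofFinite _
  haveI : (B.O.subgroupOf B.Lw).Normal := Subgroup.Normal.subgroupOf inferInstance _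
  haveI : Fintype (B.O.subgroupOf B.Lw) := Fintype.ofFinite _
  by_cases h1 : (θ : B.O → ℂ) = fun _ => 1
  · refine B.core_bound W hfix (fun _ => 1) (isIrr_one (G := B.Lw)) (fun o => by rw [h1]) fun g hg => ?_
    rw [Finset.sum_comm]
    refine Finset.sum_eq_zero fun o _ => ?_
    simp only [map_one, mul_one, χp, ← Finset.sum_div, Finset.sum_add_distrib]
    have hσo : B.σ (o : C) = 1 := MonoidHom.mem_ker.1 o.2
    rw [B.borel (fun s => (o : C) * g s) fun s => by rw [map_mul, hσo, one_mul, hg]]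
    have hz := B.borel (fun s => B.z * ((o : C) * g (-s))) fun s => by
      rw [map_mul, map_mul, hσo, one_mul, hg, ← B.gz, ← mul_assoc, ← map_mul, neg_one_mul, neg_neg]
    have he : ∑ s ∈ Finset.univ.filter (fun s : SL₂ => ((s : M₂) * (B.gw : M₂)) 1 0 = 0),
        B.χ (B.z * ((o : C) * g s)) = 0 := by
      rw [← hz]
      refine Finset.sum_nbij' (fun s => -s) (fun s => -s) ?_ ?_ (fun s _ => neg_neg s) (fun s _ => neg_neg s)
        fun s _ => by rw [neg_neg]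
      all_goals
        intro s hs
        refine Finset.mem_filter.2 ⟨Finset.mem_univ _, ?_⟩
        have := (Finset.mem_filter.1 hs).2
        simp [this]
    rw [he, add_zero, zero_div]
  · obtain ⟨η, hη, hres⟩ := B.exists_eta hfix hL h5
    refine B.core_bound W hfix η hη hres fun g hg => Finset.sum_eq_zero fun s hs => ?_
    have hr := B.outer_root (Finset.mem_filter.1 hs).2 (hg s)
    simp only [fun o : B.O => B.χp_root hr o.2, ← Finset.mul_sum, ← map_sum]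
    rw [B.sum_ext_zero B.O_le_Lw h1 hη hres (g s), map_zero, mul_zero]

end UData

end Cfsg.Agent.Invol.AbgOrder
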