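import Cfsg.Agent.Lib.Invol.AbgOrder.BudgetUCases
import Cfsg.Agent.Lib.Invol.AbgOrder.BudgetUFixed
import Cfsg.Agent.Lib.Char.ExtendMain

/-!
# A moved character: the coefficients over its members add up to less than `2 q` times the multiplicity

Two anticommuting members generate a dihedral group of order eight modulo the kernel; the twisted average of the half
vanishes on its elements of order four, so the two coefficients together are at most the multiplicity.
-/

set_option autoImplicit false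
set_option linter.unusedSectionVars false
set_option linter.style.haveILetI false

namespace Cfsg.Agent.Invol.AbgOrder

open Cfsg Cfsg.Agent.Char Matrix
open scoped ComplexConjugate

universe u v t

/-- An invariant character of a normal subgroup of index prime to its order extends. -/
theorem exists_ext_coprime {G : Type u} [Group G] [Finite G] {N : Subgroup G} [hN : N.Normal]
    (hcop : Nat.Coprime N.index (Nat.card N)) {θ : N → ℂ} (hθ : IsIrrCharacter N θ)
    (hinv : ∀ (g : G) (n : N), θ ⟨g * n * g⁻¹, hN.conj_mem (n : G) n.2 g⟩ = θ n) :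
    ∃ χ : G → ℂ, IsIrrCharacter G χ ∧ ∀ m : N, χ m = θ m := by
  classical
  obtain ⟨k, ρ, hρ, rfl, hk, -⟩ := IsIrr.exists_rep hθ
  haveI := hρ
  obtain ⟨δ, hδ⟩ := isCharacter_detChar (isIrrCharacter_character ρ)
  have ho : orderOf (detChar ρ.character) ∣ Nat.card N := by
    refine orderOf_dvd_of_pow_eq_one (funext fun x => ?_)
    rw [hδ, Pi.pow_apply, ← Units.val_pow_eq_pow_val, ← map_pow, pow_card_eq_one', map_one]
    simp
  have hd : k ∣ Nat.card N := by
    have h := @Cfsg.Agent.S0179.result N _ _ (Fin k → ℂ) _ _ _ ρ hρ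
    rw [Module.finrank_fin_fun] at h
    exact h.trans ((Subgroup.center N).index_dvd_card)
  exact Ext.exists_extension_of_witness (isIrrCharacter_character ρ) hinv hk fun p hp =>
    Ext.witness_of_coprime (isIrrCharacter_character ρ)
      ((hcop.coprime_dvd_right ho).mul_right (hcop.coprime_dvd_right hd)) hp

/-- Two involutions with product of order four and trace zero there. -/
theorem pair_trace {Y V : Type*} [Group Y] [AddCommGroup V] [Module ℂ V] [FiniteDimensional ℂ V]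
    (ρ : Representation ℂ Y V) {a b z : Y} (ha : a * a = 1) (hb : b * b = 1) (hz : a * b * (a * b) = z)
    (hz2 : z * z = 1) (hza : z * a = a * z) (hzb : z * b = b * z)
    (hu : LinearMap.trace ℂ V (ρ (a * b)) = 0) (hzu : LinearMap.trace ℂ V (ρ (z * (a * b))) = 0)
    {n : ℕ} (hn : LinearMap.trace ℂ V (1 : V →ₗ[ℂ] V) = n) {x y : ℤ} (hx : LinearMap.trace ℂ V (ρ a) = x)
    (hy : LinearMap.trace ℂ V (ρ b) = y) : |x| + |y| ≤ n := by
  have hab : a * b = z * (b * a) := by
    rw [← hz]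
    calc a * b = a * b * (a * (b * b) * a) := by rw [hb, mul_one, ha, mul_one]
      _ = _ := by simp only [mul_assoc]
  have hbab : b * a * b = z * a := by
    calc b * a * b = (a * a) * (b * a * b) := by rw [ha, one_mul]
      _ = a * (a * b * (a * b)) := by simp only [mul_assoc]
      _ = z * a := by rw [hz, hza]
  have haba : a * b * a = z * b := by
    rw [hab]
    calc z * (b * a) * a = z * b * (a * a) := by simp only [mul_assoc]
      _ = _ := by rw [ha, mul_one]
  have hza' : LinearMap.trace ℂ V (ρ (z * a)) = x := by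
    rw [← hbab, map_mul, LinearMap.trace_mul_comm, ← map_mul, ← mul_assoc, hb, one_mul]
    exact hx
  have hzb' : LinearMap.trace ℂ V (ρ (z * b)) = y := by
    rw [← haba, map_mul, LinearMap.trace_mul_comm, ← map_mul, ← mul_assoc, ha, one_mul]
    exact hy
  set A := ρ a
  set B := ρ b
  set Z := ρ z
  set P : V →ₗ[ℂ] V := (2⁻¹ : ℂ) • (1 + Z) with hP
  have hAA : A * A = 1 := by rw [← map_mul, ha, map_one]
  have hBB : B * B = 1 := by rw [← map_mul, hb, map_one]
  have hZZ : Z * Z = 1 := by rw [← map_mul, hz2, map_one]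
  have hZA : Z * A = A * Z := by rw [← map_mul, ← map_mul, hza]
  have hZB : Z * B = B * Z := by rw [← map_mul, ← map_mul, hzb]
  have hAB : A * B = Z * (B * A) := by rw [← map_mul, hab, map_mul, map_mul]
  have hPP : P * P = P := by
    rw [hP, smul_mul_assoc, mul_smul_comm, smul_smul, add_mul, mul_add, one_mul, mul_add, mul_one, hZZ]
    module
  have hPA : P * A = A * P := by rw [hP, smul_mul_assoc, mul_smul_comm, add_mul, mul_add, one_mul, mul_one, hZA]
  have hPB : P * B = B * P := by rw [hP, smul_mul_assoc, mul_smul_comm, add_mul, mul_add, one_mul, mul_one, hZB]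
  have hPZ : P * Z = P := by
    rw [hP, smul_mul_assoc, add_mul, one_mul, hZZ, add_comm]
  have hcomm : P * (A * B) = P * (B * A) := by rw [hAB, ← mul_assoc, hPZ]
  -- the four projections
  have key : ∀ ε δ : ℂ, ε * ε = 1 → δ * δ = 1 →
      (P * ((2⁻¹ : ℂ) • (1 + ε • A)) * ((2⁻¹ : ℂ) • (1 + δ • B))) *
        (P * ((2⁻¹ : ℂ) • (1 + ε • A)) * ((2⁻¹ : ℂ) • (1 + δ • B))) =
      P * ((2⁻¹ : ℂ) • (1 + ε • A)) * ((2⁻¹ : ℂ) • (1 + δ • B)) := by
    intro ε δ hε hδ
    set E := (2⁻¹ : ℂ) • (1 + ε • A) with hE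
    set D := (2⁻¹ : ℂ) • (1 + δ • B) with hD
    have hEE : E * E = E := by
      simp only [hE, smul_mul_assoc, mul_smul_comm, smul_smul, add_mul, mul_add, one_mul, mul_one, hAA, smul_add]
      match_scalars <;> first | linear_combination (1 / 4 : ℂ) * hε | ring
    have hDD : D * D = D := by
      simp only [hD, smul_mul_assoc, mul_smul_comm, smul_smul, add_mul, mul_add, one_mul, mul_one, hBB, smul_add]
      match_scalars <;> first | linear_combination (1 / 4 : ℂ) * hδ | ring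
    have hPE : E * P = P * E := by
      simp only [hE, smul_mul_assoc, mul_smul_comm, add_mul, mul_add, one_mul, mul_one, hPA]
    have hPD : D * P = P * D := by
      simp only [hD, smul_mul_assoc, mul_smul_comm, add_mul, mul_add, one_mul, mul_one, hPB]
    have hDE : P * (D * E) = P * (E * D) := by
      simp only [hE, hD, smul_mul_assoc, mul_smul_comm, smul_smul, add_mul, mul_add, one_mul, mul_one, smul_add,
        hcomm]
      module
    calc P * E * D * (P * E * D) = P * E * (D * P) * E * D := by simp only [mul_assoc]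
      _ = P * E * (P * D) * E * D := by rw [hPD]
      _ = P * (E * P) * D * E * D := by simp only [mul_assoc]
      _ = P * P * E * D * E * D := by rw [hPE]; simp only [mul_assoc]
      _ = P * E * (D * E) * D := by rw [hPP]; simp only [mul_assoc]
      _ = E * (P * (D * E)) * D := by rw [← hPE]; simp only [mul_assoc]
      _ = E * (P * (E * D)) * D := by rw [hDE]
      _ = (E * P) * E * (D * D) := by simp only [mul_assoc]
      _ = P * (E * E) * D := by rw [hPE, hDD]; simp only [mul_assoc]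
      _ = _ := by rw [hEE]
  have hval : ∀ ε δ : ℂ, LinearMap.trace ℂ V (P * ((2⁻¹ : ℂ) • (1 + ε • A)) * ((2⁻¹ : ℂ) • (1 + δ • B))) =
      (2⁻¹ * ((n : ℂ) + LinearMap.trace ℂ V Z) + ε * x + δ * y) / 4 := by
    intro ε δ
    simp only [hP, smul_mul_assoc, mul_smul_comm, smul_smul, add_mul, mul_add, one_mul, mul_one, smul_add,
      map_add, map_smul, smul_eq_mul, hn]
    rw [hx, hy, show Z * A = ρ (z * a) from (map_mul _ _ _).symm, show Z * B = ρ (z * b) from (map_mul _ _ _).symm,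
      show A * B = ρ (a * b) from (map_mul _ _ _).symm,
      show ρ (z * a) * B = ρ (z * (a * b)) by rw [← map_mul, mul_assoc], hza', hzb', hu, hzu]
    ring
  obtain ⟨p, hp, -⟩ := exists_trace_of_idem hPP
  have hPn : LinearMap.trace ℂ V P = 2⁻¹ * ((n : ℂ) + LinearMap.trace ℂ V Z) := by
    rw [hP, map_smul, map_add, hn, smul_eq_mul]
  obtain ⟨p', hp', -⟩ := exists_trace_of_idem (show (1 - P) * (1 - P) = 1 - P by
    rw [sub_mul, mul_sub, one_mul, mul_sub, mul_one, hPP]; abel)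
  rw [map_sub, hn, hp] at hp'
  have hpn : (p : ℤ) ≤ n := by
    have : ((p + p' : ℕ) : ℂ) = (n : ℂ) := by push_cast; linear_combination -hp'
    have := Nat.cast_injective this
    omega
  have hge : ∀ ε δ : ℤ, ε * ε = 1 → δ * δ = 1 → 0 ≤ (p : ℤ) + ε * x + δ * y := by
    intro ε δ hε hδ
    obtain ⟨m, hm, -⟩ := exists_trace_of_idem (key (ε : ℂ) (δ : ℂ) (by exact_mod_cast hε) (by exact_mod_cast hδ))
    rw [hval, ← hPn, hp] at hm
    have : (((p : ℤ) + ε * x + δ * y : ℤ) : ℂ) = ((4 * m : ℤ) : ℂ) := by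
      push_cast
      linear_combination 4 * hm
    rw [Int.cast_inj] at this
    omega
  have h1 := hge 1 1 rfl rfl
  have h2 := hge 1 (-1) rfl rfl
  have h3 := hge (-1) 1 rfl rfl
  have h4 := hge (-1) (-1) rfl rfl
  rcases abs_choice x with e | e <;> rcases abs_choice y with e' | e' <;> rw [e, e'] <;> linarith

namespace UData

variable {C : Type u} [Group C] [Fintype C] {X : Type v} [Group X] {F : Type t} [Field F] [Fintype F]
  (B : UData C X F)

local notation "SL₂" => Matrix.SpecialLinearGroup (Fin 2) F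
local notation "M₂" => Matrix (Fin 2) (Fin 2) F

theorem jX_mul (A A' : Ell B.ν) (s : Matrix.SpecialLinearGroup (Fin 2) F)
    (h : (s : Matrix (Fin 2) (Fin 2) F) = B.ν⁻¹ • ((A : Matrix (Fin 2) (Fin 2) F) * (A' : Matrix (Fin 2) (Fin 2) F))) :
    B.jX A * B.jX A' = B.ι s :=
  congrArg Subtype.val (B.ellY.jOf_mul A A' s h)

theorem jX_sq (A : Ell B.ν) : B.jX A * B.jX A = 1 := by
  rw [B.jX_mul A A 1 (by
    rw [Ell.mul_self A.2, smul_smul, inv_mul_cancel₀ (show B.ν ≠ 0 from B.ellY.ν_ne), one_smul]; rfl), map_one]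

/-- The members over a stabiliser are closed. -/
theorem kj_closed {θ : B.O → ℂ} (hθ : IsClassFunction B.O θ) : EllClosed (B.K0 θ) (B.Kj θ) where
  neg := B.neg_one_mem_K0 hθ
  rel A hA A' hA' := B.Kj_rel hA hA'
  mem A hA A' s hs h := by
    have e : (s : M₂) = B.ν⁻¹ • ((A : M₂) * (A' : M₂)) := by
      rw [h, ← Matrix.mul_assoc, Ell.mul_self A.2, Matrix.smul_mul, Matrix.one_mul, smul_smul,
        inv_mul_cancel₀ (show B.ν ≠ 0 from B.ellY.ν_ne), one_smul]
    show B.jX A' ∈ (inertia B.O θ).map B.σ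
    rw [show B.jX A' = B.jX A * B.ι s by rw [← B.jX_mul A A' s e, ← mul_assoc, B.jX_sq, one_mul]]
    exact Subgroup.mul_mem _ hA hs
  normal A hA s hs := by
    have hν : B.ν ≠ 0 := B.ellY.ν_ne
    set t := B.ellY.toS A * inn B.gw (s * B.ellY.toS A)
    have ht : B.jX A * B.ι s * B.jX A = B.ι t :=
      calc B.jX A * B.ι s * B.jX A
          = B.ι (B.ellY.toS A) * (B.σ B.w * B.ι (s * B.ellY.toS A)) * B.σ B.w := by
            rw [map_mul]; simp only [jX, mul_assoc]
        _ = B.ι (B.ellY.toS A) * B.ι (inn B.gw (s * B.ellY.toS A)) * (B.σ B.w * B.σ B.w) := by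
            rw [B.conj_w]; simp only [mul_assoc]
        _ = B.ι t := by rw [← map_mul, ← map_mul, B.w2, map_one, mul_one]
    refine ⟨t, ?_, ?_⟩
    · show B.ι t ∈ (inertia B.O θ).map B.σ
      rw [← ht]
      exact Subgroup.mul_mem _ (Subgroup.mul_mem _ hA hs) hA
    · have e : (t : M₂) = B.ν⁻¹ • ((A : M₂) * ((s : M₂) * (A : M₂))) := by
        refine (B.ellY.mul_inn (B.ellY.toS A) (s * B.ellY.toS A)).trans ?_
        rw [Matrix.SpecialLinearGroup.coe_mul, Matrix.mul_assoc (s : M₂)]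
        have h := B.ellY.toS_mul A
        exact congrArg₂ (fun U W : M₂ => B.ν⁻¹ • (U * ((s : M₂) * W))) h h
      rw [e, Matrix.smul_mul, Matrix.mul_assoc, Matrix.mul_assoc, Ell.mul_self A.2, Matrix.mul_smul, Matrix.mul_one,
        Matrix.mul_smul, smul_smul, inv_mul_cancel₀ hν, one_smul]

theorem lfix_trivial {θ : B.O → ℂ} (h : θ = fun _ => 1) : B.Lfix θ := by
  subst h
  exact (B.lfix_iff (fun _ _ => rfl)).2 fun c _ => rfl

variable [Fintype B.O] [Fintype B.R] [Fintype B.Gw]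

/-- Two anticommuting members. -/
theorem pair_le (W : B.WExp) {θ : IrrCharacter B.O} (hne : (θ : B.O → ℂ) ≠ fun _ => 1) {A A' : Ell B.ν}
    (hA : A ∈ B.Kj (θ : B.O → ℂ)) (hA' : A' ∈ B.Kj (θ : B.O → ℂ))
    (hanti : (A : Matrix (Fin 2) (Fin 2) F) * (A' : Matrix (Fin 2) (Fin 2) F) =
      -((A' : Matrix (Fin 2) (Fin 2) F) * (A : Matrix (Fin 2) (Fin 2) F))) :
    |W.a (B.mv A θ)| + |W.a (B.mv A' θ)| ≤ B.n θ := by
  classical
  haveI : Finite X := Finite.of_surjective _ B.surj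
  set a := B.jX A with hadef
  set b := B.jX A' with hbdef
  have hν : B.ν ≠ 0 := B.ellY.ν_ne
  have hdet : (B.ν⁻¹ • ((A : M₂) * (A' : M₂))).det = 1 := by
    rw [det_smul, det_mul, A.2.2, A'.2.2, Fintype.card_fin]
    field_simp
  set s : SL₂ := ⟨_, hdet⟩
  have hab : a * b = B.ι s := B.jX_mul A A' s rfl
  have hz : a * b * (a * b) = B.σ B.z := by
    rw [hab, ← map_mul, ← B.gz]
    refine congrArg B.ι (Subtype.ext ?_)
    show (B.ν⁻¹ • ((A : M₂) * (A' : M₂))) * (B.ν⁻¹ • ((A : M₂) * (A' : M₂))) = _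
    rw [Matrix.smul_mul, Matrix.mul_smul, smul_smul]
    conv_lhs => arg 2; arg 2; rw [hanti]
    rw [Matrix.mul_neg, Matrix.mul_assoc, ← Matrix.mul_assoc (A' : M₂), Ell.mul_self A'.2, Matrix.smul_mul,
      Matrix.one_mul, Matrix.mul_smul, Ell.mul_self A.2, smul_smul, smul_neg, smul_smul,
      show B.ν⁻¹ * B.ν⁻¹ * (B.ν * B.ν) = (1 : F) by field_simp, one_smul]
    rfl
  have haa : a * a = 1 := B.jX_sq A
  have hbb : b * b = 1 := B.jX_sq A'
  have hzz : B.σ B.z * B.σ B.z = 1 := by rw [← map_mul, B.z2, map_one]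
  have hzx : ∀ x : X, B.σ B.z * x = x * B.σ B.z := fun x => by
    obtain ⟨c, rfl⟩ := B.surj x
    rw [← map_mul, ← map_mul, B.z_central]
  -- a group of order a power of two
  set D : Subgroup X := Subgroup.zpowers (a * b) ⊔ Subgroup.zpowers a
  have hu4 : (a * b) ^ 4 = 1 := by
    rw [show 4 = 2 * 2 from rfl, pow_mul, pow_two (a * b), hz, pow_two, hzz]
  have hP : IsPGroup 2 D := by
    refine IsPGroup.to_sup_of_normal_left' ?_ ?_ ?_
    · rintro ⟨g, hg⟩
      obtain ⟨i, rfl⟩ := Subgroup.mem_zpowers_iff.1 hg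
      exact ⟨2, Subtype.ext (by
        show ((a * b) ^ i) ^ (2 ^ 2) = 1
        rw [← zpow_natCast, ← _root_.zpow_mul, mul_comm, _root_.zpow_mul, zpow_natCast, show (2 : ℕ) ^ 2 = 4 from rfl, hu4,
          _root_.one_zpow])⟩
    · rintro ⟨g, hg⟩
      obtain ⟨i, rfl⟩ := Subgroup.mem_zpowers_iff.1 hg
      exact ⟨1, Subtype.ext (by
        show (a ^ i) ^ (2 ^ 1) = 1
        rw [← zpow_natCast, ← _root_.zpow_mul, mul_comm, _root_.zpow_mul, zpow_natCast, pow_one, pow_two, haa, _root_.one_zpow])⟩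
    · rw [Subgroup.zpowers_le]
      refine Cfsg.Agent.Dickson.mem_normalizer_of_forall fun x hx => ?_
      obtain ⟨i, rfl⟩ := Subgroup.mem_zpowers_iff.1 hx
      refine Subgroup.mem_zpowers_iff.2 ⟨-i, ?_⟩
      rw [← conj_zpow, show a * (a * b) * a⁻¹ = (a * b)⁻¹ by
        rw [← mul_assoc, haa, one_mul, inv_eq_of_mul_eq_one_right haa, _root_.mul_inv_rev,
          inv_eq_of_mul_eq_one_right haa, inv_eq_of_mul_eq_one_right hbb], _root_.inv_zpow']
  have huD : a * b ∈ D := Subgroup.mem_sup_left (Subgroup.mem_zpowers _)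
  have haD : a ∈ D := Subgroup.mem_sup_right (Subgroup.mem_zpowers _)
  have hbD : b ∈ D := by
    have := D.mul_mem haD huD
    rwa [← mul_assoc, haa, one_mul] at this
  have hzD : B.σ B.z ∈ D := hz ▸ D.mul_mem huD huD
  have hDle : D ≤ (inertia B.O (θ : B.O → ℂ)).map B.σ :=
    sup_le (Subgroup.zpowers_le.2 (Subgroup.mul_mem _ hA hA')) (Subgroup.zpowers_le.2 hA)
  -- its preimage
  set H : Subgroup C := D.comap B.σ with hH
  have hOH : B.O ≤ H := fun o ho => by
    show B.σ o ∈ D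
    rw [MonoidHom.mem_ker.1 ho]
    exact D.one_mem
  haveI : Fintype H := Fintype.ofFinite _
  haveI : Fintype D := Fintype.ofFinite _
  haveI : (B.O.subgroupOf H).Normal := Subgroup.Normal.subgroupOf inferInstance _
  haveI : Fintype (B.O.subgroupOf H) := Fintype.ofFinite _
  set eO := Subgroup.subgroupOfEquivOfLe hOH
  let π : H →* D := (B.σ.comp H.subtype).codRestrict D fun g => g.2
  have hπ : Function.Surjective π := fun y => by
    obtain ⟨c, hc⟩ := B.surj (y : X)
    exact ⟨⟨c, show B.σ c ∈ D from hc ▸ y.2⟩, Subtype.ext hc⟩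
  have hπk : π.ker = B.O.subgroupOf H := by
    ext g
    rw [MonoidHom.mem_ker, Subgroup.mem_subgroupOf, MonoidHom.mem_ker]
    exact ⟨fun h => congrArg Subtype.val h, fun h => Subtype.ext h⟩
  have hinv : ∀ g : H, Char.conjN B.O (g : C) (θ : B.O → ℂ) = (θ : B.O → ℂ) := fun g =>
    (B.mem_map_inertia (IsIrr.classFun θ.2) rfl).1 (hDle g.2)
  obtain ⟨η, hη, hres⟩ := exists_ext_coprime (N := B.O.subgroupOf H) (θ := fun x => (θ : B.O → ℂ) (eO x)) (by
    rw [← hπk, Subgroup.index_ker, MonoidHom.range_eq_top.2 hπ, Subgroup.card_top, hπk, Nat.card_congr eO.toEquiv]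
    obtain ⟨k, hk⟩ := IsPGroup.iff_card.1 hP
    rw [hk]
    exact Nat.Coprime.pow_left _ (Nat.coprime_two_left.2 B.ker_odd))
    (IsIrr.comp_mulEquiv eO θ.2) fun g x => congrFun (hinv g) (eO x)
  have hres' : ∀ o : B.O, η ⟨o, hOH o.2⟩ = (θ : B.O → ℂ) o := fun o => hres ⟨⟨o, hOH o.2⟩, o.2⟩
  -- the twisted average
  let τ : H → ℂ := Char.avgN (B.O.subgroupOf H) ((fun g : H => B.χp g) * fun g => conj (η g))
  have hτc : IsCharacter H τ :=
    IsChar.avgN _ (IsChar.mul (IsChar.res B.isChar_χp H) (IsChar.conj (IsIrr.isCharacter hη)))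
  have hτe : ∀ g : H, τ g = (Nat.card B.O : ℂ)⁻¹ *
      ∑ o : B.O, B.χp ((o : C) * g) * conj (η (⟨o, hOH o.2⟩ * g)) := by
    intro g
    show (Nat.card (B.O.subgroupOf H) : ℂ)⁻¹ * _ = _
    rw [Nat.card_congr eO.toEquiv]
    congr 1
    exact Fintype.sum_equiv eO.toEquiv _ _ fun o => rfl
  obtain ⟨T, ⟨m, ρ, hρ⟩, hT⟩ : ∃ T : D → ℂ, IsCharacter D T ∧ ∀ g, T (π g) = τ g :=
    IsChar.exists_factor hτc π hπ fun k hk => by
      have hk' : k ∈ B.O.subgroupOf H := hπk ▸ hk
      conv_lhs => rw [show k = ((⟨k, hk'⟩ : B.O.subgroupOf H) : H) * 1 from (mul_one k).symm]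
      exact avgN_mul_left _ _ _ _
  have htr : ∀ g : H, LinearMap.trace ℂ (Fin m → ℂ) (ρ (π g)) = τ g := fun g => by
    rw [← hT, ← hρ]
    rfl
  -- the values at the members
  have hjval : ∀ A₀ : Ell B.ν, A₀ ∈ B.Kj (θ : B.O → ℂ) → ∀ h₀ : B.jX A₀ ∈ D,
      ∃ ε : ℤ, (ε = 1 ∨ ε = -1) ∧
        LinearMap.trace ℂ (Fin m → ℂ) (ρ ⟨B.jX A₀, h₀⟩) = ((ε * W.a (B.mv A₀ θ) : ℤ) : ℂ) := by
    intro A₀ hA₀ h₀
    set c := B.mover A₀
    have hc : B.σ (c * B.w * c⁻¹) = B.jX A₀ := B.mover_spec A₀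
    have hGw : ∀ g : B.Gw, c * (g : C) * c⁻¹ ∈ H := fun g => by
      show B.σ (c * (g : C) * c⁻¹) ∈ D
      rcases B.image_cases g.2 with e | e
      · rw [map_mul, map_mul, e, mul_one, map_inv, mul_inv_cancel]
        exact D.one_mem
      · rw [map_mul, map_mul, e, ← map_mul, ← map_mul, hc]
        exact h₀
    let φ : B.Gw →* H := MonoidHom.mk' (fun g => ⟨c * (g : C) * c⁻¹, hGw g⟩) fun g g' => Subtype.ext (by
      show c * ((g : C) * g') * c⁻¹ = c * (g : C) * c⁻¹ * (c * (g' : C) * c⁻¹)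
      group)
    obtain ⟨ε, hε, hv⟩ := B.coset_value W (θ := B.mv A₀ θ) (B.mv_fixed hA₀) (fun g => η (φ g))
      (IsChar.comp φ (IsIrr.isCharacter hη)) fun o => by
        rw [mv, conjI_coe, conjN_apply, ← hres']
        rfl
    refine ⟨ε, hε, ?_⟩
    rw [show (⟨B.jX A₀, h₀⟩ : D) = π (φ ⟨B.w, B.w_mem_Gw⟩) from Subtype.ext hc.symm, htr, hτe, ← hv]
    congr 1
    refine (Fintype.sum_equiv (conjEquivN B.O c).toEquiv _ _ fun o => ?_).symm
    have e : ((conjEquivN B.O c o : B.O) : C) * (c * B.w * c⁻¹) = c * ((o : C) * B.w) * c⁻¹ := by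
      rw [conjEquivN_apply]
      show c * (o : C) * c⁻¹ * (c * B.w * c⁻¹) = _
      group
    show _ = B.χp (((conjEquivN B.O c o : B.O) : C) * (c * B.w * c⁻¹)) *
      conj (η (⟨(conjEquivN B.O c o : B.O), hOH (conjEquivN B.O c o).2⟩ * φ ⟨B.w, B.w_mem_Gw⟩))
    rw [e, IsChar.classFun B.isChar_χp]
    congr 3
    exact Subtype.ext e.symm
  obtain ⟨ε, hε, hxa⟩ := hjval A hA haD
  obtain ⟨ε', hε', hyb⟩ := hjval A' hA' hbD
  -- zero at the elements of order four
  have hzero : ∀ g : H, (∃ k : ℕ, B.σ (g : C) ^ (2 * k) = B.σ B.z) → τ g = 0 := by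
    intro g hg
    rw [hτe]
    simp only [fun o : B.O => B.χp_root hg o.2, ← Finset.mul_sum, ← map_sum, B.sum_ext_zero hOH hne hη hres' g,
      map_zero, mul_zero]
  set zD : D := ⟨B.σ B.z, hzD⟩
  have hroot : ∀ y : D, (y : X) ^ 2 = B.σ B.z → LinearMap.trace ℂ (Fin m → ℂ) (ρ y) = 0 := by
    intro y hy
    obtain ⟨g, rfl⟩ := hπ y
    rw [htr, hzero g ⟨1, hy⟩]
  have hdim : LinearMap.trace ℂ (Fin m → ℂ) (1 : (Fin m → ℂ) →ₗ[ℂ] Fin m → ℂ) = (B.n θ : ℂ) := by
    rw [← map_one ρ, ← map_one π, htr, hτe, ← B.n_spec, classInner]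
    congr 1
    refine Finset.sum_congr rfl fun o _ => ?_
    rw [mul_one, Subgroup.coe_one, mul_one, hres']
  have h := pair_trace ρ (a := (⟨a, haD⟩ : D)) (b := ⟨b, hbD⟩) (z := zD) (Subtype.ext haa) (Subtype.ext hbb)
    (Subtype.ext hz) (Subtype.ext hzz) (Subtype.ext (hzx a)) (Subtype.ext (hzx b))
    (hroot _ (by rw [Subgroup.coe_mul, pow_two]; exact hz))
    (hroot _ (by
      rw [Subgroup.coe_mul, Subgroup.coe_mul, pow_two]
      show B.σ B.z * (a * b) * (B.σ B.z * (a * b)) = _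
      rw [mul_assoc, ← mul_assoc (a * b), ← hzx (a * b), mul_assoc (B.σ B.z) (a * b), hz, hzz, mul_one]))
    hdim hxa hyb
  rw [abs_mul, abs_mul, show |ε| = 1 by rcases hε with rfl | rfl <;> simp,
    show |ε'| = 1 by rcases hε' with rfl | rfl <;> simp, one_mul, one_mul] at h
  exact h

open _root_.Classical in
/-- The moved bound. -/
theorem moved_lt [Fintype (Ell B.ν)] (W : B.WExp) {θ : IrrCharacter B.O} (hL : ¬ B.Lfix (θ : B.O → ℂ))
    (hn : 0 < B.n θ) (h5 : 5 ≤ Fintype.card F) :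
    ∑ A ∈ Finset.univ.filter (fun A => A ∈ B.Kj (θ : B.O → ℂ)), |(W.a (B.mv A θ) : ℝ)| <
      2 * (Fintype.card F : ℝ) * B.n θ := by
  have hne : (θ : B.O → ℂ) ≠ fun _ => 1 := fun h => hL (B.lfix_trivial h)
  refine sum_lt B.char2 B.ν_ns h5 (B.kj_closed (IsIrr.classFun θ.2)) hL (by exact_mod_cast hn)
    (fun A => abs_nonneg _) (fun A _ => ?_) fun A hA A' hA' h => ?_
  · have h := W.bound (B.mv A θ) (B.n θ) (by rw [B.n_spec, mv, B.n_conj])
    exact_mod_cast h
  · exact_mod_cast B.pair_le W hne hA hA' h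

end UData

end Cfsg.Agent.Invol.AbgOrder
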