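import Cfsg.Agent.Lib.Invol.AbgOrder.ColShape

/-!
# The column at the central involution

For a character in the principal block the values on `z` times elements of odd order of `C(z)` are a combination of
`1` and the Steinberg function of the image.
-/

set_option autoImplicit false
set_option linter.unusedSectionVars false
set_option linter.style.haveILetI false

open scoped Classical

namespace Cfsg.Agent.Invol.AbgOrder

open Cfsg Cfsg.Agent.Char Cfsg.Agent.Block

universe u v w x t

variable {G : Type u} [Group G] [Fintype G] {X : Type v} [Group X] [Fintype X] {M : Ideal AlgInt}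

namespace PData

variable (D : PData G X)

/-- The section of `z` is given by the span of the principal block of the image. -/
theorem exists_section_fun (hM : IsPModular 2 M) {χ : IrrCharacter G} (hχ : χ ∈ principalBlock M G) :
    ∃ f : X → ℂ, InB0 M f ∧
      ∀ v : D.C, ¬ 2 ∣ orderOf v → (χ : G → ℂ) (D.z * (v : G)) = f (D.π v) := by
  haveI : Fact (Nat.Prime 2) := ⟨Nat.prime_two⟩
  set θ := fun c : D.C => (χ : G → ℂ) (D.z * (c : G))
  refine ⟨fun q => ∑ ψ ∈ Finset.univ.filter (fun ψ : IrrCharacter X => ψ ∈ principalBlock M X),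
    classInner θ (pullIrr D.π D.surj ψ : D.C → ℂ) * (ψ : X → ℂ) q,
    InB0.of_expand _ fun q => rfl, fun v hv => ?_⟩
  have h := section_principal_part (p := 2) hM (x := D.z) ⟨1, by rw [D.ord]; rfl⟩ hv χ
  rw [if_pos hχ] at h
  rw [← h]
  symm
  refine Finset.sum_bij (fun ψ _ => pullIrr D.π D.surj ψ) (fun ψ hψ => ?_) (fun a _ b _ e => ?_) (fun ξ hξ => ?_)
    (fun ψ _ => rfl)
  · exact Finset.mem_filter.2 ⟨Finset.mem_univ _,
      (pullIrr_mem hM D.π D.surj D.odd ψ).2 (Finset.mem_filter.1 hψ).2⟩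
  · refine Subtype.ext (funext fun q => ?_)
    obtain ⟨c, rfl⟩ := D.surj q
    exact congrFun (congrArg Subtype.val e) c
  · have hξ' := (Finset.mem_filter.1 hξ).2
    obtain ⟨ψ, hψ, hval⟩ := IsIrr.exists_factor_quotient ξ.2 D.π.ker
      (fun l hl => principal_ker_of_coprime hM D.odd hξ' hl)
    let e := QuotientGroup.quotientKerEquivOfSurjective D.π D.surj
    let ψ' : IrrCharacter X := ⟨fun q => ψ (e.symm q), IsIrr.comp_surjective e.symm.toMonoidHom e.symm.surjective hψ⟩
    have hex : pullIrr D.π D.surj ψ' = ξ := Subtype.ext (funext fun c => by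
      show ψ (e.symm (D.π c)) = _
      rw [show e.symm (D.π c) = (c : D.C ⧸ D.π.ker) from e.symm_apply_eq.2 rfl]
      exact hval c)
    exact ⟨ψ', Finset.mem_filter.2 ⟨Finset.mem_univ _,
      (pullIrr_mem hM D.π D.surj D.odd ψ').1 (hex.symm ▸ hξ')⟩, hex⟩

/-- The column at `z`. -/
theorem exists_column {F : Type w} [Field F] [Fintype F] [DecidableEq F] {H : Type x} [Group H]
    {K : Type t} [CommGroup K] {Q : ℤ} (s : Shape0 X F H K Q) (hN : NHyp s.π.range) (hM : IsPModular 2 M)
    (hodd : Odd (Fintype.card F)) {χ : IrrCharacter G} (hχ : χ ∈ principalBlock M G) :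
    ∃ c₁ c₂ : ℂ, ∀ v : D.C, Odd (orderOf v) →
      (χ : G → ℂ) (D.z * (v : G)) = c₁ + c₂ * s.refSt (D.π v) := by
  obtain ⟨f, hf, hfv⟩ := D.exists_section_fun hM hχ
  obtain ⟨c₁, c₂, hc⟩ := s.col_shape hM hN hodd hf
  refine ⟨c₁, c₂, fun v hv => ?_⟩
  rw [hfv v (fun hd => Nat.not_even_iff_odd.2 hv (even_iff_two_dvd.2 hd)),
    hc _ (hv.of_dvd_nat (orderOf_map_dvd D.π v))]

end PData

end Cfsg.Agent.Invol.AbgOrder
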