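import Cfsg.Agent.Lib.Invol.AbgOrder.ColMain

/-!
# The norm of a character on the section of the involution

The section of `z` carries less than the whole norm; counted in the image it bounds a function with prescribed
values on the elements of odd order.
-/

set_option autoImplicit false
set_option linter.unusedSectionVars false
set_option linter.style.haveILetI false

open scoped Classical

namespace Cfsg.Agent.Invol.AbgOrder

open Cfsg Cfsg.Agent.Char Cfsg.Agent.Block

universe u v

variable {G : Type u} [Group G] [Fintype G] {X : Type v} [Group X] [Fintype X]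

namespace PData

variable (D : PData G X)

/-- The section of `z` carries less than the whole norm of an irreducible character. -/
theorem section_norm_lt (χ : IrrCharacter G) :
    ∑ v ∈ Finset.univ.filter (fun v : D.C => ¬ 2 ∣ orderOf v), Complex.normSq ((χ : G → ℂ) (D.z * (v : G))) <
      (Nat.card D.C : ℝ) := by
  haveI : Fact (Nat.Prime 2) := ⟨Nat.prime_two⟩
  set S := Finset.univ.filter (fun v : D.C => ¬ 2 ∣ orderOf v)
  set T := (Finset.univ : Finset (G ⧸ D.C)) ×ˢ S
  let φ : (G ⧸ D.C) × D.C → G := fun a => a.1.out * (D.z * (a.2 : G)) * a.1.out⁻¹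
  have hpart : ∀ v ∈ S, IsPPart 2 (D.z * ((v : D.C) : G)) D.z := fun v hv =>
    ⟨v, rfl, (Subgroup.mem_centralizer_singleton_iff.1 v.2).symm, ⟨1, by rw [D.ord]; rfl⟩,
      by rw [Subgroup.orderOf_coe]; exact (Finset.mem_filter.1 hv).2⟩
  have hinj : Set.InjOn φ T := by
    rintro ⟨a, v⟩ hav ⟨b, w⟩ hbw e
    have hv := hpart v (Finset.mem_product.1 hav).2
    have hw := hpart w (Finset.mem_product.1 hbw).2
    have h1 := pPart_conj hv a.out
    rw [show a.out * (D.z * (v : G)) * a.out⁻¹ = b.out * (D.z * (w : G)) * b.out⁻¹ from e] at h1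
    have h2 := pPart_unique h1 (pPart_conj hw b.out)
    have hab : a = b := by
      rw [← QuotientGroup.out_eq' a, ← QuotientGroup.out_eq' b, QuotientGroup.eq]
      refine Subgroup.mem_centralizer_singleton_iff.2 ?_
      calc a.out⁻¹ * b.out * D.z = a.out⁻¹ * (b.out * D.z * b.out⁻¹) * b.out := by group
        _ = a.out⁻¹ * (a.out * D.z * a.out⁻¹) * b.out := by rw [h2]
        _ = D.z * (a.out⁻¹ * b.out) := by group
    subst hab
    have h3 := mul_left_cancel (mul_right_cancel (e : a.out * (D.z * (v : G)) * a.out⁻¹ = _))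
    exact Prod.ext rfl (Subtype.ext (mul_left_cancel h3))
  have hne : (1 : G) ∉ T.image φ := fun h => by
    obtain ⟨⟨a, v⟩, hav, e⟩ := Finset.mem_image.1 h
    have hv := pPart_conj (hpart v (Finset.mem_product.1 hav).2) a.out
    rw [show a.out * (D.z * (v : G)) * a.out⁻¹ = 1 from e] at hv
    have h1 : IsPPart 2 (1 : G) 1 := ⟨1, mul_one 1, Commute.one_left 1, ⟨0, orderOf_one⟩, by simp⟩
    have h2 := pPart_unique hv h1
    have h3 : D.z = 1 := by simpa using h2
    exact absurd D.ord (by rw [h3, orderOf_one]; decide)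
  have htot : ∑ g : G, Complex.normSq ((χ : G → ℂ) g) = (Nat.card G : ℝ) := by
    have h := classInner_self_irr χ.2
    rw [classInner, inv_mul_eq_one₀ (Nat.cast_ne_zero.2 Nat.card_pos.ne')] at h
    simp only [Complex.mul_conj] at h
    exact_mod_cast h.symm
  have hlt : ∑ a ∈ T, Complex.normSq ((χ : G → ℂ) (φ a)) < (Nat.card G : ℝ) := by
    rw [← Finset.sum_image (f := fun g => Complex.normSq ((χ : G → ℂ) g)) hinj, ← htot,
      ← Finset.sum_compl_add_sum (T.image φ)]
    refine lt_add_of_pos_left _ (Finset.sum_pos' (fun g _ => Complex.normSq_nonneg _)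
      ⟨1, Finset.mem_compl.2 hne, Complex.normSq_pos.2 (IsIrr.one_ne_zero χ.2)⟩)
  have hsplit : ∑ a ∈ T, Complex.normSq ((χ : G → ℂ) (φ a)) =
      (D.C.index : ℝ) * ∑ v ∈ S, Complex.normSq ((χ : G → ℂ) (D.z * (v : G))) := by
    have hcf : ∀ a : (G ⧸ D.C) × D.C, Complex.normSq ((χ : G → ℂ) (φ a)) =
        Complex.normSq ((χ : G → ℂ) (D.z * ((a.2 : D.C) : G))) := fun a => by
      show Complex.normSq ((χ : G → ℂ) (a.1.out * (D.z * (a.2 : G)) * a.1.out⁻¹)) = _
      rw [irr_classFun χ]
    rw [Finset.sum_congr rfl fun a _ => hcf a, Finset.sum_product]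
    show (∑ _q : G ⧸ D.C, ∑ v ∈ S, Complex.normSq ((χ : G → ℂ) (D.z * ((v : D.C) : G)))) = _
    rw [Finset.sum_const, Finset.card_univ, nsmul_eq_mul, Subgroup.index, Nat.card_eq_fintype_card]
  rw [hsplit, ← D.C.index_mul_card, Nat.cast_mul] at hlt
  exact lt_of_mul_lt_mul_left hlt (Nat.cast_nonneg _)

/-- Read in the image: a function giving the values on the section. -/
theorem image_norm_lt (χ : IrrCharacter G) {g : X → ℂ}
    (hg : ∀ v : D.C, ¬ 2 ∣ orderOf v → (χ : G → ℂ) (D.z * (v : G)) = g (D.π v)) :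
    ∑ x ∈ Finset.univ.filter (fun x : X => ¬ 2 ∣ orderOf x), Complex.normSq (g x) < (Nat.card X : ℝ) := by
  haveI : Fact (Nat.Prime 2) := ⟨Nat.prime_two⟩
  have h := D.section_norm_lt χ
  rw [Finset.sum_congr rfl fun v hv => by rw [hg v (Finset.mem_filter.1 hv).2]] at h
  have hfib : ∑ v ∈ Finset.univ.filter (fun v : D.C => ¬ 2 ∣ orderOf v), Complex.normSq (g (D.π v)) =
      (Nat.card D.π.ker : ℝ) * ∑ x ∈ Finset.univ.filter (fun x : X => ¬ 2 ∣ orderOf x), Complex.normSq (g x) := by
    have hc := sum_comp_surjective D.π D.surj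
      (fun x => if ¬ 2 ∣ orderOf x then ((Complex.normSq (g x) : ℝ) : ℂ) else 0)
    rw [Finset.sum_filter, Finset.sum_filter]
    have h1 : ((∑ v : D.C, if ¬ 2 ∣ orderOf v then Complex.normSq (g (D.π v)) else 0 : ℝ) : ℂ) =
        (Nat.card D.π.ker : ℂ) * ((∑ x : X, if ¬ 2 ∣ orderOf x then Complex.normSq (g x) else 0 : ℝ) : ℂ) := by
      push_cast
      rw [← Finset.sum_congr rfl (fun v _ => ?_), hc]
      · congr 1
        exact Finset.sum_congr rfl fun x _ => by split_ifs <;> simp
      · simp only [D.two_dvd_iff v]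
        split_ifs <;> simp
    exact_mod_cast h1
  rw [hfib, D.card_C, Nat.cast_mul, mul_comm (Nat.card X : ℝ)] at h
  exact lt_of_mul_lt_mul_left h (Nat.cast_nonneg _)

end PData

end Cfsg.Agent.Invol.AbgOrder
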