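import Cfsg.Agent.Lib.Invol.AbgOrder.ProjKer
import Cfsg.Agent.Lib.Invol.Wreath5Core.Setup
import Cfsg.Agent.Lib.Invol.BrauerL3.Ind

/-!
# Projections to the principal block of functions induced from the centraliser of an involution

`π : C(z) → K` is surjective with kernel of odd order; `f` is a function on `K`.  `coef f χ = ⟨f ∘ π, χ|C⟩` on the
principal 2-block and `gam f = ∑ coef f χ · χ`.  On a section its values are values of `f`, or weighted sums of values
of `f` over the elements of `K` with 2-part fused to the root: nothing depends on the kernel.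
-/

set_option autoImplicit false
set_option linter.unusedSectionVars false
set_option linter.style.haveILetI false

open scoped ComplexConjugate Classical

namespace Cfsg.Agent.Invol.AbgOrder

open Cfsg Cfsg.Agent.Char Cfsg.Agent.Block
open Cfsg.Agent.Invol.Wreath5Core (conj_of_same_image exists_lift)

universe u v

/-- The centraliser of an involution with a homomorphism onto `K` whose kernel has odd order. -/
structure PData (G : Type u) [Group G] (K : Type v) [Group K] where
  /-- the involution -/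
  z : G
  ord : orderOf z = 2
  /-- the homomorphism -/
  π : ↥(Cz z) →* K
  surj : Function.Surjective π
  odd : ¬ 2 ∣ Nat.card π.ker

variable {G : Type u} [Group G] [Fintype G] {K : Type v} [Group K] [Fintype K]

/-- The functions orthogonal to all characters outside the principal block. -/
def InB0 (M : Ideal AlgInt) (f : K → ℂ) : Prop :=
  IsClassFunction K f ∧ ∀ ψ : IrrCharacter K, ψ ∉ principalBlock M K → classInner f (ψ : K → ℂ) = 0

/-- A function vanishing on the elements of odd order. -/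
def OddVanish (f : K → ℂ) : Prop := ∀ k, ¬ 2 ∣ orderOf k → f k = 0

theorem sum_blockKer {M : Ideal AlgInt} {f : K → ℂ} (hf : InB0 M f) (x : K) :
    (Nat.card K : ℂ)⁻¹ * ∑ k : K, f k * blockKer M x k = f x := by
  conv_rhs => rw [classFunction_expansion hf.1]
  rw [Finset.sum_apply, ← Finset.sum_filter_add_sum_filter_not Finset.univ
    (fun χ : IrrCharacter K => χ ∈ principalBlock M K), Finset.sum_eq_zero (s := Finset.univ.filter (¬ · ∈ _))
    (fun χ hχ => by rw [Pi.smul_apply, hf.2 χ (Finset.mem_filter.1 hχ).2, zero_smul]), add_zero]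
  simp only [blockKer, classInner, Pi.smul_apply, smul_eq_mul, Finset.mul_sum, Finset.sum_mul]
  rw [Finset.sum_comm]
  exact Finset.sum_congr rfl fun χ _ => Finset.sum_congr rfl fun k _ => by ring

namespace PData

variable (D : PData G K) (M : Ideal AlgInt)

/-- The centraliser. -/
abbrev C : Subgroup G := Cz D.z

theorem z_mem : D.z ∈ D.C := centralizer_self_mem D.z

/-- The image of the involution. -/
def zbar : K := D.π ⟨D.z, D.z_mem⟩

theorem card_C : Nat.card D.C = Nat.card K * Nat.card D.π.ker := by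
  rw [← D.π.ker.card_mul_index, Subgroup.index_ker, MonoidHom.range_eq_top.2 D.surj, Subgroup.card_top, mul_comm]

theorem card_C_ne : (Nat.card D.C : ℂ) ≠ 0 := Nat.cast_ne_zero.2 Nat.card_pos.ne'

/-- An element of the centraliser has odd order with its image. -/
theorem two_dvd_iff (c : D.C) : 2 ∣ orderOf c ↔ 2 ∣ orderOf (D.π c) :=
  haveI : Fact (Nat.Prime 2) := ⟨Nat.prime_two⟩
  regular_map D.π D.odd c

/-- Averaging over the kernel. -/
theorem sum_pi (F : K → ℂ) :
    (Nat.card D.C : ℂ)⁻¹ * ∑ c : D.C, F (D.π c) = (Nat.card K : ℂ)⁻¹ * ∑ k : K, F k := by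
  rw [sum_comp_surjective D.π D.surj F, D.card_C, Nat.cast_mul, mul_inv, mul_assoc,
    inv_mul_cancel_left₀ (Nat.cast_ne_zero.2 Nat.card_pos.ne')]

/-- The coefficients of the projection. -/
noncomputable def coef (f : K → ℂ) (χ : IrrCharacter G) : ℂ :=
  if χ ∈ principalBlock M G then classInner (fun c : D.C => f (D.π c)) (fun c => (χ : G → ℂ) c) else 0

/-- The projection. -/
noncomputable def gam (f : K → ℂ) (g : G) : ℂ := ∑ χ : IrrCharacter G, D.coef M f χ * (χ : G → ℂ) g

theorem gam_classFun (f : K → ℂ) : IsClassFunction G (D.gam M f) := fun g t => by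
  simp only [gam]
  exact Finset.sum_congr rfl fun χ _ => by rw [irr_classFun χ g t]

theorem classInner_gam (f : K → ℂ) (χ : IrrCharacter G) :
    classInner (D.gam M f) (χ : G → ℂ) = D.coef M f χ := by
  rw [show D.gam M f = ∑ φ : IrrCharacter G, D.coef M f φ • (φ : G → ℂ) from
    funext fun g => by simp [gam, Finset.sum_apply]]
  exact classInner_sum_irr _ χ

/-- The projection as a sum over the centraliser. -/
theorem gam_eq (f : K → ℂ) (g : G) :
    D.gam M f g = (Nat.card D.C : ℂ)⁻¹ * ∑ c : D.C, f (D.π c) * blockKer M g (c : G) := by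
  simp only [gam, coef, ite_mul, zero_mul, blockKer]
  rw [← Finset.sum_filter]
  simp only [classInner, Finset.mul_sum, Finset.sum_mul]
  rw [Finset.sum_comm]
  exact Finset.sum_congr rfl fun c _ => Finset.sum_congr rfl fun χ _ => by ring

theorem coef_eq_zero (f : K → ℂ) {χ : IrrCharacter G} (h : χ ∉ principalBlock M G) : D.coef M f χ = 0 := if_neg h

/-- For a generalised character the coefficients are integers. -/
theorem coef_int {f : K → ℂ} (hf : IsGeneralizedCharacter K f) (χ : IrrCharacter G) :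
    ∃ m : ℤ, D.coef M f χ = m := by
  rw [coef]
  split_ifs
  · exact IsGenChar.classInner_int (IsGenChar.comp D.π hf)
      (IsGenChar.of_isCharacter (IsChar.res (irr_isChar χ) D.C))
  · exact ⟨0, Int.cast_zero.symm⟩

/-- Complex conjugation. -/
theorem coef_conj {M : Ideal AlgInt} (hM : IsPModular 2 M) (f : K → ℂ) (χ : IrrCharacter G) :
    D.coef M (fun k => conj (f k)) (PrinCol.galIrr (starRingAut : RingAut ℂ) χ) = conj (D.coef M f χ) := by
  haveI : Fact (Nat.Prime 2) := ⟨Nat.prime_two⟩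
  have hiff : PrinCol.galIrr (starRingAut : RingAut ℂ) χ ∈ principalBlock M G ↔ χ ∈ principalBlock M G := by
    refine ⟨fun h => ?_, PrinCol.galIrr_mem hM _⟩
    have h2 := PrinCol.galIrr_mem hM (starRingAut : RingAut ℂ) h
    rwa [show PrinCol.galIrr (starRingAut : RingAut ℂ) (PrinCol.galIrr (starRingAut : RingAut ℂ) χ) = χ from
      Subtype.ext (funext fun g => Complex.conj_conj _)] at h2
  simp only [coef, hiff, apply_ite (starRingEnd ℂ), map_zero]
  refine if_congr Iff.rfl ?_ rfl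
  simp only [classInner, map_mul, map_inv₀, map_natCast, map_sum]
  rfl

variable {M} (hM : IsPModular 2 M)

include hM

/-- The trivial coefficient. -/
theorem coef_trivial (f : K → ℂ) : D.coef M f (trivialIrr G) = classInner f (fun _ => 1) := by
  rw [coef, if_pos (trivial_mem_principalBlock hM)]
  simp only [classInner, trivialIrr, map_one, mul_one]
  exact D.sum_pi f

/-- The projection vanishes on the elements of odd order. -/
theorem gam_odd {f : K → ℂ} (hf : OddVanish f) {g : G} (hg : ¬ 2 ∣ orderOf g) : D.gam M f g = 0 := by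
  haveI : Fact (Nat.Prime 2) := ⟨Nat.prime_two⟩
  rw [D.gam_eq, Finset.sum_eq_zero, mul_zero]
  intro c _
  by_cases hc : 2 ∣ orderOf c
  · rw [blockKer_regular hM hg (by rwa [Subgroup.orderOf_coe]), mul_zero]
  · rw [hf _ fun h => hc ((D.two_dvd_iff c).2 h), zero_mul]

theorem gam_one {f : K → ℂ} (hf : OddVanish f) : D.gam M f 1 = 0 :=
  D.gam_odd hM hf (by rw [orderOf_one]; decide)

/-- The 2-elements of `K` whose lifts are conjugate to `x` in `G`. -/
def Fused (x : G) (y : K) : Prop := ∃ c : D.C, D.π c = y ∧ IsConj x (c : G)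

omit hM in
theorem fused_iff {x : G} (hx : ∃ k : ℕ, orderOf x = 2 ^ k) {y : D.C} (hy : ∃ k : ℕ, orderOf y = 2 ^ k) :
    D.Fused x (D.π y) ↔ IsConj x (y : G) := by
  refine ⟨fun ⟨c, hc, hconj⟩ => ?_, fun h => ⟨y, rfl, h⟩⟩
  obtain ⟨t, ht⟩ := isConj_iff.1 hconj
  obtain ⟨k, hk⟩ := hx
  have hc2 : ∃ j : ℕ, orderOf c = 2 ^ j := ⟨k, by
    rw [← Subgroup.orderOf_coe, ← ht, ← MulAut.conj_apply, MulEquiv.orderOf_eq, hk]⟩
  obtain ⟨l, -, hl⟩ := conj_of_same_image D.π D.odd hc2 hy hc
  exact hconj.trans (isConj_iff.2 ⟨(l : G), congrArg Subtype.val hl⟩)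

/-- On a section with a normal 2-complement in the centraliser. -/
theorem gam_nilp (f : K → ℂ) {g x : G} (hx : IsPPart 2 g x) {N : Subgroup (Cz x)} [N.Normal]
    (hN : ¬ 2 ∣ Nat.card N) {k : ℕ} (hidx : N.index = 2 ^ k) :
    D.gam M f g = ((2 ^ (Nat.card (Cz x)).factorization 2 : ℕ) : ℂ) * (Nat.card K : ℂ)⁻¹ *
      ∑ a : K, if ∃ y, IsPPart 2 a y ∧ D.Fused x y then f a else 0 := by
  haveI : Fact (Nat.Prime 2) := ⟨Nat.prime_two⟩
  rw [D.gam_eq, mul_assoc, ← D.sum_pi (fun a : K => if ∃ y, IsPPart 2 a y ∧ D.Fused x y then f a else 0)]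
  refine Eq.trans ?_ (mul_left_comm _ _ _)
  refine congrArg _ (Eq.trans (Finset.sum_congr rfl fun c _ => ?_) (Finset.mul_sum _ _ _).symm)
  obtain ⟨y, hy⟩ := exists_pPart (p := 2) c
  have hy2 : ∃ j : ℕ, orderOf y = 2 ^ j := by obtain ⟨_, -, -, h, -⟩ := hy; exact h
  have hx2 : ∃ j : ℕ, orderOf x = 2 ^ j := by obtain ⟨_, -, -, h, -⟩ := hx; exact h
  have hiff : (∃ a, IsPPart 2 (D.π c) a ∧ D.Fused x a) ↔ IsConj x (y : G) :=
    ⟨fun ⟨a, ha, hf'⟩ => (D.fused_iff hx2 hy2).1 (pPart_unique ha (pPart_map D.π hy) ▸ hf'),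
      fun h => ⟨_, pPart_map D.π hy, (D.fused_iff hx2 hy2).2 h⟩⟩
  by_cases h : IsConj x (y : G)
  · rw [if_pos (hiff.2 h), blockKer_nilp hM hx (pPart_coe.2 hy) h hN hidx, mul_comm]
  · rw [if_neg fun h' => h (hiff.1 h'), blockKer_eq_zero hM hx (pPart_coe.2 hy) h, mul_zero, mul_zero]

/-- The kernels agree on a root. -/
theorem blockKer_root {x : D.C} (hle : Cz (x : G) ≤ D.C) {g c : D.C} (hg : IsPPart 2 g x) {y : D.C}
    (hc : IsPPart 2 c y) (hxy : IsConj (D.π x) (D.π y)) :
    blockKer M (g : G) (c : G) = blockKer M (D.π g) (D.π c) := by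
  haveI : Fact (Nat.Prime 2) := ⟨Nat.prime_two⟩
  obtain ⟨q, hq⟩ := isConj_iff.1 hxy
  obtain ⟨t, rfl⟩ := D.surj q
  have h2 := pPart_conj hc t⁻¹
  have hx2 : ∃ j : ℕ, orderOf x = 2 ^ j := by obtain ⟨_, -, -, h, -⟩ := hg; exact h
  have hy2 : ∃ j : ℕ, orderOf (t⁻¹ * y * t⁻¹⁻¹) = 2 ^ j := by obtain ⟨_, -, -, h, -⟩ := h2; exact h
  obtain ⟨l, hl, hlx⟩ := conj_of_same_image D.π D.odd hy2 hx2
    (by simp only [inv_inv, map_mul, map_inv, ← hq]; group)
  have h3 := pPart_conj h2 l
  rw [hlx] at h3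
  have e2 : blockKer M (D.π g) (D.π c) = blockKer M (D.π g) (D.π (l * (t⁻¹ * c * t⁻¹⁻¹) * l⁻¹)) := by
    simp only [map_mul, MonoidHom.mem_ker.1 hl, one_mul, inv_one, mul_one, map_inv, blockKer_conj_right]
  have e1 : blockKer M (g : G) (c : G) = blockKer M (g : G) ((l * (t⁻¹ * c * t⁻¹⁻¹) * l⁻¹ : D.C) : G) := by
    simp only [Subgroup.coe_mul, Subgroup.coe_inv, blockKer_conj_right]
  rw [e1, e2]
  generalize l * (t⁻¹ * c * t⁻¹⁻¹) * l⁻¹ = d at h3
  obtain ⟨v, hv, hvc, hxk, hvo⟩ := hg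
  obtain ⟨w, hw, hwc, -, hwo⟩ := h3
  have hxk' : ∃ j : ℕ, orderOf (x : G) = 2 ^ j := by rwa [Subgroup.orderOf_coe]
  have hbar : ∃ j : ℕ, orderOf (D.π x) = 2 ^ j := by
    obtain ⟨j, hj⟩ := hxk
    obtain ⟨i, -, hi⟩ := (Nat.dvd_prime_pow Nat.prime_two).1 (hj ▸ orderOf_map_dvd D.π x)
    exact ⟨i, hi⟩
  let ρ : ↥(Cz (x : G)) →* ↥(Cz (D.π x)) := (D.π.comp (Subgroup.inclusion hle)).codRestrict _ fun a =>
    Subgroup.mem_centralizer_singleton_iff.2 (by
      show D.π _ * D.π x = D.π x * D.π _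
      rw [← map_mul, ← map_mul]
      exact congrArg D.π (Subtype.ext (Subgroup.mem_centralizer_singleton_iff.1 a.2)))
  have hρs : Function.Surjective ρ := fun q => by
    obtain ⟨a, ha, hq⟩ := exists_lift D.π D.surj D.odd hx2 (Subgroup.mem_centralizer_singleton_iff.1 q.2)
    exact ⟨⟨a, Subgroup.mem_centralizer_singleton_iff.2 (congrArg Subtype.val ha)⟩, Subtype.ext hq⟩
  have hρo : ¬ 2 ∣ Nat.card ρ.ker := fun h => by
    obtain ⟨a, ha⟩ := exists_prime_orderOf_dvd_card' (G := ρ.ker) 2 h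
    refine D.odd ?_
    have hb : Subgroup.inclusion hle a.1 ∈ D.π.ker := congrArg Subtype.val (MonoidHom.mem_ker.1 a.2)
    have h1 := D.π.ker.orderOf_dvd_natCard hb
    rwa [orderOf_injective _ (Subgroup.inclusion_injective hle), Subgroup.orderOf_coe, ha] at h1
  have hmem : ∀ {a : D.C}, Commute x a → (a : G) ∈ Cz (x : G) := fun ha =>
    Subgroup.mem_centralizer_singleton_iff.2 (congrArg Subtype.val ha.symm.eq)
  rw [← hv, ← hw, map_mul, map_mul, Subgroup.coe_mul, Subgroup.coe_mul]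
  have hvo' : ¬ 2 ∣ orderOf (⟨(v : G), hmem hvc⟩ : Cz (x : G)) := by
    rw [← Subgroup.orderOf_coe] at hvo
    rwa [← Subgroup.orderOf_coe]
  have hwo' : ¬ 2 ∣ orderOf (⟨(w : G), hmem hwc⟩ : Cz (x : G)) := by
    rw [← Subgroup.orderOf_coe] at hwo
    rwa [← Subgroup.orderOf_coe]
  rw [show blockKer M ((x : G) * (v : G)) ((x : G) * (w : G)) = _ from blockKer_section hM hxk' hvo' hwo',
    blockKer_map hM ρ hρs hρo]
  exact (blockKer_section hM hbar (fun h => hvo' (h.trans (orderOf_map_dvd ρ _)))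
    (fun h => hwo' (h.trans (orderOf_map_dvd ρ _)))).symm

/-- On the section of a root, for a function in the principal block vanishing on what is fused from outside. -/
theorem gam_root {f : K → ℂ} (hf : InB0 M f) {g x : D.C} (hx : IsPPart 2 g x) (hle : Cz (x : G) ≤ D.C)
    (hvan : ∀ a y, IsPPart 2 a y → D.Fused (x : G) y → ¬ IsConj (D.π x) y → f a = 0) :
    D.gam M f g = f (D.π g) := by
  haveI : Fact (Nat.Prime 2) := ⟨Nat.prime_two⟩
  rw [D.gam_eq, Finset.sum_congr rfl (g := fun c => f (D.π c) * blockKer M (D.π g) (D.π c)),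
    D.sum_pi (fun k => f k * blockKer M (D.π g) k), sum_blockKer hf]
  intro c _
  obtain ⟨y, hy⟩ := exists_pPart (p := 2) c
  by_cases hxy : IsConj (D.π x) (D.π y)
  · rw [D.blockKer_root hM hle hx hy hxy]
  · rw [blockKer_eq_zero hM (pPart_map D.π hx) (pPart_map D.π hy) hxy]
    by_cases h : IsConj (x : G) (y : G)
    · rw [hvan _ _ (pPart_map D.π hy) ⟨y, rfl, h⟩ hxy, zero_mul, zero_mul]
    · rw [blockKer_eq_zero hM (pPart_coe.2 hx) (pPart_coe.2 hy) h]

/-- Inner products are inner products in `K`. -/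
theorem inner_coef {f g F : K → ℂ} (hF : ∀ c : D.C, g (D.π c) ≠ 0 → D.gam M f c = F (D.π c)) :
    ∑ χ : IrrCharacter G, D.coef M f χ * conj (D.coef M g χ) = classInner F g := by
  have h1 : ∀ χ : IrrCharacter G, D.coef M f χ * conj (D.coef M g χ) = (Nat.card D.C : ℂ)⁻¹ *
      ∑ c : D.C, conj (g (D.π c)) * (D.coef M f χ * (χ : G → ℂ) c) := by
    intro χ
    by_cases hχ : χ ∈ principalBlock M G
    · rw [show D.coef M g χ = _ from if_pos hχ]
      simp only [classInner, map_mul, map_inv₀, map_natCast, map_sum, Complex.conj_conj, Finset.mul_sum]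
      exact Finset.sum_congr rfl fun c _ => by ring
    · rw [D.coef_eq_zero M f hχ]
      simp
  rw [Finset.sum_congr rfl fun χ _ => h1 χ, ← Finset.mul_sum, Finset.sum_comm]
  simp only [← Finset.mul_sum]
  rw [classInner, ← D.sum_pi]
  congr 1
  refine Finset.sum_congr rfl fun c _ => ?_
  show conj (g (D.π c)) * D.gam M f c = _
  by_cases h : g (D.π c) = 0
  · rw [h, map_zero, zero_mul, mul_zero]
  · rw [hF c h, mul_comm]

end PData

end Cfsg.Agent.Invol.AbgOrder
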