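import Cfsg.Agent.Lib.Block.SL2Char.SLValues
import Cfsg.Agent.Lib.Block.SL2Char.SLTori
import Cfsg.Agent.Lib.Block.SL2Char.SLFacts
import Cfsg.Agent.Lib.Block.SL2Char.SLBlocks
import Cfsg.Agent.Lib.Invol.AbgOrder.ProjData

/-!
# The principal 2-block of `SL(2, q)` on elements of odd order

Functions in the span of the principal block that are invariant under `GL(2, q)` are, on elements of odd order, linear
combinations of `1` and the Steinberg character.
-/

set_option autoImplicit false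
set_option linter.unusedSectionVars false

namespace Cfsg.Agent.Invol.AbgOrder

open Cfsg Cfsg.Agent.Char Cfsg.Agent.Block Cfsg.Agent.Block.SL2Char Matrix Finset

universe u v

variable {M : Ideal AlgInt}

/-- A root of unity of odd order whose trace is congruent to `0` modulo 2 is one. -/
theorem eq_one_of_odd_trace (hM : IsPModular 2 M) {ζ ζ' : ℂ} (hζ : ζ * ζ' = 1) {m : ℕ} (hm : Odd m)
    (h1 : ζ ^ m = 1) (hI : MemLocalIdeal M (ζ + ζ')) : ζ = 1 := by
  have hr : MemLocalRing M ζ :=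
    ring_of_integral hM (IsIntegral.of_pow hm.pos (by rw [h1]; exact isIntegral_one))
  have h2 : MemLocalIdeal M (2 : ℂ) := by exact_mod_cast ideal_p hM
  have hsq : MemLocalIdeal M (ζ ^ 2 - 1) := by
    have h := ideal_sub hM (ideal_mul_left hM hr hI) h2
    rwa [show ζ * (ζ + ζ') - 2 = ζ ^ 2 - 1 by linear_combination hζ] at h
  have hη : ζ ^ 2 = 1 := by
    by_contra hne
    have hs : ∑ i ∈ range m, (ζ ^ 2) ^ i = 0 := by
      have h := geom_sum_mul (ζ ^ 2) m
      rw [← pow_mul, mul_comm 2 m, pow_mul, h1, one_pow, sub_self] at h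
      exact (mul_eq_zero.1 h).resolve_right (sub_ne_zero.2 hne)
    have h3 : MemLocalIdeal M (∑ i ∈ range m, ((ζ ^ 2) ^ i - 1)) := ideal_sum hM fun i _ => by
      rw [← geom_sum_mul (ζ ^ 2) i]
      exact ideal_mul_left hM (ring_sum hM fun j _ => ring_pow hM (ring_pow hM hr 2) j) hsq
    rw [sum_sub_distrib, hs, sum_const, card_range, nsmul_eq_mul, mul_one, zero_sub] at h3
    have h4 := ideal_neg h3
    rw [neg_neg, ideal_natCast_iff hM] at h4
    exact (Nat.not_even_iff_odd.2 hm) (even_iff_two_dvd.2 h4)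
  obtain ⟨k, rfl⟩ := hm
  rwa [pow_succ, pow_mul, hη, one_pow, one_mul] at h1

variable {F : Type u} [Field F] [Fintype F] [DecidableEq F]

local notation "GG" => GL (Fin 2) F
local notation "SS" => Matrix.SpecialLinearGroup (Fin 2) F
local notation "tg" => (Matrix.SpecialLinearGroup.toGL : SS →* GG)

/-- The congruence of central characters at an element with even index of centraliser `q * e`, `e` the degree. -/
theorem trace_ideal (hM : IsPModular 2 M) (hodd : Odd (Fintype.card F)) {θ : IrrCharacter SS}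
    (hθ : θ ∈ principalBlock M SS) {g : SS} {e : ℕ} {t : ℂ} (he0 : e ≠ 0) (he : 2 ∣ e)
    (hidx : (Subgroup.centralizer ({g} : Set SS)).index = Fintype.card F * e)
    (h1 : (θ : SS → ℂ) 1 = e) (hg : (θ : SS → ℂ) g = t) : MemLocalIdeal M t := by
  have h : MemLocalIdeal M (centralChar (fun _ : SS => (1 : ℂ)) g - centralChar (θ : SS → ℂ) g) := hθ g
  have hI : MemLocalIdeal M (centralChar (fun _ : SS => (1 : ℂ)) g) := by
    rw [centralChar, mul_one, div_one, ideal_natCast_iff hM, hidx]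
    exact he.mul_left _
  have hc : MemLocalIdeal M (centralChar (θ : SS → ℂ) g) := by
    have h' := ideal_sub hM hI h
    rwa [sub_sub_cancel] at h'
  have hn : ¬ 2 ∣ Fintype.card F := fun h => Nat.not_even_iff_odd.2 hodd (even_iff_two_dvd.2 h)
  have h2 := ideal_mul_left hM (ring_inv_natCast hM hn) hc
  rwa [centralChar, hidx, h1, hg, Nat.cast_mul, mul_assoc, mul_div_assoc, ← mul_assoc,
    inv_mul_cancel₀ (Nat.cast_ne_zero.2 Fintype.card_ne_zero), one_mul,
    mul_div_cancel_left₀ _ (Nat.cast_ne_zero.2 he0)] at h2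

theorem index_torus {A : Type v} [CommGroup A] {φ : A →* SS} {m e : ℕ} (h : IsTorus φ m) {a : A}
    (ha : a * a ≠ 1) (he : 2 * m * e = Fintype.card F ^ 2 - 1) :
    (Subgroup.centralizer ({φ a} : Set SS)).index = Fintype.card F * e := by
  have h1 := (Subgroup.centralizer ({φ a} : Set SS)).card_mul_index
  haveI : Finite A := Finite.of_injective φ h.inj
  rw [h.centralizer_singleton ha, IsTorus.card_range h, card_SS_nat, ← he] at h1
  rw [h.centralizer_singleton ha]
  refine Nat.eq_of_mul_eq_mul_left (show 0 < 2 * m by have := h.two_le; omega) ?_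
  rw [h1]; ring

theorem sq_ne_one_of_odd {A : Type v} [Monoid A] {a : A} (ha : a ≠ 1) (ho : Odd (orderOf a)) : a * a ≠ 1 := by
  intro h
  have h2 : orderOf a ∣ 2 := orderOf_dvd_of_pow_eq_one (by rw [sq, h])
  rcases (Nat.dvd_prime Nat.prime_two).1 h2 with h3 | h3
  · exact ha (orderOf_eq_one_iff.1 h3)
  · rw [h3] at ho; exact absurd ho (by decide)

variable (K : Type v) [Field K] [Algebra F K] [Fintype K] [DecidableEq K] (hK : Module.finrank F K = 2)

/-- A principal series character in the principal block has a parameter of `2`-power order. -/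
theorem cv_di_eq_one (hM : IsPModular 2 M) (hodd : Odd (Fintype.card F)) {θ : IrrCharacter SS}
    (hθ : θ ∈ principalBlock M SS) {α : Fˣ →* ℂˣ} (he : (θ : SS → ℂ) = vIS α) {x : Fˣ} (hx1 : x ≠ 1)
    (hx : Odd (orderOf x)) : cv α x = 1 ∧ cv α x⁻¹ = 1 := by
  have hsq := sq_ne_one_of_odd hx1 hx
  have hne : x ≠ x⁻¹ := fun h => hsq (by nth_rewrite 2 [h]; exact mul_inv_cancel x)
  have h4 := four_le_card hodd hne
  have h5 : 5 ≤ Fintype.card F := by obtain ⟨k, hk⟩ := hodd; omega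
  have hinv : cv α x * cv α x⁻¹ = 1 := by
    simp only [cv]; rw [← Units.val_mul, ← map_mul, mul_inv_cancel, map_one, Units.val_one]
  have hidx : (Subgroup.centralizer ({diS x} : Set SS)).index = Fintype.card F * (Fintype.card F + 1) := by
    refine index_torus (isTorus_diS hodd h5) hsq ?_
    obtain ⟨k, hk⟩ := hodd
    rw [hk, show (2 * k + 1 - 1) / 2 = k by omega, show (2 * k + 1) ^ 2 - 1 = 2 * k * (2 * k + 1 + 1) from
      Nat.sub_eq_of_eq_add (by ring)]
  have hI := trace_ideal hM hodd hθ (Nat.succ_ne_zero _) (by obtain ⟨k, hk⟩ := hodd; omega) hidx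
    (by rw [he, vIS_one]; push_cast; ring) (by rw [he, vIS_di α hne (toGL_diS x)])
  have h1 : cv α x = 1 := eq_one_of_odd_trace hM hinv hx (by
    simp only [cv]; rw [← Units.val_pow_eq_pow_val, ← map_pow, pow_orderOf_eq_one, map_one, Units.val_one]) hI
  exact ⟨h1, by rwa [h1, one_mul] at hinv⟩

/-- A discrete series character in the principal block has a parameter of `2`-power order. -/
theorem cv_ell_eq_one (hM : IsPModular 2 M) (hodd : Odd (Fintype.card F)) {θ : IrrCharacter SS}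
    (hθ : θ ∈ principalBlock M SS) {φ : U1 F K →* ℂˣ} (he : (θ : SS → ℂ) = vDS K hK φ) {l : U1 F K}
    (hl1 : l ≠ 1) (hl : Odd (orderOf l)) : cv φ l = 1 ∧ cv φ l⁻¹ = 1 := by
  have hsq := sq_ne_one_of_odd hl1 hl
  have hrange : (l : Kˣ) ∉ (emb (F := F) K).range := fun h => hsq ((sq_eq_one_iff_mem_range K l).2 h)
  have hinv : cv φ l * cv φ l⁻¹ = 1 := by
    simp only [cv]; rw [← Units.val_mul, ← map_mul, mul_inv_cancel, map_one, Units.val_one]
  have h3 := three_le_card hodd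
  have hidx : (Subgroup.centralizer ({ellS K hK l} : Set SS)).index = Fintype.card F * (Fintype.card F - 1) := by
    refine index_torus (isTorus_ellS K hK hodd) hsq ?_
    obtain ⟨k, hk⟩ := hodd
    rw [hk, show (2 * k + 1 + 1) / 2 = k + 1 by omega, show 2 * k + 1 - 1 = 2 * k by omega,
      show (2 * k + 1) ^ 2 - 1 = 2 * (k + 1) * (2 * k) from Nat.sub_eq_of_eq_add (by ring)]
  have hI := trace_ideal hM hodd hθ (by omega) (by obtain ⟨k, hk⟩ := hodd; omega) hidx
    (by rw [he, vDS_one, Nat.cast_sub (by omega)]; simp)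
    (by rw [he, vDS_ell K hK φ hrange (by rw [toGL_ellS])])
  have h1 : cv φ l = 1 := eq_one_of_odd_trace hM hinv hl (by
    simp only [cv]; rw [← Units.val_pow_eq_pow_val, ← map_pow, pow_orderOf_eq_one, map_one, Units.val_one])
    (by simpa using ideal_neg hI)
  exact ⟨h1, by rwa [h1, one_mul] at hinv⟩

theorem cv_eq_one_of_sq {A : Type v} [CommGroup A] {α : A →* ℂˣ} (h : α * α = 1) {x : A} (hx : Odd (orderOf x)) :
    cv α x = 1 := by
  obtain ⟨k, hk⟩ := hx
  have h2 : α x * α x = 1 := DFunLike.congr_fun h x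
  have h3 : α x ^ (2 * k + 1) = 1 := by rw [← map_pow, ← hk, pow_orderOf_eq_one, map_one]
  rw [pow_succ, pow_mul, sq, h2, one_pow, one_mul] at h3
  rw [cv, h3, Units.val_one]

/-- The two-parameter shape of the four functionals. -/
def Lin2 (hK : Module.finrank F K = 2) (f : SS → ℂ) : Prop :=
  ∃ c₁ c₂ : ℂ, f 1 = c₁ + c₂ * Fintype.card F ∧ sumU f = (c₁ + c₂) * Fintype.card F ∧
    (∀ x : Fˣ, x ≠ 1 → Odd (orderOf x) → f (diS x) = c₁ + c₂) ∧
    ∀ l : U1 F K, l ≠ 1 → Odd (orderOf l) → f (ellS K hK l) = c₁ - c₂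

theorem lin2_of_mem (hM : IsPModular 2 M) (hodd : Odd (Fintype.card F)) {θ : IrrCharacter SS}
    (hθ : θ ∈ principalBlock M SS) : Lin2 K hK (θ : SS → ℂ) := by
  obtain ⟨hS, hC, hD, hHI, hHD⟩ := sumU_values K hK (χ := (θ : SS → ℂ))
  have hx : ∀ {x : Fˣ}, x ≠ 1 → Odd (orderOf x) → x ≠ x⁻¹ := fun {x} h1 h2 h =>
    sq_ne_one_of_odd h1 h2 (by nth_rewrite 2 [h]; exact mul_inv_cancel x)
  have hl : ∀ {l : U1 F K}, l ≠ 1 → Odd (orderOf l) → (l : Kˣ) ∉ (emb (F := F) K).range := fun {l} h1 h2 h =>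
    sq_ne_one_of_odd h1 h2 ((sq_eq_one_iff_mem_range K l).2 h)
  have hfd : ∀ x : Fˣ, FullDet (tg (diS x)) := fun x => by rw [toGL_diS]; exact fullDet_di _ _
  have hfl : ∀ l : U1 F K, FullDet (tg (ellS K hK l)) := fun l => by
    rw [toGL_ellS]; exact fullDet_ell K hK _
  have hconj : ∀ l : U1 F K, IsConj (ell (F := F) K hK (l : Kˣ)) (tg (ellS K hK l)) := fun l => by
    rw [toGL_ellS]
  obtain ⟨n, hn, hcases⟩ := irr_cases_S K hK θ.2
  rcases hcases with ⟨rfl, e⟩ | ⟨rfl, e⟩ | ⟨rfl, e⟩ | ⟨hn1, e⟩ | ⟨hn1, -, e⟩ | ⟨hn1, -, e⟩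
  · refine ⟨1, 0, by rw [e]; simp, by rw [e]; simp [sumU], fun x _ _ => by rw [e]; simp, fun l _ _ => by
      rw [e]; simp⟩
  · refine ⟨0, 1, by rw [hn]; simp, by rw [hS e]; simp, fun x h1 h2 => ?_, fun l h1 h2 => ?_⟩
    · rw [e, vSS, resS_apply, toGL_diS, vS_di (hx h1 h2)]; simp
    · rw [e, vSS, resS_apply, toGL_ellS, vS_ell K hK (hl h1 h2)]; simp
  · refine ⟨1, 1, by rw [hn]; push_cast; ring, by rw [hC e]; ring, fun x h1 h2 => ?_, fun l h1 h2 => ?_⟩
    · obtain ⟨α, -, e'⟩ := mem_famC.1 e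
      obtain ⟨u1, u2⟩ := cv_di_eq_one hM hodd hθ e' h1 h2
      rw [e', vIS_di α (hx h1 h2) (toGL_diS x), u1, u2]
    · obtain ⟨α, -, e'⟩ := mem_famC.1 e
      rw [e', vIS_ell K hK α (hl h1 h2) (hconj l)]; simp
  · have hn' : (n : ℂ) = (Fintype.card F : ℂ) - 1 := by rw [← hn1]; push_cast; ring
    refine ⟨-1, 1, by rw [hn, hn']; ring, by rw [hD e]; ring, fun x h1 h2 => ?_, fun l h1 h2 => ?_⟩
    · obtain ⟨φ, -, e'⟩ := (mem_famD K hK).1 e
      rw [e', vDS_di K hK φ (hx h1 h2) (toGL_diS x)]; simp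
    · obtain ⟨φ, -, e'⟩ := (mem_famD K hK).1 e
      obtain ⟨u1, u2⟩ := cv_ell_eq_one K hK hM hodd hθ e' h1 h2
      rw [e', vDS_ell K hK φ (hl h1 h2) (hconj l), u1, u2]; ring
  · have hn' : (2 : ℂ) * n = (Fintype.card F : ℂ) + 1 := by exact_mod_cast hn1
    refine ⟨1 / 2, 1 / 2, by rw [hn]; linear_combination hn' / 2, by rw [hHI e]; ring, fun x h1 h2 => ?_,
      fun l h1 h2 => ?_⟩
    · obtain ⟨α, ha, -, ev⟩ := halfI_value e (hfd x)
      rw [ev, vIS_di α (hx h1 h2) (toGL_diS x), cv_eq_one_of_sq ha h2,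
        cv_eq_one_of_sq ha (by rwa [orderOf_inv])]
      norm_num
    · obtain ⟨α, -, -, ev⟩ := halfI_value e (hfl l)
      rw [ev, vIS_ell K hK α (hl h1 h2) (hconj l)]; norm_num
  · have hn' : (2 : ℂ) * n + 1 = (Fintype.card F : ℂ) := by exact_mod_cast hn1
    refine ⟨-1 / 2, 1 / 2, by rw [hn]; linear_combination hn' / 2, by rw [hHD e]; ring, fun x h1 h2 => ?_,
      fun l h1 h2 => ?_⟩
    · obtain ⟨φ, -, -, ev⟩ := halfD_value K hK e (hfd x)
      rw [ev, vDS_di K hK φ (hx h1 h2) (toGL_diS x)]; norm_num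
    · obtain ⟨φ, ha, -, ev⟩ := halfD_value K hK e (hfl l)
      rw [ev, vDS_ell K hK φ (hl h1 h2) (hconj l), cv_eq_one_of_sq ha h2,
        cv_eq_one_of_sq ha (by rwa [orderOf_inv])]
      norm_num

theorem lin2_of_inB0 (hM : IsPModular 2 M) (hodd : Odd (Fintype.card F)) {δ : SS → ℂ} (hδ : InB0 M δ) :
    Lin2 K hK δ := by
  classical
  have hex : ∀ θ : IrrCharacter SS, ∃ f : SS → ℂ, Lin2 K hK f ∧
      classInner δ θ • (θ : SS → ℂ) = classInner δ θ • f := fun θ => by
    by_cases h : θ ∈ principalBlock M SS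
    · exact ⟨_, lin2_of_mem K hK hM hodd h, rfl⟩
    · exact ⟨fun _ => 0, ⟨0, 0, by simp, by simp [sumU], by simp, by simp⟩, by simp [hδ.2 θ h]⟩
  choose f hf hff using hex
  choose c₁ c₂ h1 hU hx hl using hf
  have hexp : ∀ s : SS, δ s = ∑ θ : IrrCharacter SS, classInner δ θ * f θ s := fun s => by
    have h := congrFun ((classFunction_expansion hδ.1).trans (Finset.sum_congr rfl fun θ _ => hff θ)) s
    simpa [Finset.sum_apply] using h
  refine ⟨∑ θ : IrrCharacter SS, classInner δ θ * c₁ θ, ∑ θ : IrrCharacter SS, classInner δ θ * c₂ θ, ?_, ?_,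
    fun x a b => ?_, fun l a b => ?_⟩
  · rw [hexp, sum_mul, ← sum_add_distrib]
    exact sum_congr rfl fun θ _ => by rw [h1]; ring
  · rw [sumU, sum_congr rfl fun t _ => hexp (uT (Multiplicative.ofAdd t)), Finset.sum_comm, ← sum_add_distrib,
      sum_mul]
    refine sum_congr rfl fun θ _ => ?_
    rw [← mul_sum, show ∑ t : F, f θ (uT (Multiplicative.ofAdd t)) = sumU (f θ) from rfl, hU]
    ring
  · rw [hexp, ← sum_add_distrib]
    exact sum_congr rfl fun θ _ => by rw [hx θ x a b]; ring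
  · rw [hexp, ← sum_sub_distrib]
    exact sum_congr rfl fun θ _ => by rw [hl θ l a b]; ring

theorem sumU_inv {δ : SS → ℂ} (hinv : InvS δ) :
    sumU δ = δ 1 + ((Fintype.card F : ℂ) - 1) * δ uS := by
  classical
  have h1 : uT (Multiplicative.ofAdd (1 : F)) = (uS : SS) := eq_uS (uT_val 1)
  rw [sumU, ← add_sum_erase univ _ (mem_univ (0 : F)),
    show uT (Multiplicative.ofAdd (0 : F)) = (1 : SS) from map_one uT,
    sum_congr rfl (fun t ht => show δ (uT (Multiplicative.ofAdd t)) = δ uS by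
      rw [← hinv (di (Units.mk0 t (mem_erase.1 ht).1) 1) uS, ← h1, cjS_di_uT, Units.val_mk0, mul_one]),
    sum_const, card_erase_of_mem (mem_univ _), card_univ, nsmul_eq_mul,
    Nat.cast_sub Fintype.card_pos, Nat.cast_one]

include K hK in
/-- An element of odd order is, up to `GL(2, F)`, the identity, the transvection, or in a torus. -/
theorem odd_cases (hodd : Odd (Fintype.card F)) {s : SS} (hs : Odd (orderOf s)) :
    s = 1 ∨ (∃ c : GG, s = cjS c uS) ∨ (∃ (c : GG) (x : Fˣ), x ≠ 1 ∧ Odd (orderOf x) ∧ s = cjS c (diS x)) ∨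
      ∃ (c : GG) (l : U1 F K), l ≠ 1 ∧ Odd (orderOf l) ∧ s = cjS c (ellS K hK l) := by
  rcases cases K hK (tg s) with ⟨z, hz⟩ | ⟨z, hz⟩ | ⟨x, y, hxy, hz⟩ | ⟨l, hl, hz⟩
  · left
    have hd := congrArg dt hz
    rw [dt_toGL, dt_sc] at hd
    rcases toGL_eq_one_or z (mem_Z2.2 (Units.ext (by rw [Units.val_mul, ← hd]; rfl))) hz with h | h
    · exact h
    · by_contra hne
      refine sq_ne_one_of_odd hne hs (h ▸ ?_)
      exact Subtype.ext (by simp)
  · right; left
    obtain ⟨c, hc⟩ := isConj_iff.1 hz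
    have hd : (z : F) * z = 1 := by rw [← dt_un, ← dt_toGL s, ← hc, dt_conj]
    have hu : (un z : GG) ^ orderOf s = 1 := by
      rw [show un z = c⁻¹ * tg s * c⁻¹⁻¹ by rw [← hc]; group, conj_pow, ← map_pow, pow_orderOf_eq_one,
        map_one]
      group
    have hzo : (z : F) ^ orderOf s = 1 := by
      have hval : ∀ k : ℕ, ((un z ^ k : GG) : Matrix (Fin 2) (Fin 2) F) 0 0 = (z : F) ^ k ∧
          ((un z ^ k : GG) : Matrix (Fin 2) (Fin 2) F) 1 0 = 0 := by
        intro k
        induction k with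
        | zero => simp
        | succ k ih =>
          obtain ⟨ha, hb⟩ := ih
          rw [pow_succ' (un z : GG), GeneralLinearGroup.coe_mul, un_val]
          revert ha hb
          generalize ((un z ^ k : GG) : Matrix (Fin 2) (Fin 2) F) = W
          intro ha hb
          simp [Matrix.mul_apply, Fin.sum_univ_two, ha, hb, pow_succ']
      rw [← (hval _).1, hu]; simp
    obtain ⟨k, hk⟩ := hs
    have hz1 : z = 1 := Units.ext (by
      rwa [hk, pow_succ, pow_mul, sq, hd, one_pow, one_mul] at hzo)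
    exact ⟨c, eq_cjS (by rw [toGL_uS, ← hc, hz1])⟩
  · right; right; left
    obtain ⟨c, hc⟩ := isConj_iff.1 hz
    have hd : (x : F) * y = 1 := by rw [← dt_di, ← dt_toGL s, ← hc, dt_conj]
    have hy : y = x⁻¹ := eq_inv_of_mul_eq_one_right (Units.ext hd)
    have e : s = cjS c (diS x) := eq_cjS (by rw [toGL_diS, ← hc, hy])
    refine ⟨c, x, fun h => hxy ?_, ?_, e⟩
    · rw [hy, h, inv_one]
    · rwa [e, MulEquiv.orderOf_eq, orderOf_injective diS diS_injective] at hs
  · right; right; right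
    obtain ⟨c, hc⟩ := isConj_iff.1 hz
    have hU : l ∈ U1 F K := (mem_U1 K).2 (Units.ext (by
      rw [Units.val_pow_eq_pow_val, Units.val_one, pow_succ', ← (tr_dt_ell K hK hl).2,
        show dt (ell (F := F) K hK l) = 1 by rw [← dt_toGL s, ← hc, dt_conj], map_one]))
    have e : s = cjS c (ellS K hK ⟨l, hU⟩) := eq_cjS (by rw [toGL_ellS, ← hc])
    refine ⟨c, ⟨l, hU⟩, fun h => hl ?_, ?_, e⟩
    · rw [show l = 1 from congrArg Subtype.val h]; exact one_mem _
    · rwa [e, MulEquiv.orderOf_eq, orderOf_injective (ellS K hK) (ellS_injective K hK)] at hs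

include K hK in
/-- An invariant function in the span of the principal block on the elements of odd order. -/
theorem col_sl (hM : IsPModular 2 M) (hodd : Odd (Fintype.card F)) {δ : SS → ℂ} (hδ : InB0 M δ) (hinv : InvS δ) :
    ∃ c₁ c₂ : ℂ, ∀ s : SS, Odd (orderOf s) → δ s = c₁ + c₂ * vSS s := by
  obtain ⟨c₁, c₂, h1, hU, hx, hl⟩ := lin2_of_inB0 K hK hM hodd hδ
  have h3 := three_le_card hodd
  have hu : δ uS = c₁ := by
    rw [sumU_inv hinv, h1] at hU
    have hq : ((Fintype.card F : ℂ) - 1) ≠ 0 := sub_ne_zero.2 (by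
      intro h
      have : Fintype.card F = 1 := by exact_mod_cast h
      omega)
    refine mul_left_cancel₀ hq ?_
    linear_combination hU
  refine ⟨c₁, c₂, fun s hs => ?_⟩
  rcases odd_cases K hK hodd hs with rfl | ⟨c, rfl⟩ | ⟨c, x, a, b, rfl⟩ | ⟨c, l, a, b, rfl⟩
  · rw [h1, vSS_one]
  · rw [hinv, invS_vSS, hu, vSS_uS, mul_zero, add_zero]
  · have hne : x ≠ x⁻¹ := fun h => sq_ne_one_of_odd a b (by nth_rewrite 2 [h]; exact mul_inv_cancel x)
    rw [hinv, invS_vSS, hx x a b, vSS, resS_apply, toGL_diS, vS_di hne, mul_one]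
  · have hne : (l : Kˣ) ∉ (emb (F := F) K).range := fun h =>
      sq_ne_one_of_odd a b ((sq_eq_one_iff_mem_range K l).2 h)
    rw [hinv, invS_vSS, hl l a b, vSS, resS_apply, toGL_ellS, vS_ell K hK hne]
    ring

end Cfsg.Agent.Invol.AbgOrder
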