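import Cfsg.Agent.Lib.Invol.AbgOrder.CoreTriple
import Cfsg.Agent.Lib.Invol.AbgOrder.CoreShape
import Cfsg.Agent.Lib.Invol.AbgOrder.Shape0Local
import Cfsg.Agent.Lib.Invol.PComponentOf

/-!
# The odd core of the centraliser of an involution of shape `Shape0`

Data in the ambient group giving a `Triple`: the quotient map, lifts centralising the core, the Weyl element.
-/

set_option autoImplicit false
set_option linter.style.haveILetI false

namespace Cfsg.Agent.Invol.AbgOrder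

open Matrix Cfsg.Agent.Classical
open Cfsg.Agent.Invol.BrauerL3 (Tbl scal mem_scal)

universe u v w x

variable {G : Type u} [Group G] [Finite G]

/-- The odd core of a centraliser, in the group. -/
def coreAt (z : G) : Subgroup G :=
  (Cfsg.oddCore ↥(Subgroup.centralizer ({z} : Set G))).map (Subgroup.centralizer ({z} : Set G)).subtype

omit [Finite G] in
theorem mem_cent {z a : G} : a ∈ Subgroup.centralizer ({z} : Set G) ↔ a * z = z * a :=
  Subgroup.mem_centralizer_singleton_iff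

omit [Finite G] in
theorem coreAt_comm {z y : G} (hy : y ∈ coreAt z) : y * z = z * y := by
  obtain ⟨y', -, rfl⟩ := hy
  exact mem_cent.1 y'.2

theorem coreAt_odd {z y : G} (hy : y ∈ coreAt z) : Odd (orderOf y) := by
  obtain ⟨y', hy', rfl⟩ := hy
  rw [Subgroup.coe_subtype, Subgroup.orderOf_coe]
  have h1 : Odd (Nat.card (Cfsg.oddCore ↥(Subgroup.centralizer ({z} : Set G)))) :=
    Nat.coprime_two_right.1 Grp.pPrimeCore_coprime
  exact h1.of_dvd_nat (Subgroup.orderOf_dvd_natCard _ hy')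

theorem coreAt_conj (a z : G) {y : G} (hy : y ∈ coreAt z) : a * y * a⁻¹ ∈ coreAt (a * z * a⁻¹) := by
  obtain ⟨y', hy', rfl⟩ := hy
  have hmap : (Subgroup.centralizer ({z} : Set G)).map (MulAut.conj a).toMonoidHom =
      Subgroup.centralizer ({a * z * a⁻¹} : Set G) := by
    ext x
    constructor
    · rintro ⟨c, hc, rfl⟩
      rw [mem_cent]
      show a * c * a⁻¹ * (a * z * a⁻¹) = a * z * a⁻¹ * (a * c * a⁻¹)
      rw [show a * c * a⁻¹ * (a * z * a⁻¹) = a * (c * z) * a⁻¹ by group, mem_cent.1 hc]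
      group
    · intro hx
      refine ⟨a⁻¹ * x * a, mem_cent.2 ?_, by show a * (a⁻¹ * x * a) * a⁻¹ = x; group⟩
      rw [show a⁻¹ * x * a * z = a⁻¹ * (x * (a * z * a⁻¹)) * a by group, mem_cent.1 hx]
      group
  let E := ((MulAut.conj a).subgroupMap (Subgroup.centralizer ({z} : Set G))).trans (MulEquiv.subgroupCongr hmap)
  exact ⟨E y', (pPrimeCore_map_equiv (p := 2) E).le ⟨y', hy', rfl⟩, rfl⟩

/-- The data at `z`. -/
structure PreSetup (G : Type u) [Group G] [Finite G] (F : Type v) [Field F] [Fintype F] (H : Type w) [Group H]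
    (K : Type x) [CommGroup K] (Q : ℤ) where
  z : G
  w : G
  g : G
  z2 : z * z = 1
  z_ne : z ≠ 1
  w2 : w * w = 1
  wz : w * z = z * w
  gz : g * z * g⁻¹ = w
  gw : g * w * g⁻¹ = z * w
  s : Shape0 (↥(Subgroup.centralizer ({z} : Set G)) ⧸ Cfsg.oddCore ↥(Subgroup.centralizer ({z} : Set G))) F H K Q
  k : Frame s
  hw : QuotientGroup.mk ⟨w, mem_cent.2 wz⟩ = k.u
  four_le : 4 ≤ Fintype.card F

namespace PreSetup

variable {F : Type v} [Field F] [Fintype F] {H : Type w} [Group H] {K : Type x} [CommGroup K] {Q : ℤ}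
  (c : PreSetup G F H K Q)
include c

/-- The quotient map, `1` outside `C(z)`. -/
noncomputable def q (a : G) :
    ↥(Subgroup.centralizer ({c.z} : Set G)) ⧸ Cfsg.oddCore ↥(Subgroup.centralizer ({c.z} : Set G)) :=
  haveI := Classical.propDecidable (a ∈ Subgroup.centralizer ({c.z} : Set G))
  if h : a ∈ Subgroup.centralizer ({c.z} : Set G) then QuotientGroup.mk ⟨a, h⟩ else 1

theorem q_mk {a : G} (h : a * c.z = c.z * a) : c.q a = QuotientGroup.mk ⟨a, mem_cent.2 h⟩ := dif_pos (mem_cent.2 h)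

theorem q_coe (a : ↥(Subgroup.centralizer ({c.z} : Set G))) : c.q a = QuotientGroup.mk a := dif_pos a.2

theorem q_mul {a b : G} (ha : a * c.z = c.z * a) (hb : b * c.z = c.z * b) : c.q (a * b) = c.q a * c.q b := by
  rw [c.q_mk ha, c.q_mk hb, c.q_mk (Commute.mul_left (show Commute a c.z from ha) hb)]
  rfl

theorem q_inv {a : G} (ha : a * c.z = c.z * a) : c.q a⁻¹ = (c.q a)⁻¹ := by
  rw [c.q_mk ha, c.q_mk (show Commute a c.z from ha).inv_left]
  rfl

theorem q_pow {a : G} (ha : a * c.z = c.z * a) (i : ℕ) : c.q (a ^ i) = c.q a ^ i := by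
  rw [c.q_mk ha, c.q_mk ((show Commute a c.z from ha).pow_left i)]
  rfl

theorem q_conj {a b : G} (ha : a * c.z = c.z * a) (hb : b * c.z = c.z * b) :
    c.q (a * b * a⁻¹) = c.q a * c.q b * (c.q a)⁻¹ := by
  rw [c.q_mul ((show Commute a c.z from ha).mul_left hb) (show Commute a c.z from ha).inv_left, c.q_mul ha hb, c.q_inv ha]

theorem q_w : c.q c.w = c.k.u := (c.q_mk c.wz).trans c.hw

theorem conj_comm {a b : G} (ha : a * c.z = c.z * a) (hb : b * c.z = c.z * b) :
    a * b * a⁻¹ * c.z = c.z * (a * b * a⁻¹) :=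
  (((show Commute a c.z from ha).mul_left hb).mul_left (show Commute a c.z from ha).inv_left).eq

theorem mem_O {a : G} : a ∈ coreAt c.z ↔ a * c.z = c.z * a ∧ c.q a = 1 := by
  constructor
  · rintro ⟨y, hy, rfl⟩
    exact ⟨mem_cent.1 y.2, (c.q_coe y).trans ((QuotientGroup.eq_one_iff y).2 hy)⟩
  · rintro ⟨h, hq⟩
    rw [c.q_mk h, QuotientGroup.eq_one_iff] at hq
    exact ⟨⟨a, mem_cent.2 h⟩, hq, rfl⟩

theorem exists_lift (y : ↥(Subgroup.centralizer ({c.z} : Set G)) ⧸
    Cfsg.oddCore ↥(Subgroup.centralizer ({c.z} : Set G))) : ∃ a, a * c.z = c.z * a ∧ c.q a = y := by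
  obtain ⟨a, rfl⟩ := QuotientGroup.mk_surjective y
  exact ⟨a, mem_cent.1 a.2, c.q_coe a⟩

theorem conj_O {a y : G} (ha : a * c.z = c.z * a) (hy : y ∈ coreAt c.z) : a * y * a⁻¹ ∈ coreAt c.z := by
  have h := coreAt_conj a c.z hy
  rwa [ha, mul_inv_cancel_right] at h

/-- Involutions centralising the core with the same image are equal. -/
theorem eq_of_invol {a b : G} (ha : a * c.z = c.z * a) (hb : b * c.z = c.z * b) (ha2 : a * a = 1) (hb2 : b * b = 1)
    (hbO : ∀ y ∈ coreAt c.z, b * y = y * b) (hq : c.q a = c.q b) : a = b := by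
  set d := b⁻¹ * a with hd
  have hbz : b⁻¹ * c.z = c.z * b⁻¹ := (show Commute b c.z from hb).inv_left
  have hdO : d ∈ coreAt c.z :=
    c.mem_O.2 ⟨((show Commute b⁻¹ c.z from hbz).mul_left ha).eq, by rw [hd, c.q_mul hbz ha, c.q_inv hb, hq, inv_mul_cancel]⟩
  have hbd : b * d = d * b := hbO d hdO
  have hab : a = b * d := by rw [hd, mul_inv_cancel_left]
  have hd2 : d * d = 1 := by
    calc d * d = b * b * (d * d) := by rw [hb2, one_mul]
      _ = b * (b * d) * d := by group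
      _ = b * (d * b) * d := by rw [hbd]
      _ = b * d * (b * d) := by group
      _ = 1 := by rw [← hab, ha2]
  rw [hab, eq_one_of_sq_odd hd2 (coreAt_odd hdO), mul_one]

theorem comm_u {a : G} (ha : a * c.z = c.z * a) (haw : a * c.w = c.w * a) : Commute (c.q a) c.k.u := by
  show c.q a * c.k.u = c.k.u * c.q a
  rw [← c.q_w, ← c.q_mul ha c.wz, haw, c.q_mul c.wz ha]

theorem odd_card : Odd (Fintype.card F) := by
  rw [← c.k.hQ]
  exact Int.natAbs_odd.2 c.s.M.T.odd

theorem neg_one_ne : (-1 : Matrix.SpecialLinearGroup (Fin 2) F) ≠ 1 := fun h => by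
  have h' := congrArg (fun a : Matrix.SpecialLinearGroup (Fin 2) F => (a : Matrix (Fin 2) (Fin 2) F) 0 0) h
  simp [Matrix.SpecialLinearGroup.coe_neg] at h'
  exact BrauerL3.two_ne_zero_of_odd c.odd_card (by linear_combination (-1 : F) * h')

/-- The image of `-1` is the image of `z`. -/
theorem q_z : c.q c.z = c.s.π (c.s.M.ι (-1)) := by
  have hord : ∀ {A : Type u} [Group A] {a : A}, a * a = 1 → a ≠ 1 → orderOf a = 2 := fun h h' =>
    orderOf_eq_prime (by rw [sq, h]) h'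
  refine c.s.central_unique (hord ?_ ?_) (hord ?_ ?_) ?_ ?_
  · rw [← c.q_mul rfl rfl, c.z2, c.q_mk (by simp)]
    rfl
  · intro h
    exact c.z_ne (eq_one_of_sq_odd c.z2 (coreAt_odd (c.mem_O.2 ⟨rfl, h⟩)))
  · rw [← map_mul, ← map_mul, show (-1 : Matrix.SpecialLinearGroup (Fin 2) F) * -1 = 1 by simp, map_one, map_one]
  · exact fun h => c.neg_one_ne (c.s.π_ι_inj (h.trans (map_one (c.s.π.comp c.s.M.ι)).symm))
  · refine Subgroup.mem_center_iff.2 fun y => ?_
    obtain ⟨a, ha, rfl⟩ := c.exists_lift y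
    rw [← c.q_mul ha rfl, ha, c.q_mul rfl ha]
  · refine Subgroup.mem_center_iff.2 fun y => mul_inv_eq_iff_eq_mul.1 ?_
    rw [c.s.conj_ι]
    refine congrArg _ (congrArg _ ?_)
    have h2 : c.s.act₂ y (-1) * c.s.act₂ y (-1) = 1 := by rw [← map_mul]; simp
    exact (eq_one_or_neg_one c.odd_card h2).resolve_left fun h =>
      c.neg_one_ne ((c.s.act₂ y).injective (h.trans (map_one _).symm))

theorem zc_eq : c.k.zc = c.q c.z := by
  obtain ⟨mm, b, hb, hm⟩ := exists_two_part (n := (Q - 1).natAbs) (by have := c.s.M.T.ne_one; omega)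
  have hord : ∀ {A : Type u} [Group A] {a : A}, a * a = 1 → a ≠ 1 → orderOf a = 2 := fun h h' =>
    orderOf_eq_prime (by rw [sq, h]) h'
  refine c.s.central_unique (hord ?_ ?_) (hord ?_ ?_) ?_ ?_
  · show c.s.π _ * c.s.π _ = 1
    rw [← map_mul, ← map_mul, Prod.mk_mul_mk, c.k.e_sq]
    exact (congrArg _ (map_one _)).trans (map_one _)
  · intro h
    have h' := Frame.eq_one_of_split (s := c.s) (a := c.k.e) (by rw [inv_eq_of_mul_eq_one_right c.k.e_sq]; exact h)
    exact c.k.e_ne h'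
  · rw [← c.q_mul rfl rfl, c.z2, c.q_mk (by simp)]
    rfl
  · intro h
    exact c.z_ne (eq_one_of_sq_odd c.z2 (coreAt_odd (c.mem_O.2 ⟨rfl, h⟩)))
  · exact Subgroup.mem_center_iff.2 fun y => mul_inv_eq_iff_eq_mul.1 (c.k.central_fixed hm hb y c.k.e)
  · refine Subgroup.mem_center_iff.2 fun y => ?_
    obtain ⟨a, ha, rfl⟩ := c.exists_lift y
    rw [← c.q_mul ha rfl, ha, c.q_mul rfl ha]

/-- The field component. -/
noncomputable def fld (a : G) : RingAut F := c.s.fldX (c.q a)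

theorem fld_mul {a b : G} (ha : a * c.z = c.z * a) (hb : b * c.z = c.z * b) :
    c.fld (a * b) = c.fld a * c.fld b := by
  show c.s.fldX (c.q (a * b)) = _
  rw [c.q_mul ha hb, map_mul]
  rfl

/-- The field components commute, so they are invariant under conjugation. -/
theorem fld_conj {e a : G} (he : e * c.z = c.z * e) (ha : a * c.z = c.z * a) :
    c.fld (e * a * e⁻¹) = c.fld a := by
  show c.s.fldX (c.q (e * a * e⁻¹)) = c.s.fldX (c.q a)
  rw [c.q_conj he ha, map_mul, map_mul, map_inv]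
  obtain ⟨h, i, e1⟩ := c.s.gen (c.q e)
  obtain ⟨h', j, e2⟩ := c.s.gen (c.q a)
  rw [e1, e2, c.s.fldX_form, c.s.fldX_form, ← pow_add, add_comm, pow_add, mul_inv_cancel_right]

/-- Involutions with the same image are conjugate under the core. -/
theorem exists_conj_invol {a b : G} (ha : a * c.z = c.z * a) (hb : b * c.z = c.z * b) (ha2 : a * a = 1)
    (hb2 : b * b = 1) (hq : c.q a = c.q b) : ∃ o ∈ coreAt c.z, o * a * o⁻¹ = b := by
  have hai : a⁻¹ = a := inv_eq_of_mul_eq_one_right ha2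
  set d := a * b with hd
  have hdO : d ∈ coreAt c.z := c.mem_O.2 ⟨((show Commute a c.z from ha).mul_left hb).eq, by
    rw [hd, c.q_mul ha hb, ← hq, ← c.q_mul ha ha, ha2, c.q_mk (by simp)]
    rfl⟩
  have hinv : a * d * a = d⁻¹ := by
    rw [hd, _root_.mul_inv_rev, hai, inv_eq_of_mul_eq_one_right hb2, ← mul_assoc, ha2, one_mul]
  obtain ⟨r, hr⟩ := coreAt_odd hdO
  set e := d ^ (r + 1) with he
  have hee : e * e = d := by
    rw [he, ← pow_add, show r + 1 + (r + 1) = orderOf d + 1 by omega, pow_succ, pow_orderOf_eq_one, one_mul]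
  have hae : e⁻¹ * a = a * e := by
    have h1 : a * e * a⁻¹ = e⁻¹ := by
      rw [he, ← conj_pow, hai, hinv, inv_pow]
    rw [← h1, inv_mul_cancel_right]
  refine ⟨e⁻¹, inv_mem (pow_mem hdO _), ?_⟩
  rw [inv_inv, hae, mul_assoc, hee, hd, ← mul_assoc, ha2, one_mul]

/-- An element commuting with the image of `w` has a lift commuting with `w`. -/
theorem exists_lift_w {y : ↥(Subgroup.centralizer ({c.z} : Set G)) ⧸ Cfsg.oddCore ↥(Subgroup.centralizer ({c.z} : Set G))}
    (hy : Commute y c.k.u) : ∃ a, a * c.z = c.z * a ∧ a * c.w = c.w * a ∧ c.q a = y := by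
  obtain ⟨a, ha, rfl⟩ := c.exists_lift y
  obtain ⟨o, ho, hoe⟩ := c.exists_conj_invol (c.conj_comm ha c.wz) c.wz
    (by rw [conj_mul, c.w2, mul_one, mul_inv_cancel]) c.w2 (by rw [c.q_conj ha c.wz, c.q_w, hy.eq, mul_inv_cancel_right])
  have hoz := coreAt_comm ho
  refine ⟨o * a, ((show Commute o c.z from hoz).mul_left ha).eq, mul_inv_eq_iff_eq_mul.1 ?_, ?_⟩
  · conv_rhs => rw [← hoe]
    group
  · rw [c.q_mul hoz ha, (c.mem_O.1 ho).2, one_mul]

/-- A lift of the Weyl element exchanging `w` and `z w`. -/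
theorem exists_swap : ∃ σ t, σ * c.z = c.z * σ ∧ σ * c.w * σ⁻¹ = c.z * c.w ∧
    c.q σ = c.s.π (c.s.M.ι t) ∧
    ∀ a b, c.s.M.ι t * c.s.M.T.D (a, b) * (c.s.M.ι t)⁻¹ = c.s.M.T.D (b, a) := by
  obtain ⟨t, -, hsw⟩ := c.k.exists_weyl
  obtain ⟨a, ha, hat⟩ := c.exists_lift (c.s.π (c.s.M.ι t))
  have huz : c.z * c.w * c.z = c.z * (c.z * c.w) := by rw [mul_assoc, c.wz]
  obtain ⟨o, ho, hoe⟩ := c.exists_conj_invol (c.conj_comm ha c.wz) huz
    (by rw [conj_mul, c.w2, mul_one, mul_inv_cancel]) (by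
      rw [show c.z * c.w * (c.z * c.w) = c.z * (c.w * c.z) * c.w by group, c.wz,
        show c.z * (c.z * c.w) * c.w = c.z * c.z * (c.w * c.w) by group, c.z2, c.w2, one_mul]) (by
      rw [c.q_conj ha c.wz, c.q_w, hat]
      show c.s.π _ * c.s.π (c.s.M.T.D (1, c.k.e)) * (c.s.π _)⁻¹ = _
      rw [← map_inv, ← map_mul, ← map_mul, hsw, c.q_mul rfl c.wz, c.q_w, ← c.zc_eq]
      show _ = c.s.π _ * c.s.π _
      rw [← map_mul, ← map_mul, Prod.mk_mul_mk, mul_one, c.k.e_sq])
  have hoz := coreAt_comm ho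
  refine ⟨o * a, t, ((show Commute o c.z from hoz).mul_left ha).eq, ?_, ?_, hsw⟩
  · rw [← hoe]
    group
  · rw [c.q_mul hoz ha, (c.mem_O.1 ho).2, one_mul, hat]

end PreSetup


/-- The data at `z` once the involution centralises the core. -/
structure CoreSetup (G : Type u) [Group G] [Finite G] (F : Type v) [Field F] [Fintype F] (H : Type w) [Group H]
    (K : Type x) [CommGroup K] (Q : ℤ) extends PreSetup G F H K Q where
  w_O : ∀ y ∈ coreAt z, w * y = y * w
  triple : ∀ y, y ∈ coreAt z → y ∈ coreAt w → y ∈ coreAt (z * w) → y = 1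

namespace CoreSetup

variable {F : Type v} [Field F] [Fintype F] {H : Type w} [Group H] {K : Type x} [CommGroup K] {Q : ℤ}
  (c : CoreSetup G F H K Q)
include c

theorem conj_w_cent {a y : G} (ha : a * c.z = c.z * a) (hy : y ∈ coreAt c.z) :
    a * c.w * a⁻¹ * y = y * (a * c.w * a⁻¹) := by
  have h1 := c.w_O _ (c.conj_O (show a⁻¹ * c.z = c.z * a⁻¹ from (show Commute a c.z from ha).inv_left) hy)
  rw [inv_inv] at h1
  calc a * c.w * a⁻¹ * y = a * (c.w * (a⁻¹ * y * a)) * a⁻¹ := by group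
    _ = a * (a⁻¹ * y * a * c.w) * a⁻¹ := by rw [h1]
    _ = _ := by group

/-- Commuting with the image of `w` lifts exactly. -/
theorem exact_w {a : G} (ha : a * c.z = c.z * a) (hq : Commute (c.q a) c.k.u) : a * c.w = c.w * a := by
  refine mul_inv_eq_iff_eq_mul.1 (c.eq_of_invol (c.conj_comm ha c.wz) c.wz ?_ c.w2 c.w_O ?_)
  · rw [conj_mul, c.w2, mul_one, mul_inv_cancel]
  · rw [c.q_conj ha c.wz, c.q_w, hq.eq, mul_inv_cancel_right]

/-- Everything over the normal `SL(2, q)` has a lift centralising the core. -/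
theorem exists_lift_cent (t : Matrix.SpecialLinearGroup (Fin 2) F) :
    ∃ a, a * c.z = c.z * a ∧ (∀ y ∈ coreAt c.z, a * y = y * a) ∧ c.q a = c.s.π (c.s.M.ι t) := by
  refine Subgroup.closure_induction (p := fun y _ => ∃ a, a * c.z = c.z * a ∧
      (∀ o ∈ coreAt c.z, a * o = o * a) ∧ c.q a = y) ?_ ?_ ?_ ?_ (c.k.ι_mem_closure c.four_le t)
  · rintro _ ⟨d, rfl⟩
    obtain ⟨a, ha, rfl⟩ := c.exists_lift d
    exact ⟨_, c.conj_comm ha c.wz, fun o ho => c.conj_w_cent ha ho, by rw [c.q_conj ha c.wz, c.q_w]⟩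
  · exact ⟨1, by simp, fun o _ => by simp, by rw [c.q_mk (by simp)]; rfl⟩
  · rintro _ _ _ _ ⟨a, ha, haO, rfl⟩ ⟨b, hb, hbO, rfl⟩
    exact ⟨a * b, ((show Commute a c.z from ha).mul_left hb).eq,
      fun o ho => ((show Commute a o from haO o ho).mul_left (hbO o ho)).eq, c.q_mul ha hb⟩
  · rintro _ _ ⟨a, ha, haO, rfl⟩
    exact ⟨a⁻¹, (show Commute a c.z from ha).inv_left.eq, fun o ho => (show Commute a o from haO o ho).inv_left.eq, c.q_inv ha⟩

/-- The Weyl element. -/
theorem exists_weyl_lift : ∃ σ, σ * c.z = c.z * σ ∧ σ * σ = c.z ∧ σ * c.w * σ⁻¹ = c.z * c.w ∧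
    (∀ y ∈ coreAt c.z, σ * y = y * σ) ∧
    ∀ a b, c.q σ * c.s.π (c.s.M.T.D (a, b)) * (c.q σ)⁻¹ = c.s.π (c.s.M.T.D (b, a)) := by
  obtain ⟨t, htt, hsw⟩ := c.k.exists_weyl
  obtain ⟨a, ha, haO, hat⟩ := c.exists_lift_cent t
  have hzO : ∀ y ∈ coreAt c.z, c.z * y = y * c.z := fun y hy => (coreAt_comm hy).symm
  set o := c.z⁻¹ * (a * a) with ho
  have hzz : c.z⁻¹ * c.z = c.z * c.z⁻¹ := by group
  have haa : (a * a) * c.z = c.z * (a * a) := ((show Commute a c.z from ha).mul_left ha).eq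
  have hoO : o ∈ coreAt c.z := c.mem_O.2 ⟨((show Commute c.z⁻¹ c.z from hzz).mul_left haa).eq, by
    rw [ho, c.q_mul hzz haa, c.q_mul ha ha, hat, c.q_inv rfl, c.q_z, ← map_mul, ← map_mul, htt, inv_mul_cancel]⟩
  obtain ⟨r, hr⟩ := coreAt_odd hoO
  have hao : Commute a (o ^ r) := (show Commute a o from haO o hoO).pow_right r
  have hσz : a * o ^ r * c.z = c.z * (a * o ^ r) :=
    ((show Commute a c.z from ha).mul_left ((show Commute o c.z from coreAt_comm hoO).pow_left r)).eq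
  have hσσ : a * o ^ r * (a * o ^ r) = c.z := by
    rw [← sq, hao.mul_pow, ← pow_mul, show a ^ 2 = c.z * o by rw [ho, mul_inv_cancel_left, sq], mul_assoc,
      ← pow_succ', show r * 2 + 1 = orderOf o by omega, pow_orderOf_eq_one, mul_one]
  have hσO : ∀ y ∈ coreAt c.z, a * o ^ r * y = y * (a * o ^ r) := fun y hy => by
    have hoy : Commute o y := by
      rw [ho]
      exact ((show Commute c.z y from hzO y hy).inv_left).mul_left ((show Commute a y from haO y hy).mul_left (haO y hy))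
    exact ((show Commute a y from haO y hy).mul_left (hoy.pow_left r)).eq
  have hq : c.q (a * o ^ r) = c.s.π (c.s.M.ι t) := by
    rw [c.q_mul ha ((show Commute o c.z from coreAt_comm hoO).pow_left r), c.q_pow (coreAt_comm hoO), (c.mem_O.1 hoO).2,
      one_pow, mul_one, hat]
  refine ⟨a * o ^ r, hσz, hσσ, ?_, hσO, fun a' b' => by
    rw [hq, ← map_inv, ← map_mul, ← map_mul, hsw]⟩
  refine c.eq_of_invol (c.conj_comm hσz c.wz) ((show Commute c.z c.z from rfl).mul_left c.wz).eq ?_ ?_ ?_ ?_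
  · rw [conj_mul, c.w2, mul_one, mul_inv_cancel]
  · rw [show c.z * c.w * (c.z * c.w) = c.z * (c.w * c.z) * c.w by group, c.wz,
      show c.z * (c.z * c.w) * c.w = c.z * c.z * (c.w * c.w) by group, c.z2, c.w2, one_mul]
  · exact fun y hy => ((show Commute c.z y from hzO y hy).mul_left (c.w_O y hy)).eq
  · rw [c.q_conj hσz c.wz, c.q_w, hq]
    show c.s.π _ * c.s.π (c.s.M.T.D (1, c.k.e)) * (c.s.π _)⁻¹ = _
    rw [← map_inv, ← map_mul, ← map_mul, hsw, c.q_mul rfl c.wz, c.q_w, ← c.zc_eq]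
    show _ = c.s.π _ * c.s.π _
    rw [← map_mul, ← map_mul, Prod.mk_mul_mk, mul_one, c.k.e_sq]

/-- The data of the three cores. -/
theorem exists_triple : ∃ T : Triple G (RingAut F), T.z = c.z ∧ T.w = c.w ∧ T.g = c.g ∧ T.O = coreAt ∧
    T.fld = c.fld ∧ c.q T.x = c.s.π (c.s.M.T.D (c.k.g, 1)) ∧
    ∀ a b, c.q T.s * c.s.π (c.s.M.T.D (a, b)) * (c.q T.s)⁻¹ = c.s.π (c.s.M.T.D (b, a)) := by
  obtain ⟨σ, hσz, hσσ, hσw, hσO, hσD⟩ := c.exists_weyl_lift
  obtain ⟨x, hxz, hxq⟩ := c.exists_lift (c.s.π (c.s.M.T.D (c.k.g, 1)))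
  have hxw : x * c.w = c.w * x := c.exact_w hxz (hxq ▸ c.k.commute_u _)
  obtain ⟨ε, hε⟩ := c.k.exists_eps
  obtain ⟨p, hp⟩ := CharP.exists F
  obtain ⟨n, hpp, hn⟩ := FiniteField.card F p
  haveI := Fact.mk hpp
  have hp2 : p ≠ 2 := fun h => by
    have h1 := c.odd_card
    rw [hn, h, Nat.odd_pow_iff n.ne_zero] at h1
    exact absurd h1 (by decide)
  have hFn : orderOf c.s.σ ≤ n := by
    rw [← c.s.orderOf_f]
    exact Nat.le_of_dvd n.pos (c.s.orderOf_f_dvd hn).1
  have hF0 : 0 < orderOf c.s.σ := c.s.σ_odd.pos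
  have hinv : ∀ {a}, a * c.z = c.z * a → a⁻¹ * c.z = c.z * a⁻¹ := fun h => (show Commute _ c.z from h).inv_left.eq
  refine ⟨{
    z := c.z, w := c.w, z2 := c.z2, w2 := c.w2, zw := c.wz.symm, g := c.g, gz := c.gz, gw := c.gw
    O := coreAt, O_conj := fun a x _ hy => coreAt_conj a x hy, O_comm := fun _ _ hy => coreAt_comm hy
    s := σ, sz := hσz, sw := hσw, s_sq := fun a ha => by rw [hσσ, ha]
    s_O := hσO, w_O := c.w_O, triple := c.triple, odd := fun _ _ hy => coreAt_odd hy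
    kill := fun y hy ho h => c.mem_O.2 ⟨hy, c.k.eq_one_of_kill c.four_le (ho.of_dvd_nat ?_) fun d => ?_⟩
    fld := c.fld
    fld_mul := fun a b ha _ hb _ => by
      show c.s.fldX (c.q (a * b)) = _
      rw [c.q_mul ha hb, map_mul]
      rfl
    fld_O := fun y hy => by
      show c.s.fldX (c.q y) = 1
      rw [(c.mem_O.1 hy).2, map_one]
    ε := ε, F := orderOf c.s.σ, fld_pow := fun a _ _ => c.s.fldX_pow _, m := (Q - 1).natAbs
    fld_s := fun a ha _ hfa => by
      show c.s.fldX _ = 1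
      rw [c.q_conj hσz ha, map_mul, map_mul, show c.s.fldX (c.q a) = 1 from hfa, mul_one, map_inv, mul_inv_cancel]
    tor_comm := fun a b ha haw hfa hb hbw hfb => c.mem_O.2 ⟨?_, ?_⟩
    act := fun v a hv hvw ha haw hfa => c.mem_O.2 ⟨?_, ?_⟩
    big := fun v hv hvw hne => ?_
    x := x, xz := hxz, xw := hxw
    x_fld := by
      show c.s.fldX (c.q x) = 1
      rw [hxq, c.s.fldX_π]
    x_ord := fun N hN => ?_ }, rfl, rfl, rfl, rfl, rfl, hxq, hσD⟩
  · -- the order of the image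
    rw [c.q_mk hy]
    exact (orderOf_map_dvd (QuotientGroup.mk' _) _).trans (by rw [Subgroup.orderOf_mk])
  · obtain ⟨a, ha, rfl⟩ := c.exists_lift d
    show c.q y * _ = _ * c.q y
    rw [← c.q_w, ← c.q_conj ha c.wz, ← c.q_mul hy (c.conj_comm ha c.wz), h a ha,
      c.q_mul (c.conj_comm ha c.wz) hy]
  · exact ((((show Commute a c.z from ha).mul_left hb).mul_left (hinv ha)).mul_left (hinv hb)).eq
  · rw [c.q_mul (((show Commute a c.z from ha).mul_left hb).mul_left (hinv ha)).eq (hinv hb), c.q_inv hb, c.q_conj ha hb,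
      c.k.torus_comm (c.comm_u ha haw) hfa (c.comm_u hb hbw) hfb, mul_inv_cancel_right, mul_inv_cancel]
  · exact ((((show Commute v c.z from hv).mul_left ha).mul_left (hinv hv)).mul_left
      ((show Commute a c.z from ha).pow_left _).inv_left).eq
  · rw [c.q_mul (c.conj_comm hv ha) ((show Commute a c.z from ha).pow_left _).inv_left,
      c.q_inv ((show Commute a c.z from ha).pow_left _).eq, c.q_pow ha, c.q_conj hv ha,
      hε _ _ (c.comm_u hv hvw) (c.comm_u ha haw) hfa]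
    exact mul_inv_cancel _
  · obtain ⟨N, hN, hfix⟩ := c.k.exists_big hn hp2 hFn hF0 (v := c.q v) hne
    refine ⟨N, hN, fun a ha haw hfa hO => c.mem_O.2 ⟨((show Commute a c.z from ha).pow_left N).eq, ?_⟩⟩
    rw [c.q_pow ha]
    refine hfix _ (c.comm_u ha haw) hfa (mul_inv_eq_one.1 ?_)
    rw [← c.q_conj hv ha, ← c.q_inv ha, ← c.q_mul (c.conj_comm hv ha) (hinv ha)]
    exact (c.mem_O.1 hO).2
  · have hc := (c.mem_O.1 hN).2
    rw [c.q_pow (((show Commute _ c.z from c.conj_comm hσz hxz)).mul_left (hinv hxz)).eq,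
      c.q_mul (c.conj_comm hσz hxz) (hinv hxz), c.q_conj hσz hxz, c.q_inv hxz, hxq, hσD, ← map_inv, ← map_mul,
      ← map_inv, ← map_mul, Prod.inv_mk, Prod.mk_mul_mk, one_mul, inv_one, mul_one, ← map_pow, ← map_pow,
      Prod.pow_mk, inv_pow] at hc
    rw [← c.k.ord_g]
    exact dvd_mul_of_dvd_right (orderOf_dvd_of_pow_eq_one (Frame.eq_one_of_split (s := c.s) hc)) 2

end CoreSetup

end Cfsg.Agent.Invol.AbgOrder
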