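import Mathlib

/-!
# Functionals indexed by the points of a projective line

`V` is a module over `ℤ/l`, `l` an odd prime, with one functional for every point.  An element `c` multiplying the
finite points by an automorphism of order `l`, trivial on the common zeros at `0, ∞` that are fixed by the involution,
forces all translates of the functional at `0` to be equal; and independent functionals are impossible.
-/

set_option autoImplicit false

namespace Cfsg.Agent.Invol.AbgOrder

open Finset

variable {l : ℕ}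

/-- A sum over orbits of prime length. -/
theorem sum_eq_zero_of_orbits {α M : Type*} [DecidableEq α] [AddCommMonoid M] (hl : l.Prime) (σ : α → α)
    (hσ : σ^[l] = id) (φ : α → M) (s : Finset α) (hs : ∀ x ∈ s, σ x ∈ s) (hfix : ∀ x ∈ s, σ x ≠ x)
    (h : ∀ x ∈ s, ∑ j ∈ range l, φ (σ^[j] x) = 0) : ∑ x ∈ s, φ x = 0 := by
  induction s using Finset.strongInduction with
  | H s ih =>
    rcases s.eq_empty_or_nonempty with rfl | ⟨x, hx⟩
    · simp
    have hit : ∀ y ∈ s, ∀ j, σ^[j] y ∈ s := fun y hy j => by
      induction j with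
      | zero => exact hy
      | succ j hj => rw [Function.iterate_succ_apply']; exact hs _ hj
    have hinj : Set.InjOn (fun j => σ^[j] x) (range l : Set ℕ) := by
      have := Fact.mk hl
      have hp : Function.IsPeriodicPt σ l x := congrFun hσ x
      rw [Finset.coe_range, ← Function.minimalPeriod_eq_prime hp (hfix x hx)]
      exact Function.iterate_injOn_Iio_minimalPeriod
    set o := (range l).image (fun j => σ^[j] x) with ho
    have hos : o ⊆ s := fun y hy => by
      obtain ⟨j, -, rfl⟩ := mem_image.1 hy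
      exact hit x hx j
    rw [← sum_sdiff hos, show ∑ y ∈ o, φ y = 0 from (sum_image hinj).trans (h x hx), add_zero]
    refine ih (s \ o) (Finset.ssubset_iff_subset_ne.2 ⟨sdiff_subset, fun e => ?_⟩) (fun y hy => ?_)
      (fun y hy => hfix y (mem_sdiff.1 hy).1) fun y hy => h y (mem_sdiff.1 hy).1
    · have h1 : x ∈ s \ o := e.symm ▸ hx
      exact (mem_sdiff.1 h1).2 (mem_image.2 ⟨0, mem_range.2 hl.pos, rfl⟩)
    · refine mem_sdiff.2 ⟨hs y (mem_sdiff.1 hy).1, fun hm => (mem_sdiff.1 hy).2 ?_⟩
      obtain ⟨j, -, hj⟩ := mem_image.1 hm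
      refine mem_image.2 ⟨(j + (l - 1)) % l, mem_range.2 (Nat.mod_lt _ hl.pos), ?_⟩
      have hp : Function.IsPeriodicPt σ l x := congrFun hσ x
      show σ^[(j + (l - 1)) % l] x = y
      rw [hp.iterate_mod_apply, add_comm, Function.iterate_add_apply, show σ^[j] x = σ y from hj,
        ← Function.iterate_succ_apply, Nat.sub_one, Nat.succ_pred_eq_of_pos hl.pos, hσ]
      rfl

variable [Fact l.Prime] {V : Type*} [AddCommGroup V] [Module (ZMod l) V] {A : Type*} [AddCommGroup A] [Fintype A]

/-- Functionals with translations are all equal. -/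
theorem translates_equal (hl2 : l ≠ 2) (f : A → V →ₗ[ZMod l] ZMod l) (g : V →ₗ[ZMod l] ZMod l)
    (ω c : V →ₗ[ZMod l] V) (μ : A ≃+ A) (hμ : (⇑μ)^[l] = id) (hμfix : ∀ x, x ≠ 0 → μ x ≠ x)
    (hω : ∀ y, ω (ω y) = y) (hfω : ∀ x y, f x (ω y) = f (-x) y)
    (hfc : ∀ x y, f x (c y) = f (μ x) y) (hgc : ∀ y, g (c y) = g y) (hωc : ∀ y, ω (c y) = c (ω y))
    (hc : ∀ y, ω y = y → f 0 y = 0 → g y = 0 → c y = y)
    (htr : ∀ a : A, ∃ T : V →ₗ[ZMod l] V, ∀ x y, f x (T y) = f (x + a) y) :
    ∀ x, f x = f 0 := by
  classical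
  have hl : l.Prime := Fact.out
  have h2 : (2 : ZMod l) ≠ 0 := fun h => by
    have h' : ((2 : ℕ) : ZMod l) = 0 := by exact_mod_cast h
    exact hl2 ((Nat.prime_dvd_prime_iff_eq hl Nat.prime_two).1 ((ZMod.natCast_eq_zero_iff 2 l).1 h'))
  -- the sum over a set of orbits on a fixed vector
  have hfixsum : ∀ u, ω u = u → ∀ x, ∑ j ∈ range l, f ((⇑μ)^[j] x) u = 0 := by
    intro u hu x
    set d := c u - u with hd
    have hd1 : c d = d := hc d (by rw [hd, map_sub, hωc, hu])
      (by rw [hd, map_sub, hfc, map_zero, sub_self]) (by rw [hd, map_sub, hgc, sub_self])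
    have hpow : ∀ j : ℕ, f ((⇑μ)^[j] x) u = f x u + (j : ZMod l) * f x d := by
      intro j
      have hiter : ∀ i : ℕ, f ((⇑μ)^[i] x) u = f x ((⇑c)^[i] u) := by
        intro i
        induction i generalizing x with
        | zero => rfl
        | succ i ih => rw [Function.iterate_succ_apply, ih, Function.iterate_succ_apply' (⇑c), hfc]
      have hcit : ∀ i : ℕ, (⇑c)^[i] u = u + (i : ZMod l) • d := by
        intro i
        induction i with
        | zero => simp
        | succ i ih =>
          rw [Function.iterate_succ_apply', ih, map_add, map_smul, hd1, Nat.cast_succ, add_smul, one_smul, hd]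
          abel
      rw [hiter, hcit, map_add, map_smul, smul_eq_mul]
    simp only [hpow, sum_add_distrib, sum_const, card_range, nsmul_eq_mul, ← sum_mul]
    have hs : (∑ j ∈ range l, (j : ZMod l)) = 0 := by
      have e := congrArg (Nat.cast : ℕ → ZMod l) (sum_range_id_mul_two l)
      simp only [Nat.cast_mul, Nat.cast_sum, ZMod.natCast_self, zero_mul, Nat.cast_ofNat] at e
      exact (mul_eq_zero.1 e).resolve_right h2
    rw [hs, ZMod.natCast_self, zero_mul, zero_mul, add_zero]
  -- the sum over all nonzero points vanishes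
  have hsum : ∀ y, ∑ x ∈ univ.erase (0 : A), f x y = 0 := by
    intro y
    have hu : ω (y + ω y) = y + ω y := by rw [map_add, hω, add_comm]
    have h1 : ∑ x ∈ univ.erase (0 : A), f x (y + ω y) = 0 :=
      sum_eq_zero_of_orbits hl (⇑μ) hμ _ _
        (fun x hx => mem_erase.2 ⟨fun e => (mem_erase.1 hx).1 (μ.injective (e.trans (map_zero μ).symm)), mem_univ _⟩)
        (fun x hx => hμfix x (mem_erase.1 hx).1) fun x _ => hfixsum _ hu x
    have h3 : ∑ x ∈ univ.erase (0 : A), f x (ω y) = ∑ x ∈ univ.erase (0 : A), f x y := by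
      refine sum_nbij' (fun x => -x) (fun x => -x) ?_ ?_ (fun x _ => neg_neg x) (fun x _ => neg_neg x)
        fun x _ => hfω x y
      · intro x hx
        simpa using hx
      · intro x hx
        simpa using hx
    simp only [map_add, sum_add_distrib, h3, ← two_mul] at h1
    exact (mul_eq_zero.1 h1).resolve_left h2
  have hall : ∀ y, ∑ x, f x y = f 0 y := fun y => by
    rw [← add_sum_erase univ _ (mem_univ (0 : A)), hsum, add_zero]
  intro x
  obtain ⟨T, hT⟩ := htr x
  refine LinearMap.ext fun y => ?_
  have h1 := hall (T y)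
  simp only [hT, zero_add] at h1
  rw [← h1]
  exact (Equiv.sum_comp (Equiv.addRight x) fun a => f a y).trans (hall y)

omit [AddCommGroup A] in
/-- Functionals with pairwise different multipliers under a group of scalars are jointly surjective. -/
theorem exists_prescribed {O : Type*} [Monoid O] (f : A → V →ₗ[ZMod l] ZMod l) (hf : ∀ x, f x ≠ 0)
    (η : A → O →* ZMod l) (hη : Function.Injective η) (ρ : O → V → V) (hρ : ∀ x o y, f x (ρ o y) = η x o * f x y)
    (v : A → ZMod l) : ∃ y, ∀ x, f x y = v x := by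
  classical
  let Φ : V →ₗ[ZMod l] (A → ZMod l) := LinearMap.pi f
  suffices hΦ : LinearMap.range Φ = ⊤ by
    obtain ⟨y, hy⟩ := LinearMap.range_eq_top.1 hΦ v
    exact ⟨y, fun x => congrFun hy x⟩
  by_contra hne
  obtain ⟨φ, hφ0, hφ⟩ := Submodule.exists_le_ker_of_lt_top _ (lt_top_iff_ne_top.2 hne)
  have hrel : ∀ (y : V) (x : A), φ (Pi.single x 1) * f x y = 0 := by
    intro y
    have hker : ∀ z : V, ∑ x, φ (Pi.single x 1) * f x z = 0 := by
      intro z
      have h1 : φ (Φ z) = 0 := LinearMap.mem_ker.1 (hφ (LinearMap.mem_range_self Φ z))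
      rw [pi_eq_sum_univ' (Φ z), map_sum] at h1
      rw [← h1]
      refine sum_congr rfl fun x _ => ?_
      rw [map_smul, smul_eq_mul, mul_comm]
      rfl
    have hli := linearIndependent_monoidHom O (ZMod l)
    have h2 := (Fintype.linearIndependent_iff.1 (hli.comp η hη)) (fun x => φ (Pi.single x 1) * f x y) (funext fun o => by
      rw [Finset.sum_apply, Pi.zero_apply, ← hker (ρ o y)]
      exact sum_congr rfl fun x _ => by simp [hρ]; ring)
    exact h2
  refine hφ0 (LinearMap.pi_ext' fun x => LinearMap.ext_ring ?_)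
  obtain ⟨y, hy⟩ : ∃ y, f x y ≠ 0 := by
    by_contra h
    push Not at h
    exact hf x (LinearMap.ext h)
  simpa using (mul_eq_zero.1 (hrel y x)).resolve_right hy

end Cfsg.Agent.Invol.AbgOrder
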