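import Cfsg.Agent.Lib.Invol.AbgOrder.CoreSide
import Cfsg.Agent.Lib.Invol.AbgOrder.CoreGL

/-!
# Linear case: what the budget gives makes `w` centralise the odd core

The data of `PointData` are built from a `Side`; its conclusions supply the hypotheses of `CoreSetup`, whose
consequences (cyclic core, `GL(2, q)` modulo odd scalars) then hold.
-/

set_option autoImplicit false
set_option linter.style.haveILetI false

namespace Cfsg.Agent.Invol.AbgOrder

open Matrix Cfsg.Agent.Classical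
open Cfsg.Agent.Invol.BrauerL3 (Tbl scal mem_scal)

universe u v w x

variable {G : Type u} [Group G] [Finite G] {F : Type v} [Field F] [Fintype F] {H : Type w} [Group H] {K : Type x}
  [CommGroup K] {Q : ℤ}

namespace Side

variable {c : PreSetup G F H K Q} (S : Side c)

omit S in
/-- An element of `C(z, w)` whose image at `w` is the split torus element. -/
theorem exists_kap_gen (c : PreSetup G F H K Q) (co : Coord c.k) :
    ∃ m ∈ c.MW, c.kap m = c.s.π (c.s.M.ι co.t) := by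
  obtain ⟨b, hbz, hbw, hbq⟩ := c.exists_lift_w (y := c.s.π (c.s.M.ι co.t)) (co.ht ▸ c.k.commute_u _)
  have hgb : c.g * b * c.g⁻¹ * c.z = c.z * (c.g * b * c.g⁻¹) ∧ c.g * b * c.g⁻¹ * c.w = c.w * (c.g * b * c.g⁻¹) := by
    have h1 : Commute b (c.z * c.w) := (show Commute b c.z from hbz).mul_right hbw
    have h2 := (h1.map (MulAut.conj c.g).toMonoidHom).eq
    have h3 := ((show Commute b c.z from hbz).map (MulAut.conj c.g).toMonoidHom).eq
    simp only [MulEquiv.coe_toMonoidHom, MulAut.conj_apply, c.gz] at h3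
    simp only [MulEquiv.coe_toMonoidHom, MulAut.conj_apply] at h2
    rw [show c.g * (c.z * c.w) * c.g⁻¹ = c.z by rw [← c.gw']; group] at h2
    exact ⟨h2, h3⟩
  refine ⟨⟨c.g * b * c.g⁻¹, mem_cent.2 hgb.1⟩, c.mem_MW.2 hgb.2, ?_⟩
  rw [← hbq, PreSetup.kap]
  show c.q (c.g⁻¹ * (c.g * b * c.g⁻¹) * c.g) = c.q b
  congr 1
  group

include S

theorem comm_mem {i y : ↥(Subgroup.centralizer ({c.z} : Set G))} (hi : i * i = 1)
    (hfix : c.actC S.co i • ptP (0 : F) = ptP 0)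
    (hy : y ∈ Cfsg.oddCore ↥(Subgroup.centralizer ({c.z} : Set G))) : i * y * i⁻¹ * y⁻¹ ∈ S.D := by
  have h := inv_mem (c.DP_gen S.co (inv_mem hy) hi hfix)
  rw [inv_inv, show (y * (i * y⁻¹ * i))⁻¹ = i⁻¹ * y * i⁻¹ * y⁻¹ by group] at h
  nth_rw 1 [inv_eq_of_mul_eq_one_right hi] at h
  exact h

/-- Faithfulness on the conjugates of `D ⊔ Nw`. -/
theorem faith (hb : ∀ x ∈ Cfsg.oddCore ↥(Subgroup.centralizer ({c.z} : Set G)),
      (∀ d, d * x * d⁻¹ ∈ c.Cw ⊔ c.Nw) → (∀ d, d * x * d⁻¹ ∈ c.Cw ⊔ c.Nu) → x = 1)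
    {x : ↥(Subgroup.centralizer ({c.z} : Set G))}
    (hx : ∀ d : ↥(Subgroup.centralizer ({c.z} : Set G)), d * x * d⁻¹ ∈ S.D ⊔ c.Nw) : x = 1 := by
  have hxO : x ∈ Cfsg.oddCore ↥(Subgroup.centralizer ({c.z} : Set G)) := by
    simpa using (S.mem_K0.1 (hx 1)).1
  obtain ⟨s, hs0, hsi, hsw⟩ := S.exists_s
  have hsinv : (c.actC S.co s)⁻¹ • infP F = ptP 0 := inv_smul_eq_iff.2 hs0.symm
  have hsN : ∀ r ∈ c.Nw, s * r * s⁻¹ ∈ c.Nu := fun r hr => by
    refine ⟨c.O_conj' s hr.1, ?_⟩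
    have h := coreAt_conj (s : G) c.w hr.2
    rw [hsw] at h
    exact h
  have h0 : S.D ≤ c.Cw ⊔ c.Nw :=
    le_of_comm c.O_odd c.wC_sq (fun _ h => S.D_le h) (fun o ho => S.w_comm_mem ho)
      (fun o ho => Subgroup.mem_sup_left (Subgroup.subset_closure ⟨o, ho, rfl⟩))
      (fun r hr hrw => Subgroup.mem_sup_right (S.fixD r hr (c.fix_iff.1 hrw)))
  have h1 : c.DP S.co (infP F) ≤ c.Cw ⊔ c.Nu := by
    refine le_of_comm c.O_odd c.wC_sq (c.DP_le S.co _) (fun o ho => c.DP_gen S.co ho c.wC_sq (c.w_fix S.co).1)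
      (fun o ho => Subgroup.mem_sup_left (Subgroup.subset_closure ⟨o, ho, rfl⟩)) fun r hr hrw => ?_
    have hr' : s⁻¹ * r * s ∈ S.D := by
      have h := c.DP_conj S.co s⁻¹ hr
      rwa [inv_inv, map_inv, hsinv] at h
    have hrm : s⁻¹ * r * s ∈ c.MW := by
      refine c.mem_MW.2 ?_
      have h1 : Commute (r : G) (c.z * c.w) :=
        (show Commute (r : G) c.z from mem_cent.1 r.2).mul_right (c.mem_MW.1 (c.fix_iff.1 hrw))
      have h2 : (s : G)⁻¹ * (c.z * c.w) * (s : G) = c.w := by rw [← hsw]; group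
      have h3 := (h1.map (MulAut.conj (s : G)⁻¹).toMonoidHom).eq
      simp only [MulEquiv.coe_toMonoidHom, MulAut.conj_apply, inv_inv, h2] at h3
      exact h3
    have h3 := hsN _ (S.fixD _ hr' hrm)
    rw [show s * (s⁻¹ * r * s) * s⁻¹ = r by group] at h3
    exact Subgroup.mem_sup_right h3
  refine hb x hxO (fun d => (show S.D ⊔ c.Nw ≤ c.Cw ⊔ c.Nw from sup_le h0 le_sup_right) (hx d)) fun d => ?_
  have hle : S.D ⊔ c.Nw ≤ (c.Cw ⊔ c.Nu).comap (MulAut.conj s).toMonoidHom :=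
    sup_le (fun y hy => h1 (by
      have h := c.DP_conj S.co s hy
      rwa [hs0] at h)) fun y hy => Subgroup.mem_sup_right (hsN y hy)
  have h := hle (hx (s⁻¹ * d))
  rw [Subgroup.mem_comap, MulEquiv.coe_toMonoidHom, MulAut.conj_apply] at h
  convert h using 1
  group

/-- The hypotheses of `PointData`. -/
theorem nonempty_pointData (hb : ∀ x ∈ Cfsg.oddCore ↥(Subgroup.centralizer ({c.z} : Set G)),
      (∀ d, d * x * d⁻¹ ∈ c.Cw ⊔ c.Nw) → (∀ d, d * x * d⁻¹ ∈ c.Cw ⊔ c.Nu) → x = 1) :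
    letI : MulAction ↥(Subgroup.centralizer ({c.z} : Set G)) (P1 F) := MulAction.compHom _ (c.actC S.co)
    ∃ P : PointData ↥(Subgroup.centralizer ({c.z} : Set G)) (P1 F) F,
      P.O = Cfsg.oddCore ↥(Subgroup.centralizer ({c.z} : Set G)) ∧ P.w = c.wC ∧ P.Nw = c.Nw := by
  classical
  letI : MulAction ↥(Subgroup.centralizer ({c.z} : Set G)) (P1 F) := MulAction.compHom _ (c.actC S.co)
  have hsmul : ∀ (a : ↥(Subgroup.centralizer ({c.z} : Set G))) (P : P1 F), a • P = c.actC S.co a • P := fun _ _ => rfl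
  obtain ⟨s, hs0, hsi, hsw⟩ := S.exists_s
  have hsinv : (c.actC S.co s)⁻¹ • infP F = ptP 0 := inv_smul_eq_iff.2 hs0.symm
  have hsfix : ∀ m, c.actC S.co m • infP F = infP F → c.actC S.co (s⁻¹ * m * s) • ptP (0 : F) = ptP 0 := fun m hm => by
    rw [map_mul, map_mul, map_inv, mul_smul, mul_smul, hs0, hm, hsinv]
  have hfm : ∀ {x : ↥(Subgroup.centralizer ({c.z} : Set G))}, c.wC * x * c.wC = x → x ∈ c.MW := fun h => c.fix_iff.1 h
  obtain ⟨mt, hmt, hkmt⟩ := exists_kap_gen c S.co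
  refine ⟨{
    O := Cfsg.oddCore ↥(Subgroup.centralizer ({c.z} : Set G))
    normal := c.O_normal
    odd := c.O_odd
    inf := infP F
    pt := ptP
    pt_ne := ptP_ne
    pt_inj := ptP_inj
    pt_all := fun P h => (pt_or_inf P).resolve_left h
    nontriv := ⟨1, one_ne_zero⟩
    two_tf := fun a ha => by
      have : (2 : F) * a = 0 := by linear_combination ha
      exact (mul_eq_zero.1 this).resolve_left (two_ne c)
    two := fun P R P' R' h h' => ?_
    O_fix := fun o ho P => by rw [hsmul, c.actC_O S.co ho, one_smul]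
    w := c.wC
    w2 := c.wC_sq
    w_inf := (c.w_fix S.co).1
    w_pt := c.w_pt S.co
    s := s
    s_zero := hs0
    D := S.D
    DO := fun _ h => S.D_le h
    D_norm := fun o ho x hx => S.D_O ho hx
    D_stab := fun d hd x hx => c.DP_stab S.co hd hx
    w_D := fun o ho => S.w_comm_mem ho
    w_D' := fun o ho => ?_
    Nw := c.Nw
    Tw := c.Tw
    NT := c.Nw_le_Tw
    Tw_le := fun x hx => ⟨(c.mem_Tw.1 hx).1, c.fix_iff.2 (c.mem_Tw.1 hx).2.1⟩
    fix_D := fun r hr hrw => S.fixD r hr (hfm hrw)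
    Nw_norm := fun r _ hrw x hx => c.Nw_conj (hfm hrw) hx
    Nw_stab := fun d hd x hx => S.K0_stab hd (Subgroup.mem_sup_right hx)
    Tw_stab := fun d hd x hx => S.T0_stab hd (Subgroup.mem_sup_right hx)
    Tw_comm := fun a ha b hb haw hbw => ?_
    Tw_cyc := ?_
    Tw_cent := fun r hr hrw h => ?_
    faith := fun x _ h => S.faith hb h
    tr := fun a => ?_
    kact := fun k hk => ?_
    cl := fun l hl hy => ?_ }, rfl, rfl, rfl⟩
  · -- doubly transitive
    obtain ⟨t, h1, h2⟩ := exists_conj_pair h h'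
    obtain ⟨u, hu⟩ := (inn S.co.g₀⁻¹).surjective t
    obtain ⟨a, ha, haq⟩ := c.exists_lift (c.s.π (c.s.M.ι u))
    refine ⟨⟨a, mem_cent.2 ha⟩, ?_⟩
    rw [hsmul, hsmul, c.actC_coe S.co, haq, S.co.act_πι, hu]
    exact ⟨h1, h2⟩
  · -- `[w, o]` at `∞`
    have h := S.comm_mem (i := s⁻¹ * c.wC * s) (y := s⁻¹ * o * s)
      (by rw [show s⁻¹ * c.wC * s * (s⁻¹ * c.wC * s) = s⁻¹ * (c.wC * c.wC) * s by group, c.wC_sq, mul_one,
        inv_mul_cancel]) (hsfix _ (c.w_fix S.co).1) (by simpa using c.O_conj' s⁻¹ ho)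
    convert h using 1
    group
  · -- commutators of the fixed part
    have ha' := hfm haw
    have hb' := hfm hbw
    refine c.mem_Tw.2 ⟨mul_mem (mul_mem (mul_mem ha hb) (inv_mem ha)) (inv_mem hb),
      mul_mem (mul_mem (mul_mem ha' hb') (inv_mem ha')) (inv_mem hb'), ?_⟩
    rw [c.kap_mul (mul_mem (mul_mem ha' hb') (inv_mem ha')) (inv_mem hb'), c.kap_inv hb', c.kap_conj ha' hb', map_mul,
      map_inv, c.s.fldX_conj, mul_inv_cancel]
  · -- cyclic
    let Zp := Subgroup.zpowers (c.s.π (c.s.M.ι S.co.t))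
    let φ : c.Tw →* Zp :=
      { toFun := fun y => ⟨c.kap y.1, c.k.mem_zpowers_of_odd S.co.ht (c.kap_comm_u (c.mem_Tw.1 y.2).2.1)
          (c.mem_Tw.1 y.2).2.2 (c.kap_odd (c.mem_Tw.1 y.2).2.1 (c.mem_Tw.1 y.2).1)⟩
        map_one' := Subtype.ext c.kap_one
        map_mul' := fun a b => Subtype.ext (c.kap_mul (c.mem_Tw.1 a.2).2.1 (c.mem_Tw.1 b.2).2.1) }
    haveI : IsCyclic φ.range := Subgroup.isCyclic _
    obtain ⟨⟨_, g, rfl⟩, hgen⟩ := IsCyclic.exists_generator (α := φ.range)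
    refine ⟨g.1, g.2, fun x hx => ?_⟩
    obtain ⟨n, hn⟩ := Subgroup.mem_zpowers_iff.1 (hgen ⟨φ ⟨x, hx⟩, ⟨x, hx⟩, rfl⟩)
    refine ⟨n, ?_⟩
    have h1 : φ ((g ^ n)⁻¹ * ⟨x, hx⟩) = 1 := by
      rw [map_mul, map_inv, map_zpow]
      have h2 := congrArg Subtype.val hn
      rw [SubgroupClass.coe_zpow] at h2
      exact inv_mul_eq_one.2 h2
    have hT := ((g ^ n)⁻¹ * (⟨x, hx⟩ : c.Tw)).2
    have h3 : c.kap ((g ^ n)⁻¹ * (⟨x, hx⟩ : c.Tw)).1 = 1 := congrArg Subtype.val h1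
    have h4 := c.mem_Nw.2 ⟨(c.mem_Tw.1 hT).1, (c.mem_Tw.1 hT).2.1, h3⟩
    simpa using h4
  · -- self-centralising
    have hr' := hfm hrw
    refine c.mem_Tw.2 ⟨hr, hr', ?_⟩
    by_contra hne
    have hr2 : r * mt * r⁻¹ * mt⁻¹ ∈ Cfsg.oddCore ↥(Subgroup.centralizer ({c.z} : Set G)) := by
      rw [show r * mt * r⁻¹ * mt⁻¹ = r * (mt * r⁻¹ * mt⁻¹) by group]
      exact mul_mem hr (c.O_conj' mt (inv_mem hr))
    have hr3 : r * mt * r⁻¹ * mt⁻¹ ∈ c.MW := mul_mem (mul_mem (mul_mem hr' hmt) (inv_mem hr')) (inv_mem hmt)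
    have h1 := (c.mem_Nw.1 (h _ hr2 (c.fix_iff.2 hr3))).2.2
    rw [c.kap_mul (mul_mem (mul_mem hr' hr3) (inv_mem hr')) (inv_mem hr3), c.kap_inv hr3, c.kap_conj hr' hr3,
      mul_inv_eq_one, c.kap_mul (mul_mem (mul_mem hr' hmt) (inv_mem hr')) (inv_mem hmt), c.kap_inv hmt,
      c.kap_conj hr' hmt, hkmt] at h1
    exact c.k.field_moves S.co.ht S.co.hto (c.kap_comm_u hr') hne h1
  · -- translations
    obtain ⟨i, j, hi, hj, hi1, hj1, hij, htr⟩ := S.exists_translation a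
    refine ⟨i * j, hij, htr, fun y hy => ?_⟩
    have hy' : s⁻¹ * y * s ∈ Cfsg.oddCore ↥(Subgroup.centralizer ({c.z} : Set G)) := by
      simpa using c.O_conj' s⁻¹ hy
    have hsq : ∀ {m : ↥(Subgroup.centralizer ({c.z} : Set G))}, m * m = 1 → s⁻¹ * m * s * (s⁻¹ * m * s) = 1 :=
      fun {m} hm => by
        rw [show s⁻¹ * m * s * (s⁻¹ * m * s) = s⁻¹ * (m * m) * s by group, hm, mul_one, inv_mul_cancel]
    rw [show s⁻¹ * (i * j * y * (i * j)⁻¹ * y⁻¹) * s =
      ((s⁻¹ * i * s) * ((s⁻¹ * j * s) * (s⁻¹ * y * s) * (s⁻¹ * j * s)⁻¹) * (s⁻¹ * i * s)⁻¹ *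
        ((s⁻¹ * j * s) * (s⁻¹ * y * s) * (s⁻¹ * j * s)⁻¹)⁻¹) *
      ((s⁻¹ * j * s) * (s⁻¹ * y * s) * (s⁻¹ * j * s)⁻¹ * (s⁻¹ * y * s)⁻¹) by group]
    exact mul_mem (S.comm_mem (hsq hi) (hsfix i hi1) (c.O_conj' _ hy')) (S.comm_mem (hsq hj) (hsfix j hj1) hy')
  · -- elements fixing every point
    have hact : S.co.act (c.q (k : G)) = 1 := eq_one_of_fix_all fun P => by
      rw [← c.actC_coe S.co]; exact hk P
    obtain ⟨a, ha⟩ := S.co.central_of_act hact
    obtain ⟨mm, b, hb, hm⟩ := exists_two_part (n := (Q - 1).natAbs) (by have := c.s.M.T.ne_one; omega)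
    have hcenu : Commute (c.q (k : G)) c.k.u := ha ▸ c.k.commute_u _
    have hq2 : c.q (k : G) ^ 2 ^ mm = 1 := ha ▸ c.k.central_pow hm hb a
    obtain ⟨d₀, hd₀z, hd₀w, hd₀q⟩ := c.exists_lift_w hcenu
    obtain ⟨n, r, hr, hnr⟩ := exists_two_part (n := orderOf d₀) (orderOf_pos d₀).ne'
    obtain ⟨e, he⟩ := exists_pow_eq_self_of_coprime (n := r) (x := c.q (k : G))
      ((((Nat.coprime_two_left.2 hr).pow_left mm).coprime_dvd_left (orderOf_dvd_of_pow_eq_one hq2)).symm)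
    set d : ↥(Subgroup.centralizer ({c.z} : Set G)) := ⟨d₀, mem_cent.2 hd₀z⟩ ^ (r * e) with hd
    have hdM : d ∈ c.MW := pow_mem (c.mem_MW.2 hd₀w) _
    have hdq : c.q (d : G) = c.q (k : G) := by
      rw [hd, Subgroup.coe_pow, c.q_pow hd₀z, hd₀q, pow_mul, he]
    have hd2 : d ^ 2 ^ n = 1 := by
      refine Subtype.ext ?_
      rw [hd, ← pow_mul, Subgroup.coe_pow, Subgroup.coe_one,
        show r * e * 2 ^ n = 2 ^ n * r * e by ring, pow_mul, ← hnr, pow_orderOf_eq_one, one_pow]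
    have hok : k * d⁻¹ ∈ Cfsg.oddCore ↥(Subgroup.centralizer ({c.z} : Set G)) := by
      refine c.coe_core.1 (c.mem_O.2 ⟨mem_cent.1 (k * d⁻¹).2, ?_⟩)
      rw [Subgroup.coe_mul, Subgroup.coe_inv,
        c.q_mul (mem_cent.1 k.2) (show Commute (d : G) c.z from mem_cent.1 d.2).inv_left.eq,
        c.q_inv (mem_cent.1 d.2), hdq, mul_inv_cancel]
    refine ⟨k * d⁻¹, hok, d, by rw [inv_mul_cancel_right], fun x y hy => ?_⟩
    set e' := x⁻¹ * d * x with he'
    have hy0 : y ∈ S.D ⊔ c.Tw := Subgroup.mem_sup_right hy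
    obtain ⟨hyO, hyf⟩ := S.mem_T0.1 hy0
    refine S.mem_K0.2 ⟨mul_mem (c.O_conj' e' hyO) (inv_mem hyO), ?_⟩
    rw [S.red_mul (c.O_conj' e' hyO) (inv_mem hyO), S.red_inv hyO, mul_inv_eq_one]
    -- `e' = o' d` with `o'` in the core
    have hcen : Commute (c.q (x : G)) (c.q (d : G)) := by
      rw [hdq, ha]; exact mul_inv_eq_iff_eq_mul.1 (c.k.central_fixed hm hb _ a)
    have ho' : e' * d⁻¹ ∈ Cfsg.oddCore ↥(Subgroup.centralizer ({c.z} : Set G)) := by
      rw [← QuotientGroup.eq_one_iff, QuotientGroup.mk_mul, QuotientGroup.mk_inv, he', QuotientGroup.mk_mul,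
        QuotientGroup.mk_mul, QuotientGroup.mk_inv, ← c.q_coe x, ← c.q_coe d, mul_assoc (c.q (x : G))⁻¹, ← hcen.eq,
        inv_mul_cancel_left, mul_inv_cancel]
    set v := S.red (e' * d⁻¹) with hv
    have hvu : Commute v c.k.u := S.red_comm_u ho'
    have hkd : Commute (c.kap d) c.k.u := c.kap_comm_u hdM
    have hkdf : c.s.fldX (c.kap d) = 1 := by
      refine orderOf_eq_one_iff.1 (Nat.dvd_one.1 ?_)
      rw [← (Nat.coprime_two_left.2 (c.s.fldX_odd (c.kap d))).pow_left n]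
      refine Nat.dvd_gcd (orderOf_dvd_of_pow_eq_one ?_) dvd_rfl
      rw [← map_pow]
      have hkp : ∀ i : ℕ, c.kap (d ^ i) = c.kap d ^ i := by
        intro i
        induction i with
        | zero => rw [pow_zero, pow_zero, c.kap_one]
        | succ i ih => rw [pow_succ, pow_succ, c.kap_mul (pow_mem hdM i) hdM, ih]
      rw [← hkp, hd2, c.kap_one, map_one]
    have hstep : ∀ z ∈ Cfsg.oddCore ↥(Subgroup.centralizer ({c.z} : Set G)), c.s.fldX (S.red z) = 1 →
        S.red (e' * z * e'⁻¹) = v * S.red z * v⁻¹ := by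
      intro z hz hzf
      rw [show e' * z * e'⁻¹ = e' * d⁻¹ * (d * z * d⁻¹) * (e' * d⁻¹)⁻¹ by group, S.red_conj_O ho' (c.O_conj' d hz),
        S.red_conj_M hdM hz, c.k.torus_comm hkd hkdf (S.red_comm_u hz) hzf, mul_inv_cancel_right]
    have hit : ∀ i : ℕ, S.red (e' ^ i * y * (e' ^ i)⁻¹) = v ^ i * S.red y * (v ^ i)⁻¹ ∧
        e' ^ i * y * (e' ^ i)⁻¹ ∈ Cfsg.oddCore ↥(Subgroup.centralizer ({c.z} : Set G)) := by
      intro i
      induction i with
      | zero => simpa using hyO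
      | succ i ih =>
        refine ⟨?_, c.O_conj' _ hyO⟩
        rw [show e' ^ (i + 1) * y * (e' ^ (i + 1))⁻¹ = e' * (e' ^ i * y * (e' ^ i)⁻¹) * e'⁻¹ by rw [pow_succ']; group,
          hstep _ ih.2 (by rw [ih.1, c.s.fldX_conj, hyf]), ih.1, pow_succ']
        group
    have h1 := (hit (2 ^ n)).1
    rw [show e' ^ 2 ^ n = 1 by
      rw [he', show x⁻¹ * d * x = x⁻¹ * d * x⁻¹⁻¹ by group, conj_pow, hd2]; group, one_mul, inv_one, mul_one] at h1
    obtain ⟨f, hf⟩ := exists_pow_eq_self_of_coprime (n := 2 ^ n) (x := v)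
      ((Nat.coprime_two_left.2 (hv ▸ S.red_odd ho')).pow_left n)
    have h2 : Commute (v ^ 2 ^ n) (S.red y) := mul_inv_eq_iff_eq_mul.1 h1.symm
    have h3 := h2.pow_left f
    rw [hf] at h3
    rw [hstep y hyO hyf, h3.eq, mul_inv_cancel_right]
  · -- an element of order `l` multiplying the points
    obtain ⟨y, hy, hyl, hy0⟩ := hy
    haveI := Fact.mk hl
    let V : Subgroup ↥(Subgroup.centralizer ({c.z} : Set G)) :=
      { carrier := {x | (∀ d : ↥(Subgroup.centralizer ({c.z} : Set G)), d * x * d⁻¹ ∈ S.D ⊔ c.Tw) ∧ x ^ l = 1}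
        one_mem' := ⟨fun d => by simp, one_pow l⟩
        mul_mem' := fun {a b} ha hb' => ⟨fun d => by rw [← conj_mul]; exact mul_mem (ha.1 d) (hb'.1 d), by
          have hab : Commute a b := by
            refine mul_inv_eq_iff_eq_mul.1 (mul_inv_eq_one.1 (S.faith hb fun d => ?_))
            rw [show d * (a * b * a⁻¹ * b⁻¹) * d⁻¹ =
              d * a * d⁻¹ * (d * b * d⁻¹) * (d * a * d⁻¹)⁻¹ * (d * b * d⁻¹)⁻¹ by group]
            exact S.T0_comm (ha.1 d) (hb'.1 d)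
          rw [hab.mul_pow, ha.2, hb'.2, one_mul]⟩
        inv_mem' := fun {a} ha => ⟨fun d => by rw [← conj_inv]; exact inv_mem (ha.1 d), by
          rw [inv_pow, ha.2, inv_one]⟩ }
    have hVO : V ≤ Cfsg.oddCore ↥(Subgroup.centralizer ({c.z} : Set G)) := fun x hx =>
      (S.mem_T0.1 (by simpa using hx.1 1)).1
    have hVw : ∀ x ∈ V, c.wC * x * c.wC ∈ V := fun x hx => by
      have hwi : c.wC⁻¹ = c.wC := inv_eq_of_mul_eq_one_right c.wC_sq
      refine ⟨fun d => ?_, ?_⟩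
      · have h := hx.1 (d * c.wC)
        rw [_root_.mul_inv_rev, hwi] at h
        convert h using 1
        group
      · have h := conj_pow (a := c.wC) (b := x) (i := l)
        rw [hwi, hx.2, mul_one, c.wC_sq] at h
        exact h
    obtain ⟨r, dd, e1, hdd, hrV, hrw⟩ := split_fixed (c.O_odd.of_dvd_nat (Subgroup.card_dvd_of_le hVO)) c.wC_sq
      (show y ∈ V from ⟨hy, hyl⟩) (N := V ⊓ S.D) inf_le_left
      (Subgroup.mem_inf.2 ⟨mul_mem (inv_mem (show y ∈ V from ⟨hy, hyl⟩)) (hVw y ⟨hy, hyl⟩),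
        S.w_comm_mem (hVO (show y ∈ V from ⟨hy, hyl⟩))⟩)
    have hrM : r ∈ c.MW := hfm hrw
    have hrO := hVO hrV
    have hrT : r ∈ c.Tw := S.fix_T0 (by simpa using hrV.1 1) hrM
    have hrN : r ∉ c.Nw := fun h => hy0 (e1 ▸ mul_mem (Subgroup.mem_sup_right h)
      (Subgroup.mem_sup_left (Subgroup.mem_inf.1 hdd).2))
    have hrG : (r : G) * c.w = c.w * r := c.mem_MW.1 hrM
    -- the element in the core at `w`
    have hsz : (s : G) * c.z = c.z * (s : G) := mem_cent.1 s.2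
    have hsi' : (s : G) * (c.z * c.w) * (s : G)⁻¹ = c.w := by
      rw [show (s : G) * (c.z * c.w) * (s : G)⁻¹ = (s : G) * c.z * (s : G)⁻¹ * ((s : G) * c.w * (s : G)⁻¹) by group,
        hsw, hsz, mul_inv_cancel_right, ← mul_assoc, c.z2, one_mul]
    set a := c.g * (s : G) with ha
    have haz : a * c.z * a⁻¹ = c.w := by
      rw [ha, show c.g * (s : G) * c.z * (c.g * (s : G))⁻¹ = c.g * ((s : G) * c.z * (s : G)⁻¹) * c.g⁻¹ by group, hsz,
        mul_inv_cancel_right, c.gz]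
    have hgu : c.g * (c.z * c.w) * c.g⁻¹ = c.z := by rw [← c.gw']; group
    have haw : a * c.w * a⁻¹ = c.z := by
      rw [ha, show c.g * (s : G) * c.w * (c.g * (s : G))⁻¹ = c.g * ((s : G) * c.w * (s : G)⁻¹) * c.g⁻¹ by group, hsw,
        hgu]
    set cG := a * (r : G) * a⁻¹ with hcG
    have hcz : cG * c.z = c.z * cG := by
      have h := ((show Commute (r : G) c.w from hrG).map (MulAut.conj a).toMonoidHom).eq
      simpa only [MulEquiv.coe_toMonoidHom, MulAut.conj_apply, haw] using h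
    have hcw : cG * c.w = c.w * cG := by
      have h := ((show Commute (r : G) c.z from mem_cent.1 r.2).map (MulAut.conj a).toMonoidHom).eq
      simpa only [MulEquiv.coe_toMonoidHom, MulAut.conj_apply, haz] using h
    set cc : ↥(Subgroup.centralizer ({c.z} : Set G)) := ⟨cG, mem_cent.2 hcz⟩ with hcc
    have hccM : cc ∈ c.MW := c.mem_MW.2 hcw
    have hcore : (cc : G) ∈ coreAt c.w := by
      have h := coreAt_conj a c.z (c.coe_core.2 hrO)
      rwa [haz] at h
    have hkc : c.kap cc = 1 := (c.kap_eq_one hccM).2 hcore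
    -- the image of `cc` in the torus
    have hcu : Commute (c.q cG) c.k.u := c.comm_u hcz hcw
    obtain ⟨hr1, -⟩ := c.gM hrM
    have hcf : c.s.fldX (c.q cG) = 1 := by
      have hf : c.g * (s : G) * c.g * c.z = c.z * (c.g * (s : G) * c.g) := by
        refine mul_inv_eq_iff_eq_mul.1 ?_
        rw [show c.g * (s : G) * c.g * c.z * (c.g * (s : G) * c.g)⁻¹ =
          c.g * ((s : G) * (c.g * c.z * c.g⁻¹) * (s : G)⁻¹) * c.g⁻¹ by group, c.gz, hsw, hgu]
      show c.fld cG = 1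
      rw [show cG = c.g * (s : G) * c.g * (c.g⁻¹ * (r : G) * c.g) * (c.g * (s : G) * c.g)⁻¹ by
        rw [hcG, ha]; group, c.fld_conj hf hr1]
      exact (c.mem_Tw.1 hrT).2.2
    have hco : Odd (orderOf (c.q cG)) := by
      refine (coreAt_odd hcore).of_dvd_nat ?_
      rw [c.q_mk hcz]
      exact (orderOf_map_dvd (QuotientGroup.mk' _) _).trans (by rw [Subgroup.orderOf_mk])
    have hcl : cG ^ l = 1 := by
      rw [hcG, conj_pow, ← Subgroup.coe_pow, hrV.2, Subgroup.coe_one, mul_one, mul_inv_cancel]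
    have hne : c.q cG ≠ 1 := fun h => hrN ⟨hrO, by
      have h1 := coreAt_conj a⁻¹ c.z (c.mem_O.2 ⟨hcz, h⟩)
      rw [inv_inv, show a⁻¹ * c.z * a = c.w by rw [← haw]; group, hcG] at h1
      show (r : G) ∈ coreAt c.w
      simpa [mul_assoc] using h1⟩
    obtain ⟨i, hi⟩ := mem_powers_iff_mem_zpowers.2 (c.k.mem_zpowers_of_odd S.co.ht hcu hcf hco)
    simp only [← map_pow] at hi
    set lam : Fˣ := S.co.l ^ i with hlam
    have hact : c.actC S.co cc = inn (gdiag lam lam⁻¹) := by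
      rw [c.actC_coe S.co]
      show S.co.act (c.q cG) = _
      rw [← hi, S.co.act_t_pow]
    have hti : (S.co.t ^ i) ^ l = 1 := by
      refine c.s.π_ι_inj ?_
      show c.s.π (c.s.M.ι ((S.co.t ^ i) ^ l)) = c.s.π (c.s.M.ι 1)
      rw [map_pow, map_pow, hi, ← c.q_pow hcz, hcl, map_one, map_one, c.q_mk (by simp)]
      rfl
    have hlaml : lam ^ l = 1 := dS_injective (by
      rw [hlam, map_pow, map_pow, ← S.co.conj_t, ← map_pow, ← map_pow, hti, map_one, map_one])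
    set M : Fˣ := lam * lam with hM
    have hM1 : (M : F) ≠ 1 := fun e => hne (by
      have h2 : lam = 1 := by
        have hl2 : l ≠ 2 := by
          rintro rfl
          have h3 : orderOf (c.q cG) ∣ 2 := orderOf_dvd_of_pow_eq_one (by
            rw [← c.q_pow hcz, hcl, c.q_mk (by simp)]
            rfl)
          exact hne (orderOf_eq_one_iff.1 (Nat.dvd_one.1 ((Nat.coprime_two_left.2 hco) ▸ Nat.dvd_gcd h3 dvd_rfl)))
        refine eq_one_of_sq_odd (Units.ext e) ((hl.odd_of_ne_two hl2).of_dvd_nat (orderOf_dvd_of_pow_eq_one hlaml))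
      have h4 : S.co.t ^ i = 1 := (inn S.co.g₀⁻¹).injective (by
        rw [map_pow, S.co.conj_t, ← map_pow, ← hlam, h2, map_one, map_one])
      rw [← hi, h4, map_one, map_one])
    let μ : F ≃+ F :=
      { toFun := fun x => (M : F) * x
        invFun := fun x => ((M⁻¹ : Fˣ) : F) * x
        left_inv := fun x => Units.inv_mul_cancel_left M x
        right_inv := fun x => Units.mul_inv_cancel_left M x
        map_add' := fun x y => mul_add _ _ _ }
    refine ⟨cc, μ, ?_, fun x => ?_, ?_, fun x hx e => ?_, Subtype.ext hcw, fun x hx hxl => ⟨?_, ?_⟩,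
      fun x hx hxl hwx hx0 hxi => ?_⟩
    · rw [hsmul, hact, gdiag_inf]
    · rw [hsmul, hact, gdiag_pt]
      congr 1
      show _ = (M : F) * x
      rw [hM, Units.val_mul, Units.val_inv_eq_inv_val, div_inv_eq_mul]
    · funext x
      have hit : ∀ j, (⇑μ)^[j] x = (M : F) ^ j * x := by
        intro j
        induction j with
        | zero => simp
        | succ j ih => rw [Function.iterate_succ_apply', ih, pow_succ', mul_assoc]; rfl
      rw [hit, hM, ← Units.val_pow_eq_pow_val, mul_pow, hlaml, one_mul, Units.val_one, one_mul]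
      rfl
    · exact hM1 (mul_right_cancel₀ hx ((show (M : F) * x = x from e).trans (one_mul x).symm))
    · -- at `∞`
      have hx' : s⁻¹ * x * s ∈ S.D ⊔ c.Tw := by simpa using hx s⁻¹
      obtain ⟨hxO, hxf⟩ := S.mem_T0.1 hx'
      rw [show s⁻¹ * (cc * x * cc⁻¹ * x⁻¹) * s =
        s⁻¹ * cc * s * (s⁻¹ * x * s) * (s⁻¹ * cc * s)⁻¹ * (s⁻¹ * x * s)⁻¹ by group]
      have hsc : s⁻¹ * cc * s ∈ c.MW := by
        refine c.mem_MW.2 ?_
        have h1 : Commute cG (c.z * c.w) := (show Commute cG c.z from hcz).mul_right hcw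
        have h2 : (s : G)⁻¹ * (c.z * c.w) * (s : G) = c.w := by rw [← hsw]; group
        have h3 := (h1.map (MulAut.conj (s : G)⁻¹).toMonoidHom).eq
        simp only [MulEquiv.coe_toMonoidHom, MulAut.conj_apply, inv_inv, h2] at h3
        exact h3
      have hr' : s⁻¹ * r * s ∈ c.Tw := by
        refine S.fix_T0 (by simpa using hrV.1 s⁻¹) ?_
        refine c.mem_MW.2 ?_
        have h1 : Commute (r : G) (c.z * c.w) := (show Commute (r : G) c.z from mem_cent.1 r.2).mul_right hrG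
        have h2 : (s : G)⁻¹ * (c.z * c.w) * (s : G) = c.w := by rw [← hsw]; group
        have h3 := (h1.map (MulAut.conj (s : G)⁻¹).toMonoidHom).eq
        simp only [MulEquiv.coe_toMonoidHom, MulAut.conj_apply, inv_inv, h2] at h3
        exact h3
      have hscf : c.s.fldX (c.kap (s⁻¹ * cc * s)) = 1 := by
        set f := c.g⁻¹ * (s : G)⁻¹ * c.g * (s : G) * (s : G) * c.g with hf
        have hfz : f * c.z = c.z * f := by
          refine mul_inv_eq_iff_eq_mul.1 ?_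
          rw [hf, show c.g⁻¹ * (s : G)⁻¹ * c.g * (s : G) * (s : G) * c.g * c.z *
            (c.g⁻¹ * (s : G)⁻¹ * c.g * (s : G) * (s : G) * c.g)⁻¹ = c.g⁻¹ * ((s : G)⁻¹ * (c.g * ((s : G) * ((s : G) *
            (c.g * c.z * c.g⁻¹) * (s : G)⁻¹) * (s : G)⁻¹) * c.g⁻¹) * (s : G)) * c.g by group, c.gz, hsw, hsi',
            c.gw, show (s : G)⁻¹ * (c.z * c.w) * (s : G) = c.w by rw [← hsw]; group]
          exact c.gz'
        show c.fld (c.g⁻¹ * ((s⁻¹ * cc * s : ↥(Subgroup.centralizer ({c.z} : Set G))) : G) * c.g) = 1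
        rw [show c.g⁻¹ * ((s⁻¹ * cc * s : ↥(Subgroup.centralizer ({c.z} : Set G))) : G) * c.g =
          f * (c.g⁻¹ * ((s⁻¹ * r * s : ↥(Subgroup.centralizer ({c.z} : Set G))) : G) * c.g) * f⁻¹ by
          rw [Subgroup.coe_mul, Subgroup.coe_mul, Subgroup.coe_mul, Subgroup.coe_mul, Subgroup.coe_inv]
          show c.g⁻¹ * ((s : G)⁻¹ * cG * (s : G)) * c.g = _
          rw [hcG, ha, hf]
          group, c.fld_conj hfz (c.gM (c.mem_Tw.1 hr').2.1).1]
        exact (c.mem_Tw.1 hr').2.2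
      refine S.mem_K0.2 ⟨mul_mem (c.O_conj' _ hxO) (inv_mem hxO), ?_⟩
      rw [S.red_mul (c.O_conj' _ hxO) (inv_mem hxO), S.red_inv hxO, S.red_conj_M hsc hxO,
        c.k.torus_comm (c.kap_comm_u hsc) hscf (S.red_comm_u hxO) hxf, mul_inv_cancel_right, mul_inv_cancel]
    · -- at `0`
      obtain ⟨hxO, hxf⟩ := S.mem_T0.1 (show x ∈ S.D ⊔ c.Tw by simpa using hx 1)
      refine S.mem_K0.2 ⟨mul_mem (c.O_conj' _ hxO) (inv_mem hxO), ?_⟩
      rw [S.red_mul (c.O_conj' _ hxO) (inv_mem hxO), S.red_inv hxO, S.red_conj_M hccM hxO, hkc, one_mul, inv_one,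
        mul_one, mul_inv_cancel]
    · -- on the common zeros
      obtain ⟨hxO, hxr⟩ := S.mem_K0.1 hx0
      have hxM : x ∈ c.MW := by
        rw [PreSetup.MW, Subgroup.mem_centralizer_singleton_iff]
        exact hwx.symm
      have hxw : (x : G) ∈ coreAt c.w := (c.kap_eq_one hxM).1 (by rw [← S.red_self hxO hxM]; exact hxr)
      have hxa : a⁻¹ * (x : G) * a ∈ coreAt c.z := by
        have h := coreAt_conj a⁻¹ c.w hxw
        rwa [inv_inv, show a⁻¹ * c.w * a = c.z by rw [← haz]; group] at h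
      set x' : ↥(Subgroup.centralizer ({c.z} : Set G)) := ⟨a⁻¹ * (x : G) * a, mem_cent.2 (coreAt_comm hxa)⟩
      have hx'l : x' ^ l = 1 := Subtype.ext (by
        show (a⁻¹ * (x : G) * a) ^ l = 1
        rw [show a⁻¹ * (x : G) * a = a⁻¹ * (x : G) * a⁻¹⁻¹ by group, conj_pow, ← Subgroup.coe_pow, hxl,
          Subgroup.coe_one, mul_one, mul_inv_cancel])
      have hx'O : x' ∈ Cfsg.oddCore ↥(Subgroup.centralizer ({c.z} : Set G)) := c.coe_core.1 hxa
      have hcomm : x' * r * x'⁻¹ * r⁻¹ = 1 := S.faith hb fun d => by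
        rw [show d * (x' * r * x'⁻¹ * r⁻¹) * d⁻¹ =
          d * x' * d⁻¹ * (d * r * d⁻¹) * (d * x' * d⁻¹)⁻¹ * (d * r * d⁻¹)⁻¹ by group]
        exact S.layer_comm hl (c.O_conj' d hx'O) (by rw [conj_pow, hx'l, mul_one, mul_inv_cancel]) (hrV.1 d)
          (by rw [conj_pow, hrV.2, mul_one, mul_inv_cancel])
      have h1 : a⁻¹ * (x : G) * a * (r : G) = (r : G) * (a⁻¹ * (x : G) * a) :=
        congrArg Subtype.val (mul_inv_eq_iff_eq_mul.1 (mul_inv_eq_one.1 hcomm))
      refine Subtype.ext ?_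
      show a * (r : G) * a⁻¹ * (x : G) = (x : G) * (a * (r : G) * a⁻¹)
      calc a * (r : G) * a⁻¹ * (x : G) = a * ((r : G) * (a⁻¹ * (x : G) * a)) * a⁻¹ := by group
        _ = a * (a⁻¹ * (x : G) * a * (r : G)) * a⁻¹ := by rw [h1]
        _ = _ := by group

end Side

namespace PreSetup

variable (c : PreSetup G F H K Q) (co : Coord c.k)
include co

/-- The budget gives the hypotheses of `CoreSetup`. -/
theorem core_setup (hb : LinBudget c co) :
    ∃ cs : CoreSetup G F H K Q, cs.toPreSetup = c ∧ ∀ y, y ∈ coreAt c.z → y ∈ coreAt c.w → y = 1 := by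
  obtain ⟨co', hfix⟩ := c.exists_coord co hb
  let S : Side c := ⟨co', hfix⟩
  letI : MulAction ↥(Subgroup.centralizer ({c.z} : Set G)) (P1 F) := MulAction.compHom _ (c.actC S.co)
  obtain ⟨P, hPO, hPw, hPN⟩ := S.nonempty_pointData hb.faith
  have hw : ∀ y ∈ coreAt c.z, c.w * y = y * c.w := by
    rintro _ ⟨y, hy, rfl⟩
    have h := P.w_comm (hPO ▸ hy)
    rw [hPw] at h
    exact congrArg Subtype.val h
  have hdisj : ∀ y, y ∈ coreAt c.z → y ∈ coreAt c.w → y = 1 := by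
    rintro _ ⟨y, hy, rfl⟩ h
    exact congrArg Subtype.val (P.Nw_eq_bot (x := y) (hPN ▸ ⟨hy, h⟩))
  exact ⟨{ c with w_O := hw, triple := fun y hz hw' _ => hdisj y hz hw' }, rfl, hdisj⟩

end PreSetup

end Cfsg.Agent.Invol.AbgOrder
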