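import Cfsg.Agent.Lib.Invol.AbgOrder.CoreLayer

/-!
# An odd normal subgroup with one quotient for every point of a projective line

`O` is normal of odd order in `C`, which acts doubly transitively on `Ω`, `O` trivially.  For every point there are
`K P ≤ T P ≤ O` with `T P / K P` cyclic, `O / T P` abelian and `⋂ K P = 1`.  Then all `K P` are trivial.
-/

set_option autoImplicit false
set_option linter.style.haveILetI false

namespace Cfsg.Agent.Invol.AbgOrder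

universe u v w

/-- The data. -/
structure LineData (C : Type u) [Group C] (Ω : Type v) [MulAction C Ω] (A : Type w) [AddCommGroup A] where
  O : Subgroup C
  normal : O.Normal
  odd : Odd (Nat.card O)
  inf : Ω
  pt : A → Ω
  pt_ne : ∀ a, pt a ≠ inf
  pt_inj : Function.Injective pt
  pt_all : ∀ P, P ≠ inf → ∃ a, pt a = P
  nontriv : ∃ a : A, a ≠ 0
  two_tf : ∀ a : A, a + a = 0 → a = 0
  two : ∀ P Q P' Q' : Ω, P ≠ Q → P' ≠ Q' → ∃ c : C, c • P = P' ∧ c • Q = Q'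
  O_fix : ∀ o ∈ O, ∀ P : Ω, o • P = P
  K : Ω → Subgroup C
  T : Ω → Subgroup C
  KT : ∀ P, K P ≤ T P
  TO : ∀ P, T P ≤ O
  K_norm : ∀ P, ∀ o ∈ O, ∀ x ∈ K P, o * x * o⁻¹ ∈ K P
  comm_mem : ∀ P, ∀ x ∈ O, ∀ y ∈ O, x * y * x⁻¹ * y⁻¹ ∈ T P
  cyc : ∀ P, ∃ g ∈ T P, ∀ x ∈ T P, ∃ n : ℤ, (g ^ n)⁻¹ * x ∈ K P
  K_conj : ∀ (c : C) (P : Ω), ∀ x ∈ K P, c * x * c⁻¹ ∈ K (c • P)
  T_conj : ∀ (c : C) (P : Ω), ∀ x ∈ T P, c * x * c⁻¹ ∈ T (c • P)
  faith : ∀ x, (∀ P, x ∈ K P) → x = 1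
  cent : ∀ P, ∀ x ∈ O, (∀ o ∈ O, x * o * x⁻¹ * o⁻¹ ∈ K P) → x ∈ T P
  tr : ∀ a : A, ∃ g : C, g • inf = inf ∧ (∀ x, g • pt x = pt (x + a)) ∧ ∀ y ∈ O, g * y * g⁻¹ * y⁻¹ ∈ K inf
  w : C
  w2 : w * w = 1
  w_inf : w • inf = inf
  w_pt : ∀ x, w • pt x = pt (-x)
  w_triv_inf : ∀ y ∈ O, w * y * w⁻¹ * y⁻¹ ∈ K inf
  w_triv_zero : ∀ y ∈ O, w * y * w⁻¹ * y⁻¹ ∈ K (pt 0)
  kact : ∀ k : C, (∀ P : Ω, k • P = P) → ∃ o ∈ O, ∀ P, ∀ y ∈ T P, (k * y * k⁻¹) * (o * y * o⁻¹)⁻¹ ∈ K P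
  cl : ∀ l : ℕ, l.Prime → (∃ y, (∀ P, y ∈ T P) ∧ y ^ l = 1 ∧ y ∉ K (pt 0)) →
    ∃ (c : C) (μ : A ≃+ A), c • inf = inf ∧ (∀ x, c • pt x = pt (μ x)) ∧ (⇑μ)^[l] = id ∧
      (∀ x, x ≠ 0 → μ x ≠ x) ∧ c * w = w * c ∧
      (∀ x, (∀ P, x ∈ T P) → x ^ l = 1 → c * x * c⁻¹ * x⁻¹ ∈ K inf ∧ c * x * c⁻¹ * x⁻¹ ∈ K (pt 0)) ∧
      ∀ x, (∀ P, x ∈ T P) → x ^ l = 1 → w * x = x * w → x ∈ K (pt 0) → x ∈ K inf → c * x = x * c

/-- Two functionals with nested kernels are proportional. -/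
theorem exists_scalar {l : ℕ} [Fact l.Prime] {V : Type*} [AddCommGroup V] [Module (ZMod l) V]
    {f f' : V →ₗ[ZMod l] ZMod l} (hf : f ≠ 0) (h : ∀ v, f v = 0 → f' v = 0) : ∃ t, ∀ v, f' v = t * f v := by
  obtain ⟨u, hu⟩ : ∃ u, f u ≠ 0 := by
    by_contra hh
    push Not at hh
    exact hf (LinearMap.ext hh)
  refine ⟨f' u * (f u)⁻¹, fun v => ?_⟩
  have h1 := h (v - (f v * (f u)⁻¹) • u) (by
    rw [map_sub, map_smul, smul_eq_mul, mul_assoc, inv_mul_cancel₀ hu, mul_one, sub_self])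
  rw [map_sub, map_smul, smul_eq_mul, sub_eq_zero] at h1
  rw [h1]
  ring

namespace LineData

variable {C : Type u} [Group C] [Finite C] {Ω : Type v} [MulAction C Ω] {A : Type w} [AddCommGroup A]
  [Fintype A] (D : LineData C Ω A)
include D

/-- The elements with every image in `T P`. -/
def O1 : Subgroup C := ⨅ P, D.T P

omit [Finite C] [Fintype A] in
theorem mem_O1 {x : C} : x ∈ D.O1 ↔ ∀ P, x ∈ D.T P := Subgroup.mem_iInf

omit [Finite C] [Fintype A] in
theorem O1_le : D.O1 ≤ D.O := fun _ hx => D.TO D.inf (D.mem_O1.1 hx D.inf)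

omit [Finite C] [Fintype A] in
theorem O1_conj (c : C) {x : C} (hx : x ∈ D.O1) : c * x * c⁻¹ ∈ D.O1 :=
  D.mem_O1.2 fun P => by
    simpa using D.T_conj c (c⁻¹ • P) x (D.mem_O1.1 hx _)

omit [Finite C] [Fintype A] in
theorem O1_comm {x y : C} (hx : x ∈ D.O1) (hy : y ∈ D.O1) : x * y = y * x := by
  refine mul_inv_eq_one.1 (show x * y * (y * x)⁻¹ = 1 from ?_)
  refine D.faith _ fun P => ?_
  obtain ⟨g, hg, hgen⟩ := D.cyc P
  obtain ⟨n, hn⟩ := hgen x (D.mem_O1.1 hx P)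
  obtain ⟨m, hm⟩ := hgen y (D.mem_O1.1 hy P)
  haveI hn' : ((D.K P).subgroupOf D.O).Normal :=
    ⟨fun a ha b => D.K_norm P b b.2 a ha⟩
  have hxO := D.O1_le hx
  have hyO := D.O1_le hy
  have hgO := D.TO P hg
  let q := QuotientGroup.mk' ((D.K P).subgroupOf D.O)
  have key : q (⟨x, hxO⟩ * ⟨y, hyO⟩ * (⟨y, hyO⟩ * ⟨x, hxO⟩)⁻¹) = 1 := by
    have ex : q ⟨x, hxO⟩ = q ⟨g, hgO⟩ ^ n := by
      rw [← map_zpow, QuotientGroup.mk'_eq_mk']
      exact ⟨⟨x, hxO⟩⁻¹ * (⟨g, hgO⟩ : D.O) ^ n, by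
        have h := (D.K P).inv_mem hn
        rw [mul_inv_rev, inv_inv] at h
        exact h, mul_inv_cancel_left _ _⟩
    have ey : q ⟨y, hyO⟩ = q ⟨g, hgO⟩ ^ m := by
      rw [← map_zpow, QuotientGroup.mk'_eq_mk']
      exact ⟨⟨y, hyO⟩⁻¹ * (⟨g, hgO⟩ : D.O) ^ m, by
        have h := (D.K P).inv_mem hm
        rw [mul_inv_rev, inv_inv] at h
        exact h, mul_inv_cancel_left _ _⟩
    rw [map_mul, map_mul, map_inv, map_mul, ex, ey, ← zpow_add, ← zpow_add, add_comm, mul_inv_cancel]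
  exact ((QuotientGroup.eq_one_iff _).1 key :)

omit [Finite C] in
/-- On a layer all kernels agree. -/
theorem layer {l : ℕ} (hl : l.Prime) {y : C} (hy : y ∈ D.O1) (hyl : y ^ l = 1) {P : Ω} (hP : y ∈ D.K P) :
    y = 1 := by
  classical
  haveI := Fact.mk hl
  by_contra hy1
  -- the layer
  let V : Subgroup C :=
    { carrier := {x | x ∈ D.O1 ∧ x ^ l = 1}
      one_mem' := ⟨one_mem _, one_pow l⟩
      mul_mem' := fun {a b} ha hb => ⟨mul_mem ha.1 hb.1, by
        rw [(show Commute a b from D.O1_comm ha.1 hb.1).mul_pow, ha.2, hb.2, one_mul]⟩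
      inv_mem' := fun {a} ha => ⟨inv_mem ha.1, by rw [inv_pow, ha.2, inv_one]⟩ }
  have hV1 : ∀ x ∈ V, x ∈ D.O1 := fun x hx => hx.1
  have hl2 : l ≠ 2 := by
    rintro rfl
    have h1 : orderOf (⟨y, D.O1_le hy⟩ : D.O) = 2 :=
      orderOf_eq_prime (Subtype.ext hyl) fun e => hy1 (congrArg Subtype.val e)
    exact Nat.not_odd_iff_even.2 even_two (D.odd.of_dvd_nat (h1 ▸ orderOf_dvd_natCard _))
  haveI : IsMulCommutative V := ⟨⟨fun a b => Subtype.ext (D.O1_comm a.2.1 b.2.1)⟩⟩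
  letI : CommGroup V := { (inferInstance : Group V) with mul_comm := fun a b => Subtype.ext (D.O1_comm a.2.1 b.2.1) }
  letI : Module (ZMod l) (Additive V) := AddCommGroup.zmodModule (n := l) fun v => Additive.toMul.injective
    (show Additive.toMul v ^ l = 1 from Subtype.ext (Additive.toMul v).2.2)
  let cj : C → (Additive V →ₗ[ZMod l] Additive V) := fun c => (MonoidHom.toAdditive
    ({ toFun := fun x => ⟨c * x * c⁻¹, D.O1_conj c x.2.1, by rw [conj_pow, x.2.2, mul_one, mul_inv_cancel]⟩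
       map_one' := Subtype.ext (by simp)
       map_mul' := fun a b => Subtype.ext (by simp [mul_assoc]) } : V →* V)).toZModLinearMap l
  have hcj : ∀ c (v : Additive V), ((Additive.toMul (cj c v) : V) : C) = c * (Additive.toMul v : V) * c⁻¹ :=
    fun c v => rfl
  have cj_mul : ∀ c d v, cj (c * d) v = cj c (cj d v) := fun c d v =>
    Additive.toMul.injective (Subtype.ext (by rw [hcj, hcj, hcj]; group))
  -- no kernel is the whole layer
  have hJne : ∀ Q, ∃ x ∈ V, x ∉ D.K Q := by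
    intro Q
    by_contra hc
    push Not at hc
    refine hy1 (D.faith y fun R => ?_)
    obtain ⟨c, hcQ⟩ : ∃ c : C, c • Q = R := by
      rcases eq_or_ne Q R with e | e
      · exact ⟨1, by rw [one_smul, e]⟩
      · obtain ⟨c, h1, -⟩ := D.two Q R R Q e e.symm
        exact ⟨c, h1⟩
    have h1 := hc (c⁻¹ * y * c) ⟨by simpa using D.O1_conj c⁻¹ hy, by
      rw [show c⁻¹ * y * c = c⁻¹ * y * c⁻¹⁻¹ by group, conj_pow, hyl]; group⟩
    have h2 := D.K_conj c Q _ h1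
    rw [hcQ, show c * (c⁻¹ * y * c) * c⁻¹ = y by group] at h2
    exact h2
  -- the functionals
  have hfun : ∀ Q, ∃ f : Additive V →ₗ[ZMod l] ZMod l, f ≠ 0 ∧
      ∀ v, f v = 0 ↔ ((Additive.toMul v : V) : C) ∈ D.K Q := by
    intro Q
    haveI hn : ((D.K Q).subgroupOf (D.T Q)).Normal := ⟨fun a ha b => D.K_norm Q b (D.TO Q b.2) a ha⟩
    let q : V →* D.T Q ⧸ (D.K Q).subgroupOf (D.T Q) :=
      (QuotientGroup.mk' _).comp (Subgroup.inclusion fun x hx => D.mem_O1.1 (hV1 x hx) Q)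
    have hq : ∀ v : V, q v = 1 ↔ (v : C) ∈ D.K Q := fun v => QuotientGroup.eq_one_iff _
    obtain ⟨g, hg, hgen⟩ := D.cyc Q
    haveI : IsCyclic (D.T Q ⧸ (D.K Q).subgroupOf (D.T Q)) := by
      refine ⟨⟨QuotientGroup.mk (⟨g, hg⟩ : D.T Q), fun t => ?_⟩⟩
      obtain ⟨t, rfl⟩ := QuotientGroup.mk_surjective t
      obtain ⟨n, hn⟩ := hgen t t.2
      refine ⟨n, ?_⟩
      show (QuotientGroup.mk (⟨g, hg⟩ : D.T Q)) ^ n = _
      rw [← QuotientGroup.mk_zpow]
      exact QuotientGroup.eq.2 hn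
    obtain ⟨x, hx, hxK⟩ := hJne Q
    have hcard : Nat.card q.range = l := by
      rw [← IsCyclic.exponent_eq_card]
      refine ((Nat.dvd_prime hl).1 (Monoid.exponent_dvd_of_forall_pow_eq_one ?_)).resolve_left fun h1 => ?_
      · rintro ⟨_, v, rfl⟩
        refine Subtype.ext ?_
        show q v ^ l = 1
        rw [← map_pow, show v ^ l = 1 from Subtype.ext v.2.2, map_one]
      · rw [IsCyclic.exponent_eq_card] at h1
        haveI := (Nat.card_eq_one_iff_unique.1 h1).1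
        exact hxK ((hq ⟨x, hx⟩).1 (congrArg Subtype.val
          (Subsingleton.elim (⟨q ⟨x, hx⟩, ⟨x, hx⟩, rfl⟩ : q.range) 1)))
    let e : q.range ≃* Multiplicative (ZMod l) := mulEquivOfPrimeCardEq hcard
      ((Nat.card_congr Multiplicative.toAdd).trans (Nat.card_zmod l))
    let f : Additive V →ₗ[ZMod l] ZMod l :=
      (MonoidHom.toAdditiveLeft (e.toMonoidHom.comp q.rangeRestrict)).toZModLinearMap l
    have hf : ∀ v : Additive V, f v = 0 ↔ ((Additive.toMul v : V) : C) ∈ D.K Q := by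
      intro v
      rw [← hq]
      show Multiplicative.toAdd (e (q.rangeRestrict _)) = 0 ↔ _
      rw [toAdd_eq_zero, map_eq_one_iff _ e.injective, Subtype.ext_iff]
      rfl
    exact ⟨f, fun h => hxK ((hf (Additive.ofMul ⟨x, hx⟩)).1 (by rw [h]; rfl)), hf⟩
  choose f hf0 hfK using hfun
  have hfc : ∀ (c : C) Q, ∃ t, ∀ v, f (c • Q) (cj c v) = t * f Q v := by
    intro c Q
    exact exists_scalar (hf0 Q) (f' := (f (c • Q)).comp (cj c)) fun v hv =>
      (hfK (c • Q) _).2 (D.K_conj c Q _ ((hfK Q v).1 hv))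
  have hfix : ∀ c Q, (∀ v : Additive V, c * ((Additive.toMul v : V) : C) * c⁻¹ * (((Additive.toMul v : V) : C))⁻¹ ∈
      D.K Q) → ∀ v, f Q (cj c v) = f Q v := by
    intro c Q h v
    have h1 : f Q (cj c v - v) = 0 := (hfK Q _).2 (by
      rw [sub_eq_add_neg, toMul_add, toMul_neg, Subgroup.coe_mul, Subgroup.coe_inv, hcj]
      exact h v)
    rwa [map_sub, sub_eq_zero] at h1
  have hη : ∀ (o : D.O) Q, ∃ t, ∀ v, f Q (cj (o : C) v) = t * f Q v := fun o Q => by
    obtain ⟨t, ht⟩ := hfc o Q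
    exact ⟨t, fun v => by rw [← ht, D.O_fix o o.2]⟩
  choose η hη using hη
  have hηu : ∀ Q (t t' : ZMod l), (∀ v, t * f Q v = t' * f Q v) → t = t' := by
    intro Q t t' h
    obtain ⟨v, hv⟩ : ∃ v, f Q v ≠ 0 := by
      by_contra hh
      push Not at hh
      exact hf0 Q (LinearMap.ext hh)
    exact mul_right_cancel₀ hv (h v)
  let η' : Ω → D.O →* ZMod l := fun Q =>
    { toFun := fun o => η o Q
      map_one' := hηu Q _ _ fun v => by
        rw [← hη 1 Q, one_mul]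
        exact congrArg (f Q) (Additive.toMul.injective (Subtype.ext (by rw [hcj]; simp)))
      map_mul' := fun a b => hηu Q _ _ fun v => by
        rw [← hη (a * b) Q, Subgroup.coe_mul, cj_mul, hη, hη, mul_assoc] }
  haveI := D.normal
  have hηc : ∀ (c : C) Q Q', η' Q = η' Q' → η' (c • Q) = η' (c • Q') := by
    intro c Q Q' e
    have h : ∀ R (o : D.O), η' (c • R) o = η' R ⟨c⁻¹ * (o : C) * c, by
        simpa using D.normal.conj_mem o o.2 c⁻¹⟩ := by
      intro R o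
      obtain ⟨t, ht⟩ := hfc c R
      refine hηu (c • R) _ _ fun v => ?_
      obtain ⟨v, rfl⟩ : ∃ v', cj c v' = v := ⟨cj c⁻¹ v, by
        rw [← cj_mul, mul_inv_cancel]; exact Additive.toMul.injective (Subtype.ext (by rw [hcj]; simp))⟩
      show η o (c • R) * _ = η _ R * _
      rw [← hη o, ← cj_mul, show (o : C) * c = c * (c⁻¹ * o * c) by group, cj_mul, ht,
        ht, show f R (cj (c⁻¹ * o * c) v) = _ from hη ⟨c⁻¹ * (o : C) * c, by
          simpa using D.normal.conj_mem o o.2 c⁻¹⟩ R v]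
      ring
    exact MonoidHom.ext fun o => by rw [h Q o, h Q' o, e]
  obtain ⟨z, hz⟩ := hJne (D.pt 0)
  obtain ⟨c, μ, hcinf, hcpt, hμ, hμfix, hcw, hctriv, hccomm⟩ :=
    D.cl l hl ⟨z, D.mem_O1.1 hz.1.1, hz.1.2, hz.2⟩
  have hc0 : c • D.pt 0 = D.pt 0 := by rw [hcpt, map_zero]
  have hw0 : D.w • D.pt 0 = D.pt 0 := by rw [D.w_pt, neg_zero]
  have hωω : ∀ v : Additive V, cj D.w (cj D.w v) = v := fun v =>
    Additive.toMul.injective (Subtype.ext (by
      rw [← cj_mul, hcj, D.w2, one_mul, inv_one, mul_one]))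
  have hwc : ∀ v : Additive V, cj D.w (cj c v) = cj c (cj D.w v) := fun v => by rw [← cj_mul, ← cj_mul, hcw]
  have hcfix : ∀ v : Additive V, cj D.w v = v → f (D.pt 0) v = 0 → f D.inf v = 0 → cj c v = v := by
    intro v hv h0 hi
    refine Additive.toMul.injective (Subtype.ext ?_)
    rw [hcj, hccomm _ (D.mem_O1.1 (Additive.toMul v).2.1) (Additive.toMul v).2.2 (by
      have e := congrArg (fun u => ((Additive.toMul u : V) : C)) hv
      simp only [hcj] at e
      exact mul_inv_eq_iff_eq_mul.1 e) ((hfK _ v).1 h0) ((hfK _ v).1 hi), mul_inv_cancel_right]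
  have hwfix : ∀ R, (∀ o ∈ D.O, D.w * o * D.w⁻¹ * o⁻¹ ∈ D.K R) → ∀ v, f R (cj D.w v) = f R v :=
    fun R h v => hfix _ _ (fun u => h _ (D.O1_le (Additive.toMul u).2.1)) v
  have hall : ∀ R, R = D.inf ∨ ∃ a, D.pt a = R := fun R => (em (R = D.inf)).imp_right (D.pt_all R)
  by_cases hsame : ∀ Q, η' Q = η' D.inf
  swap
  · -- independent functionals
    have hinj : Function.Injective η' := by
      intro Q Q' e
      by_contra hne
      refine hsame fun R => ?_
      rcases eq_or_ne R D.inf with rfl | hR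
      · rfl
      obtain ⟨d, h1, h2⟩ := D.two Q Q' R D.inf hne hR
      rw [← h1, ← h2]
      exact hηc d Q Q' e
    haveI : Finite Ω := Finite.of_surjective (fun o : Option A => o.elim D.inf D.pt) fun R => by
      rcases hall R with rfl | ⟨a, rfl⟩
      · exact ⟨none, rfl⟩
      · exact ⟨some a, rfl⟩
    haveI := Fintype.ofFinite Ω
    obtain ⟨x, hx⟩ := D.nontriv
    obtain ⟨v, hv⟩ := exists_prescribed f hf0 η' hinj (fun o => cj (o : C)) (fun Q o v => hη o Q v)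
      (fun Q => if Q = D.pt x then 1 else 0)
    set u := v + cj D.w v with hu
    have huw : cj D.w u = u := by rw [hu, map_add, hωω, add_comm]
    obtain ⟨t, ht⟩ := hfc D.w (D.pt (-x))
    rw [D.w_pt, neg_neg] at ht
    have hxx : -x ≠ x := fun e => hx (D.two_tf x (by nth_rw 2 [← e]; rw [add_neg_cancel]))
    have hux : f (D.pt x) u = 1 := by
      rw [hu, map_add, ht, hv, hv, if_pos rfl, if_neg (fun e => hxx (D.pt_inj e)), mul_zero, add_zero]
    have hu0 : ∀ a, a ≠ x → a ≠ -x → f (D.pt a) u = 0 := by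
      intro a h1 h2
      obtain ⟨t', ht'⟩ := hfc D.w (D.pt (-a))
      rw [D.w_pt, neg_neg] at ht'
      rw [hu, map_add, ht', hv, hv, if_neg (fun e => h1 (D.pt_inj e)),
        if_neg (fun e => h2 (neg_eq_iff_eq_neg.1 (D.pt_inj e))), mul_zero, add_zero]
    have hui : f D.inf u = 0 := by
      rw [hu, map_add, hwfix _ D.w_triv_inf, hv, if_neg (fun e => D.pt_ne x e.symm), add_zero]
    have hcu : cj c u = u := hcfix u huw (hu0 0 (Ne.symm hx) (fun e => hx (by rw [← neg_neg x, ← e, neg_zero]))) hui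
    obtain ⟨t'', ht''⟩ := hfc c⁻¹ (D.pt (μ x))
    rw [show c⁻¹ • D.pt (μ x) = D.pt x by rw [inv_smul_eq_iff, hcpt]] at ht''
    have h1 : f (D.pt x) (cj c⁻¹ u) = 1 := by
      conv_lhs => rw [← hcu, ← cj_mul, inv_mul_cancel]
      rw [show cj 1 u = u from Additive.toMul.injective (Subtype.ext (by rw [hcj]; simp)), hux]
    have hμx : μ x ≠ -x := fun e => by
      have h2 : μ (μ x) = x := by rw [e, map_neg, e, neg_neg]
      have h4 : ∀ k, (⇑μ)^[2 * k] x = x := fun k => by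
        rw [Function.iterate_mul]
        exact Function.iterate_fixed (show (⇑μ)^[2] x = x from h2) k
      obtain ⟨k, hk⟩ := hl.odd_of_ne_two hl2
      have h5 := congrFun hμ x
      rw [hk, Function.iterate_add_apply, Function.iterate_one, id_eq] at h5
      refine hμfix x hx ?_
      have h6 := congrArg μ (h4 k)
      rw [← Function.iterate_succ_apply' (⇑μ), Function.iterate_succ_apply] at h6
      rw [← h6, h5]
    rw [ht'', hu0 _ (hμfix x hx) hμx, mul_zero] at h1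
    exact zero_ne_one h1
  -- scalar action of `O`
  choose g hginf hgpt hgK using D.tr
  have hgfix : ∀ a v, f D.inf (cj (g a) v) = f D.inf v :=
    fun a => hfix _ _ fun u => hgK a _ (D.O1_le (Additive.toMul u).2.1)
  have huniq : ∀ d d' : C, (∀ R : Ω, d • R = d' • R) → (∀ v, f D.inf (cj d v) = f D.inf v) →
      (∀ v, f D.inf (cj d' v) = f D.inf v) → ∀ v, cj d v = cj d' v := by
    intro d d' hperm hd hd' v
    obtain ⟨o, ho, hko⟩ := D.kact (d'⁻¹ * d) fun R => by rw [mul_smul, hperm, inv_smul_smul]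
    have hko' : ∀ u, cj (d'⁻¹ * d) u = cj o u := fun u => by
      refine Additive.toMul.injective (Subtype.ext (mul_inv_eq_one.1 (D.faith _ fun R => ?_)))
      simp only [hcj]
      exact hko R _ (D.mem_O1.1 (Additive.toMul u).2.1 R)
    have hfd : ∀ u, f D.inf (cj (d'⁻¹ * d) u) = f D.inf u := fun u => by
      rw [← hd' (cj (d'⁻¹ * d) u), ← cj_mul, mul_inv_cancel_left, hd]
    have h1 : η' D.inf ⟨o, ho⟩ = 1 := hηu D.inf _ _ fun u => by
      show η _ D.inf * _ = _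
      rw [← hη ⟨o, ho⟩ D.inf, ← hko', hfd, one_mul]
    have hid : ∀ u, cj o u = u := fun u => by
      refine Additive.toMul.injective (Subtype.ext (mul_inv_eq_one.1 (D.faith _ fun R => ?_)))
      have h2 : f R (cj o u - u) = 0 := by
        rw [map_sub, show f R (cj o u) = _ from hη ⟨o, ho⟩ R u,
          show η ⟨o, ho⟩ R = 1 from (DFunLike.congr_fun (hsame R) ⟨o, ho⟩).trans h1, one_mul, sub_self]
      have h3 := (hfK R _).1 h2
      rw [sub_eq_add_neg, toMul_add, toMul_neg, Subgroup.coe_mul, Subgroup.coe_inv] at h3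
      exact h3
    rw [← mul_inv_cancel_left d' d, cj_mul, hko', hid]
  let F : A → (Additive V →ₗ[ZMod l] ZMod l) := fun x => (f (D.pt 0)).comp (cj (g (-x)))
  have hF : ∀ x v, F x v = f (D.pt 0) (cj (g (-x)) v) := fun _ _ => rfl
  have hperm : ∀ d d' : C, d • D.inf = d' • D.inf → (∀ a, d • D.pt a = d' • D.pt a) → ∀ R : Ω, d • R = d' • R := by
    intro d d' h h' R
    rcases hall R with rfl | ⟨a, rfl⟩
    exacts [h, h' a]
  have hmulfix : ∀ d d', (∀ v, f D.inf (cj d v) = f D.inf v) → (∀ v, f D.inf (cj d' v) = f D.inf v) →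
      ∀ v, f D.inf (cj (d * d') v) = f D.inf v := fun d d' h h' v => by rw [cj_mul, h, h']
  have hwi := hwfix _ D.w_triv_inf
  have hci : ∀ v, f D.inf (cj c v) = f D.inf v := fun v =>
    hfix _ _ (fun u => (hctriv _ (D.mem_O1.1 (Additive.toMul u).2.1) (Additive.toMul u).2.2).1) v
  have hF0 : ∀ v, F 0 v = f (D.pt 0) v := fun v => by
    rw [hF, huniq (g (-0)) 1 (hperm _ _ (by rw [hginf, one_smul]) fun a => by rw [hgpt, one_smul, neg_zero, add_zero])
      (hgfix _) (fun u => congrArg (f D.inf) (Additive.toMul.injective (Subtype.ext (by rw [hcj]; simp))))]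
    exact congrArg (f _) (Additive.toMul.injective (Subtype.ext (by rw [hcj]; simp)))
  have hconst : ∀ x, F x = F 0 := by
    refine translates_equal hl2 F (f D.inf) (cj D.w) (cj c) μ.symm ?_ ?_ hωω ?_ ?_ hci hwc
      (fun v hv h0 hi => hcfix v hv (hF0 v ▸ h0) hi) ?_
    · have h1 : ∀ (n : ℕ) (x : A), (⇑μ)^[n] ((⇑μ.symm)^[n] x) = x :=
        fun n x => Function.LeftInverse.iterate μ.apply_symm_apply n x
      funext x
      have h2 := h1 l x
      rw [hμ] at h2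
      exact h2
    · intro x hx e
      exact hμfix x hx (μ.symm.injective ((μ.symm_apply_apply x).trans e.symm))
    · intro x v
      rw [hF, hF, ← cj_mul, huniq (g (-x) * D.w) (D.w * g (- -x))
        (hperm _ _ (by simp [mul_smul, hginf, D.w_inf]) fun a => by
          rw [mul_smul, mul_smul, D.w_pt, hgpt, hgpt, D.w_pt, neg_neg, neg_add])
        (hmulfix _ _ (hgfix _) hwi) (hmulfix _ _ hwi (hgfix _)), cj_mul, hwfix _ D.w_triv_zero]
    · intro x v
      rw [hF, hF, ← cj_mul, huniq (g (-x) * c) (c * g (-μ.symm x))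
        (hperm _ _ (by simp [mul_smul, hginf, hcinf]) fun a => by
          rw [mul_smul, mul_smul, hcpt, hgpt, hgpt, hcpt, map_add, map_neg, μ.apply_symm_apply])
        (hmulfix _ _ (hgfix _) hci) (hmulfix _ _ hci (hgfix _)), cj_mul]
      exact hfix _ _ (fun u => (hctriv _ (D.mem_O1.1 (Additive.toMul u).2.1) (Additive.toMul u).2.2).2) _
    · intro a
      refine ⟨cj (g (-a)), fun x v => ?_⟩
      rw [hF, hF, ← cj_mul, huniq (g (-x) * g (-a)) (g (-(x + a)))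
        (hperm _ _ (by simp [mul_smul, hginf]) fun b => by
          rw [mul_smul, hgpt, hgpt, hgpt, neg_add, add_assoc, add_comm (-a)])
        (hmulfix _ _ (hgfix _) (hgfix _)) (hgfix _)]
  -- all kernels agree
  have hK0 : ∀ a, ∀ v ∈ V, v ∈ D.K (D.pt a) → v ∈ D.K (D.pt 0) := by
    intro a v hv hva
    refine (hfK _ (Additive.ofMul ⟨v, hv⟩)).1 ?_
    rw [← hF0, ← hconst a, hF]
    refine (hfK _ _).2 ?_
    rw [hcj]
    have h1 := D.K_conj (g (-a)) (D.pt a) v hva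
    rwa [hgpt, add_neg_cancel] at h1
  have hK1 : ∀ a, ∀ v ∈ V, v ∈ D.K (D.pt 0) → v ∈ D.K (D.pt a) := by
    intro a v hv hva
    have e : f (D.pt a) (Additive.ofMul ⟨v, hv⟩) = 0 := by
      obtain ⟨t, ht⟩ := hfc (g a) (D.pt 0)
      rw [hgpt, zero_add] at ht
      obtain ⟨u, hu⟩ : ∃ u, cj (g a) u = Additive.ofMul ⟨v, hv⟩ := ⟨cj (g a)⁻¹ (Additive.ofMul ⟨v, hv⟩), by
        rw [← cj_mul, mul_inv_cancel]; exact Additive.toMul.injective (Subtype.ext (by rw [hcj]; simp))⟩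
      rw [← hu, ht]
      have h2 : f (D.pt 0) u = F (-a) (Additive.ofMul ⟨v, hv⟩) * 1 := by
        rw [mul_one, hconst, hF0, ← hu]
        have h3 := hconst (-a)
        have h4 : F (-a) u = f (D.pt 0) (cj (g a) u) := by rw [hF, neg_neg]
        rw [← h4, h3, hF0]
      rw [h2, hconst, hF0, (hfK _ (Additive.ofMul ⟨v, hv⟩)).2 hva, zero_mul, mul_zero]
    exact (hfK _ _).1 e
  obtain ⟨x, hx⟩ := D.nontriv
  obtain ⟨d, hd1, hd2⟩ := D.two D.inf (D.pt 0) (D.pt 0) (D.pt x) (D.pt_ne 0).symm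
    (fun e => hx (D.pt_inj e).symm)
  have hinfeq : ∀ v ∈ V, v ∈ D.K D.inf ↔ v ∈ D.K (D.pt 0) := by
    intro v hv
    have hv' : d * v * d⁻¹ ∈ V := ⟨D.O1_conj d hv.1, by rw [conj_pow, hv.2, mul_one, mul_inv_cancel]⟩
    constructor
    · intro h
      have h1 := D.K_conj d D.inf v h
      rw [hd1] at h1
      have h2 := D.K_conj d⁻¹ (D.pt x) _ (hK1 x _ hv' h1)
      rw [← hd2, inv_smul_smul, show d⁻¹ * (d * v * d⁻¹) * d⁻¹⁻¹ = v by group] at h2
      exact h2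
    · intro h
      have h1 := D.K_conj d (D.pt 0) v h
      rw [hd2] at h1
      have h2 := D.K_conj d⁻¹ (D.pt 0) _ (hK0 x _ hv' h1)
      rw [← hd1, inv_smul_smul, show d⁻¹ * (d * v * d⁻¹) * d⁻¹⁻¹ = v by group] at h2
      exact h2
  refine hy1 (D.faith y fun R => ?_)
  have hy0 : y ∈ D.K (D.pt 0) := by
    rcases hall P with rfl | ⟨a, rfl⟩
    · exact (hinfeq y ⟨hy, hyl⟩).1 hP
    · exact hK0 a y ⟨hy, hyl⟩ hP
  rcases hall R with rfl | ⟨a, rfl⟩
  · exact (hinfeq y ⟨hy, hyl⟩).2 hy0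
  · exact hK1 a y ⟨hy, hyl⟩ hy0

/-- All the kernels are trivial. -/
theorem eq_one {P : Ω} {x : C} (hx : x ∈ D.K P) : x = 1 := by
  classical
  have hcap : ∀ y ∈ D.O1, ∀ Q, y ∈ D.K Q → y = 1 := by
    intro y hy Q hQ
    by_contra hy1
    have hn : orderOf y ≠ 1 := fun e => hy1 (orderOf_eq_one_iff.1 e)
    obtain ⟨l, hl, k, hk⟩ := Nat.exists_prime_and_dvd hn
    have h1 := D.layer hl (pow_mem hy k) (by rw [← pow_mul, mul_comm, ← hk, pow_orderOf_eq_one]) (pow_mem hQ k)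
    have h2 := Nat.le_of_dvd (Nat.pos_of_ne_zero fun e => by
      rw [e, mul_zero] at hk; exact (orderOf_pos y).ne' hk) (orderOf_dvd_of_pow_eq_one h1)
    rw [hk] at h2
    have h3 := hl.two_le
    have h4 : 0 < k := Nat.pos_of_ne_zero fun e => by rw [e, mul_zero] at hk; exact (orderOf_pos y).ne' hk
    have h5 := Nat.mul_le_mul_right k h3
    omega
  have hcentral : ∀ Q, ∀ y ∈ D.K Q, ∀ o ∈ D.O, y * o * y⁻¹ * o⁻¹ = 1 := by
    intro Q y hy o ho
    have hyO := D.TO Q (D.KT Q hy)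
    refine hcap _ (D.mem_O1.2 fun R => D.comm_mem R y hyO o ho) Q ?_
    rw [show y * o * y⁻¹ * o⁻¹ = y * (o * y⁻¹ * o⁻¹) by group]
    exact mul_mem hy (D.K_norm Q o ho _ (inv_mem hy))
  have hxO1 : x ∈ D.O1 := D.mem_O1.2 fun R =>
    D.cent R x (D.TO P (D.KT P hx)) fun o ho => by rw [hcentral P x hx o ho]; exact one_mem _
  exact hcap x hxO1 P hx

/-- The involution centralises `O`. -/
theorem w_comm {o : C} (ho : o ∈ D.O) : D.w * o = o * D.w :=
  mul_inv_eq_iff_eq_mul.1 (mul_inv_eq_one.1 (D.eq_one (D.w_triv_inf o ho)))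

end LineData

end Cfsg.Agent.Invol.AbgOrder
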