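import Cfsg.Agent.Lib.Invol.AbgOrder.CorePoints

/-!
# The map from the odd core to its image at `w`

Once the fixed part of `D 0` lies in `Nw`, an element `r d` (`r` fixed by `w`, `d ∈ D 0`) has the image `κ_w r`; this
is a homomorphism with kernel `D 0 ⊔ Nw`, equivariant for the stabiliser of `0`.
-/

set_option autoImplicit false
set_option linter.style.haveILetI false

namespace Cfsg.Agent.Invol.AbgOrder

open Matrix Cfsg.Agent.Classical
open Cfsg.Agent.Invol.BrauerL3 (Tbl scal mem_scal)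

universe u v w x

variable {G : Type u} [Group G] [Finite G] {F : Type v} [Field F] [Fintype F] {H : Type w} [Group H] {K : Type x}
  [CommGroup K] {Q : ℤ}

/-- Coordinates in which the fixed part of `D 0` acts trivially at `w`. -/
structure Side (c : PreSetup G F H K Q) where
  co : Coord c.k
  fixD : ∀ r ∈ c.DP co (ptP 0), r ∈ c.MW → r ∈ c.Nw

namespace Side

variable {c : PreSetup G F H K Q} (S : Side c)
include S

/-- The subgroup at `0`. -/
noncomputable def D : Subgroup ↥(Subgroup.centralizer ({c.z} : Set G)) := c.DP S.co (ptP 0)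

theorem D_le {x : ↥(Subgroup.centralizer ({c.z} : Set G))} (hx : x ∈ S.D) :
    x ∈ Cfsg.oddCore ↥(Subgroup.centralizer ({c.z} : Set G)) := c.DP_le S.co _ hx

theorem w_comm_mem {o : ↥(Subgroup.centralizer ({c.z} : Set G))}
    (ho : o ∈ Cfsg.oddCore ↥(Subgroup.centralizer ({c.z} : Set G))) : o⁻¹ * (c.wC * o * c.wC) ∈ S.D :=
  c.DP_gen S.co ho c.wC_sq (c.w_fix S.co).2

theorem D_O {o x : ↥(Subgroup.centralizer ({c.z} : Set G))}
    (ho : o ∈ Cfsg.oddCore ↥(Subgroup.centralizer ({c.z} : Set G))) (hx : x ∈ S.D) : o * x * o⁻¹ ∈ S.D :=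
  c.DP_norm S.co ho hx

theorem exists_split {y : ↥(Subgroup.centralizer ({c.z} : Set G))}
    (hy : y ∈ Cfsg.oddCore ↥(Subgroup.centralizer ({c.z} : Set G))) :
    ∃ r, r ∈ Cfsg.oddCore ↥(Subgroup.centralizer ({c.z} : Set G)) ∧ r ∈ c.MW ∧ r⁻¹ * y ∈ S.D := by
  obtain ⟨r, d, rfl, hd, hr, hrw⟩ := split_fixed c.O_odd c.wC_sq hy (fun _ h => S.D_le h) (S.w_comm_mem hy)
  exact ⟨r, hr, c.fix_iff.1 hrw, by rw [inv_mul_cancel_left]; exact hd⟩

/-- The image at `w` of the fixed part. -/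
noncomputable def red (y : ↥(Subgroup.centralizer ({c.z} : Set G))) :
    ↥(Subgroup.centralizer ({c.z} : Set G)) ⧸ Cfsg.oddCore ↥(Subgroup.centralizer ({c.z} : Set G)) :=
  haveI := Classical.propDecidable (y ∈ Cfsg.oddCore ↥(Subgroup.centralizer ({c.z} : Set G)))
  if h : y ∈ Cfsg.oddCore ↥(Subgroup.centralizer ({c.z} : Set G)) then c.kap (S.exists_split h).choose else 1

theorem red_eq {y r : ↥(Subgroup.centralizer ({c.z} : Set G))}
    (hy : y ∈ Cfsg.oddCore ↥(Subgroup.centralizer ({c.z} : Set G)))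
    (_hr : r ∈ Cfsg.oddCore ↥(Subgroup.centralizer ({c.z} : Set G))) (hrw : r ∈ c.MW) (hd : r⁻¹ * y ∈ S.D) :
    S.red y = c.kap r := by
  obtain ⟨h1, h2, h3⟩ := (S.exists_split hy).choose_spec
  simp only [red, dif_pos hy]
  set r' := (S.exists_split hy).choose
  have h4 : r⁻¹ * r' ∈ S.D := by
    have h := mul_mem hd (inv_mem h3)
    rwa [show r⁻¹ * y * (r'⁻¹ * y)⁻¹ = r⁻¹ * r' by group] at h
  have h5 := (c.mem_Nw.1 (S.fixD _ h4 (mul_mem (inv_mem hrw) h2))).2.2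
  rw [c.kap_mul (inv_mem hrw) h2, c.kap_inv hrw, inv_mul_eq_one] at h5
  exact h5.symm

theorem red_self {r : ↥(Subgroup.centralizer ({c.z} : Set G))}
    (hr : r ∈ Cfsg.oddCore ↥(Subgroup.centralizer ({c.z} : Set G))) (hrw : r ∈ c.MW) : S.red r = c.kap r :=
  S.red_eq hr hr hrw (by rw [inv_mul_cancel]; exact one_mem _)

theorem red_D {d : ↥(Subgroup.centralizer ({c.z} : Set G))} (hd : d ∈ S.D) : S.red d = 1 := by
  rw [S.red_eq (S.D_le hd) (one_mem _) (one_mem _) (by rw [inv_one, one_mul]; exact hd), c.kap_one]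

theorem red_mul {x y : ↥(Subgroup.centralizer ({c.z} : Set G))}
    (hx : x ∈ Cfsg.oddCore ↥(Subgroup.centralizer ({c.z} : Set G)))
    (hy : y ∈ Cfsg.oddCore ↥(Subgroup.centralizer ({c.z} : Set G))) : S.red (x * y) = S.red x * S.red y := by
  obtain ⟨r, hr, hrw, hd⟩ := S.exists_split hx
  obtain ⟨r', hr', hrw', hd'⟩ := S.exists_split hy
  rw [S.red_eq hx hr hrw hd, S.red_eq hy hr' hrw' hd', ← c.kap_mul hrw hrw']
  refine S.red_eq (mul_mem hx hy) (mul_mem hr hr') (mul_mem hrw hrw') ?_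
  have h := mul_mem (S.D_O (inv_mem hr') hd) hd'
  rwa [show r'⁻¹ * (r⁻¹ * x) * r'⁻¹⁻¹ * (r'⁻¹ * y) = (r * r')⁻¹ * (x * y) by group] at h

theorem red_inv {x : ↥(Subgroup.centralizer ({c.z} : Set G))}
    (hx : x ∈ Cfsg.oddCore ↥(Subgroup.centralizer ({c.z} : Set G))) : S.red x⁻¹ = (S.red x)⁻¹ := by
  refine eq_inv_of_mul_eq_one_left ?_
  rw [← S.red_mul (inv_mem hx) hx, inv_mul_cancel, S.red_D (one_mem _)]

theorem red_comm {x y : ↥(Subgroup.centralizer ({c.z} : Set G))}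
    (hx : x ∈ Cfsg.oddCore ↥(Subgroup.centralizer ({c.z} : Set G)))
    (hy : y ∈ Cfsg.oddCore ↥(Subgroup.centralizer ({c.z} : Set G))) :
    S.red (x * y * x⁻¹ * y⁻¹) = S.red x * S.red y * (S.red x)⁻¹ * (S.red y)⁻¹ := by
  rw [S.red_mul (mul_mem (mul_mem hx hy) (inv_mem hx)) (inv_mem hy), S.red_mul (mul_mem hx hy) (inv_mem hx),
    S.red_mul hx hy, S.red_inv hx, S.red_inv hy]

theorem red_comm_u {x : ↥(Subgroup.centralizer ({c.z} : Set G))}
    (hx : x ∈ Cfsg.oddCore ↥(Subgroup.centralizer ({c.z} : Set G))) : Commute (S.red x) c.k.u := by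
  obtain ⟨r, hr, hrw, hd⟩ := S.exists_split hx
  rw [S.red_eq hx hr hrw hd]
  exact c.kap_comm_u hrw

theorem red_odd {x : ↥(Subgroup.centralizer ({c.z} : Set G))}
    (hx : x ∈ Cfsg.oddCore ↥(Subgroup.centralizer ({c.z} : Set G))) : Odd (orderOf (S.red x)) := by
  obtain ⟨r, hr, hrw, hd⟩ := S.exists_split hx
  rw [S.red_eq hx hr hrw hd]
  exact c.kap_odd hrw hr

theorem sup_le_core {B : Subgroup ↥(Subgroup.centralizer ({c.z} : Set G))}
    (hB : B ≤ Cfsg.oddCore ↥(Subgroup.centralizer ({c.z} : Set G))) :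
    S.D ⊔ B ≤ Cfsg.oddCore ↥(Subgroup.centralizer ({c.z} : Set G)) := sup_le (fun _ h => S.D_le h) hB

theorem mem_K0 {y : ↥(Subgroup.centralizer ({c.z} : Set G))} :
    y ∈ S.D ⊔ c.Nw ↔ y ∈ Cfsg.oddCore ↥(Subgroup.centralizer ({c.z} : Set G)) ∧ S.red y = 1 := by
  constructor
  · intro h
    have hle : S.D ⊔ c.Nw ≤ Cfsg.oddCore ↥(Subgroup.centralizer ({c.z} : Set G)) :=
      S.sup_le_core fun _ h => h.1
    refine ⟨hle h, ?_⟩
    let ker : Subgroup ↥(Subgroup.centralizer ({c.z} : Set G)) :=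
      { carrier := {y | y ∈ Cfsg.oddCore ↥(Subgroup.centralizer ({c.z} : Set G)) ∧ S.red y = 1}
        one_mem' := ⟨one_mem _, S.red_D (one_mem _)⟩
        mul_mem' := fun {a b} ha hb => ⟨mul_mem ha.1 hb.1, by rw [S.red_mul ha.1 hb.1, ha.2, hb.2, one_mul]⟩
        inv_mem' := fun {a} ha => ⟨inv_mem ha.1, by rw [S.red_inv ha.1, ha.2, inv_one]⟩ }
    exact ((show S.D ⊔ c.Nw ≤ ker from sup_le (fun d hd => ⟨S.D_le hd, S.red_D hd⟩)
      fun n hn => ⟨hn.1, by rw [S.red_self hn.1 (c.Nw_le hn).2]; exact (c.mem_Nw.1 hn).2.2⟩) h).2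
  · rintro ⟨hy, h⟩
    obtain ⟨r, hr, hrw, hd⟩ := S.exists_split hy
    rw [S.red_eq hy hr hrw hd] at h
    have h1 : r ∈ S.D ⊔ c.Nw := Subgroup.mem_sup_right (c.mem_Nw.2 ⟨hr, hrw, h⟩)
    simpa using mul_mem h1 (Subgroup.mem_sup_left (T := c.Nw) hd)

theorem mem_T0 {y : ↥(Subgroup.centralizer ({c.z} : Set G))} :
    y ∈ S.D ⊔ c.Tw ↔ y ∈ Cfsg.oddCore ↥(Subgroup.centralizer ({c.z} : Set G)) ∧ c.s.fldX (S.red y) = 1 := by
  constructor
  · intro h
    have hle : S.D ⊔ c.Tw ≤ Cfsg.oddCore ↥(Subgroup.centralizer ({c.z} : Set G)) := S.sup_le_core fun _ h => h.1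
    refine ⟨hle h, ?_⟩
    let ker : Subgroup ↥(Subgroup.centralizer ({c.z} : Set G)) :=
      { carrier := {y | y ∈ Cfsg.oddCore ↥(Subgroup.centralizer ({c.z} : Set G)) ∧ c.s.fldX (S.red y) = 1}
        one_mem' := ⟨one_mem _, by rw [S.red_D (one_mem _), map_one]⟩
        mul_mem' := fun {a b} ha hb => ⟨mul_mem ha.1 hb.1, by
          rw [S.red_mul ha.1 hb.1, map_mul, ha.2, hb.2, one_mul]⟩
        inv_mem' := fun {a} ha => ⟨inv_mem ha.1, by rw [S.red_inv ha.1, map_inv, ha.2, inv_one]⟩ }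
    exact ((show S.D ⊔ c.Tw ≤ ker from sup_le (fun d hd => ⟨S.D_le hd, by rw [S.red_D hd, map_one]⟩)
      fun n hn => ⟨hn.1, by rw [S.red_self hn.1 (c.mem_Tw.1 hn).2.1]; exact (c.mem_Tw.1 hn).2.2⟩) h).2
  · rintro ⟨hy, h⟩
    obtain ⟨r, hr, hrw, hd⟩ := S.exists_split hy
    rw [S.red_eq hy hr hrw hd] at h
    have h1 : r ∈ S.D ⊔ c.Tw := Subgroup.mem_sup_right (c.mem_Tw.2 ⟨hr, hrw, h⟩)
    simpa using mul_mem h1 (Subgroup.mem_sup_left (T := c.Tw) hd)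

theorem fix_T0 {y : ↥(Subgroup.centralizer ({c.z} : Set G))} (hy : y ∈ S.D ⊔ c.Tw) (hw : y ∈ c.MW) :
    y ∈ c.Tw := by
  obtain ⟨h1, h2⟩ := S.mem_T0.1 hy
  rw [S.red_self h1 hw] at h2
  exact c.mem_Tw.2 ⟨h1, hw, h2⟩

/-- Two elements without field part commute modulo `D ⊔ Nw`. -/
theorem T0_comm {x y : ↥(Subgroup.centralizer ({c.z} : Set G))} (hx : x ∈ S.D ⊔ c.Tw) (hy : y ∈ S.D ⊔ c.Tw) :
    x * y * x⁻¹ * y⁻¹ ∈ S.D ⊔ c.Nw := by
  obtain ⟨hx1, hx2⟩ := S.mem_T0.1 hx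
  obtain ⟨hy1, hy2⟩ := S.mem_T0.1 hy
  refine S.mem_K0.2 ⟨mul_mem (mul_mem (mul_mem hx1 hy1) (inv_mem hx1)) (inv_mem hy1), ?_⟩
  rw [S.red_comm hx1 hy1, c.k.torus_comm (S.red_comm_u hx1) hx2 (S.red_comm_u hy1) hy2, mul_inv_cancel_right,
    mul_inv_cancel]

theorem red_conj_O {o y : ↥(Subgroup.centralizer ({c.z} : Set G))}
    (ho : o ∈ Cfsg.oddCore ↥(Subgroup.centralizer ({c.z} : Set G)))
    (hy : y ∈ Cfsg.oddCore ↥(Subgroup.centralizer ({c.z} : Set G))) :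
    S.red (o * y * o⁻¹) = S.red o * S.red y * (S.red o)⁻¹ := by
  rw [S.red_mul (mul_mem ho hy) (inv_mem ho), S.red_mul ho hy, S.red_inv ho]

theorem red_conj_M {m y : ↥(Subgroup.centralizer ({c.z} : Set G))} (hm : m ∈ c.MW)
    (hy : y ∈ Cfsg.oddCore ↥(Subgroup.centralizer ({c.z} : Set G))) :
    S.red (m * y * m⁻¹) = c.kap m * S.red y * (c.kap m)⁻¹ := by
  obtain ⟨r, hr, hrw, hd⟩ := S.exists_split hy
  rw [S.red_eq hy hr hrw hd, ← c.kap_conj hm hrw]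
  refine S.red_eq (c.O_conj' m hy) (c.O_conj' m hr) (mul_mem (mul_mem hm hrw) (inv_mem hm)) ?_
  rw [show (m * r * m⁻¹)⁻¹ * (m * y * m⁻¹) = m * (r⁻¹ * y) * m⁻¹ by group]
  exact c.DP_stab S.co (c.MW_fix S.co hm).2 hd

theorem red_conj_invol {i y : ↥(Subgroup.centralizer ({c.z} : Set G))} (hi : i * i = 1)
    (hfix : c.actC S.co i • ptP (0 : F) = ptP 0)
    (hy : y ∈ Cfsg.oddCore ↥(Subgroup.centralizer ({c.z} : Set G))) : S.red (i * y * i⁻¹) = S.red y := by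
  have hd : y⁻¹ * (i * y * i) ∈ S.D := c.DP_gen S.co hy hi hfix
  rw [show i * y * i⁻¹ = y * (y⁻¹ * (i * y * i)) by rw [inv_eq_of_mul_eq_one_right hi]; group,
    S.red_mul hy (S.D_le hd), S.red_D hd, mul_one]

omit S in
theorem two_ne (c : PreSetup G F H K Q) : (2 : F) ≠ 0 := by
  refine BrauerL3.two_ne_zero_of_odd ?_
  rw [← c.k.hQ]
  exact Int.natAbs_odd.2 c.s.M.T.odd

/-- A translation is the product of two involutions fixing `∞`. -/
theorem exists_translation (a : F) : ∃ i j : ↥(Subgroup.centralizer ({c.z} : Set G)), i * i = 1 ∧ j * j = 1 ∧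
    c.actC S.co i • infP F = infP F ∧ c.actC S.co j • infP F = infP F ∧
    c.actC S.co (i * j) • infP F = infP F ∧ ∀ x, c.actC S.co (i * j) • ptP x = ptP (x + a) := by
  obtain ⟨u, hu⟩ := (inn S.co.g₀⁻¹).surjective (Grp.SL2.up (a / 2))
  obtain ⟨v, hv, hvq⟩ := c.exists_lift (c.s.π (c.s.M.ι u))
  set v' : ↥(Subgroup.centralizer ({c.z} : Set G)) := ⟨v, mem_cent.2 hv⟩
  have hact : c.actC S.co v' = inn (gup (a / 2)) := by
    rw [c.actC_coe S.co, hvq, S.co.act_πι, hu, ← inn_toGL]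
    rfl
  have hinf : c.actC S.co v' • infP F = infP F := by rw [hact]; exact gup_inf _
  have hiinf : c.actC S.co (v' * c.wC * v'⁻¹) • infP F = infP F := by
    rw [map_mul, map_mul, map_inv, mul_smul, mul_smul, inv_smul_eq_iff.2 hinf.symm, (c.w_fix S.co).1, hinf]
  refine ⟨v' * c.wC * v'⁻¹, c.wC, by rw [conj_mul, c.wC_sq, mul_one, mul_inv_cancel], c.wC_sq, hiinf,
    (c.w_fix S.co).1, ?_, fun x => ?_⟩
  · rw [map_mul, mul_smul, (c.w_fix S.co).1, hiinf]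
  · have h2 := two_ne c
    have hinv : (c.actC S.co v')⁻¹ • ptP (-x) = ptP (-x - a / 2) := by
      rw [inv_smul_eq_iff, hact, gup_pt]
      congr 1
      ring
    rw [map_mul, mul_smul, c.w_pt, map_mul, map_mul, map_inv, mul_smul, mul_smul, hinv, c.w_pt, hact, gup_pt]
    congr 1
    field_simp
    ring

/-- An element exchanging `0` and `∞`, and `w` and `z w`. -/
theorem exists_s : ∃ s : ↥(Subgroup.centralizer ({c.z} : Set G)), c.actC S.co s • ptP (0 : F) = infP F ∧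
    c.actC S.co s • infP F = ptP 0 ∧ (s : G) * c.w * (s : G)⁻¹ = c.z * c.w := by
  obtain ⟨σ, t, hσ, hσw, hσq, hsw⟩ := c.exists_swap
  refine ⟨⟨σ, mem_cent.2 hσ⟩, ?_⟩
  rw [c.actC_coe S.co, hσq]
  exact ⟨(S.co.weyl_swap hsw).2, (S.co.weyl_swap hsw).1, hσw⟩

/-- Elements fixing `0` act on the images through an element commuting with `u`. -/
theorem red_stab {d : ↥(Subgroup.centralizer ({c.z} : Set G))} (hd : c.actC S.co d • ptP (0 : F) = ptP 0) :
    ∃ a, Commute a c.k.u ∧ ∀ y ∈ Cfsg.oddCore ↥(Subgroup.centralizer ({c.z} : Set G)),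
      S.red (d * y * d⁻¹) = a * S.red y * a⁻¹ := by
  obtain ⟨s, hs0, hsi, -⟩ := S.exists_s
  -- a product of two involutions fixing `0` carrying `∞` to the image of `∞`
  obtain ⟨e, he⟩ := ((pt_or_inf ((c.actC S.co s)⁻¹ • c.actC S.co d • infP F)).resolve_left fun h => by
    rw [inv_smul_eq_iff, hsi] at h
    exact ptP_ne 0 (smul_left_cancel _ (h.trans hd.symm)).symm)
  obtain ⟨i, j, hi, hj, hi1, hj1, hij, htr⟩ := S.exists_translation e
  set i' := s * i * s⁻¹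
  set j' := s * j * s⁻¹
  have hfix : ∀ m, c.actC S.co m • infP F = infP F → c.actC S.co (s * m * s⁻¹) • ptP (0 : F) = ptP 0 := fun m hm => by
    rw [map_mul, map_mul, map_inv, mul_smul, mul_smul, inv_smul_eq_iff.2 hsi.symm, hm, hsi]
  have hsinv : (c.actC S.co s)⁻¹ • infP F = ptP 0 := inv_smul_eq_iff.2 hs0.symm
  set n := (i' * j')⁻¹ * d with hn
  have hn0 : c.actC S.co n • ptP (0 : F) = ptP 0 := by
    rw [hn, map_mul, map_inv, mul_smul, hd, inv_smul_eq_iff, map_mul, mul_smul, hfix j hj1, hfix i hi1]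
  have hn1 : c.actC S.co n • infP F = infP F := by
    rw [hn, map_mul, map_inv, mul_smul, inv_smul_eq_iff, show i' * j' = s * (i * j) * s⁻¹ by
      simp only [i', j']; group, map_mul, map_mul, map_inv, mul_smul, mul_smul, hsinv, htr, zero_add, he,
      smul_inv_smul]
  have hnu : Commute (c.q (n : G)) c.k.u := by
    refine S.co.comm_u_of_fix ?_ ?_
    · rw [← c.actC_coe S.co]; exact hn1
    · rw [← c.actC_coe S.co]; exact hn0
  obtain ⟨m₀, hm₀z, hm₀w, hm₀q⟩ := c.exists_lift_w hnu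
  set m : ↥(Subgroup.centralizer ({c.z} : Set G)) := ⟨m₀, mem_cent.2 hm₀z⟩
  have hm : m ∈ c.MW := c.mem_MW.2 hm₀w
  have ho : m⁻¹ * n ∈ Cfsg.oddCore ↥(Subgroup.centralizer ({c.z} : Set G)) := by
    rw [← QuotientGroup.eq, ← c.q_coe m, ← c.q_coe n]
    exact hm₀q
  refine ⟨c.kap m * S.red (m⁻¹ * n), (c.kap_comm_u hm).mul_left (S.red_comm_u ho), fun y hy => ?_⟩
  rw [show d * y * d⁻¹ = i' * (j' * (m * (m⁻¹ * n * y * (m⁻¹ * n)⁻¹) * m⁻¹) * j'⁻¹) * i'⁻¹ by rw [hn]; group,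
    S.red_conj_invol (show s * i * s⁻¹ * (s * i * s⁻¹) = 1 by rw [conj_mul, hi, mul_one, mul_inv_cancel]) (hfix i hi1)
      (c.O_conj' _ (c.O_conj' _ (c.O_conj' _ hy))),
    S.red_conj_invol (show s * j * s⁻¹ * (s * j * s⁻¹) = 1 by rw [conj_mul, hj, mul_one, mul_inv_cancel]) (hfix j hj1)
      (c.O_conj' _ (c.O_conj' _ hy)), S.red_conj_M hm (c.O_conj' _ hy), S.red_conj_O ho hy]
  group

theorem K0_stab {d x : ↥(Subgroup.centralizer ({c.z} : Set G))} (hd : c.actC S.co d • ptP (0 : F) = ptP 0)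
    (hx : x ∈ S.D ⊔ c.Nw) : d * x * d⁻¹ ∈ S.D ⊔ c.Nw := by
  obtain ⟨h1, h2⟩ := S.mem_K0.1 hx
  obtain ⟨a, -, ha⟩ := S.red_stab hd
  exact S.mem_K0.2 ⟨c.O_conj' d h1, by rw [ha x h1, h2, mul_one, mul_inv_cancel]⟩

theorem T0_stab {d x : ↥(Subgroup.centralizer ({c.z} : Set G))} (hd : c.actC S.co d • ptP (0 : F) = ptP 0)
    (hx : x ∈ S.D ⊔ c.Tw) : d * x * d⁻¹ ∈ S.D ⊔ c.Tw := by
  obtain ⟨h1, h2⟩ := S.mem_T0.1 hx
  obtain ⟨a, -, ha⟩ := S.red_stab hd
  exact S.mem_T0.2 ⟨c.O_conj' d h1, by rw [ha x h1, c.s.fldX_conj, h2]⟩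

/-- An element of order `l` of the core centralises the layer. -/
theorem layer_comm {l : ℕ} (hl : l.Prime) {x v : ↥(Subgroup.centralizer ({c.z} : Set G))}
    (hx : x ∈ Cfsg.oddCore ↥(Subgroup.centralizer ({c.z} : Set G))) (hxl : x ^ l = 1) (hv : v ∈ S.D ⊔ c.Tw)
    (hvl : v ^ l = 1) : x * v * x⁻¹ * v⁻¹ ∈ S.D ⊔ c.Nw := by
  obtain ⟨hv1, hv2⟩ := S.mem_T0.1 hv
  have hpow : ∀ {y : ↥(Subgroup.centralizer ({c.z} : Set G))},
      y ∈ Cfsg.oddCore ↥(Subgroup.centralizer ({c.z} : Set G)) → ∀ i : ℕ, S.red (y ^ i) = S.red y ^ i := by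
    intro y hy i
    induction i with
    | zero => rw [pow_zero, pow_zero, S.red_D (one_mem _)]
    | succ i ih => rw [pow_succ, S.red_mul (pow_mem hy i) hy, ih, pow_succ]
  set a := S.red x
  set b := S.red v
  have hb : b ^ l = 1 := by rw [← hpow hv1, hvl, S.red_D (one_mem _)]
  have ha : a ^ l = 1 := by rw [← hpow hx, hxl, S.red_D (one_mem _)]
  obtain ⟨j, hj⟩ := c.k.exists_act (S.red_comm_u hx)
  have h1 : a * b * a⁻¹ = b ^ j := hj b (S.red_comm_u hv1) hv2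
  have hit : ∀ i : ℕ, a ^ i * b * (a ^ i)⁻¹ = b ^ j ^ i := by
    intro i
    induction i with
    | zero => simp
    | succ i ih =>
      rw [show a ^ (i + 1) * b * (a ^ (i + 1))⁻¹ = a * (a ^ i * b * (a ^ i)⁻¹) * a⁻¹ by rw [pow_succ']; group, ih,
        ← conj_pow, h1, ← pow_mul, ← pow_succ']
  have h2 := hit l
  rw [ha, one_mul, inv_one, mul_one] at h2
  have h3 : b ^ j = b := by
    haveI := Fact.mk hl
    have h4 : j ^ l % l = j % l := by
      have := ZMod.pow_card (j : ZMod l)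
      rw [← Nat.cast_pow, ZMod.natCast_eq_natCast_iff] at this
      exact this
    rw [pow_eq_pow_mod j hb, ← h4, ← pow_eq_pow_mod _ hb, ← h2]
  refine S.mem_K0.2 ⟨mul_mem (mul_mem (mul_mem hx hv1) (inv_mem hx)) (inv_mem hv1), ?_⟩
  rw [S.red_comm hx hv1, h1, h3, mul_inv_cancel]

end Side

end Cfsg.Agent.Invol.AbgOrder
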