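import Mathlib

/-!
# The three odd cores of the centralisers in a four-group

`g` cycles `z, w, zw`.  If `w` centralises `O(z)` and the triple intersection is trivial, the three cores meet
pairwise trivially.  A commutator exactly inverted by a Weyl element then shows that `O(z)` has no field part, is
abelian, and that the field components defined at the three involutions agree on `C(z, w)`.
-/

set_option autoImplicit false
set_option linter.style.haveILetI false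

namespace Cfsg.Agent.Invol.AbgOrder

open scoped commutatorElement

universe u v

/-- The data at `z`, with the cycling element `g`. -/
structure Triple (G : Type u) [Group G] (Γ : Type v) [Group Γ] where
  /-- the involution -/
  z : G
  /-- the second involution -/
  w : G
  z2 : z * z = 1
  w2 : w * w = 1
  zw : z * w = w * z
  /-- the element cycling `z, w, z w` -/
  g : G
  gz : g * z * g⁻¹ = w
  gw : g * w * g⁻¹ = z * w
  /-- the odd cores -/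
  O : G → Subgroup G
  O_conj : ∀ a x, ∀ y ∈ O x, a * y * a⁻¹ ∈ O (a * x * a⁻¹)
  O_comm : ∀ x, ∀ y ∈ O x, y * x = x * y
  /-- a Weyl element -/
  s : G
  sz : s * z = z * s
  sw : s * w * s⁻¹ = z * w
  s_sq : ∀ x, x * z = z * x → s * s * x = x * (s * s)
  s_O : ∀ y ∈ O z, s * y = y * s
  w_O : ∀ y ∈ O z, w * y = y * w
  triple : ∀ y, y ∈ O z → y ∈ O w → y ∈ O (z * w) → y = 1
  kill : ∀ y, y * z = z * y → Odd (orderOf y) →
    (∀ c, c * z = z * c → y * (c * w * c⁻¹) = (c * w * c⁻¹) * y) → y ∈ O z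
  odd : ∀ x, ∀ y ∈ O x, Odd (orderOf y)
  /-- the field component on `C(z, w)` -/
  fld : G → Γ
  fld_mul : ∀ a b, a * z = z * a → a * w = w * a → b * z = z * b → b * w = w * b → fld (a * b) = fld a * fld b
  fld_O : ∀ y ∈ O z, fld y = 1
  /-- the torus exponent of a field component -/
  ε : Γ → ℕ
  /-- the number of field components -/
  F : ℕ
  fld_pow : ∀ a, a * z = z * a → a * w = w * a → fld a ^ F = 1
  /-- the order of the torus of `SL(2)` -/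
  m : ℕ
  fld_s : ∀ a, a * z = z * a → a * w = w * a → fld a = 1 → fld (s * a * s⁻¹) = 1
  tor_comm : ∀ a b, a * z = z * a → a * w = w * a → fld a = 1 → b * z = z * b → b * w = w * b → fld b = 1 →
    a * b * a⁻¹ * b⁻¹ ∈ O z
  act : ∀ v a, v * z = z * v → v * w = w * v → a * z = z * a → a * w = w * a → fld a = 1 →
    v * a * v⁻¹ * (a ^ ε (fld v))⁻¹ ∈ O z
  big : ∀ v, v * z = z * v → v * w = w * v → fld v ≠ 1 → ∃ N, ¬ m ∣ 2 * (F * N) ∧
    ∀ a, a * z = z * a → a * w = w * a → fld a = 1 → v * a * v⁻¹ * a⁻¹ ∈ O z → a ^ N ∈ O z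
  /-- an element of the torus -/
  x : G
  xz : x * z = z * x
  xw : x * w = w * x
  x_fld : fld x = 1
  x_ord : ∀ N : ℕ, (s * x * s⁻¹ * x⁻¹) ^ N ∈ O z → m ∣ 2 * N

namespace Triple

variable {G : Type u} [Group G] {Γ : Type v} [Group Γ] (T : Triple G Γ)

/-- `C(z, w)`. -/
def M : Subgroup G := Subgroup.centralizer ({T.z} : Set G) ⊓ Subgroup.centralizer ({T.w} : Set G)

theorem mem_M {a : G} : a ∈ T.M ↔ a * T.z = T.z * a ∧ a * T.w = T.w * a := by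
  rw [M, Subgroup.mem_inf, Subgroup.mem_centralizer_singleton_iff, Subgroup.mem_centralizer_singleton_iff]

theorem gu : T.g * (T.z * T.w) * T.g⁻¹ = T.z := by
  rw [show T.g * (T.z * T.w) * T.g⁻¹ = T.g * T.z * T.g⁻¹ * (T.g * T.w * T.g⁻¹) by group, T.gz, T.gw, T.zw,
    ← mul_assoc, T.w2, one_mul]

theorem commute_conj {a b c d : G} (h : a * b = b * a) (ha : d * a * d⁻¹ = c) :
    c * (d * b * d⁻¹) = d * b * d⁻¹ * c := by
  rw [← ha, show d * a * d⁻¹ * (d * b * d⁻¹) = d * (a * b) * d⁻¹ by group, h]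
  group

theorem conj_M {a : G} (ha : a ∈ T.M) : T.g * a * T.g⁻¹ ∈ T.M := by
  obtain ⟨h1, h2⟩ := T.mem_M.1 ha
  have hu : (T.z * T.w) * a = a * (T.z * T.w) := by
    rw [mul_assoc, ← h2, ← mul_assoc, ← h1, mul_assoc]
  exact T.mem_M.2 ⟨(commute_conj hu T.gu).symm, (commute_conj h1.symm T.gz).symm⟩

theorem conj_M' {a : G} (ha : a ∈ T.M) : T.g⁻¹ * a * T.g ∈ T.M := by
  obtain ⟨h1, h2⟩ := T.mem_M.1 ha
  have hz : T.g⁻¹ * T.w * T.g = T.z := by rw [← T.gz]; group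
  have hw : T.g⁻¹ * (T.z * T.w) * T.g = T.w := by rw [← T.gw]; group
  have hu : (T.z * T.w) * a = a * (T.z * T.w) := by
    rw [mul_assoc, ← h2, ← mul_assoc, ← h1, mul_assoc]
  exact T.mem_M.2 ⟨by simpa using (commute_conj (d := T.g⁻¹) h2.symm (by rw [inv_inv, hz])).symm,
    by simpa using (commute_conj (d := T.g⁻¹) hu (by rw [inv_inv, hw])).symm⟩

theorem O_sub {y : G} (hy : y ∈ T.O T.z) : y ∈ T.M :=
  T.mem_M.2 ⟨T.O_comm _ y hy, (T.w_O y hy).symm⟩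

theorem O_mem_w {y : G} : y ∈ T.O T.w ↔ T.g⁻¹ * y * T.g ∈ T.O T.z := by
  constructor
  · intro h
    have h1 := T.O_conj T.g⁻¹ _ y h
    rw [inv_inv, show T.g⁻¹ * T.w * T.g = T.z by rw [← T.gz]; group] at h1
    exact h1
  · intro h
    have h1 := T.O_conj T.g _ _ h
    rw [T.gz, show T.g * (T.g⁻¹ * y * T.g) * T.g⁻¹ = y by group] at h1
    exact h1

theorem O_mem_u {y : G} : y ∈ T.O (T.z * T.w) ↔ T.g⁻¹ * y * T.g ∈ T.O T.w := by
  constructor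
  · intro h
    have h1 := T.O_conj T.g⁻¹ _ y h
    rw [inv_inv, show T.g⁻¹ * (T.z * T.w) * T.g = T.w by rw [← T.gw]; group] at h1
    exact h1
  · intro h
    have h1 := T.O_conj T.g _ _ h
    rw [T.gw, show T.g * (T.g⁻¹ * y * T.g) * T.g⁻¹ = y by group] at h1
    exact h1

theorem Ow_sub {y : G} (hy : y ∈ T.O T.w) : y ∈ T.M := by
  have h := T.conj_M (T.O_sub (T.O_mem_w.1 hy))
  rwa [show T.g * (T.g⁻¹ * y * T.g) * T.g⁻¹ = y by group] at h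

/-- The cores meet pairwise trivially. -/
theorem meet_wu {y : G} (hw : y ∈ T.O T.w) (hu : y ∈ T.O (T.z * T.w)) : y = 1 := by
  obtain ⟨hyz, -⟩ := T.mem_M.1 (T.Ow_sub hw)
  refine T.triple y ?_ hw hu
  refine T.kill y hyz (T.odd _ y hw) fun c hc => ?_
  set a := T.g * T.s * T.g⁻¹ with ha
  have hay : a * y = y * a := by
    have h1 := congrArg (fun t => T.g * t * T.g⁻¹) (T.s_O _ (T.O_mem_w.1 hw))
    simp only [mul_assoc, mul_inv_cancel_left, mul_inv_cancel, mul_one] at h1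
    rw [ha]
    simp only [mul_assoc]
    exact h1
  have hau : a * (T.z * T.w) * a⁻¹ = T.z := by
    rw [ha, ← T.gw, show T.g * T.s * T.g⁻¹ * (T.g * T.w * T.g⁻¹) * (T.g * T.s * T.g⁻¹)⁻¹ =
      T.g * (T.s * T.w * T.s⁻¹) * T.g⁻¹ by group, T.sw, T.gu]
  have haz : a * T.z * a⁻¹ = T.z * T.w := by
    have hus : T.s * (T.z * T.w) * T.s⁻¹ = T.w := by
      rw [show T.s * (T.z * T.w) * T.s⁻¹ = T.s * T.z * (T.w * T.s⁻¹) by group, T.sz,
        show T.z * T.s * (T.w * T.s⁻¹) = T.z * (T.s * T.w * T.s⁻¹) by group, T.sw, ← mul_assoc, T.z2, one_mul]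
    conv_lhs => rw [← T.gu]
    rw [ha, show T.g * T.s * T.g⁻¹ * (T.g * (T.z * T.w) * T.g⁻¹) * (T.g * T.s * T.g⁻¹)⁻¹ =
      T.g * (T.s * (T.z * T.w) * T.s⁻¹) * T.g⁻¹ by group, hus, T.gw]
  -- at `zw` every conjugate of `z` centralises its core
  have hcore : ∀ d, d * (T.z * T.w) = T.z * T.w * d → y * (d * T.z * d⁻¹) = d * T.z * d⁻¹ * y := by
    intro d hd
    have hyu : d⁻¹ * y * d ∈ T.O (T.z * T.w) := by
      have h1 := T.O_conj d⁻¹ _ y hu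
      rwa [inv_inv, show d⁻¹ * (T.z * T.w) * d = T.z * T.w by rw [mul_assoc, ← hd, inv_mul_cancel_left]] at h1
    have h2 := T.w_O _ (T.O_mem_w.1 (T.O_mem_u.1 hyu))
    have h3 := commute_conj (d := d) (commute_conj (d := T.g) (commute_conj (d := T.g) h2 T.gw) T.gu) rfl
    rw [show d * (T.g * (T.g * (T.g⁻¹ * (T.g⁻¹ * (d⁻¹ * y * d) * T.g) * T.g) * T.g⁻¹) * T.g⁻¹) * d⁻¹ = y by group]
      at h3
    exact h3.symm
  -- `w` is a conjugate of `zw` under `C(z)`, and `a` carries this to `zw`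
  have hsu : T.s * (T.z * T.w) * T.s⁻¹ = T.w := by
    rw [show T.s * (T.z * T.w) * T.s⁻¹ = T.s * T.z * (T.w * T.s⁻¹) by group, T.sz,
      show T.z * T.s * (T.w * T.s⁻¹) = T.z * (T.s * T.w * T.s⁻¹) by group, T.sw, ← mul_assoc, T.z2, one_mul]
  set c' := c * T.s with hc'
  have hc'z : c' * T.z = T.z * c' := by rw [hc', mul_assoc, T.sz, ← mul_assoc, hc, mul_assoc]
  have hcw : c * T.w * c⁻¹ = c' * (T.z * T.w) * c'⁻¹ := by
    conv_lhs => rw [← hsu]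
    rw [hc']; group
  set d := a * c' * a⁻¹ with hd
  have hdu : d * (T.z * T.w) = T.z * T.w * d := by
    rw [hd, ← haz]
    rw [show a * c' * a⁻¹ * (a * T.z * a⁻¹) = a * (c' * T.z) * a⁻¹ by group, hc'z]
    group
  have h4 := hcore d hdu
  have h5 : d * T.z * d⁻¹ = a * (c * T.w * c⁻¹) * a⁻¹ := by
    conv_lhs => rw [← hau]
    rw [hd, hcw]
    group
  rw [h5] at h4
  have hya : a⁻¹ * y * a = y := by rw [mul_assoc, ← hay, inv_mul_cancel_left]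
  calc y * (c * T.w * c⁻¹) = a⁻¹ * y * a * (c * T.w * c⁻¹) := by rw [hya]
    _ = a⁻¹ * (y * (a * (c * T.w * c⁻¹) * a⁻¹)) * a := by group
    _ = a⁻¹ * (a * (c * T.w * c⁻¹) * a⁻¹ * y) * a := by rw [h4]
    _ = c * T.w * c⁻¹ * (a⁻¹ * y * a) := by group
    _ = _ := by rw [hya]

theorem meet_zw {y : G} (hz : y ∈ T.O T.z) (hw : y ∈ T.O T.w) : y = 1 := by
  have h1 := T.O_conj T.g _ y hz
  have h2 := T.O_conj T.g _ y hw
  rw [T.gz] at h1
  rw [T.gw] at h2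
  exact conj_eq_one_iff.1 (T.meet_wu h1 h2)

/-- The field component at `w`. -/
def fldw (a : G) : Γ := T.fld (T.g⁻¹ * a * T.g)

theorem fldw_mul {a b : G} (ha : a ∈ T.M) (hb : b ∈ T.M) : T.fldw (a * b) = T.fldw a * T.fldw b := by
  obtain ⟨a1, a2⟩ := T.mem_M.1 (T.conj_M' ha)
  obtain ⟨b1, b2⟩ := T.mem_M.1 (T.conj_M' hb)
  rw [fldw, fldw, fldw, ← T.fld_mul _ _ a1 a2 b1 b2]
  group

theorem fld_one : T.fld 1 = 1 := T.fld_O 1 (one_mem _)

theorem fldw_one : T.fldw 1 = 1 := by rw [fldw, mul_one, inv_mul_cancel, T.fld_one]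

theorem fld_hpow {a : G} (ha : a ∈ T.M) (k : ℕ) : T.fld (a ^ k) = T.fld a ^ k := by
  induction k with
  | zero => rw [pow_zero, pow_zero, T.fld_one]
  | succ k ih =>
    obtain ⟨a1, a2⟩ := T.mem_M.1 ha
    obtain ⟨b1, b2⟩ := T.mem_M.1 (pow_mem ha k)
    rw [pow_succ, T.fld_mul _ _ b1 b2 a1 a2, ih, pow_succ]

theorem fldw_hpow {a : G} (ha : a ∈ T.M) (k : ℕ) : T.fldw (a ^ k) = T.fldw a ^ k := by
  rw [fldw, show T.g⁻¹ * a ^ k * T.g = (T.g⁻¹ * a * T.g) ^ k by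
    simpa using (conj_pow (a := T.g⁻¹) (b := a) (i := k)).symm, T.fld_hpow (T.conj_M' ha)]
  rfl

theorem s_M {a : G} (ha : a ∈ T.M) : T.s * a * T.s⁻¹ ∈ T.M := by
  obtain ⟨h1, h2⟩ := T.mem_M.1 ha
  have hzs : T.s * T.z * T.s⁻¹ = T.z := by rw [T.sz, mul_inv_cancel_right]
  have hu : T.s * (T.z * T.w) * T.s⁻¹ = T.w := by
    rw [show T.s * (T.z * T.w) * T.s⁻¹ = T.s * T.z * T.s⁻¹ * (T.s * T.w * T.s⁻¹) by group, hzs, T.sw,
      ← mul_assoc, T.z2, one_mul]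
  have hua : (T.z * T.w) * a = a * (T.z * T.w) := by
    rw [mul_assoc, ← h2, ← mul_assoc, ← h1, mul_assoc]
  exact T.mem_M.2 ⟨(commute_conj h1.symm hzs).symm, (commute_conj hua hu).symm⟩

/-- The commutator of the Weyl element with `x`. -/
def t : G := T.s * T.x * T.s⁻¹ * T.x⁻¹

theorem x_M : T.x ∈ T.M := T.mem_M.2 ⟨T.xz, T.xw⟩

theorem t_M : T.t ∈ T.M := mul_mem (T.s_M T.x_M) (inv_mem T.x_M)

theorem t_fld : T.fld T.t = 1 := by
  obtain ⟨a1, a2⟩ := T.mem_M.1 (T.s_M T.x_M)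
  obtain ⟨b1, b2⟩ := T.mem_M.1 (inv_mem T.x_M)
  rw [t, T.fld_mul _ _ a1 a2 b1 b2, T.fld_s _ T.xz T.xw T.x_fld, one_mul]
  have h1 := T.fld_mul _ _ b1 b2 T.xz T.xw
  rw [inv_mul_cancel, T.fld_one, T.x_fld, mul_one] at h1
  exact h1.symm

theorem t_inv : T.s * T.t * T.s⁻¹ = T.t⁻¹ := by
  have h := T.s_sq T.x T.xz
  rw [t, mul_inv_rev, mul_inv_rev, mul_inv_rev, inv_inv, inv_inv,
    show T.s * (T.s * T.x * T.s⁻¹ * T.x⁻¹) * T.s⁻¹ = T.s * T.s * T.x * T.s⁻¹ * T.x⁻¹ * T.s⁻¹ by group, h]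
  group

theorem t_cent {y : G} (hy : y ∈ T.O T.z) : T.t * y = y * T.t := by
  have h1 : T.x⁻¹ * y * T.x ∈ T.O T.z := by
    have h := T.O_conj T.x⁻¹ _ y hy
    rwa [inv_inv, show T.x⁻¹ * T.z * T.x = T.z by rw [mul_assoc, ← T.xz, inv_mul_cancel_left]] at h
  have hs : T.s⁻¹ * y = y * T.s⁻¹ := ((show Commute T.s y from T.s_O y hy).inv_left).eq
  calc T.t * y = T.s * T.x * (T.s⁻¹ * (T.x⁻¹ * y * T.x)) * T.x⁻¹ := by rw [t]; group
    _ = T.s * T.x * ((T.x⁻¹ * y * T.x) * T.s⁻¹) * T.x⁻¹ := by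
        rw [((show Commute T.s (T.x⁻¹ * y * T.x) from T.s_O _ h1).inv_left).eq]
    _ = T.s * y * (T.x * T.s⁻¹ * T.x⁻¹) := by group
    _ = y * T.t := by rw [T.s_O y hy, t]; group

/-- An element exactly inverted by `s` in the core at `w` is trivial. -/
theorem inverted_w {a : G} (ha : a ∈ T.O T.w) (hs : T.s * a * T.s⁻¹ = a⁻¹) : a = 1 := by
  have h1 := T.O_conj T.s _ a ha
  rw [T.sw, hs, Subgroup.inv_mem_iff] at h1
  exact T.meet_wu ha h1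

theorem big_w {v a : G} (hv : v ∈ T.M) (hne : T.fldw v ≠ 1) : ∃ N, ¬ T.m ∣ 2 * (T.F * N) ∧
    (a ∈ T.M → T.fldw a = 1 → v * a * v⁻¹ * a⁻¹ ∈ T.O T.w → a ^ N ∈ T.O T.w) := by
  obtain ⟨h1, h2⟩ := T.mem_M.1 (T.conj_M' hv)
  obtain ⟨N, hN, hfix⟩ := T.big _ h1 h2 hne
  refine ⟨N, hN, fun ha hf hc => ?_⟩
  obtain ⟨a1, a2⟩ := T.mem_M.1 (T.conj_M' ha)
  rw [T.O_mem_w, show T.g⁻¹ * (v * a * v⁻¹ * a⁻¹) * T.g = T.g⁻¹ * v * T.g * (T.g⁻¹ * a * T.g) *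
    (T.g⁻¹ * v * T.g)⁻¹ * (T.g⁻¹ * a * T.g)⁻¹ by group] at hc
  rw [T.O_mem_w, show T.g⁻¹ * a ^ N * T.g = (T.g⁻¹ * a * T.g) ^ N by
    simpa using (conj_pow (a := T.g⁻¹) (b := a) (i := N)).symm]
  exact hfix _ a1 a2 hf hc

/-- `O(z)` has no field part at `w`. -/
theorem fldw_O {y : G} (hy : y ∈ T.O T.z) : T.fldw y = 1 := by
  by_contra hne
  obtain ⟨N, hN, hfix⟩ := T.big_w (a := T.t ^ T.F) (T.O_sub hy) hne
  obtain ⟨h1, h2⟩ := T.mem_M.1 (T.conj_M' T.t_M)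
  have hf : T.fldw (T.t ^ T.F) = 1 := by rw [T.fldw_hpow T.t_M]; exact T.fld_pow _ h1 h2
  have hmem := hfix (pow_mem T.t_M _) hf (by
    rw [show y * T.t ^ T.F * y⁻¹ * (T.t ^ T.F)⁻¹ = 1 by
      rw [((show Commute T.t y from T.t_cent hy).pow_left T.F).symm.eq, mul_inv_cancel_right, mul_inv_cancel]]
    exact one_mem _)
  have h1 := T.inverted_w hmem (by rw [← conj_pow, ← conj_pow, T.t_inv, inv_pow, inv_pow])
  rw [← pow_mul] at h1
  refine hN (T.x_ord _ ?_)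
  show T.t ^ (T.F * N) ∈ T.O T.z
  rw [h1]
  exact one_mem _

theorem tor_w {a b : G} (ha : a ∈ T.M) (hfa : T.fldw a = 1) (hb : b ∈ T.M) (hfb : T.fldw b = 1) :
    a * b * a⁻¹ * b⁻¹ ∈ T.O T.w := by
  obtain ⟨a1, a2⟩ := T.mem_M.1 (T.conj_M' ha)
  obtain ⟨b1, b2⟩ := T.mem_M.1 (T.conj_M' hb)
  rw [T.O_mem_w, show T.g⁻¹ * (a * b * a⁻¹ * b⁻¹) * T.g = T.g⁻¹ * a * T.g * (T.g⁻¹ * b * T.g) *
    (T.g⁻¹ * a * T.g)⁻¹ * (T.g⁻¹ * b * T.g)⁻¹ by group]
  exact T.tor_comm _ _ a1 a2 hfa b1 b2 hfb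

/-- `O(z)` is abelian. -/
theorem O_abelian {a b : G} (ha : a ∈ T.O T.z) (hb : b ∈ T.O T.z) : a * b = b * a := by
  have h1 := T.meet_zw (mul_mem (mul_mem (mul_mem ha hb) (inv_mem ha)) (inv_mem hb))
    (T.tor_w (T.O_sub ha) (T.fldw_O ha) (T.O_sub hb) (T.fldw_O hb))
  exact mul_inv_eq_iff_eq_mul.1 (mul_inv_eq_one.1 h1)

/-- The field components agree, given a lift of the torus element in a complement of `O(z)`. -/
theorem fldw_eq {L : Subgroup G} (hLC : ∀ v ∈ T.M, ∀ a ∈ L, v * a * v⁻¹ ∈ L) (hs : ∀ a ∈ L, T.s * a * T.s⁻¹ ∈ L)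
    (hLO : ∀ a ∈ L, a ∈ T.O T.z → a = 1) {l : G} (hl : l ∈ L) (hlt : l⁻¹ * T.t ∈ T.O T.z) {v : G} (hv : v ∈ T.M) :
    T.fldw v = T.fld v := by
  obtain ⟨o, ho, hlo⟩ : ∃ o ∈ T.O T.z, l = T.t * o := ⟨T.t⁻¹ * l, by
    have h := inv_mem hlt; rwa [mul_inv_rev, inv_inv] at h, by group⟩
  have hlM : l ∈ T.M := hlo ▸ mul_mem T.t_M (T.O_sub ho)
  obtain ⟨l1, l2⟩ := T.mem_M.1 hlM
  have hlf : T.fld l = 1 := by
    obtain ⟨o1, o2⟩ := T.mem_M.1 (T.O_sub ho)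
    obtain ⟨t1, t2⟩ := T.mem_M.1 T.t_M
    rw [hlo, T.fld_mul _ _ t1 t2 o1 o2, T.t_fld, T.fld_O o ho, one_mul]
  have hlinv : T.s * l * T.s⁻¹ = l⁻¹ := by
    have h1 : T.s * l * T.s⁻¹ * l = o * o := by
      rw [hlo, show T.s * (T.t * o) * T.s⁻¹ = T.s * T.t * T.s⁻¹ * (T.s * o * T.s⁻¹) by group, T.t_inv,
        T.s_O o ho, mul_inv_cancel_right, mul_assoc, ← mul_assoc o, ← T.t_cent ho, mul_assoc, inv_mul_cancel_left]
    have h2 := hLO _ (mul_mem (hs l hl) hl) (h1 ▸ mul_mem ho ho)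
    exact eq_inv_of_mul_eq_one_left h2
  have hexact : ∀ u ∈ T.M, u * l ^ T.F * u⁻¹ = (l ^ T.F) ^ T.ε (T.fld u) := by
    intro u hu
    obtain ⟨u1, u2⟩ := T.mem_M.1 hu
    have h1 := hLO _ (mul_mem (hLC u hu l hl) (inv_mem (pow_mem hl _))) (T.act u l u1 u2 l1 l2 hlf)
    rw [← conj_pow, mul_inv_eq_one.1 h1, pow_right_comm]
  have hw : ∀ u ∈ T.M, u * l ^ T.F * u⁻¹ * ((l ^ T.F) ^ T.ε (T.fldw u))⁻¹ ∈ T.O T.w := by
    intro u hu
    obtain ⟨u1, u2⟩ := T.mem_M.1 (T.conj_M' hu)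
    have hm := pow_mem hlM T.F
    obtain ⟨a1, a2⟩ := T.mem_M.1 (T.conj_M' hm)
    have h1 := T.act _ _ u1 u2 a1 a2 (by
      show T.fldw (l ^ T.F) = 1
      obtain ⟨b1, b2⟩ := T.mem_M.1 (T.conj_M' hlM)
      rw [T.fldw_hpow hlM]; exact T.fld_pow _ b1 b2)
    rw [T.O_mem_w]
    convert h1 using 1
    rw [show (T.g⁻¹ * l ^ T.F * T.g) ^ T.ε (T.fld (T.g⁻¹ * u * T.g)) = T.g⁻¹ * (l ^ T.F) ^ T.ε (T.fldw u) * T.g by
      simpa [fldw] using conj_pow (a := T.g⁻¹) (b := l ^ T.F) (i := T.ε (T.fldw u))]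
    group
  -- an element with the same component at `w` as `v` has at `z`
  have hv₁ : T.g * v * T.g⁻¹ ∈ T.M := T.conj_M hv
  have he₁ : T.fldw (T.g * v * T.g⁻¹) = T.fld v := by
    rw [fldw, show T.g⁻¹ * (T.g * v * T.g⁻¹) * T.g = v by group]
  by_contra hne
  set v₁ := T.g * v * T.g⁻¹
  set v₀ := v⁻¹ * v₁ with hv₀
  have hv₀M : v₀ ∈ T.M := mul_mem (inv_mem hv) hv₁
  have hne₀ : T.fldw v₀ ≠ 1 := fun e => hne (by
    rw [← he₁, show v₁ = v * v₀ by rw [hv₀, mul_inv_cancel_left], T.fldw_mul hv hv₀M, e, mul_one])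
  obtain ⟨N, hN, hfix⟩ := T.big_w (a := l ^ T.F) hv₀M hne₀
  have hlF : T.fldw (l ^ T.F) = 1 := by
    obtain ⟨b1, b2⟩ := T.mem_M.1 (T.conj_M' hlM)
    rw [T.fldw_hpow hlM]; exact T.fld_pow _ b1 b2
  have hO : ∀ {y : G}, y ∈ T.O T.w → v⁻¹ * y * v ∈ T.O T.w := by
    intro y hy
    have h := T.O_conj v⁻¹ _ y hy
    rwa [inv_inv, show v⁻¹ * T.w * v = T.w by rw [mul_assoc, ← (T.mem_M.1 hv).2, inv_mul_cancel_left]] at h
  have hmem := hfix (pow_mem hlM _) hlF (by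
    have h1 := hw v₁ hv₁
    rw [he₁, ← hexact v hv] at h1
    have h2 := hO h1
    rw [show v⁻¹ * (v₁ * l ^ T.F * v₁⁻¹ * (v * l ^ T.F * v⁻¹)⁻¹) * v = v₀ * l ^ T.F * v₀⁻¹ * (l ^ T.F)⁻¹ by
      rw [hv₀]; group] at h2
    exact h2)
  have h1 := T.inverted_w hmem (by rw [← conj_pow, ← conj_pow, hlinv, inv_pow, inv_pow])
  rw [← pow_mul] at h1
  refine hN (T.x_ord _ ?_)
  have ht : T.t = l * o⁻¹ := by rw [hlo, mul_inv_cancel_right]
  have hcomm : Commute l o⁻¹ := by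
    rw [hlo]
    exact ((show Commute T.t o from T.t_cent ho).mul_left (Commute.refl o)).inv_right
  show T.t ^ (T.F * N) ∈ T.O T.z
  rw [ht, hcomm.mul_pow, h1, one_mul]
  exact pow_mem (inv_mem ho) _

/-- With agreeing components the torus part of `C(z, w)` is abelian. -/
theorem torus_abelian (hag : ∀ v ∈ T.M, T.fldw v = T.fld v) {a b : G} (ha : a ∈ T.M) (hfa : T.fld a = 1)
    (hb : b ∈ T.M) (hfb : T.fld b = 1) : a * b = b * a := by
  obtain ⟨a1, a2⟩ := T.mem_M.1 ha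
  obtain ⟨b1, b2⟩ := T.mem_M.1 hb
  have h1 := T.meet_zw (T.tor_comm a b a1 a2 hfa b1 b2 hfb)
    (T.tor_w ha ((hag a ha).trans hfa) hb ((hag b hb).trans hfb))
  exact mul_inv_eq_iff_eq_mul.1 (mul_inv_eq_one.1 h1)

end Triple

/-- A central subgroup meets the derived group trivially if an abelian subgroup containing it has index prime to its
exponent. -/
theorem eq_one_of_transfer {E : Type u} [Group E] [Finite E] {P : Subgroup E}
    (hP : ∀ a ∈ P, ∀ b ∈ P, a * b = b * a) {o : E} (hoc : ∀ e, e * o = o * e)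
    (hcop : Nat.Coprime (orderOf o) P.index) (ho : o ∈ commutator E) : o = 1 := by
  haveI : IsMulCommutative P := ⟨⟨fun a b => Subtype.ext (hP a a.2 b b.2)⟩⟩
  letI : CommGroup P := { (inferInstance : Group P) with mul_comm := fun a b => Subtype.ext (hP a a.2 b b.2) }
  have key : ∀ (k : ℕ) (g₀ : E), g₀⁻¹ * o ^ k * g₀ ∈ P → g₀⁻¹ * o ^ k * g₀ = o ^ k := fun k g₀ _ => by
    rw [mul_assoc, ← ((show Commute g₀ o from hoc g₀).pow_right k).eq, inv_mul_cancel_left]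
  have h1 : MonoidHom.transfer (MonoidHom.id P) o = 1 :=
    MonoidHom.mem_ker.1 (Abelianization.commutator_subset_ker _ ho)
  rw [MonoidHom.transfer_eq_pow _ o key] at h1
  have h2 : o ^ P.index = 1 := congrArg Subtype.val h1
  rw [← orderOf_eq_one_iff]
  exact Nat.eq_one_of_dvd_coprimes hcop dvd_rfl (orderOf_dvd_of_pow_eq_one h2)

end Cfsg.Agent.Invol.AbgOrder
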