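import Cfsg.Agent.Lib.Invol.AbgOrder.FinalWreathed

/-!
# The classification with a quasi-dihedral Sylow 2-subgroup, from `E(l)`

`EllStmt` is the bound `E(l)` for both forms; `NineStmt` the exception with nine elements.
-/

set_option autoImplicit false
set_option linter.unusedSectionVars false

open scoped Classical

namespace Cfsg.Agent.Invol.AbgOrder

universe u

/-- The bound `E(l)` at a central involution of a quasi-dihedral Sylow 2-subgroup. -/
def EllStmt : Prop :=
  ∀ (G : Type u) [Group G] [Fintype G] [IsSimpleGroup G] (S : Sylow 2 G) (z : G) (F : Type) [Field F] [Fintype F]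
    (L : Type) [Field L] [Fintype L] [Algebra F L], Cfsg.IsQuasiDihedral (S : Subgroup G) → orderOf z = 2 → z ∈ S →
    (∀ s ∈ (S : Subgroup G), s * z = z * s) → Module.finrank F L = 2 →
    (Fintype.card F % 4 = 3 → Shape0 (CQ z) F (GL (Fin 2) F) Lˣ (Fintype.card F : ℤ) →
        EllBound z (Fintype.card F : ℤ)) ∧
      (Fintype.card F % 4 = 1 → Fintype.card L = Fintype.card F ^ 2 →
        Shape0 (CQ z) F (Cfsg.GU 2 L (Fintype.card F)) Lˣ (-(Fintype.card F : ℤ)) →
          EllBound z (-(Fintype.card F : ℤ)))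

/-- The exception `q = 9`. -/
def NineStmt : Prop := ∀ (G : Type u) [Group G] [Fintype G] [IsSimpleGroup G], UnitNine G

/-- The exception holds. -/
theorem nineStmt : NineStmt.{u} := fun _ _ _ _ => unit_nine

/-- The classification with a quasi-dihedral Sylow 2-subgroup. -/
theorem semidihedral_classified (hE : EllStmt.{u}) (h9 : NineStmt.{u}) : AbgConsumers.SDStmt.{u} := by
  refine sd_of_steps (fun G _ _ _ => ?_) fun G _ _ _ => ?_
  · haveI := Fintype.ofFinite G
    intro S z F L _ _ _ _ _ hc
    have hna := (simple_facts S (sylow_type hc)).1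
    exact linear_step_of (linChar_of hna fun S' z' F' _ _ L' _ _ _ hq h3 hz hzS hzc hL s =>
        (hE G S' z' F' L' hq hz hzS hzc hL).1 h3 s)
      (linFieldFree_of fun S' z' F' _ _ L' _ _ _ hq h3 hz hzS hzc hL s =>
        (hE G S' z' F' L' hq hz hzS hzc hL).1 h3 s) S z F L hc
  · haveI := Fintype.ofFinite G
    intro S z F L _ _ _ _ _ hc
    have hna := (simple_facts S (sylow_type hc)).1
    exact unitary_step_of (unitCharThree hna)
      (unit_core_of hna (fun S' z' F' _ _ L' _ _ _ hq h1 hz hzS hzc hL hcL s =>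
        (hE G S' z' F' L' hq hz hzS hzc hL).2 h1 hcL s) (h9 G))
      (unitFieldFree_of fun S' z' F' _ _ L' _ _ _ hq h1 hz hzS hzc hL hcL s =>
        (hE G S' z' F' L' hq hz hzS hzc hL).2 h1 hcL s) S z F L hc

end Cfsg.Agent.Invol.AbgOrder
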