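import Cfsg.Agent.Lib.Invol.AbgOrder.EllCount
import Cfsg.Agent.Lib.Invol.AbgOrder.FinalSemidihedral

/-!
# `E(l)` at a central involution from the bound of the abstract setting

`C(z)` modulo its odd core with the normal `SL(2, q)` of the shape and any other involution of `C(z)` is the abstract
setting; an odd prime dividing `Q + 1` divides the order of an elliptic torus element.
-/

set_option autoImplicit false
set_option linter.unusedSectionVars false
set_option linter.style.haveILetI false

open scoped Classical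

namespace Cfsg.Agent.Invol.AbgOrder

open Cfsg Cfsg.Agent.Block

universe u v w x

attribute [local instance] oddCore_normal

/-- No exceptional configuration. -/
def NoExcStmt : Prop :=
  ∀ (X : Type u) [Group X] [Finite X] (F : Type) [Field F] [Fintype F] (l : ℕ) (Γ : Ell.Gam X F l) (G : Type u)
    [Group G] [Finite G] (St : Ell.Sett G Γ), ¬ St.Exc

/-- The inductive statement from the absence of the exceptional configuration. -/
theorem star_of_noExc (hexc : NoExcStmt.{u}) {X : Type u} [Group X] [Finite X] {F : Type} [Field F] [Fintype F]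
    {l : ℕ} (Γ : Ell.Gam X F l) :
    ∀ (n : ℕ) (G : Type u) [Group G] [Finite G], Nat.card G = n → ∀ St : Ell.Sett G Γ, St.Star := by
  intro n
  induction n using Nat.strong_induction_on with
  | _ n ih =>
    intro G _ _ hn St
    exact St.star_step (fun H _ _ hlt S => ih (Nat.card H) (hn ▸ hlt) H rfl S) (hexc X F l Γ G St)

/-- The star condition in every setting. -/
def AllStarStmt : Prop :=
  ∀ (X : Type u) [Group X] [Finite X] (F : Type) [Field F] [Fintype F] (l : ℕ) (Γ : Ell.Gam X F l) (G : Type u)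
    [Group G] [Finite G] (St : Ell.Sett G Γ), St.Star

/-- The star condition everywhere from the absence of the exceptional configuration. -/
theorem allStar_of_noExc (hexc : NoExcStmt.{u}) : AllStarStmt.{u} :=
  fun _ _ _ _ _ _ _ Γ G _ _ St => star_of_noExc hexc Γ (Nat.card G) G rfl St

/-- The bound at a central involution. -/
theorem ellBound_of_shape (hstar : AllStarStmt.{u}) {G : Type u} [Group G] [Fintype G] [IsSimpleGroup G]
    (S : Sylow 2 G) (hS : Cfsg.IsQuasiDihedral (S : Subgroup G)) (z : G) (hz : orderOf z = 2)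
    (hzc : ∀ s ∈ (S : Subgroup G), s * z = z * s) {F : Type} [Field F] [Fintype F] {H : Type w} [Group H]
    {K : Type x} [CommGroup K] {Q : ℤ} (s : Shape0 (CQ z) F H K Q) (hodd : Odd (Fintype.card F))
    (hQ : ∀ l : ℕ, (l : ℤ) ∣ Q + 1 → l ∣ Ell.tE (Fintype.card F)) : EllBound z Q := by
  intro w hw hwz l hl hl2 hlQ
  haveI : Fact (Nat.Prime 2) := ⟨Nat.prime_two⟩
  haveI := Fintype.ofFinite (CQ z)
  obtain ⟨hO, S', eS, -⟩ := quotient_setup S z hzc
  have hS' := (sylShape_congr eS).1 hS
  obtain ⟨d⟩ : Nonempty (SylData (S' : Subgroup (CQ z)) 2) := by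
    rcases exists_sylData (Or.inl hS') with h | h
    · exact h.2
    · exact absurd h.1 fun h' => not_qd_and_wreathed hS' h'
  let c : Ctx (CQ z) F 2 :=
    { S := S', core := hO, N := (s.π.comp s.M.ι).range
      normal := ⟨by
        rintro _ ⟨t, rfl⟩ y
        exact ⟨s.act₂ y t, (s.conj_ι y t).symm⟩⟩
      e := (MonoidHom.ofInjective (f := s.π.comp s.M.ι) s.π_ι_inj).symm, odd := hodd, d := d }
  let D := coreData z hz
  have hzC : orderOf c.z = 2 := orderOf_eq_prime (by rw [sq, c.z_sq]) c.z_ne
  have hzbar : D.zbar = c.z := s.central_unique D.zbar_order hzC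
    (Subgroup.mem_center_iff.2 fun k => (D.zbar_central k).eq) (Subgroup.mem_center_iff.2 c.z_comm)
  have hw2 : orderOf (D.π w) = 2 := D.pi_order_two hw
  let Γ : Ell.Gam (CQ z) F l :=
    { c := c, hl := hl, hl2 := hl2, hlt := hQ l hlQ, w₀ := D.π w,
      w₀_sq := by rw [← sq, ← hw2, pow_orderOf_eq_one],
      w₀_ne := fun h => by rw [h, orderOf_one] at hw2; omega,
      w₀_nez := fun h => hwz (congrArg Subtype.val (D.eq_z hw (h.trans hzbar.symm))) }
  have hz2 : z * z = 1 := by rw [← sq, ← hz, pow_orderOf_eq_one]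
  have hw2' : (w : G) * w = 1 := by rw [← sq, ← hw, ← Subgroup.orderOf_coe, pow_orderOf_eq_one]
  let St : Ell.Sett G Γ :=
    { z := z, z_sq := hz2, φ := QuotientGroup.mk' _, surj := QuotientGroup.mk'_surjective _,
      odd := by
        rw [QuotientGroup.ker_mk']
        exact Nat.coprime_two_right.1 Grp.pPrimeCore_coprime
      map_z := hzbar
      odd_index := Nat.odd_iff.2 (Nat.two_dvd_ne_zero.1 fun h => S.not_dvd_index
        (h.trans (Subgroup.index_dvd_of_le fun s hs => Subgroup.mem_centralizer_singleton_iff.2 (hzc s hs))))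
      one := fun b hb hb1 => isConj_iff.1 (one_class S (Or.inl hS) b z
        (orderOf_eq_prime (by rw [sq, hb]) hb1) hz) }
  let V : St.Four :=
    ⟨w, w.2, hw2', fun h => by rw [← Subgroup.orderOf_coe, h, orderOf_one] at hw; omega, hwz⟩
  have hb := Ell.Sett.bound (hstar _ F l Γ G St) V
  have e1 : Nat.card St.O = Nat.card (Cfsg.oddCore ↥(Subgroup.centralizer ({z} : Set G))) := by
    show Nat.card ↥((QuotientGroup.mk' (Cfsg.oddCore ↥(Subgroup.centralizer ({z} : Set G)))).ker.map (Subgroup.centralizer ({z} : Set G)).subtype) = _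
    rw [QuotientGroup.ker_mk', Subgroup.card_subtype]
  have e2 : Nat.card ↥(St.O ⊓ Subgroup.centralizer ({V.w} : Set G)) =
      Nat.card ↥((Subgroup.centralizer ({w} : Set ↥(Subgroup.centralizer ({z} : Set G)))).subgroupOf (Cfsg.oddCore ↥(Subgroup.centralizer ({z} : Set G)))) := by
    rw [← Subgroup.card_subtype (Cfsg.oddCore ↥(Subgroup.centralizer ({z} : Set G))) ((Subgroup.centralizer ({w} : Set ↥(Subgroup.centralizer ({z} : Set G)))).subgroupOf (Cfsg.oddCore ↥(Subgroup.centralizer ({z} : Set G)))),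
      Subgroup.subgroupOf_map_subtype, ← Subgroup.card_subtype (Subgroup.centralizer ({z} : Set G)) (Subgroup.centralizer ({w} : Set ↥(Subgroup.centralizer ({z} : Set G))) ⊓ (Cfsg.oddCore ↥(Subgroup.centralizer ({z} : Set G))))]
    refine congrArg (fun K : Subgroup G => Nat.card K) (Subgroup.ext fun g => ⟨fun hg => ?_, ?_⟩)
    · obtain ⟨hgO, hgw⟩ := hg
      obtain ⟨k, hk, rfl⟩ := hgO
      refine ⟨k, ⟨Subgroup.mem_centralizer_singleton_iff.2 (Subtype.ext ?_), ?_⟩, rfl⟩
      · exact (Subgroup.mem_centralizer_singleton_iff.1 hgw :)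
      · exact (QuotientGroup.ker_mk' (Cfsg.oddCore ↥(Subgroup.centralizer ({z} : Set G)))) ▸ hk
    · rintro ⟨k, ⟨hkw, hkO⟩, rfl⟩
      exact ⟨⟨k, (QuotientGroup.ker_mk' (Cfsg.oddCore ↥(Subgroup.centralizer ({z} : Set G)))).symm ▸ hkO, rfl⟩, Subgroup.mem_centralizer_singleton_iff.2
        (by exact congrArg Subtype.val (Subgroup.mem_centralizer_singleton_iff.1 hkw))⟩
  have h1 : Nat.card (Subgroup.centralizer ({z} : Set G)) * (Subgroup.centralizer ({z} : Set G)).index = Nat.card G := by rw [mul_comm]; exact (Subgroup.centralizer ({z} : Set G)).index_mul_card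
  have h2 := ((Subgroup.centralizer ({w} : Set ↥(Subgroup.centralizer ({z} : Set G)))).subgroupOf (Cfsg.oddCore ↥(Subgroup.centralizer ({z} : Set G)))).index_mul_card
  rw [e1, e2, ← h1, ← h2, Nat.factorization_mul Nat.card_pos.ne' Subgroup.index_ne_zero_of_finite,
    Nat.factorization_mul Subgroup.index_ne_zero_of_finite Nat.card_pos.ne'] at hb
  simp only [Finsupp.add_apply, Nat.factorization_def _ hl] at hb
  have e3 : Nat.card St.C = Nat.card (Subgroup.centralizer ({z} : Set G)) := rfl
  rw [e3] at hb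
  omega

/-- `E(l)` from the star condition. -/
theorem ellStmt_of_star (hexc : AllStarStmt.{u}) : EllStmt.{u} := by
  intro G _ _ _ S z F _ _ L _ _ _ hS hz _ hzc _
  refine ⟨fun h3 s => ?_, fun h1 _ s => ?_⟩
  · refine ellBound_of_shape hexc S hS z hz hzc s (Nat.odd_iff.2 (by omega)) fun l hl => ?_
    rw [Ell.tE, if_pos h3]
    exact_mod_cast hl
  · refine ellBound_of_shape hexc S hS z hz hzc s (Nat.odd_iff.2 (by omega)) fun l hl => ?_
    rw [Ell.tE, if_neg (by omega), ← Int.natCast_dvd_natCast, ← dvd_neg,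
      show -((Fintype.card F - 1 : ℕ) : ℤ) = -(Fintype.card F : ℤ) + 1 by omega]
    exact hl

/-- `E(l)` from the absence of the exceptional configuration. -/
theorem ellStmt_of (hexc : NoExcStmt.{u}) : EllStmt.{u} :=
  ellStmt_of_star (allStar_of_noExc hexc)

end Cfsg.Agent.Invol.AbgOrder
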