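import Cfsg.Agent.Lib.Invol.AbgOrder.EllPre

/-!
# A group with an involution centralizer covering `X`

Lifts, ellipticity of a subgroup at an involution, and invariant `l`-subgroups of covering subgroups of the centralizer.
-/

set_option autoImplicit false
set_option linter.unusedSectionVars false
set_option linter.style.haveILetI false

namespace Cfsg.Agent.Invol.AbgOrder.Ell

open Subgroup Matrix Cfsg.Agent.Classical

universe u v

/-- The setting: the centralizer of `z` maps onto `X` with kernel of odd order; one class of involutions. -/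
structure Sett (G : Type u) [Group G] [Finite G] {X : Type u} [Group X] [Finite X] {F : Type v} [Field F] [Fintype F]
    {l : ℕ} (Γ : Gam X F l) where
  z : G
  z_sq : z * z = 1
  φ : Subgroup.centralizer ({z} : Set G) →* X
  surj : Function.Surjective φ
  odd : Odd (Nat.card φ.ker)
  map_z : φ ⟨z, Subgroup.mem_centralizer_singleton_iff.2 rfl⟩ = Γ.c.z
  odd_index : Odd (Subgroup.centralizer ({z} : Set G)).index
  one : ∀ b : G, b * b = 1 → b ≠ 1 → ∃ g, g * b * g⁻¹ = z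

namespace Sett

variable {G : Type u} [Group G] [Finite G] {X : Type u} [Group X] [Finite X] {F : Type v} [Field F] [Fintype F]
  {l : ℕ} {Γ : Gam X F l} (St : Sett G Γ)

/-- The centralizer of `z`. -/
abbrev C : Subgroup G := Subgroup.centralizer ({St.z} : Set G)

/-- The kernel, as a subgroup of `G`. -/
def O : Subgroup G := St.φ.ker.map St.C.subtype

/-- The image of the part in `C`. -/
def img (H : Subgroup G) : Subgroup X := (H.subgroupOf St.C).map St.φ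

/-- `H ∩ C` maps onto `X`. -/
def Cov (H : Subgroup G) : Prop := ∀ x : X, ∃ h : St.C, (h : G) ∈ H ∧ St.φ h = x

theorem mem_C {x : G} : x ∈ St.C ↔ Commute x St.z := Subgroup.mem_centralizer_singleton_iff

theorem z_mem : St.z ∈ St.C := St.mem_C.2 (Commute.refl _)

theorem z_ne : St.z ≠ 1 := fun h => Γ.c.z_ne (by
  rw [← St.map_z, show (⟨St.z, _⟩ : St.C) = 1 from Subtype.ext h, map_one])

theorem z_inv : St.z⁻¹ = St.z := inv_eq_of_mul_eq_one_right St.z_sq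

theorem mem_O {x : G} : x ∈ St.O ↔ ∃ h : x ∈ St.C, St.φ ⟨x, h⟩ = 1 := by
  constructor
  · rintro ⟨k, hk, rfl⟩; exact ⟨k.2, hk⟩
  · rintro ⟨h, h1⟩; exact ⟨⟨x, h⟩, h1, rfl⟩

theorem O_le : St.O ≤ St.C := Subgroup.map_subtype_le _

theorem O_odd : Odd (Nat.card St.O) := by rw [O, Subgroup.card_subtype]; exact St.odd

theorem O_conj {c x : G} (hc : c ∈ St.C) (hx : x ∈ St.O) : c * x * c⁻¹ ∈ St.O := by
  obtain ⟨k, hk, rfl⟩ := hx
  exact ⟨⟨c, hc⟩ * k * (⟨c, hc⟩ : St.C)⁻¹, (inferInstance : St.φ.ker.Normal).conj_mem k hk _, rfl⟩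

theorem sub_mem_O {c d : St.C} (h : St.φ c = St.φ d) : (c : G)⁻¹ * d ∈ St.O :=
  ⟨c⁻¹ * d, by rw [SetLike.mem_coe, MonoidHom.mem_ker, map_mul, map_inv, h, inv_mul_cancel], rfl⟩

theorem one_of_two {x : G} (hx : x ∈ St.O) {j : ℕ} (h : x ^ 2 ^ j = 1) : x = 1 := by
  have h1 : orderOf x ∣ Nat.gcd (2 ^ j) (Nat.card St.O) :=
    Nat.dvd_gcd (orderOf_dvd_of_pow_eq_one h) (Subgroup.orderOf_dvd_natCard _ hx)
  rwa [((Nat.coprime_two_left.2 St.O_odd).pow_left j).gcd_eq_one, Nat.dvd_one, orderOf_eq_one_iff] at h1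

theorem z_nc_ne : ∀ {h : St.z ∈ St.C}, St.φ ⟨St.z, h⟩ = Γ.c.z := fun {_} => St.map_z

/-- The other involutions of `C` are non-central in `X`. -/
theorem nc {b : St.C} (hb : (b : G) * b = 1) (hb1 : (b : G) ≠ 1) (hbz : (b : G) ≠ St.z) : Γ.NC (St.φ b) := by
  refine ⟨?_, fun h => hb1 ?_, fun h => hbz ?_⟩
  · rw [← map_mul, show b * b = 1 from Subtype.ext hb, map_one]
  · exact St.one_of_two (St.mem_O.2 ⟨b.2, h⟩) (j := 1) (by rw [pow_one, sq, hb])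
  · have hk : St.z * (b : G) ∈ St.O := by
      have := St.sub_mem_O (c := ⟨St.z, St.z_mem⟩) (d := b) (by rw [St.map_z, h])
      rwa [St.z_inv] at this
    obtain ⟨k, hk, e⟩ := exists_conj_coset hb St.z_sq St.O_odd hk
    have hz : k⁻¹ * St.z * k = St.z := by
      rw [mul_assoc, ← (St.mem_C.1 (St.O_le hk)).eq, inv_mul_cancel_left]
    rw [← hz, ← e]; group

theorem exists_lift {H : Subgroup G} (hH : St.Cov H) (x : X) : ∃ h : St.C, (h : G) ∈ H ∧ St.φ h = x := hH x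

theorem cov_top : St.Cov ⊤ := fun x => let ⟨c, hc⟩ := St.surj x; ⟨c, mem_top _, hc⟩

theorem cov_mono {H H' : Subgroup G} (h : St.Cov H) (hle : H ≤ H') : St.Cov H' := fun x =>
  let ⟨c, hc, e⟩ := h x; ⟨c, hle hc, e⟩

/-- An element of a covering subgroup commuting with an involution modulo the kernel lifts into its centralizer. -/
theorem exists_fix_lift {H : Subgroup G} {b c : St.C} (hb : (b : G) * b = 1)
    (hbH : (b : G) ∈ normalizer (H : Set G)) (hc : (c : G) ∈ H) (hcomm : Commute (St.φ b) (St.φ c)) :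
    ∃ c' : St.C, (c' : G) ∈ H ∧ Commute (b : G) c' ∧ St.φ c' = St.φ c := by
  have hn : (c : G)⁻¹ * ((b : G) * c * (b : G)⁻¹) ∈ H ⊓ St.O := by
    refine ⟨H.mul_mem (H.inv_mem hc) ((Subgroup.mem_normalizer_iff.1 hbH _).1 hc), ?_⟩
    exact St.sub_mem_O (c := c) (d := b * c * b⁻¹) (by rw [map_mul, map_mul, map_inv, hcomm.eq, mul_inv_cancel_right])
  obtain ⟨m, hm, hcm⟩ := exists_fix hb (St.O_odd.of_dvd_nat (Subgroup.card_dvd_of_le inf_le_right)) hn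
  obtain ⟨hmC, hm1⟩ := St.mem_O.1 hm.2
  exact ⟨c * ⟨m, hmC⟩, mul_mem hc hm.1, hcm, by rw [map_mul, hm1, mul_one]⟩

/-- Involutions of a covering subgroup other than `z` are conjugate in it. -/
theorem nc_conj {H : Subgroup G} (hH : St.Cov H) {b b' : G} (hbC : b ∈ St.C) (hb'C : b' ∈ St.C)
    (hb : b * b = 1) (hb1 : b ≠ 1) (hbz : b ≠ St.z) (hb' : b' * b' = 1) (hb'1 : b' ≠ 1) (hb'z : b' ≠ St.z)
    (hbH : b ∈ normalizer (H : Set G)) (hb'H : b' * b ∈ H ∨ (b ∈ H ∧ b' ∈ H)) :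
    ∃ c ∈ H, c ∈ St.C ∧ c * b * c⁻¹ = b' := by
  obtain ⟨r, hr⟩ := Γ.nc_conj (St.nc (b := ⟨b, hbC⟩) hb hb1 hbz) (St.nc (b := ⟨b', hb'C⟩) hb' hb'1 hb'z)
  obtain ⟨c, hcH, rfl⟩ := hH r
  have hin : b' * ((c : G) * b * (c : G)⁻¹) ∈ H ⊓ St.O := by
    refine ⟨?_, ?_⟩
    · have e : b' * ((c : G) * b * (c : G)⁻¹) = b' * b * ((b⁻¹ * c * b) * (c : G)⁻¹) := by group
      rcases hb'H with h | ⟨h, h'⟩
      · rw [e]
        exact H.mul_mem h (H.mul_mem ((Subgroup.mem_normalizer_iff''.1 hbH _).1 hcH) (H.inv_mem hcH))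
      · exact H.mul_mem h' (H.mul_mem (H.mul_mem hcH h) (H.inv_mem hcH))
    · have h2 : (b' : G)⁻¹ = b' := inv_eq_of_mul_eq_one_right hb'
      have := St.sub_mem_O (c := ⟨b', hb'C⟩) (d := c * ⟨b, hbC⟩ * c⁻¹) (by rw [map_mul, map_mul, map_inv, hr])
      rwa [h2] at this
  obtain ⟨k, hk, e⟩ := exists_conj_coset (b := (c : G) * b * (c : G)⁻¹)
    (by rw [show (c : G) * b * (c : G)⁻¹ * ((c : G) * b * (c : G)⁻¹) = c * (b * b) * (c : G)⁻¹ by group, hb, mul_one,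
      mul_inv_cancel]) hb' (St.O_odd.of_dvd_nat (Subgroup.card_dvd_of_le inf_le_right)) hin
  exact ⟨k * c, mul_mem hk.1 hcH, mul_mem (St.O_le hk.2) c.2, by rw [← e]; group⟩

/-- A pair of commuting involutions is conjugate to `z, w`. -/
theorem exists_pair {w : G} (hwC : w ∈ St.C) (hw : w * w = 1) (hw1 : w ≠ 1) (hwz : w ≠ St.z) {b b' : G}
    (hb : b * b = 1) (hb1 : b ≠ 1) (hb' : b' * b' = 1) (hb'1 : b' ≠ 1) (hne : b' ≠ b) (hcomm : Commute b b') :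
    ∃ g, g * b * g⁻¹ = St.z ∧ g * b' * g⁻¹ = w := by
  obtain ⟨g, hg⟩ := St.one b hb hb1
  have h1C : g * b' * g⁻¹ ∈ St.C := St.mem_C.2 (by
    rw [← hg]; exact hcomm.symm.map (MulAut.conj g).toMonoidHom)
  obtain ⟨c, -, hcC, hc⟩ := St.nc_conj St.cov_top h1C hwC
    (by rw [show g * b' * g⁻¹ * (g * b' * g⁻¹) = g * (b' * b') * g⁻¹ by group, hb', mul_one, mul_inv_cancel])
    (fun e => hb'1 (by
      calc b' = g⁻¹ * (g * b' * g⁻¹) * g := by group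
        _ = 1 := by rw [e]; group))
    (fun e => hne (by
      calc b' = g⁻¹ * (g * b' * g⁻¹) * g := by group
        _ = g⁻¹ * (g * b * g⁻¹) * g := by rw [e, hg]
        _ = b := by group))
    hw hw1 hwz (mem_normalizer_fintype fun x _ => mem_top _) (Or.inl (mem_top _))
  refine ⟨c * g, ?_, ?_⟩
  · calc c * g * b * (c * g)⁻¹ = c * (g * b * g⁻¹) * c⁻¹ := by group
      _ = St.z := by rw [hg, (St.mem_C.1 hcC).eq, mul_inv_cancel_right]
  · rw [← hc]; group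

/-- The `2`-elements commuting with `z` and an involution of `C`. -/
theorem two_cen {b x : G} (hbC : b ∈ St.C) (hb : b * b = 1) (hb1 : b ≠ 1) (hbz : b ≠ St.z) {j : ℕ}
    (hx : x ^ 2 ^ j = 1) (hxz : Commute x St.z) (hxb : Commute x b) :
    x = 1 ∨ x = St.z ∨ x = b ∨ x = St.z * b := by
  have hxC := St.mem_C.2 hxz
  have key : ∀ v : G, ∀ hv : v ∈ St.C, v * v = 1 → Commute x v → St.φ ⟨v, hv⟩ = St.φ ⟨x, hxC⟩ → x = v := by
    intro v hv hvv hcom e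
    have h := St.sub_mem_O (c := ⟨v, hv⟩) (d := ⟨x, hxC⟩) e
    have hvi : v⁻¹ = v := inv_eq_of_mul_eq_one_right hvv
    rw [hvi] at h
    have h1 := St.one_of_two h (j := j + 1) (by
      rw [hcom.symm.mul_pow, pow_succ, pow_mul x, hx, one_pow, mul_one, mul_comm, pow_mul, sq, hvv, one_pow])
    calc x = v * (v * x) := by rw [← mul_assoc, hvv, one_mul]
      _ = v := by rw [h1, mul_one]
  rcases Γ.two_cen (St.nc (b := ⟨b, hbC⟩) hb hb1 hbz) (x := St.φ ⟨x, hxC⟩) (j := j)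
    (by rw [← map_pow, show (⟨x, hxC⟩ : St.C) ^ 2 ^ j = 1 from Subtype.ext hx, map_one])
    ((show Commute (⟨x, hxC⟩ : St.C) ⟨b, hbC⟩ from Subtype.ext hxb.eq).map St.φ) with h | h | h | h
  · exact Or.inl (key 1 (one_mem _) (one_mul 1) (Commute.one_right x) (by rw [h]; exact map_one _))
  · exact Or.inr (Or.inl (key _ St.z_mem St.z_sq hxz (by rw [h]; exact St.map_z)))
  · exact Or.inr (Or.inr (Or.inl (key b hbC hb hxb h.symm)))
  · refine Or.inr (Or.inr (Or.inr (key _ (mul_mem St.z_mem hbC) ?_ (hxz.mul_right hxb) ?_)))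
    · rw [mul_assoc, ← mul_assoc b, (St.mem_C.1 hbC).eq, mul_assoc St.z b, hb, mul_one, St.z_sq]
    · rw [h, show (⟨St.z * b, mul_mem St.z_mem hbC⟩ : St.C) = ⟨St.z, St.z_mem⟩ * ⟨b, hbC⟩ from rfl, map_mul,
        St.map_z]

theorem mem_img {H : Subgroup G} {x : X} : x ∈ St.img H ↔ ∃ h : St.C, (h : G) ∈ H ∧ St.φ h = x :=
  ⟨fun ⟨h, hh, e⟩ => ⟨h, Subgroup.mem_subgroupOf.1 hh, e⟩, fun ⟨h, hh, e⟩ => ⟨h, Subgroup.mem_subgroupOf.2 hh, e⟩⟩

theorem img_mono {H H' : Subgroup G} (h : H ≤ H') : St.img H ≤ St.img H' := fun x hx => by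
  obtain ⟨c, hc, e⟩ := St.mem_img.1 hx
  exact St.mem_img.2 ⟨c, h hc, e⟩

theorem img_isPGroup {p : ℕ} {H : Subgroup G} (h : IsPGroup p H) : IsPGroup p (St.img H) := by
  refine IsPGroup.map ?_ _
  exact h.comap_subtype

theorem img_normalizer {H : Subgroup G} {c : St.C} (hc : (c : G) ∈ normalizer (H : Set G)) :
    St.φ c ∈ normalizer (St.img H : Set X) := by
  refine mem_normalizer_fintype ?_
  intro x hx
  obtain ⟨h, hh, rfl⟩ := St.mem_img.1 hx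
  exact St.mem_img.2 ⟨c * h * c⁻¹, (Subgroup.mem_normalizer_iff.1 hc _).1 hh, by rw [map_mul, map_mul, map_inv]⟩

/-- Ellipticity at an involution `b`. -/
def EllAt (b : G) (Y : Subgroup G) : Prop :=
  ∃ g, g * b * g⁻¹ = St.z ∧ ∃ x ∈ St.img (cj g Y), Γ.Elt x

theorem ellAt_iff {b : G} {Y : Subgroup G} {g : G} (hg : g * b * g⁻¹ = St.z) :
    St.EllAt b Y ↔ ∃ x ∈ St.img (cj g Y), Γ.Elt x := by
  refine ⟨fun ⟨g', hg', x, hx, he⟩ => ?_, fun h => ⟨g, hg, h⟩⟩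
  have hc : g * g'⁻¹ ∈ St.C := St.mem_C.2 (by
    show g * g'⁻¹ * St.z = St.z * (g * g'⁻¹)
    conv_lhs => rw [← hg']
    conv_rhs => rw [← hg]
    group)
  obtain ⟨h, hh, rfl⟩ := St.mem_img.1 hx
  refine ⟨St.φ (⟨_, hc⟩ * h * (⟨_, hc⟩ : St.C)⁻¹), St.mem_img.2 ⟨_, ?_, rfl⟩, by
    rw [map_mul, map_mul, map_inv]; exact Γ.elt_conj he _⟩
  rw [mem_cj] at hh ⊢
  rwa [show g⁻¹ * ((⟨_, hc⟩ * h * (⟨_, hc⟩ : St.C)⁻¹ : St.C) : G) * g = g'⁻¹ * (h : G) * g' by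
    simp only [Subgroup.coe_mul, InvMemClass.coe_inv]; group]

theorem ellAt_z {Y : Subgroup G} : St.EllAt St.z Y ↔ ∃ y : St.C, (y : G) ∈ Y ∧ Γ.Elt (St.φ y) := by
  rw [St.ellAt_iff (g := 1) (by simp), cj_one]
  exact ⟨fun ⟨x, hx, he⟩ => let ⟨h, hh, e⟩ := St.mem_img.1 hx; ⟨h, hh, e ▸ he⟩,
    fun ⟨y, hy, he⟩ => ⟨_, St.mem_img.2 ⟨y, hy, rfl⟩, he⟩⟩

theorem ellAt_conj (h : G) {b : G} {Y : Subgroup G} :
    St.EllAt (h * b * h⁻¹) (cj h Y) ↔ St.EllAt b Y := by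
  constructor
  · rintro ⟨g, hg, hx⟩
    refine ⟨g * h, by rw [← hg]; group, ?_⟩
    rwa [cj_cj] at hx
  · rintro ⟨g, hg, hx⟩
    refine ⟨g * h⁻¹, by rw [← hg]; group, ?_⟩
    rwa [cj_cj, inv_mul_cancel_right]

theorem ellAt_mono {b : G} {Y Y' : Subgroup G} (h : Y ≤ Y') : St.EllAt b Y → St.EllAt b Y' :=
  fun ⟨g, hg, x, hx, he⟩ => ⟨g, hg, x, St.img_mono (cj_mono g h) hx, he⟩

/-- An elliptic `l`-group normalised by an involution of `C` has an elliptic element inverted by it. -/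
theorem exists_elt_inv {b : G} (hbC : b ∈ St.C) (hb : b * b = 1) (hb1 : b ≠ 1) (hbz : b ≠ St.z) {Y : Subgroup G}
    (hY : IsPGroup l Y) (hbY : b ∈ normalizer (Y : Set G)) (h : St.EllAt St.z Y) :
    ∃ y : St.C, (y : G) ∈ Y ∧ Γ.Inv (St.φ ⟨b, hbC⟩) (St.φ y) ∧
      ∀ y' : St.C, (y' : G) ∈ Y → Commute (St.φ y') (St.φ y) := by
  obtain ⟨y₀, hy₀, he₀⟩ := St.ellAt_z.1 h
  obtain ⟨e, he, hinv, hec⟩ := Γ.inv_elt (St.nc (b := ⟨b, hbC⟩) hb hb1 hbz) (St.img_isPGroup hY)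
    (St.img_normalizer (c := ⟨b, hbC⟩) hbY) (St.mem_img.2 ⟨y₀, hy₀, rfl⟩) he₀
  obtain ⟨y, hy, rfl⟩ := St.mem_img.1 he
  exact ⟨y, hy, hinv, fun y' hy' => hec _ (St.mem_img.2 ⟨y', hy', rfl⟩)⟩

/-- The kernel of a subgroup `H` of the centralizer. -/
theorem card_cov {H : Subgroup G} (hH : St.Cov H) :
    Nat.card ↥(H ⊓ St.C) = Nat.card X * Nat.card ↥(H ⊓ St.O) := by
  set f := St.φ.comp (Subgroup.inclusion (inf_le_right : H ⊓ St.C ≤ St.C)) with hf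
  have hs : Function.Surjective f := fun x => by
    obtain ⟨h, hh, rfl⟩ := hH x
    exact ⟨⟨h, hh, h.2⟩, rfl⟩
  have hk : f.ker.map (H ⊓ St.C).subtype = H ⊓ St.O := by
    ext x
    constructor
    · rintro ⟨y, hy, rfl⟩; exact ⟨y.2.1, St.mem_O.2 ⟨y.2.2, hy⟩⟩
    · rintro ⟨hx, hxO⟩
      obtain ⟨hxC, e⟩ := St.mem_O.1 hxO
      exact ⟨⟨x, hx, hxC⟩, e, rfl⟩
  rw [← hk, Subgroup.card_subtype, ← Subgroup.index_mul_card f.ker, Subgroup.index_ker, f.range_eq_top.2 hs,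
    Subgroup.card_top]

/-- The odd subgroup over the complement of a line normalizer. -/
theorem pre_odd {H : Subgroup G} {K : Subgroup X} (hK : Odd (Nat.card K)) :
    Odd (Nat.card ↥((K.comap St.φ).map St.C.subtype ⊓ H)) := by
  refine Odd.of_dvd_nat ?_ (Subgroup.card_dvd_of_le inf_le_left)
  rw [Subgroup.card_subtype, ← Subgroup.index_mul_card ((St.φ.comp (K.comap St.φ).subtype).ker)]
  refine Odd.mul ?_ ?_
  · rw [Subgroup.index_ker]
    exact hK.of_dvd_nat (Subgroup.card_dvd_of_le (by rintro _ ⟨x, rfl⟩; exact x.2))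
  · refine St.odd.of_dvd_nat (Subgroup.card_dvd_of_injective
      (((K.comap St.φ).subtype.comp (St.φ.comp (K.comap St.φ).subtype).ker.subtype).codRestrict St.φ.ker fun x =>
        x.2) ?_)
    intro a a' h
    exact Subtype.ext (Subtype.ext (congrArg (fun y : St.φ.ker => (y : St.C)) h))

include St in
/-- An odd element whose power lies in a subgroup. -/
theorem mem_of_two_pow {Y : Type*} [Group Y] [Finite Y] {K : Subgroup Y} {x : Y} (hx : Odd (orderOf x)) {j : ℕ}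
    (h : x ^ 2 ^ j ∈ K) : x ∈ K := by
  obtain ⟨m, hm⟩ := exists_pow_eq_self_of_coprime ((Nat.coprime_two_left.2 hx).pow_left j)
  exact hm ▸ pow_mem h m

include Γ in
theorem odd_of_l {Y : Type*} [Group Y] {H : Subgroup Y} [Finite Y] (hH : IsPGroup l H) {x : Y} (hx : x ∈ H) :
    Odd (orderOf x) := by
  haveI := Fact.mk Γ.hl
  obtain ⟨k, hk⟩ := IsPGroup.iff_orderOf.1 hH ⟨x, hx⟩
  rw [Subgroup.orderOf_mk] at hk
  rw [hk]
  exact (Γ.hl.odd_of_ne_two Γ.hl2).pow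

/-- An invariant `l`-subgroup of a covering subgroup with the full `l`-part, and the others below its conjugates. -/
theorem exists_inv_sylow {H : Subgroup G} (hH : St.Cov H) {b : G} (hbC : b ∈ St.C) (hb : b * b = 1) (hb1 : b ≠ 1)
    (hbz : b ≠ St.z) (hbH : b ∈ normalizer (H : Set G)) :
    ∃ T : Subgroup G, Grp.IsSylowIn l T (H ⊓ St.C) ∧ b ∈ normalizer (T : Set G) ∧
      ∀ Y : Subgroup G, Y ≤ H ⊓ St.C → IsPGroup l Y → b ∈ normalizer (Y : Set G) →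
        ∃ c ∈ H, c ∈ St.C ∧ Commute c b ∧ cj c Y ≤ T ∧
          ∀ T' : Subgroup G, Grp.IsSylowIn l T' (H ⊓ St.C) → Y = T' → cj c Y = T := by
  classical
  haveI := Fact.mk Γ.hl
  set bX := St.φ ⟨b, hbC⟩ with hbX
  have hNC : Γ.NC bX := St.nc (b := ⟨b, hbC⟩) hb hb1 hbz
  obtain ⟨e, P, he, hPe⟩ := Γ.exists_sylow_inv hNC
  obtain ⟨K, hKN, hNK, hKodd, hKtwo⟩ := Γ.exists_compl he.1
  set J := (K.comap St.φ).map St.C.subtype ⊓ H with hJ
  have hJodd : Odd (Nat.card J) := St.pre_odd hKodd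
  have hJle : J ≤ H ⊓ St.C := le_inf inf_le_right (inf_le_left.trans (Subgroup.map_subtype_le _))
  have hmemJ : ∀ {x : G}, x ∈ H → ∀ hx : x ∈ St.C, Odd (orderOf (St.φ ⟨x, hx⟩)) →
      St.φ ⟨x, hx⟩ ∈ normalizer (zpowers e : Set X) → x ∈ J := fun {x} hxH hx hodd hn => by
    obtain ⟨j, hj⟩ := hKtwo _ hn
    exact ⟨⟨⟨x, hx⟩, (St.mem_of_two_pow hodd hj : St.φ ⟨x, hx⟩ ∈ K), rfl⟩, hxH⟩
  have hbn : bX ∈ normalizer (zpowers e : Set X) := mem_normalizer_fintype fun y hy => by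
    obtain ⟨i, rfl⟩ := Subgroup.mem_zpowers_iff.1 hy
    rw [← conj_zpow, he.2]
    exact zpow_mem (inv_mem (mem_zpowers e)) i
  have hbJ : zpowers b ≤ normalizer (J : Set G) := zpowers_le.2 (mem_normalizer_fintype fun x hx => by
    obtain ⟨⟨y, hy, rfl⟩, hxH⟩ := hx
    refine ⟨⟨⟨b, hbC⟩ * y * (⟨b, hbC⟩ : St.C)⁻¹, ?_, rfl⟩, (Subgroup.mem_normalizer_iff.1 hbH _).1 hxH⟩
    rw [SetLike.mem_coe, Subgroup.mem_comap, map_mul, map_mul, map_inv]
    exact (Subgroup.mem_normalizer_iff.1 (hNK hbn) _).1 hy)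
  have hcop : (Nat.card (zpowers b)).Coprime (Nat.card J) := by
    rw [Nat.card_zpowers, orderOf_eq_prime (by rw [sq, hb]) hb1]
    exact Nat.coprime_two_left.2 hJodd
  obtain ⟨T, hT, hbT⟩ := Grp.exists_invariant_sylow (zpowers b) J hbJ hcop (Or.inl inferInstance) l
  have hidx : ¬ l ∣ J.relIndex (H ⊓ St.C) := by
    intro hd
    have hPK : (P : Subgroup X) ≤ K := fun x hx => by
      obtain ⟨j, hj⟩ := hKtwo x (hPe hx)
      exact St.mem_of_two_pow (odd_of_l (Γ := Γ) P.isPGroup' hx) hj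
    refine P.not_dvd_index (hd.trans (Dvd.dvd.trans ?_ (Subgroup.index_dvd_of_le hPK)))
    set f := St.φ.comp (Subgroup.inclusion (inf_le_right : H ⊓ St.C ≤ St.C)) with hf
    have hs : Function.Surjective f := fun x => by
      obtain ⟨h, hh, rfl⟩ := hH x
      exact ⟨⟨h, hh, h.2⟩, rfl⟩
    rw [← Subgroup.index_comap_of_surjective K hs, Subgroup.relIndex]
    refine dvd_of_eq (congrArg Subgroup.index ?_)
    ext x
    constructor
    · rintro ⟨⟨y, hy, hyx⟩, -⟩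
      show St.φ ⟨x, x.2.2⟩ ∈ K
      rwa [show (⟨(x : G), x.2.2⟩ : St.C) = y from Subtype.ext hyx.symm]
    · intro hx
      exact ⟨⟨⟨x, x.2.2⟩, hx, rfl⟩, x.2.1⟩
  have hTS : Grp.IsSylowIn l T (H ⊓ St.C) := ⟨hT.1.trans hJle, hT.2.1, fun hd => by
    rw [← Subgroup.relIndex_mul_relIndex T J (H ⊓ St.C) hT.1 hJle] at hd
    exact ((Nat.Prime.dvd_mul Γ.hl).1 hd).elim hT.2.2 hidx⟩
  refine ⟨T, hTS, hbT (mem_zpowers b), fun Y hY hYl hbY => ?_⟩
  obtain ⟨e', he', hY'⟩ := Γ.inv_fixes hNC (St.img_isPGroup hYl) (St.img_normalizer (c := ⟨b, hbC⟩) hbY)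
  obtain ⟨g, hg, htz, hd⟩ := Γ.nc_rep hNC
  obtain ⟨t, ht, hte⟩ := Γ.trans_inv hg htz hd he' he
  obtain ⟨c₀, hc₀, hc₀t⟩ := hH (Γ.c.ι t)
  obtain ⟨c, hcH, hcb, hct⟩ := St.exists_fix_lift (b := ⟨b, hbC⟩) (c := c₀) hb hbH hc₀
    (by rw [hc₀t]; exact ((Γ.conj_nc hg t).1.2 ht).symm)
  have hcY : cj (c : G) Y ≤ J := fun x hx => by
    obtain ⟨y, hy, rfl⟩ := hx
    have hyC := (hY hy).2
    refine hmemJ (mul_mem (mul_mem hcH (hY hy).1) (inv_mem hcH)) (mul_mem (mul_mem c.2 hyC) (inv_mem c.2)) ?_ ?_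
    · exact (odd_of_l (Γ := Γ) (isPGroup_cj (c : G) hYl) (conj_mem_cj hy)).of_dvd_nat
        ((orderOf_map_dvd St.φ _).trans (by rw [← Subgroup.orderOf_coe]; rfl))
    · show St.φ (c * ⟨y, hyC⟩ * c⁻¹) ∈ _
      rw [map_mul, map_mul, map_inv, hct, hc₀t]
      have hn := hY' (St.mem_img.2 ⟨⟨y, hyC⟩, hy, rfl⟩)
      refine mem_normalizer_fintype fun a ha => ?_
      have hz' : zpowers (Γ.c.ι t * e' * (Γ.c.ι t)⁻¹) = zpowers e := by
        refine Subgroup.eq_of_le_of_card_ge (Subgroup.zpowers_le.2 hte) ?_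
        rw [Nat.card_zpowers, Nat.card_zpowers, orderOf_eq_prime he.1.2.2 he.1.2.1,
          orderOf_eq_prime (Γ.elt_conj he'.1 _).2.2 (Γ.elt_conj he'.1 _).2.1]
      rw [← hz'] at ha ⊢
      obtain ⟨i, rfl⟩ := Subgroup.mem_zpowers_iff.1 ha
      obtain ⟨i', hi'⟩ := Subgroup.mem_zpowers_iff.1 ((Subgroup.mem_normalizer_iff.1 hn (e' ^ i)).1
        (zpow_mem (mem_zpowers e') i))
      refine Subgroup.mem_zpowers_iff.2 ⟨i', ?_⟩
      rw [conj_zpow, hi', conj_zpow]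
      group
  have hbcY : zpowers b ≤ normalizer (cj (c : G) Y : Set G) := zpowers_le.2 (mem_normalizer_cj (by
    rwa [mul_assoc, show b * (c : G) = c * b from hcb.eq, inv_mul_cancel_left]))
  obtain ⟨T₂, hT₂, hbT₂, hYT₂⟩ := Grp.exists_invariant_sylow_ge (zpowers b) J hbJ hcop (Or.inl inferInstance) hcY
    (isPGroup_cj _ hYl) hbcY
  obtain ⟨d, hd', hdT⟩ := Grp.invariant_sylow_conj (zpowers b) J hbJ hcop (Or.inl inferInstance) hT₂ hT hbT₂ hbT
  have hdJ := hJle hd'.1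
  have hdb : Commute d b := (Subgroup.mem_centralizer_iff.1 hd'.2 b (mem_zpowers b)).symm
  have hle : cj (d * c) Y ≤ T := by
    rw [← cj_cj, ← hdT]
    exact (cj_mono d hYT₂).trans (le_of_eq (Grp.map_conj_eq_smul T₂ d))
  refine ⟨d * c, mul_mem hdJ.1 hcH, mul_mem hdJ.2 c.2, hdb.mul_left hcb.symm, hle, fun T' hT' e => ?_⟩
  refine Subgroup.eq_of_le_of_card_ge hle ?_
  rw [card_cj, e, hT'.card, hTS.card]

end Sett

end Cfsg.Agent.Invol.AbgOrder.Ell
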