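import Cfsg.Agent.Lib.Invol.AbgOrder.EllPre
import Cfsg.Agent.Lib.Invol.HallFourGroup
import Cfsg.Agent.Lib.Invol.Order443520.GroupTools

/-!
# Commutators with an involution, and minimal invariant sections

`cm z A` is the subgroup generated by the `a⁻¹ z a z⁻¹`; `exists_layer` gives an invariant elementary section of an
`l`-group, central in it, which is minimal for a monotone property.
-/

set_option autoImplicit false
set_option linter.unusedSectionVars false
set_option linter.style.haveILetI false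

namespace Cfsg.Agent.Invol.AbgOrder.Ell

open Subgroup
open scoped commutatorElement

universe u

variable {G : Type u} [Group G]

/-- The commutators with `z`. -/
def cm (z : G) (A : Subgroup G) : Subgroup G := Subgroup.closure {x | ∃ a ∈ A, x = a⁻¹ * (z * a * z⁻¹)}

theorem cm_mem {z a : G} {A : Subgroup G} (ha : a ∈ A) : a⁻¹ * (z * a * z⁻¹) ∈ cm z A :=
  Subgroup.subset_closure ⟨a, ha, rfl⟩

theorem cm_le {z : G} {A : Subgroup G} (hz : z ∈ normalizer (A : Set G)) : cm z A ≤ A := by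
  refine (Subgroup.closure_le _).2 ?_
  rintro _ ⟨a, ha, rfl⟩
  exact A.mul_mem (A.inv_mem ha) ((Subgroup.mem_normalizer_iff.1 hz a).1 ha)

theorem cm_mono {z : G} {A B : Subgroup G} (h : A ≤ B) : cm z A ≤ cm z B :=
  Subgroup.closure_mono fun _ ⟨a, ha, e⟩ => ⟨a, h ha, e⟩

theorem cj_cm (g z : G) (A : Subgroup G) : cj g (cm z A) = cm (g * z * g⁻¹) (cj g A) := by
  rw [cj, cm, MonoidHom.map_closure, cm]
  congr 1
  ext x
  constructor
  · rintro ⟨y, ⟨a, ha, rfl⟩, rfl⟩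
    refine ⟨g * a * g⁻¹, conj_mem_cj ha, ?_⟩
    simp only [MulEquiv.coe_toMonoidHom, MulAut.conj_apply]
    group
  · rintro ⟨a, ha, rfl⟩
    refine ⟨(g⁻¹ * a * g)⁻¹ * (z * (g⁻¹ * a * g) * z⁻¹), ⟨_, mem_cj.1 ha, rfl⟩, ?_⟩
    simp only [MulEquiv.coe_toMonoidHom, MulAut.conj_apply]
    group

theorem cj_eq_of_mem [Finite G] {g : G} {A : Subgroup G} (h : g ∈ normalizer (A : Set G)) : cj g A = A := by
  refine Subgroup.eq_of_le_of_card_ge ?_ (card_cj g A).ge
  rintro _ ⟨a, ha, rfl⟩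
  exact (Subgroup.mem_normalizer_iff.1 h a).1 ha

theorem mem_normalizer_of_cj [Finite G] {g : G} {A : Subgroup G} (h : cj g A = A) : g ∈ normalizer (A : Set G) :=
  mem_normalizer_fintype fun _ ha => h.le (conj_mem_cj ha)

theorem cm_stable [Finite G] {g z : G} {A : Subgroup G} (hg : g ∈ normalizer (A : Set G)) (hgz : Commute g z) :
    g ∈ normalizer (cm z A : Set G) := by
  refine mem_normalizer_of_cj ?_
  rw [cj_cm, cj_eq_of_mem hg, hgz.eq, mul_inv_cancel_right]

theorem cm_normal [Finite G] {z : G} {A : Subgroup G} : A ≤ normalizer (cm z A : Set G) := fun b hb => by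
  refine mem_normalizer_fintype fun y hy => ?_
  have h : cm z A ≤ (cm z A).comap (MulAut.conj b).toMonoidHom := by
    refine (Subgroup.closure_le _).2 ?_
    rintro _ ⟨a, ha, rfl⟩
    show b * (a⁻¹ * (z * a * z⁻¹)) * b⁻¹ ∈ cm z A
    rw [show b * (a⁻¹ * (z * a * z⁻¹)) * b⁻¹ =
      (a * b⁻¹)⁻¹ * (z * (a * b⁻¹) * z⁻¹) * (b⁻¹⁻¹ * (z * b⁻¹ * z⁻¹))⁻¹ by group]
    exact mul_mem (cm_mem (A.mul_mem ha (A.inv_mem hb))) (inv_mem (cm_mem (A.inv_mem hb)))
  exact h hy

theorem cm_split [Finite G] {z a : G} {A : Subgroup G} (hz : z * z = 1) (hzA : z ∈ normalizer (A : Set G))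
    (hA : Odd (Nat.card A)) (ha : a ∈ A) : ∃ m ∈ cm z A, Commute z (a * m) :=
  exists_fix hz (hA.of_dvd_nat (Subgroup.card_dvd_of_le (cm_le hzA))) (cm_mem ha)

theorem cm_cm [Finite G] {z : G} {A : Subgroup G} (hz : z * z = 1) (hzA : z ∈ normalizer (A : Set G))
    (hA : Odd (Nat.card A)) : cm z (cm z A) = cm z A := by
  refine le_antisymm (cm_le (cm_stable hzA (Commute.refl z))) ((Subgroup.closure_le _).2 ?_)
  rintro _ ⟨a, ha, rfl⟩
  obtain ⟨m, hm, hc⟩ := cm_split hz hzA hA ha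
  have e : a⁻¹ * (z * a * z⁻¹) = m⁻¹⁻¹ * (z * m⁻¹ * z⁻¹) := by
    calc a⁻¹ * (z * a * z⁻¹) = a⁻¹ * (z * (a * m)) * (m⁻¹ * z⁻¹) := by group
      _ = a⁻¹ * (a * m * z) * (m⁻¹ * z⁻¹) := by rw [hc.eq]
      _ = _ := by group
  show a⁻¹ * (z * a * z⁻¹) ∈ _
  rw [e]
  exact cm_mem (inv_mem hm)

/-- Elements normalising `N` whose commutator with `z` lies in `N`. -/
def comKer (z : G) (N : Subgroup G) : Subgroup G where
  carrier := {x | x ∈ normalizer (N : Set G) ∧ x⁻¹ * (z * x * z⁻¹) ∈ N}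
  one_mem' := ⟨one_mem _, by simp⟩
  mul_mem' := fun {x y} hx hy => ⟨mul_mem hx.1 hy.1, by
    rw [show (x * y)⁻¹ * (z * (x * y) * z⁻¹) =
      y⁻¹ * (x⁻¹ * (z * x * z⁻¹)) * y * (y⁻¹ * (z * y * z⁻¹)) by group]
    exact N.mul_mem ((Subgroup.mem_normalizer_iff''.1 hy.1 _).1 hx.2) hy.2⟩
  inv_mem' := fun {x} hx => ⟨inv_mem hx.1, by
    rw [show x⁻¹⁻¹ * (z * x⁻¹ * z⁻¹) = x * (x⁻¹ * (z * x * z⁻¹))⁻¹ * x⁻¹ by group]
    exact (Subgroup.mem_normalizer_iff.1 hx.1 _).1 (N.inv_mem hx.2)⟩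

theorem mem_comKer {z x : G} {N : Subgroup G} :
    x ∈ comKer z N ↔ x ∈ normalizer (N : Set G) ∧ x⁻¹ * (z * x * z⁻¹) ∈ N := Iff.rfl

theorem cm_le_of_comKer {z : G} {A N : Subgroup G} (h : A ≤ comKer z N) : cm z A ≤ N := by
  refine (Subgroup.closure_le _).2 ?_
  rintro _ ⟨a, ha, rfl⟩
  exact (h ha).2

/-- An `l`-group generated by its commutators with `z` is generated by those of the centralisers of `w` and `zw`. -/
theorem cm_gen [Finite G] {l : ℕ} [Fact l.Prime] (hl : l ≠ 2) {z w : G} (hz : z * z = 1) (hw : w * w = 1)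
    (hzw : z * w = w * z) {A : Subgroup G} (hA : IsPGroup l A) (hzA : z ∈ normalizer (A : Set G))
    (hwA : w ∈ normalizer (A : Set G)) (hcm : cm z A = A) :
    cm z (A ⊓ centralizer ({w} : Set G)) ⊔ cm z (A ⊓ centralizer ({z * w} : Set G)) = A := by
  classical
  set R := cm z (A ⊓ centralizer ({w} : Set G)) ⊔ cm z (A ⊓ centralizer ({z * w} : Set G)) with hR
  have hRA : R ≤ A := hcm ▸ sup_le (cm_mono inf_le_left) (cm_mono inf_le_left)
  by_contra hne
  obtain ⟨M, ⟨hRM, hMA, hMne⟩, hMmax⟩ := Set.exists_max_image {M : Subgroup G | R ≤ M ∧ M ≤ A ∧ M ≠ A}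
    (fun M => Nat.card M) (Set.toFinite _) ⟨R, le_rfl, hRA, hne⟩
  have hlt := M22Ord.lt_normalizer_inf hA hMA hMne
  have hn : A ≤ normalizer (M : Set G) := by
    by_contra h
    have hle := hMmax (normalizer (M : Set G) ⊓ A) ⟨hRM.trans hlt.le, inf_le_right, fun e => h (inf_eq_right.1 e)⟩
    exact hlt.ne (Subgroup.eq_of_le_of_card_ge hlt.le hle)
  refine hMne (le_antisymm hMA (hcm.ge.trans (cm_le_of_comKer fun u hu => ?_)))
  obtain ⟨b, a, a', hb, ha, ha', eb, ea, ea', rfl⟩ := HallFour.decomposition_subgroup hl hA hz hw hzw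
    (fun u hu => (Subgroup.mem_normalizer_iff.1 hzA u).1 hu) (fun u hu => (Subgroup.mem_normalizer_iff.1 hwA u).1 hu) hu
  refine mul_mem (mul_mem ⟨hn hb, hRM (le_sup_right (a := cm z (A ⊓ centralizer ({w} : Set G))) (cm_mem ⟨hb, ?_⟩))⟩
    ⟨hn ha, ?_⟩) ⟨hn ha', hRM (le_sup_left (b := cm z (A ⊓ centralizer ({z * w} : Set G))) (cm_mem ⟨ha', ?_⟩))⟩
  · exact Subgroup.mem_centralizer_singleton_iff.2 eb
  · rw [← ea, mul_inv_cancel_right, inv_mul_cancel]
    exact one_mem _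
  · exact Subgroup.mem_centralizer_singleton_iff.2 ea'

theorem mem_normalizer_sup [Finite G] {g : G} {A B : Subgroup G} (hA : g ∈ normalizer (A : Set G))
    (hB : g ∈ normalizer (B : Set G)) : g ∈ normalizer ((A ⊔ B : Subgroup G) : Set G) :=
  mem_normalizer_of_cj (by
    rw [cj, Subgroup.map_sup]
    exact congr_arg₂ (· ⊔ ·) (cj_eq_of_mem hA) (cj_eq_of_mem hB))

theorem mem_normalizer_commutator [Finite G] {g : G} {A B : Subgroup G} (hA : g ∈ normalizer (A : Set G))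
    (hB : g ∈ normalizer (B : Set G)) : g ∈ normalizer ((⁅A, B⁆ : Subgroup G) : Set G) :=
  mem_normalizer_of_cj (by
    rw [cj, Subgroup.map_commutator]
    exact congr_arg₂ (fun X Y : Subgroup G => ⁅X, Y⁆) (cj_eq_of_mem hA) (cj_eq_of_mem hB))

theorem mem_normalizer_inf {g : G} {A B : Subgroup G} (hA : g ∈ normalizer (A : Set G))
    (hB : g ∈ normalizer (B : Set G)) : g ∈ normalizer ((A ⊓ B : Subgroup G) : Set G) :=
  Subgroup.mem_normalizer_iff.2 fun x => and_congr (Subgroup.mem_normalizer_iff.1 hA x)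
    (Subgroup.mem_normalizer_iff.1 hB x)

theorem mem_normalizer_centralizer {g b : G} (h : Commute g b) :
    g ∈ normalizer (centralizer ({b} : Set G) : Set G) :=
  Subgroup.le_normalizer (Subgroup.mem_centralizer_singleton_iff.2 h)

/-- A minimal invariant section. -/
theorem exists_layer [Finite G] {l : ℕ} [Fact l.Prime] {N H : Subgroup G} (hN : IsPGroup l N)
    (hH : H ≤ normalizer (N : Set G)) (Pr : Subgroup G → Prop) (hNP : Pr N) (hbot : ¬ Pr ⊥) :
    ∃ A A₀ : Subgroup G, A ≤ N ∧ A₀ ≤ A ∧ Pr A ∧ ¬ Pr A₀ ∧ ⁅A, N⁆ ≤ A₀ ∧ (∀ a ∈ A, a ^ l ∈ A₀) ∧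
      N ⊔ H ≤ normalizer (A : Set G) ∧ N ⊔ H ≤ normalizer (A₀ : Set G) := by
  classical
  set J := N ⊔ H with hJ
  have hJN : J ≤ normalizer (N : Set G) := sup_le Subgroup.le_normalizer hH
  obtain ⟨A, ⟨hAN, hAP, hJA⟩, hAmin⟩ :=
    Set.exists_min_image {B : Subgroup G | B ≤ N ∧ Pr B ∧ J ≤ normalizer (B : Set G)} (fun B => Nat.card B)
      (Set.toFinite _) ⟨N, le_rfl, hNP, hJN⟩
  have hA1 : A ≠ ⊥ := fun e => hbot (e ▸ hAP)
  obtain ⟨A₀, ⟨hA0A, hne, hJA0⟩, hmax⟩ :=
    Set.exists_max_image {B : Subgroup G | B ≤ A ∧ B ≠ A ∧ J ≤ normalizer (B : Set G)} (fun B => Nat.card B)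
      (Set.toFinite _) ⟨⊥, bot_le, Ne.symm hA1, fun g _ => mem_normalizer_fintype fun n hn => by
        rw [Subgroup.coe_bot, Set.mem_singleton_iff] at hn ⊢
        rw [hn, mul_one, mul_inv_cancel]⟩
  have key : ∀ B : Subgroup G, B ≤ A → J ≤ normalizer (B : Set G) → A₀ ≤ B → B = A₀ ∨ B = A := by
    intro B hBA hJB h0
    by_cases h : B = A
    · exact Or.inr h
    · exact Or.inl (Subgroup.eq_of_le_of_card_ge h0 (hmax B ⟨hBA, h, hJB⟩)).symm
  have hA0P : ¬ Pr A₀ := fun h => hne (Subgroup.eq_of_le_of_card_ge hA0A (hAmin A₀ ⟨hA0A.trans hAN, h, hJA0⟩))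
  have hNA : N ≤ normalizer (A : Set G) := le_sup_left.trans hJA
  have hcA : ⁅A, N⁆ ≤ A := Subgroup.commutator_le.2 fun a ha n hn => by
    rw [commutatorElement_def, mul_assoc a n, mul_assoc a]
    exact A.mul_mem ha ((Subgroup.mem_normalizer_iff.1 (hNA hn) _).1 (A.inv_mem ha))
  have hcomm : ⁅A, N⁆ ≤ A₀ := by
    rcases key (A₀ ⊔ ⁅A, N⁆) (sup_le hA0A hcA)
      (fun g hg => mem_normalizer_sup (hJA0 hg) (mem_normalizer_commutator (hJA hg) (hJN hg))) le_sup_left with h | h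
    · exact h ▸ le_sup_right
    · exfalso
      haveI : (A₀.subgroupOf N).Normal := Subgroup.normal_subgroupOf_of_le_normalizer (le_sup_left.trans hJA0)
      haveI : Group.IsNilpotent N := hN.isNilpotent
      set π := QuotientGroup.mk' (A₀.subgroupOf N)
      have hle : ∀ n : ℕ, (A.subgroupOf N).map π ≤ (⊤ : Subgroup (N ⧸ A₀.subgroupOf N)).lowerCentralSeries n := by
        intro n
        induction n with
        | zero => simp
        | succ n ih =>
          have hsub : A.subgroupOf N ≤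
              A₀.subgroupOf N ⊔ ⁅A.subgroupOf N, (⊤ : Subgroup N)⁆ := by
            refine fun x hx => ?_
            have hx' : (x : G) ∈ A₀ ⊔ ⁅A, N⁆ := h.symm ▸ hx
            have e : (A₀.subgroupOf N ⊔ ⁅A.subgroupOf N, (⊤ : Subgroup N)⁆).map N.subtype = A₀ ⊔ ⁅A, N⁆ := by
              rw [Subgroup.map_sup, Subgroup.map_commutator, Subgroup.subgroupOf_map_subtype,
                Subgroup.subgroupOf_map_subtype, inf_eq_left.2 hAN, inf_eq_left.2 (hA0A.trans hAN),
                ← MonoidHom.range_eq_map, Subgroup.range_subtype]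
            rw [← e] at hx'
            obtain ⟨y, hy, hyx⟩ := hx'
            exact Subtype.ext hyx ▸ hy
          refine (Subgroup.map_mono hsub).trans ?_
          rw [Subgroup.map_sup, Subgroup.map_commutator, QuotientGroup.map_mk'_self, bot_sup_eq]
          exact Subgroup.commutator_mono ih le_top
      obtain ⟨n, hn⟩ := Subgroup.nilpotent_iff_lowerCentralSeries.1
        (inferInstance : Group.IsNilpotent (N ⧸ A₀.subgroupOf N))
      have h2 := hle n
      rw [hn, le_bot_iff, Subgroup.map_eq_bot_iff, QuotientGroup.ker_mk'] at h2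
      exact hne (le_antisymm hA0A fun a ha => h2 (show (⟨a, hAN ha⟩ : N) ∈ A.subgroupOf N from ha))
  refine ⟨A, A₀, hAN, hA0A, hAP, hA0P, hcomm, fun a ha => ?_, hJA, hJA0⟩
  set B := A₀ ⊔ Subgroup.closure {x | ∃ a ∈ A, x = a ^ l} with hB
  have hBJ : J ≤ normalizer (B : Set G) := fun g hg => mem_normalizer_sup (hJA0 hg) (mem_normalizer_of_cj (by
    rw [cj, MonoidHom.map_closure]
    congr 1
    ext x
    constructor
    · rintro ⟨y, ⟨a, ha, rfl⟩, rfl⟩
      exact ⟨g * a * g⁻¹, (Subgroup.mem_normalizer_iff.1 (hJA hg) a).1 ha, by simp [conj_pow]⟩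
    · rintro ⟨a, ha, rfl⟩
      exact ⟨(g⁻¹ * a * g) ^ l, ⟨_, (Subgroup.mem_normalizer_iff''.1 (hJA hg) a).1 ha, rfl⟩, by
        simp only [MulEquiv.coe_toMonoidHom, MulAut.conj_apply, ← conj_pow]
        group⟩))
  have hBA : B ≤ A := sup_le hA0A ((Subgroup.closure_le _).2 (by rintro _ ⟨a, ha, rfl⟩; exact pow_mem ha l))
  rcases key B hBA hBJ le_sup_left with h | h
  · exact h ▸ le_sup_right (a := A₀) (Subgroup.subset_closure ⟨a, ha, rfl⟩)
  · exfalso
    haveI : (A₀.subgroupOf A).Normal := Subgroup.normal_subgroupOf_of_le_normalizer ((hAN.trans le_sup_left).trans hJA0)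
    set π := QuotientGroup.mk' (A₀.subgroupOf A) with hπ
    have hab : ∀ x y : A ⧸ A₀.subgroupOf A, x * y = y * x := by
      intro x y
      obtain ⟨x, rfl⟩ := QuotientGroup.mk'_surjective (A₀.subgroupOf A) x
      obtain ⟨y, rfl⟩ := QuotientGroup.mk'_surjective (A₀.subgroupOf A) y
      refine commutatorElement_eq_one_iff_mul_comm.1 ?_
      rw [← map_commutatorElement, QuotientGroup.mk'_apply, QuotientGroup.eq_one_iff, Subgroup.mem_subgroupOf]
      exact hcomm (Subgroup.commutator_mem_commutator x.2 (hAN y.2))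
    let f : (A ⧸ A₀.subgroupOf A) →* (A ⧸ A₀.subgroupOf A) :=
      { toFun := fun x => x ^ l
        map_one' := one_pow l
        map_mul' := fun x y => Commute.mul_pow (hab x y) l }
    have hsurj : Function.Surjective f := by
      have hle : B ≤ ((f.range).comap π).map A.subtype := by
        refine sup_le (fun x hx => ?_) ((Subgroup.closure_le _).2 ?_)
        · refine ⟨⟨x, hA0A hx⟩, ⟨1, ?_⟩, rfl⟩
          rw [map_one]
          exact ((QuotientGroup.eq_one_iff (⟨x, hA0A hx⟩ : A)).2 hx).symm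
        · rintro _ ⟨a, ha, rfl⟩
          exact ⟨⟨a, ha⟩ ^ l, ⟨π ⟨a, ha⟩, (map_pow π _ _).symm⟩, rfl⟩
      intro x
      obtain ⟨x, rfl⟩ := QuotientGroup.mk'_surjective (A₀.subgroupOf A) x
      obtain ⟨y, ⟨z, hz⟩, e⟩ := hle (show (x : G) ∈ B by rw [h]; exact x.2)
      exact ⟨z, by rw [hz, Subtype.ext e]⟩
    have hinj := Finite.injective_iff_surjective.2 hsurj
    haveI : Nontrivial (A ⧸ A₀.subgroupOf A) := by
      rw [QuotientGroup.nontrivial_iff, Ne, Subgroup.subgroupOf_eq_top]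
      exact fun h' => hne (le_antisymm hA0A h')
    obtain ⟨x, hx⟩ := exists_prime_orderOf_dvd_card' l (by
      obtain ⟨k, hk⟩ := IsPGroup.iff_card.1 ((hN.to_le hAN).to_quotient (A₀.subgroupOf A))
      have h1 := hk ▸ Finite.one_lt_card (α := A ⧸ A₀.subgroupOf A)
      refine hk ▸ dvd_pow_self l fun e => ?_
      rw [e, pow_zero] at h1
      exact lt_irrefl _ h1)
    have h1 : x = 1 := hinj (show f x = f 1 by
      rw [map_one]
      show x ^ l = 1
      exact orderOf_dvd_iff_pow_eq_one.1 hx.dvd)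
    rw [h1, orderOf_one] at hx
    exact (Fact.out : l.Prime).ne_one hx.symm

end Cfsg.Agent.Invol.AbgOrder.Ell
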