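import Cfsg.Agent.Lib.Invol.AbgOrder.EllMoved
import Cfsg.Agent.Lib.Invol.SmallCent.FourFixed

/-!
# The bound

With a signalizer of full order, the `l`-part of the index of the centralizer is at most the square of that of the
index in the kernel of the centralizer of `w`.
-/

set_option autoImplicit false
set_option linter.unusedSectionVars false
set_option linter.style.haveILetI false

namespace Cfsg.Agent.Invol.AbgOrder.Ell

open Subgroup Matrix Cfsg.Agent.Classical
open scoped Pointwise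

universe u v

namespace Sett

variable {G : Type u} [Group G] [Finite G] {X : Type u} [Group X] [Finite X] {F : Type v} [Field F] [Fintype F]
  {l : ℕ} {Γ : Gam X F l} {St : Sett G Γ}

/-- The frame of a signalizer normalised by the four-group: it is not elliptic. -/
theorem not_ell_of {U : Subgroup G} (hU : St.Good U)
    (hfac : (Nat.card G).factorization l = (Nat.card U).factorization l + (Nat.card X).factorization l)
    (V : St.Four) (hzU : St.z ∈ normalizer (U : Set G)) (hwU : V.w ∈ normalizer (U : Set G)) :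
    ¬ St.EllAt V.w U := by
  obtain ⟨T, hT, hwT, -⟩ :=
    St.exists_inv_sylow hU.2.1 V.mem V.sq V.ne V.nez (Subgroup.le_normalizer hwU)
  exact Frame.not_ell ⟨V, U, hU, hfac, hzU, hwU, T, hT, hwT⟩

/-- Without elliptic elements at `b`, the centralizer of `b` in `U` is bounded by the kernel. -/
theorem nonell_bound (V : St.Four) {U : Subgroup G} (hU : IsPGroup l U) (hzU : St.z ∈ normalizer (U : Set G))
    (hn : ¬ St.EllAt V.w U) :
    (Nat.card ↥(U ⊓ Subgroup.centralizer ({V.w} : Set G))).factorization l +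
        (Nat.card ↥(St.O ⊓ Subgroup.centralizer ({V.w} : Set G))).factorization l ≤
      (Nat.card ↥(U ⊓ St.C ⊓ Subgroup.centralizer ({V.w} : Set G))).factorization l +
        (Nat.card St.O).factorization l := by
  haveI := Fact.mk Γ.hl
  obtain ⟨g, hgz, hgw⟩ := V.exists_swap
  set B := Subgroup.centralizer ({V.w} : Set G) with hB
  have hCw : cj g B = St.C := by rw [hB, cj_centralizer, hgw]
  have hCz : cj g St.C = B := by rw [hB, cj_centralizer, hgz]
  set Y := cj g (U ⊓ B) with hY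
  have hYC : Y ≤ St.C := (cj_mono g inf_le_right).trans hCw.le
  have hYl : IsPGroup l Y := isPGroup_cj g (hU.to_le inf_le_left)
  have hgz' : g⁻¹ * V.w * g = St.z := by rw [← hgz]; group
  have hwY : V.w ∈ normalizer (Y : Set G) := mem_normalizer_cj (by
    rw [hgz']
    exact mem_normalizer_inf hzU (mem_normalizer_centralizer V.comm.symm))
  have hYn : ¬ St.EllAt St.z Y := fun h => hn ((St.ellAt_conj g).1 (by
    rw [hgw]; exact St.ellAt_mono (cj_mono g inf_le_left) h))
  have hwO : V.w ∈ normalizer (St.O : Set G) :=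
    mem_normalizer_fintype fun x hx => St.O_conj V.mem hx
  set R₁ := Y ⊓ St.O with hR₁
  -- `Y` is its fixed points times its part in the kernel
  have hsup : Y ≤ (Y ⊓ B) ⊔ R₁ := fun x hx => by
    have hcom := V.commute_img hYl hwY hYn (c := ⟨x, hYC hx⟩) hx
    have h1 : x⁻¹ * (V.w * x * V.w⁻¹) ∈ R₁ :=
      ⟨Y.mul_mem (Y.inv_mem hx) ((Subgroup.mem_normalizer_iff.1 hwY x).1 hx),
        St.sub_mem_O (c := ⟨x, hYC hx⟩) (d := ⟨V.w, V.mem⟩ * ⟨x, hYC hx⟩ * (⟨V.w, V.mem⟩ : St.C)⁻¹)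
          (by rw [map_mul, map_mul, map_inv]; exact (mul_inv_eq_iff_eq_mul.2 hcom.eq).symm)⟩
    obtain ⟨m, hm, hxm⟩ := exists_fix V.sq (St.O_odd.of_dvd_nat (Subgroup.card_dvd_of_le inf_le_right)) h1
    have h2 : x * m ∈ Y ⊓ B := ⟨Y.mul_mem hx hm.1, Subgroup.mem_centralizer_singleton_iff.2 hxm.symm.eq⟩
    have := mul_mem (le_sup_left (b := R₁) h2) (le_sup_right (a := Y ⊓ B) (R₁.inv_mem hm))
    rwa [mul_inv_cancel_right] at this
  have hcard : Nat.card Y * Nat.card ↥(R₁ ⊓ B) = Nat.card ↥(Y ⊓ B) * Nat.card R₁ := by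
    have hnorm : Y ⊓ B ≤ normalizer (R₁ : Set G) := fun x hx => mem_normalizer_inf (Subgroup.le_normalizer hx.1)
      (mem_normalizer_fintype fun y hy => St.O_conj (hYC hx.1) hy)
    have h := Grp.card_sup_mul_card_inf (H := Y ⊓ B) (N := R₁) hnorm
    rwa [le_antisymm (sup_le inf_le_left inf_le_left) hsup, show Y ⊓ B ⊓ R₁ = R₁ ⊓ B by
      rw [hR₁]; ext y; simp only [Subgroup.mem_inf]; tauto] at h
  -- invariant Sylow subgroups of the kernel
  have hA : zpowers V.w ≤ normalizer (St.O : Set G) := zpowers_le.2 hwO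
  have hcop : (Nat.card (zpowers V.w)).Coprime (Nat.card St.O) := by
    rw [Nat.card_zpowers, orderOf_eq_prime (by rw [sq, V.sq]) V.ne]
    exact Nat.coprime_two_left.2 St.O_odd
  obtain ⟨W₁, hW₁, hwW₁, hRW₁⟩ := Grp.exists_invariant_sylow_ge (zpowers V.w) St.O hA hcop (Or.inl inferInstance)
    (U := R₁) inf_le_right (hYl.to_le inf_le_left) (zpowers_le.2 (mem_normalizer_inf hwY hwO))
  obtain ⟨L, hL⟩ := Grp.exists_isSylowIn l (St.O ⊓ B)
  have hLB : L ≤ B := hL.1.trans inf_le_right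
  obtain ⟨W₂, hW₂, hwW₂, hLW₂⟩ := Grp.exists_invariant_sylow_ge (zpowers V.w) St.O hA hcop (Or.inl inferInstance)
    (U := L) (hL.1.trans inf_le_left) hL.2.1 (zpowers_le.2 (Subgroup.centralizer_le_normalizer _
      (Subgroup.mem_centralizer_iff.2 fun y hy => Subgroup.mem_centralizer_singleton_iff.1 (hLB hy))))
  obtain ⟨d, hd, hde⟩ := Grp.invariant_sylow_conj (zpowers V.w) St.O hA hcop (Or.inl inferInstance) hW₂ hW₁ hwW₂ hwW₁
  have hdw : d ∈ B := Subgroup.mem_centralizer_singleton_iff.2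
    (Subgroup.mem_centralizer_iff.1 hd.2 V.w (mem_zpowers _)).symm
  have hLW : cj d L ≤ W₁ ⊓ B := by
    refine le_inf ?_ ?_
    · rw [← hde, ← Grp.map_conj_eq_smul]
      exact cj_mono d hLW₂
    · rintro _ ⟨y, hy, rfl⟩
      exact B.mul_mem (B.mul_mem hdw (hLB hy)) (B.inv_mem hdw)
  have hfix : (Nat.card ↥(St.O ⊓ B)).factorization l ≤ (Nat.card ↥(W₁ ⊓ B)).factorization l := by
    refine le_trans (le_of_eq ?_) (fac_le hLW)
    rw [card_cj, hL.card, Γ.hl.factorization_pow, Finsupp.single_eq_same]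
  -- the inverted elements
  have hinv : Nat.card R₁ * Nat.card ↥(W₁ ⊓ B) ≤ Nat.card W₁ * Nat.card ↥(R₁ ⊓ B) := by
    rw [SmallCent.card_eq_fixed_mul_inverted R₁ (St.O_odd.of_dvd_nat (Subgroup.card_dvd_of_le inf_le_right)) V.sq
        fun x hx => (Subgroup.mem_normalizer_iff.1 (mem_normalizer_inf hwY hwO) x).1 hx,
      SmallCent.card_eq_fixed_mul_inverted W₁ (St.O_odd.of_dvd_nat (Subgroup.card_dvd_of_le hW₁.1)) V.sq
        fun x hx => (Subgroup.mem_normalizer_iff.1 (hwW₁ (mem_zpowers _)) x).1 hx, mul_right_comm, mul_right_comm _ _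
        (Nat.card ↥(R₁ ⊓ B)), mul_comm (Nat.card ↥(W₁ ⊓ B))]
    exact Nat.mul_le_mul_left _ (Nat.card_mono (Set.toFinite _) fun x hx => ⟨hRW₁ hx.1, hx.2⟩)
  rw [St.eq_pow_fac (hYl.to_le inf_le_left : IsPGroup l R₁), St.eq_pow_fac (hW₁.2.1.to_le inf_le_left : IsPGroup l ↥(W₁ ⊓ B)),
    St.eq_pow_fac hW₁.2.1, St.eq_pow_fac ((hYl.to_le inf_le_left).to_le inf_le_left : IsPGroup l ↥(R₁ ⊓ B)), ← pow_add,
    ← pow_add] at hinv
  have h1 := (Nat.pow_le_pow_iff_right Γ.hl.one_lt).1 hinv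
  have h2 := fac_le (l := l) hW₁.1
  have h3 := congrArg (fun n => n.factorization l) hcard
  simp only [Nat.factorization_mul Nat.card_pos.ne' Nat.card_pos.ne', Finsupp.add_apply] at h3
  have e1 : Nat.card Y = Nat.card ↥(U ⊓ B) := card_cj _ _
  have e2 : Nat.card ↥(Y ⊓ B) = Nat.card ↥(U ⊓ St.C ⊓ B) := by
    rw [← hCz, hY, ← cj_inf, card_cj, hCz, inf_assoc, inf_comm B St.C, ← inf_assoc]
  rw [e1, e2] at h3
  omega

theorem good_cj {U : Subgroup G} (hU : St.Good U) {c : G} (hc : c ∈ St.C) : St.Good (cj c U) := by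
  obtain ⟨h1, h2, h3, h4⟩ := hU
  have hC : cj c U ⊓ St.C = cj c (U ⊓ St.C) := by
    rw [cj_inf, cj_centralizer, (St.mem_C.1 hc).eq, mul_inv_cancel_right]
  refine ⟨isPGroup_cj c h1, St.cov_mono (St.cov_cj hc h2) fun x hx => mem_normalizer_cj (mem_cj.1 hx), ?_, ?_⟩
  · rw [hC]
    rintro _ ⟨y, hy, rfl⟩
    exact St.O_conj hc (h3 hy)
  · rw [hC, card_cj, h4]

/-- A good subgroup of full order normalised by the four-group. -/
theorem exists_good_four (hStar : St.Star) (V : St.Four) : ∃ U, St.Good U ∧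
    (Nat.card G).factorization l = (Nat.card U).factorization l + (Nat.card X).factorization l ∧
    St.z ∈ normalizer (U : Set G) ∧ V.w ∈ normalizer (U : Set G) := by
  obtain ⟨U₀, hU₀, hfac⟩ := hStar
  obtain ⟨c, hcN, hcφ⟩ := hU₀.2.1 V.img
  obtain ⟨j, m, hm, hjm⟩ := Nat.exists_eq_two_pow_mul_odd (orderOf_pos c).ne'
  set b := c ^ m with hb
  obtain ⟨m', rfl⟩ := hm
  have hbφ : St.φ b = V.img := by
    rw [hb, map_pow, hcφ, pow_succ, pow_mul, sq, V.img_sq, one_pow, one_mul]
  have hb2 : b ^ 2 ^ j = 1 := by rw [hb, ← pow_mul, mul_comm, ← hjm, pow_orderOf_eq_one]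
  have hbN : (b : G) ∈ normalizer (U₀ : Set G) := by rw [hb, SubmonoidClass.coe_pow]; exact pow_mem hcN _
  have hbb : (b : G) * b = 1 := by
    refine St.one_of_two (St.mem_O.2 ⟨(b * b).2, ?_⟩) (j := j) ?_
    · show St.φ (b * b) = 1
      rw [map_mul, hbφ, V.img_sq]
    · show ((b * b : St.C) : G) ^ 2 ^ j = 1
      rw [← SubmonoidClass.coe_pow, ← sq, ← pow_mul, mul_comm, pow_mul, hb2, one_pow, OneMemClass.coe_one]
  have hb1 : (b : G) ≠ 1 := fun h => V.nc.2.1 (by rw [← hbφ, show b = 1 from Subtype.ext h, map_one])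
  have hbz : (b : G) ≠ St.z := fun h => V.nc.2.2 (by
    rw [← hbφ, show b = ⟨St.z, St.z_mem⟩ from Subtype.ext h, St.map_z])
  obtain ⟨r, -, hrC, hr⟩ := St.nc_conj St.cov_top b.2 V.mem hbb hb1 hbz V.sq V.ne V.nez
    (mem_normalizer_fintype fun _ _ => mem_top _) (Or.inl (mem_top _))
  refine ⟨cj r U₀, good_cj hU₀ hrC, by rw [card_cj]; exact hfac, St.z_mem_of_cov (good_cj hU₀ hrC).2.1,
    mem_normalizer_cj ?_⟩
  rwa [show r⁻¹ * V.w * r = (b : G) by rw [← hr]; group]

/-- The bound. -/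
theorem bound (hStar : St.Star) (V : St.Four) :
    (Nat.card G).factorization l +
        2 * (Nat.card ↥(St.O ⊓ Subgroup.centralizer ({V.w} : Set G))).factorization l ≤
      (Nat.card St.C).factorization l + 2 * (Nat.card St.O).factorization l := by
  haveI := Fact.mk Γ.hl
  obtain ⟨U, hU, hfac, hzU, hwU⟩ := exists_good_four hStar V
  let V' : St.Four := ⟨St.z * V.w, V.zw_mem, V.zw_sq, V.zw_ne, V.zw_nez⟩
  have hwU' : V'.w ∈ normalizer (U : Set G) := mul_mem hzU hwU
  have h1 := nonell_bound V hU.1 hzU (not_ell_of hU hfac V hzU hwU)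
  have h2 := nonell_bound V' hU.1 hzU (not_ell_of hU hfac V' hzU hwU')
  have hC : St.C ⊓ Subgroup.centralizer ({St.z * V.w} : Set G) = St.C ⊓ Subgroup.centralizer ({V.w} : Set G) := by
    ext x
    simp only [Subgroup.mem_inf]
    refine and_congr_right fun hx => ?_
    rw [Subgroup.mem_centralizer_singleton_iff, Subgroup.mem_centralizer_singleton_iff]
    refine ⟨fun h => ?_, fun h => ((St.mem_C.1 hx).mul_right (show Commute x V.w from h)).eq⟩
    have h' : Commute x (St.z * (St.z * V.w)) := (St.mem_C.1 hx).mul_right h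
    rw [← mul_assoc, St.z_sq, one_mul] at h'
    exact h'.eq
  have hO : St.O ⊓ Subgroup.centralizer ({V'.w} : Set G) = St.O ⊓ Subgroup.centralizer ({V.w} : Set G) := by
    rw [← inf_eq_left.2 St.O_le, inf_assoc, inf_assoc, hC]
  rw [hO, inf_assoc, hC, ← inf_assoc] at h2
  have h3 := SmallCent.card_four_fixed U (odd_pgroup hU.1 St) St.z_sq V.sq V.comm.symm.eq
    (fun x hx => (Subgroup.mem_normalizer_iff.1 hzU x).1 hx) (fun x hx => (Subgroup.mem_normalizer_iff.1 hwU x).1 hx)
  have h4 : _ = _ := congrArg (fun n => n.factorization l) h3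
  rw [Nat.factorization_mul Nat.card_pos.ne' (pow_ne_zero _ Nat.card_pos.ne'),
    Nat.factorization_mul (mul_ne_zero Nat.card_pos.ne' Nat.card_pos.ne') Nat.card_pos.ne',
    Nat.factorization_mul Nat.card_pos.ne' Nat.card_pos.ne', Nat.factorization_pow] at h4
  simp only [Finsupp.add_apply, Finsupp.smul_apply, smul_eq_mul] at h4
  have e1 : (Nat.card ↥(U ⊓ Subgroup.centralizer ({St.z} : Set G))).factorization l =
      (Nat.card ↥(U ⊓ St.C)).factorization l := rfl
  have e2 : (Nat.card ↥(U ⊓ Subgroup.centralizer ({St.z * V.w} : Set G))).factorization l =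
      (Nat.card ↥(U ⊓ Subgroup.centralizer ({V'.w} : Set G))).factorization l := rfl
  have e3 : (Nat.card ↥(U ⊓ Subgroup.centralizer ({St.z} : Set G) ⊓ Subgroup.centralizer ({V.w} : Set G))).factorization l =
      (Nat.card ↥(U ⊓ St.C ⊓ Subgroup.centralizer ({V.w} : Set G))).factorization l := rfl
  have h5 := hU.2.2.2
  have h6 := St.fac_C
  omega

end Sett

end Cfsg.Agent.Invol.AbgOrder.Ell
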