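import Cfsg.Agent.Lib.Invol.AbgOrder.EllLines
import Cfsg.Agent.Lib.Grp.Frattini

/-!
# Invariant `l`-subgroups, normal subgroups, and the torus lemma
-/

set_option autoImplicit false
set_option linter.unusedSectionVars false
set_option linter.style.haveILetI false

namespace Cfsg.Agent.Invol.AbgOrder.Ell

open Matrix Subgroup Cfsg.Agent.Classical Cfsg.Agent.Classical.PSLAut Cfsg.Agent.Classical.Descent
open scoped Pointwise

universe u v

namespace Gam

variable {X : Type u} [Group X] [Finite X] {F : Type v} [Field F] [Fintype F] {l : ℕ} (Γ : Gam X F l)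

local notation "SL₂" => Matrix.SpecialLinearGroup (Fin 2) F
local notation "GL₂" => GL (Fin 2) F
local notation "M₂" => Matrix (Fin 2) (Fin 2) F

/-- An element inducing an inner automorphism lies in the normal subgroup. -/
theorem mem_N_of_square {x : X} {M : GL₂} (hx : Γ.c.ψ x = inn M) (hM : IsSquare (M : M₂).det) : x ∈ Γ.c.N := by
  obtain ⟨b, hb⟩ := hM
  have hb0 : b ≠ 0 := fun e => M.det_ne_zero (by rw [hb, e, mul_zero])
  let t : SL₂ := ⟨b⁻¹ • (M : M₂), by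
    rw [Matrix.det_smul, Fintype.card_fin, hb]
    field_simp⟩
  have ht : MulAut.conj t = Γ.c.ψ x := by
    rw [← inn_toGL, inn_smul (g := M)
      (show ((Matrix.SpecialLinearGroup.toGL t : GL₂) : M₂) = b⁻¹ • (M : M₂) from rfl), hx]
  have h1 : Γ.c.ψ ((Γ.c.ι t)⁻¹ * x) = 1 := by rw [map_mul, map_inv, Γ.c.ψ_ι, ht, inv_mul_cancel]
  rcases Γ.ker_cases h1 with h | h <;> rw [inv_mul_eq_iff_eq_mul] at h <;> rw [h]
  · rw [mul_one]; exact Γ.mem_N.2 ⟨t, rfl⟩
  · exact mul_mem (Γ.mem_N.2 ⟨t, rfl⟩) Γ.c.z_mem_N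

/-- Commutators lie in the normal subgroup. -/
theorem comm_mem_N (x y : X) : x * y * x⁻¹ * y⁻¹ ∈ Γ.c.N := by
  obtain ⟨g, hg⟩ := exists_eq (Γ.c.ψ x)
  obtain ⟨h, hh⟩ := exists_eq (Γ.c.ψ y)
  set σ := fld (Γ.c.ψ x)
  set τ := fld (Γ.c.ψ y)
  set a := g * gmap σ h
  set b := h * gmap τ g
  have hψ : Γ.c.ψ (x * y * x⁻¹ * y⁻¹) = inn (a * b⁻¹) := by
    rw [show x * y * x⁻¹ * y⁻¹ = x * y * (y * x)⁻¹ by group, map_mul, map_inv, map_mul, map_mul, hg, hh, smi_mul,
      smi_mul, mul_inv_eq_iff_eq_mul, PSLAut.ringAut_commute τ σ]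
    show _ = smi (a * b⁻¹) 1 * smi b (σ * τ)
    rw [smi_mul, gmap_one, inv_mul_cancel_right, one_mul]
  refine Γ.mem_N_of_square hψ ?_
  have key : ∀ (ρ : RingAut F) (d : F), d ≠ 0 → IsSquare (ρ d / d) := by
    intro ρ d hd
    obtain ⟨p, hp⟩ := CharP.exists F
    obtain ⟨n, hpp, hn⟩ := FiniteField.card F p
    haveI : Fact p.Prime := ⟨hpp⟩
    obtain ⟨j, -, hj⟩ := ringAut_exists_pow ρ hn
    have hpo : Odd (p ^ j) := by
      have h := Γ.c.odd
      rw [hn, Nat.odd_pow_iff n.ne_zero] at h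
      exact h.pow
    obtain ⟨k, hk⟩ := hpo
    exact ⟨d ^ k, by rw [hj, hk, pow_succ, two_mul, pow_add, mul_div_assoc, div_self hd, mul_one]⟩
  have hdet : ∀ (ρ : RingAut F) (A : GL₂), ((gmap ρ A : GL₂) : M₂).det = ρ (A : M₂).det := fun ρ A =>
    (ρ.toRingHom.map_det (A : M₂)).symm
  rw [Units.val_mul, Matrix.det_mul, Matrix.coe_units_inv, Matrix.det_nonsing_inv, Ring.inverse_eq_inv',
    ← div_eq_mul_inv, Units.val_mul, Units.val_mul, Matrix.det_mul, Matrix.det_mul, hdet, hdet]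
  have h1 := g.det_ne_zero
  have h2 := h.det_ne_zero
  rw [show (g : M₂).det * σ (h : M₂).det / ((h : M₂).det * τ (g : M₂).det) =
    (σ (h : M₂).det / (h : M₂).det) / (τ (g : M₂).det / (g : M₂).det) by field_simp]
  exact (key σ _ h2).div (key τ _ h1)

/-- A non-trivial element of `N` in an `l`-subgroup gives a central elliptic element. -/
theorem elt_central {Y : Subgroup X} (hY : IsPGroup l Y) {y : X} (hy : y ∈ Y) (hyN : y ∈ Γ.c.N) (hy1 : y ≠ 1) :
    ∃ e ∈ Y, Γ.Elt e ∧ ∀ a ∈ Y, Commute a e := by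
  haveI := Fact.mk Γ.hl
  haveI := Γ.c.normal
  haveI : Group.IsNilpotent Y := hY.isNilpotent
  have hne : Γ.c.N.subgroupOf Y ≠ ⊥ := fun h => hy1 (by
    have h1 : (⟨y, hy⟩ : Y) ∈ Γ.c.N.subgroupOf Y := hyN
    rw [h, Subgroup.mem_bot] at h1
    exact congrArg Subtype.val h1)
  obtain ⟨⟨e, heY⟩, ⟨heN, hec⟩, he1⟩ := (Subgroup.bot_or_exists_ne_one _).resolve_left
    (Grp.inf_center_ne_bot _ hne)
  obtain ⟨k, hk⟩ := IsPGroup.iff_orderOf.1 hY ⟨e, heY⟩
  rw [Subgroup.orderOf_mk] at hk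
  have hk0 : 0 < k := by
    rcases Nat.eq_zero_or_pos k with rfl | h
    · exact absurd (Subtype.ext (orderOf_eq_one_iff.1 hk) : (⟨e, heY⟩ : Y) = 1) he1
    · exact h
  have hord : orderOf (e ^ l ^ (k - 1)) = l := by
    rw [orderOf_pow_of_dvd (pow_ne_zero _ Γ.hl.ne_zero) (hk ▸ pow_dvd_pow l (Nat.sub_le k 1)), hk,
      Nat.pow_div (Nat.sub_le k 1) Γ.hl.pos, show k - (k - 1) = 1 by omega, pow_one]
  refine ⟨e ^ l ^ (k - 1), pow_mem heY _, ⟨pow_mem heN _, fun h => ?_, ?_⟩, fun a ha => ?_⟩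
  · rw [h, orderOf_one] at hord
    exact Γ.hl.one_lt.ne hord
  · exact (congrArg (fun n => (e ^ l ^ (k - 1)) ^ n) hord).symm.trans (pow_orderOf_eq_one _)
  · exact (show Commute a e from congrArg Subtype.val (Subgroup.mem_center_iff.1 hec ⟨a, ha⟩)).pow_right _

/-- A Sylow `l`-subgroup has a central elliptic element. -/
theorem sylow_elt (P : Sylow l X) : ∃ e ∈ (P : Subgroup X), Γ.Elt e ∧ ∀ a ∈ (P : Subgroup X), Commute a e := by
  haveI := Fact.mk Γ.hl
  obtain ⟨e, he⟩ := Γ.exists_elt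
  obtain ⟨R, hR⟩ := (IsPGroup.of_card (n := 1) (by
    rw [Nat.card_zpowers, pow_one, orderOf_eq_prime he.2.2 he.2.1]) : IsPGroup l (zpowers e)).exists_le_sylow
  obtain ⟨r, hr⟩ := MulAction.exists_smul_eq X R P
  have hmem : r * e * r⁻¹ ∈ (P : Subgroup X) := by
    rw [← hr]
    exact Subgroup.smul_mem_pointwise_smul e (MulAut.conj r) _ (hR (mem_zpowers e))
  have h := Γ.elt_conj he r
  exact Γ.elt_central P.isPGroup' hmem h.1 h.2.1

theorem mem_normalizer_of_commute {e x : X} (h : Commute x e) : x ∈ normalizer (zpowers e : Set X) := by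
  have key : ∀ x : X, Commute x e → ∀ n ∈ zpowers e, x * n * x⁻¹ ∈ zpowers e := fun x h n hn => by
    obtain ⟨i, rfl⟩ := Subgroup.mem_zpowers_iff.1 hn
    rw [(h.zpow_right i).eq, mul_inv_cancel_right]
    exact zpow_mem (mem_zpowers e) i
  rw [Subgroup.mem_normalizer_iff]
  intro n
  refine ⟨key x h n, fun hn => ?_⟩
  have := key x⁻¹ h.inv_left _ hn
  simpa [mul_assoc] using this

/-- Without elliptic elements, a `w`-invariant `l`-subgroup is centralised by `w`. -/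
theorem fixed_of_no_elt {w : X} {Y : Subgroup X} (hY : IsPGroup l Y)
    (hwY : w ∈ normalizer (Y : Set X)) (h : ∀ e ∈ Y, ¬ Γ.Elt e) {y : X} (hy : y ∈ Y) : Commute w y := by
  by_contra hne
  have hmem : w * y * w⁻¹ * y⁻¹ ∈ Y := mul_mem ((Subgroup.mem_normalizer_iff.1 hwY y).1 hy) (inv_mem hy)
  obtain ⟨e, heY, he, -⟩ := Γ.elt_central hY hmem (Γ.comm_mem_N w y) fun h1 => hne (by
    rw [mul_inv_eq_one, mul_inv_eq_iff_eq_mul] at h1
    exact h1)
  exact h e heY he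

/-- An `l`-subgroup invariant under a non-central involution fixes a line which this involution inverts. -/
theorem inv_fixes {w : X} (hw : Γ.NC w) {Y : Subgroup X} (hY : IsPGroup l Y) (hwY : w ∈ normalizer (Y : Set X)) :
    ∃ e, Γ.Inv w e ∧ Y ≤ normalizer (zpowers e : Set X) := by
  classical
  haveI := Fact.mk Γ.hl
  by_cases hE : ∃ e ∈ Y, Γ.Elt e
  · obtain ⟨e0, he0Y, he0⟩ := hE
    obtain ⟨e, heY, he, hec⟩ := Γ.elt_central hY he0Y he0.1 he0.2.1
    refine ⟨e, ⟨he, Γ.nc_inv hw he (Γ.elt_unique he (Γ.elt_conj he w) ?_)⟩, fun a ha =>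
      mem_normalizer_of_commute (hec a ha)⟩
    exact (hec _ ((Subgroup.mem_normalizer_iff.1 hwY e).1 heY)).symm
  push Not at hE
  have hcw : ∀ a ∈ Y, Commute w a := fun a ha => Γ.fixed_of_no_elt hY hwY hE ha
  obtain ⟨g, hg, htz, hd⟩ := Γ.nc_rep hw
  obtain ⟨e0, he0⟩ := Γ.exists_inv hw
  letI : MulAction X (Subgroup X) := Grp.conjActSubgroup X
  letI : MulAction (T₁ (g : M₂)) (Subgroup X) :=
    MulAction.compHom (Subgroup X) (Γ.c.ι.comp (T₁ (g : M₂)).subtype)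
  have hsmul : ∀ (r : X) (e : X), r • zpowers e = zpowers (r * e * r⁻¹) := fun r e => by
    show MulAut.conj r • zpowers e = _
    rw [← Grp.map_conj_eq_smul, MonoidHom.map_zpowers]
    rfl
  have hinvconj : ∀ (r e : X), Commute w r → Γ.Inv w e → Γ.Inv w (r * e * r⁻¹) := fun r e hc he =>
    ⟨Γ.elt_conj he.1 r, by
      calc w * (r * e * r⁻¹) * w⁻¹ = (w * r) * e * (w * r)⁻¹ := by group
        _ = r * (w * e * w⁻¹) * r⁻¹ := by rw [hc.eq]; group
        _ = _ := by rw [he.2]; group⟩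
  have horb : ∀ H : Subgroup X, H ∈ MulAction.orbit (T₁ (g : M₂)) (zpowers e0) ↔
      ∃ e, Γ.Inv w e ∧ H = zpowers e := by
    intro H
    constructor
    · rintro ⟨t, rfl⟩
      refine ⟨_, hinvconj (Γ.c.ι (t : SL₂)) e0 ?_ he0, hsmul _ _⟩
      exact ((Γ.conj_nc hg (t : SL₂)).1.2 t.2).symm
    · rintro ⟨e, he, rfl⟩
      obtain ⟨t, htg, ht⟩ := Γ.trans_inv hg htz hd he0 he
      refine ⟨⟨t, htg⟩, ?_⟩
      show Γ.c.ι t • zpowers e0 = zpowers e
      rw [hsmul]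
      refine Subgroup.eq_of_le_of_card_ge (Subgroup.zpowers_le.2 ht) ?_
      rw [Nat.card_zpowers, Nat.card_zpowers, orderOf_eq_prime he.1.2.2 he.1.2.1,
        orderOf_eq_prime (Γ.elt_conj he0.1 _).2.2 (Γ.elt_conj he0.1 _).2.1]
  let L : SubMulAction Y (Subgroup X) :=
    { carrier := MulAction.orbit (T₁ (g : M₂)) (zpowers e0)
      smul_mem' := fun a H hH => by
        obtain ⟨e, he, rfl⟩ := (horb H).1 hH
        show (a : X) • zpowers e ∈ _
        exact (horb _).2 ⟨_, hinvconj a e (hcw a a.2) he, hsmul _ _⟩ }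
  have hcard : ¬ l ∣ Nat.card L := fun h => Γ.not_dvd_T₁ htz hd (h.trans (by
    rw [show Nat.card L = Nat.card (MulAction.orbit (T₁ (g : M₂)) (zpowers e0)) from rfl,
      Nat.card_coe_set_eq, ← MulAction.index_stabilizer]
    exact Subgroup.index_dvd_card _))
  obtain ⟨⟨H, hH⟩, hfix⟩ := hY.nonempty_fixed_point_of_prime_not_dvd_card L hcard
  obtain ⟨e, he, rfl⟩ := (horb H).1 hH
  refine ⟨e, he, fun a ha => ?_⟩
  have h1 : (a : X) • zpowers e = zpowers e := congrArg Subtype.val (hfix ⟨a, ha⟩)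
  exact Grp.mem_normalizer_iff_smul.2 h1

/-- A normal subgroup not containing `N` is contained in `⟨z⟩`. -/
theorem normal_small {M : Subgroup X} (hM : M.Normal) (h : ¬ Γ.c.N ≤ M) {x : X} (hx : x ∈ M) :
    x = 1 ∨ x = Γ.c.z := by
  haveI : IsSimpleGroup (Matrix.ProjectiveSpecialLinearGroup (Fin 2) F) :=
    PSL_isSimple le_rfl fun _ => by have := Γ.five_le; omega
  haveI : (M.comap Γ.c.ι).Normal := hM.comap _
  have hcen : M.comap Γ.c.ι ≤ center SL₂ := by
    by_contra hc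
    refine h fun y hy => ?_
    obtain ⟨s, rfl⟩ := Γ.mem_N.1 hy
    exact (SL_normal_eq_top Γ.perfect _ hc).ge (Subgroup.mem_top s)
  have hval : ∀ s : SL₂, x * Γ.c.ι s * x⁻¹ * (Γ.c.ι s)⁻¹ ∈ zpowers Γ.c.z := by
    intro s
    have hN : x * Γ.c.ι s * x⁻¹ * (Γ.c.ι s)⁻¹ = Γ.c.ι (Γ.c.ψ x s * s⁻¹) := by
      rw [Γ.c.conj_ι, map_mul, map_inv]
    have hmemM : x * Γ.c.ι s * x⁻¹ * (Γ.c.ι s)⁻¹ ∈ M := by
      rw [show x * Γ.c.ι s * x⁻¹ * (Γ.c.ι s)⁻¹ = x * (Γ.c.ι s * x⁻¹ * (Γ.c.ι s)⁻¹) by group]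
      exact mul_mem hx (hM.conj_mem _ (inv_mem hx) _)
    rw [hN] at hmemM ⊢
    obtain ⟨r, hr, hM'⟩ := Matrix.SpecialLinearGroup.mem_center_iff.1 (hcen (show _ ∈ M.comap Γ.c.ι from hmemM))
    rw [Fintype.card_fin] at hr
    have h2 : (Γ.c.ψ x s * s⁻¹) * (Γ.c.ψ x s * s⁻¹) = 1 := Subtype.ext (by
      rw [Matrix.SpecialLinearGroup.coe_mul (Γ.c.ψ x s * s⁻¹), ← hM', Matrix.SpecialLinearGroup.coe_one, ← map_mul,
        ← sq, hr, map_one])
    rcases eq_one_or_neg_one Γ.c.odd h2 with e | e <;> rw [e]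
    · rw [map_one]; exact one_mem _
    · exact mem_zpowers _
  let χ : SL₂ →* zpowers Γ.c.z :=
    { toFun := fun s => ⟨_, hval s⟩
      map_one' := Subtype.ext (by simp)
      map_mul' := fun s t => Subtype.ext (by
        show x * Γ.c.ι (s * t) * x⁻¹ * (Γ.c.ι (s * t))⁻¹ =
          x * Γ.c.ι s * x⁻¹ * (Γ.c.ι s)⁻¹ * (x * Γ.c.ι t * x⁻¹ * (Γ.c.ι t)⁻¹)
        obtain ⟨i, hi⟩ := Subgroup.mem_zpowers_iff.1 (hval t)
        rw [← hi]
        have hzc : Commute (Γ.c.ι s)⁻¹ (Γ.c.z ^ i) :=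
          ((show Commute (Γ.c.ι s)⁻¹ Γ.c.z from Γ.c.z_comm _)).zpow_right i
        rw [mul_assoc _ (Γ.c.ι s)⁻¹, hzc.eq, hi, map_mul]
        group) }
  have hker : commutator SL₂ ≤ χ.ker := by
    rw [_root_.commutator_def, Subgroup.commutator_le]
    intro a _ b _
    rw [MonoidHom.mem_ker, map_commutatorElement, commutatorElement_eq_one_iff_mul_comm]
    exact mul_comm' _ _
  refine Γ.ker_cases (MulEquiv.ext fun s => Γ.c.ι_inj ?_)
  have h1 : χ s = 1 := hker (Γ.perfect ▸ Subgroup.mem_top s)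
  have h2 : x * Γ.c.ι s * x⁻¹ * (Γ.c.ι s)⁻¹ = 1 := congrArg Subtype.val h1
  rw [mul_inv_eq_one, Γ.c.conj_ι] at h2
  exact h2

/-- An eigenvector makes minus the determinant a square. -/
theorem eig_square {M : M₂} (h : TZ M) {A : M₂} (hA : ∀ b : F, A ≠ b • 1) (hAM : A * M = M * A)
    (hM : ∀ b : F, M ≠ b • 1) {v : Fin 2 → F} (hv : v ≠ 0) {a : F} (e : A *ᵥ v = a • v) : IsSquare (-M.det) := by
  obtain ⟨α, β, hab⟩ := exists_lin hM hAM
  have hβ : β ≠ 0 := fun h0 => hA α (by rw [hab, h0, zero_smul, add_zero])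
  have hMv : M *ᵥ v = (β⁻¹ * (a - α)) • v := by
    rw [hab, Matrix.add_mulVec, Matrix.smul_mulVec, Matrix.smul_mulVec, Matrix.one_mulVec] at e
    rw [mul_smul, sub_smul, ← e, add_sub_cancel_left, smul_smul, inv_mul_cancel₀ hβ, one_smul]
  refine ⟨β⁻¹ * (a - α), ?_⟩
  have h2 := congrArg (fun B => B *ᵥ v) h.mul_self
  simp only [← Matrix.mulVec_mulVec, hMv, Matrix.mulVec_smul, smul_smul, Matrix.smul_mulVec,
    Matrix.one_mulVec] at h2
  exact (smul_left_injective F hv h2).symm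

/-- A group containing the torus of a non-central involution normalises no subgroup of `X` which contains an
elliptic element but not `z`. -/
theorem l1_core {w : X} {g : GL₂} (htz : TZ (g : M₂)) (hd : ¬ IsSquare (g : M₂).det)
    {H K : Subgroup X} (hK : ∀ h ∈ H, ∀ k ∈ K, h * k * h⁻¹ ∈ K) (hT : ∀ t ∈ T₁ (g : M₂), Γ.c.ι t ∈ H)
    (hz : Γ.c.z ∉ K) {e : X} (he : Γ.Elt e) (heK : e ∈ K) (_hw : Γ.c.ψ w = inn g) : False := by
  obtain ⟨s, rfl, hs1, hs, u, hu, hus, hns, hsemi⟩ := Γ.elt_ι he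
  have htu := tz_of_sq Γ.c.odd hu
  have hnu := not_scalar_of_tz Γ.two_ne htu (by rw [u.2]; exact one_ne_zero)
  have hg0 := g.det_ne_zero
  have hgs := not_scalar_of_tz Γ.two_ne htz hg0
  obtain ⟨t, htg, htt⟩ := exists_conic Γ.c.odd Γ.five_le htz hg0
  set P₀ := K.comap Γ.c.ι
  have hodd : Odd (Nat.card P₀) := by
    rw [← Nat.not_even_iff_odd, even_iff_two_dvd]
    intro h2
    obtain ⟨⟨a, haK⟩, hord⟩ := exists_prime_orderOf_dvd_card' 2 h2
    rw [Subgroup.orderOf_mk] at hord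
    rcases eq_one_or_neg_one Γ.c.odd (show a * a = 1 by
      rw [← sq]; have h := pow_orderOf_eq_one a; rwa [hord] at h) with e | e
    · rw [e, orderOf_one] at hord; omega
    · exact hz (show Γ.c.ι (-1) ∈ K from e ▸ haK)
  have hconj : ∀ x ∈ P₀, t * x * t⁻¹ ∈ P₀ ∧ t⁻¹ * x * t ∈ P₀ := fun x hx => by
    refine ⟨?_, ?_⟩ <;> show Γ.c.ι _ ∈ K
    · rw [map_mul, map_mul, map_inv]; exact hK _ (hT t htg) _ hx
    · have := hK _ (inv_mem (hT t htg)) _ hx
      rwa [inv_inv, ← map_inv, ← map_mul, ← map_mul] at this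
  have hs' : t * s * t⁻¹ ∈ P₀ := (hconj s heK).1
  have hcomm : ∀ y ∈ P₀, Commute s y → y = t * s * t⁻¹ → False := by
    intro y _ hc hy
    subst hy
    have htr : str (t * s * t⁻¹) = str s := Grp.SL2.tr_conj t s
    have h2 : Commute (t * t) s := by
      rcases eq_or_inv hc.symm.eq htr (fun e => hsemi.2 (by rw [sq]; exact e)) with e | e
      · have h1 : Commute t s := mul_inv_eq_iff_eq_mul.1 e
        exact h1.mul_left h1
      · have e1 : t * s = s⁻¹ * t := mul_inv_eq_iff_eq_mul.1 e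
        have e2 : t * s⁻¹ = s * t := by
          rw [← mul_inv_eq_iff_eq_mul, ← conj_inv, e, inv_inv]
        show t * t * s = s * (t * t)
        rw [mul_assoc, e1, ← mul_assoc, e2, mul_assoc]
    have htts : ∀ b : F, ((t * t : SL₂) : M₂) ≠ b • 1 := fun b hb => by
      rcases Grp.SL2.isScalar_of_coe hb with h | h
      · exact htt h
      · have hts : ¬ Grp.SL2.IsScalar t := fun h' => by
          rcases h' with rfl | rfl <;> simp at htt
        have htz' : TZ (t : M₂) := (Grp.SL2.mul_self_eq_neg_one hts).1 h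
        obtain ⟨α, β, hab⟩ := exists_lin hgs htg
        have hα : α = 0 := by
          have h0 := htz'
          rw [hab] at h0
          simp [TZ, htz.eq] at h0
          exact (mul_eq_zero.1 (show (2 : F) * α = 0 by linear_combination h0)).resolve_left Γ.two_ne
        have hdt := t.2
        rw [hab, det_lin htz, hα] at hdt
        have hβ : β ≠ 0 := fun h0 => by rw [h0] at hdt; simp at hdt
        exact hd ⟨β⁻¹, by field_simp; linear_combination hdt⟩
    refine not_commute Γ.hl Γ.hl2 Γ.hlt Γ.c.odd htz hd hs hs1 ?_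
    refine commute_of_commute htts (congrArg Subtype.val h2.symm.eq) ?_
    rw [cmul]
    exact (((show Commute (t : M₂) (g : M₂) from htg).mul_left (show Commute (t : M₂) (g : M₂) from htg)).symm).eq
  rcases odd_sub Γ.c.odd hodd with h | ⟨v, hv0, hv⟩
  · exact hcomm _ hs' (h s heK _ hs') rfl
  by_cases hind : ∃ c : F, (t : M₂) *ᵥ v = c • v
  · obtain ⟨c, hc⟩ := hind
    obtain ⟨a, ha⟩ := hv s heK
    have h1 : IsSquare (-(g : M₂).det) := eig_square htz (fun b hb => by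
      rcases Grp.SL2.isScalar_of_coe hb with rfl | rfl <;> simp at htt) htg hgs hv0 hc
    have h2 : IsSquare (-(u : M₂).det) :=
      eig_square htu hns (by rw [← cmul, ← hus, cmul]) hnu hv0 ha
    rw [u.2] at h2
    exact hd (by have := h2.mul h1; rwa [neg_mul_neg, one_mul] at this)
  · -- a second common eigenvector
    push Not at hind
    set w' := (t : M₂) *ᵥ v with hw'
    set B : M₂ := !![v 0, w' 0; v 1, w' 1] with hB
    have hBdet : B.det ≠ 0 := by
      intro h0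
      obtain ⟨c, hc0, hc⟩ := Matrix.exists_mulVec_eq_zero_iff.2 h0
      have hsum : c 0 • v + c 1 • w' = 0 := by
        funext i
        have := congrFun hc i
        fin_cases i <;> simp [hB, Matrix.mulVec, dotProduct, Fin.sum_univ_two] at this ⊢ <;>
          linear_combination this
      by_cases hc1 : c 1 = 0
      · rw [hc1, zero_smul, add_zero, smul_eq_zero] at hsum
        rcases hsum with e | e
        · exact hc0 (funext fun i => by fin_cases i <;> [exact e; exact hc1])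
        · exact hv0 e
      · refine hind (-(c 0 / c 1)) ?_
        have h3 : c 1 • w' = -(c 0 • v) := eq_neg_of_add_eq_zero_right hsum
        calc w' = (c 1)⁻¹ • (c 1 • w') := by rw [smul_smul, inv_mul_cancel₀ hc1, one_smul]
          _ = _ := by rw [h3, smul_neg, smul_smul, neg_smul, div_eq_inv_mul]
    have hw'eig : ∀ x ∈ P₀, ∃ a : F, (x : M₂) *ᵥ w' = a • w' := fun x hx => by
      obtain ⟨a, ha⟩ := hv _ (hconj x hx).2
      refine ⟨a, ?_⟩
      rw [hw', Matrix.mulVec_mulVec, ← Matrix.mulVec_smul, ← ha, Matrix.mulVec_mulVec, ← cmul, ← cmul,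
        show t * (t⁻¹ * x * t) = x * t by group]
    refine hcomm _ hs' ?_ rfl
    set y := t * s * t⁻¹
    refine Subtype.ext ?_
    rw [cmul, cmul]
    obtain ⟨a, ha⟩ := hv s heK
    obtain ⟨b, hb⟩ := hv y hs'
    obtain ⟨a', ha'⟩ := hw'eig s heK
    obtain ⟨b', hb'⟩ := hw'eig y hs'
    have hcol : ∀ (x1 x2 : F) (A B' : M₂) (u1 : Fin 2 → F), A *ᵥ u1 = x1 • u1 → B' *ᵥ u1 = x2 • u1 →
        (A * B' - B' * A) *ᵥ u1 = 0 := by
      intro x1 x2 A B' u1 e1 e2
      rw [Matrix.sub_mulVec, ← Matrix.mulVec_mulVec, ← Matrix.mulVec_mulVec, e1, e2, Matrix.mulVec_smul,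
        Matrix.mulVec_smul, e1, e2, smul_smul, smul_smul, mul_comm, sub_self]
    have c1 := hcol _ _ _ _ _ ha hb
    have c2 := hcol _ _ _ _ _ ha' hb'
    set D := (s : M₂) * (y : M₂) - (y : M₂) * (s : M₂)
    have hDB : D * B = 0 := by
      have h10 := congrFun c1 0
      have h11 := congrFun c1 1
      have h20 := congrFun c2 0
      have h21 := congrFun c2 1
      simp [Matrix.mulVec, dotProduct, Fin.sum_univ_two] at h10 h11 h20 h21
      ext i j
      fin_cases i <;> fin_cases j <;> simp [hB, Matrix.mul_apply, Fin.sum_univ_two] <;> assumption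
    have h0 := congrArg (· * B⁻¹) hDB
    simp only [Matrix.mul_assoc, Matrix.mul_nonsing_inv _ (isUnit_iff_ne_zero.2 hBdet), Matrix.mul_one,
      Matrix.zero_mul] at h0
    exact sub_eq_zero.1 h0

/-- The Sylow `2`-subgroup of the setting normalises an elliptic line. -/
theorem exists_sylow_line : ∃ e, Γ.Elt e ∧ (Γ.c.S : Subgroup X) ≤ normalizer (zpowers e : Set X) := by
  haveI : Fact (Nat.Prime 2) := ⟨Nat.prime_two⟩
  obtain ⟨u, v, hu, hv, hV, hne⟩ := Γ.c.exists_uv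
  have hns : ¬ Grp.SL2.IsScalar u := fun h => hne (h.commute v)
  obtain ⟨k, hk⟩ := IsPGroup.iff_orderOf.1 Γ.c.S.isPGroup' ⟨Γ.c.ι u, Γ.c.B_le hu⟩
  rw [Subgroup.orderOf_mk, orderOf_injective _ Γ.c.ι_inj] at hk
  have hk2 : 2 ≤ k := by
    by_contra h
    refine hns (Grp.SL2.mul_self_eq_one Γ.two_ne ?_)
    rw [← sq]
    exact orderOf_dvd_iff_pow_eq_one.1 (hk ▸ (pow_dvd_pow 2 (show k ≤ 1 by omega) : 2 ^ k ∣ 2 ^ 1))
  set u₀ := u ^ 2 ^ (k - 2) with hu₀
  have ho : orderOf u₀ = 4 := by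
    rw [hu₀, orderOf_pow_of_dvd (by positivity) (hk ▸ pow_dvd_pow 2 (Nat.sub_le k 2)), hk,
      Nat.pow_div (Nat.sub_le k 2) (by norm_num), show k - (k - 2) = 2 by omega]
  have hu2 : u₀ * u₀ = -1 := by
    have h4 : (u₀ * u₀) * (u₀ * u₀) = 1 := by
      rw [show u₀ * u₀ * (u₀ * u₀) = u₀ ^ 4 by simp [pow_succ, mul_assoc], ← ho, pow_orderOf_eq_one]
    refine (eq_one_or_neg_one Γ.c.odd h4).resolve_left fun h => ?_
    have := orderOf_le_of_pow_eq_one two_pos (show u₀ ^ 2 = 1 by rw [sq, h])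
    omega
  have hnu₀ := not_scalar_of_tz Γ.two_ne (tz_of_sq Γ.c.odd hu2) (by rw [u₀.2]; exact one_ne_zero)
  obtain ⟨s, hs, hs1, hsu⟩ := Γ.exists_order_l hu2
  have hu₀B : Γ.c.ι u₀ ∈ Γ.c.B := by rw [hu₀, map_pow]; exact pow_mem hu _
  have he : Γ.Elt (Γ.c.ι s) := ⟨Γ.mem_N.2 ⟨s, rfl⟩, fun h => hs1 (Γ.c.ι_inj (h.trans (map_one _).symm)),
    by rw [← map_pow, hs, map_one]⟩
  refine ⟨Γ.c.ι s, he, fun x hx => ?_⟩
  have hconj : ∀ x ∈ (Γ.c.S : Subgroup X), x * Γ.c.ι s * x⁻¹ ∈ zpowers (Γ.c.ι s) := by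
    intro x hx
    refine Γ.elt_unique he (Γ.elt_conj he x) ?_
    rw [Γ.c.conj_ι]
    refine (show Commute s (Γ.c.ψ x s) from ?_).map Γ.c.ι
    have h1 : Commute (Γ.c.ψ x s) (Γ.c.ψ x u₀) := (show Commute s u₀ from hsu).map (Γ.c.ψ x)
    have h2 : Commute (Γ.c.ψ x s) u₀ := by
      by_cases hB : x ∈ Γ.c.B
      · rwa [show Γ.c.ψ x u₀ = u₀ from Γ.c.ι_inj (by rw [← Γ.c.conj_ι, Γ.c.B_comm hB hu₀B, mul_inv_cancel_right])]
          at h1
      · rw [show Γ.c.ψ x u₀ = u₀⁻¹ from Γ.c.ι_inj (by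
          rw [← Γ.c.conj_ι, map_inv, Γ.c.inverted hu₀B (Γ.mem_N.2 ⟨u₀, rfl⟩) hx hB])] at h1
        exact Commute.inv_right_iff.1 h1
    refine Subtype.ext ?_
    rw [cmul, cmul]
    exact commute_of_commute hnu₀ (by rw [← cmul, hsu, cmul]) (congrArg Subtype.val h2.eq)
  rw [Subgroup.mem_normalizer_iff]
  intro y
  constructor
  · intro hy
    obtain ⟨i, rfl⟩ := Subgroup.mem_zpowers_iff.1 hy
    rw [← conj_zpow]
    exact zpow_mem (hconj x hx) i
  · intro hy
    obtain ⟨i, hi⟩ := Subgroup.mem_zpowers_iff.1 hy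
    rw [show y = x⁻¹ * Γ.c.ι s ^ i * x⁻¹⁻¹ by rw [hi]; group, ← conj_zpow]
    exact zpow_mem (hconj x⁻¹ (inv_mem hx)) i

end Gam

end Cfsg.Agent.Invol.AbgOrder.Ell
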