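import Cfsg.Agent.Lib.Invol.AbgOrder.EllQuad
import Cfsg.Agent.Lib.Grp.Cores
import Cfsg.Agent.Lib.Grp.Frattini
import Cfsg.Agent.Lib.Grp.QuadraticGroup

/-!
# Stability of a group mapping onto `X`

For a group with a map onto `X` with kernel of odd order and a normal `l`-subgroup `U` meeting it in index prime to `l`, every normal `l`-subgroup of a quotient is acted on stably.
-/

set_option autoImplicit false
set_option linter.unusedSectionVars false
set_option linter.style.haveILetI false

namespace Cfsg.Agent.Invol.AbgOrder.Ell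

open Subgroup
open scoped commutatorElement

universe u v

/-- A normal subgroup is not its own commutator with a subgroup generating a nilpotent group with it. -/
theorem eq_bot_of_commutator {G : Type u} [Group G] [Finite G] {l : ℕ} [Fact l.Prime] {P U : Subgroup G} [P.Normal]
    (hP : IsPGroup l P) (hU : IsPGroup l U) (h : P ≤ ⁅P, U⁆) : P = ⊥ := by
  haveI : Group.IsNilpotent (P ⊔ U : Subgroup G) := (hP.to_sup_of_normal_left hU).isNilpotent
  obtain ⟨n, hn⟩ := Subgroup.nilpotent_iff_lowerCentralSeries.1 ‹Group.IsNilpotent (P ⊔ U : Subgroup G)›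
  have key : ∀ k, P ≤ ((⊤ : Subgroup (P ⊔ U : Subgroup G)).lowerCentralSeries k).map (P ⊔ U).subtype := by
    intro k
    induction k with
    | zero => rw [Subgroup.lowerCentralSeries_zero, ← MonoidHom.range_eq_map, Subgroup.range_subtype]; exact le_sup_left
    | succ k ih =>
      rw [Subgroup.lowerCentralSeries_succ, Subgroup.map_commutator, ← MonoidHom.range_eq_map, Subgroup.range_subtype]
      exact h.trans (Subgroup.commutator_mono ih le_sup_right)
  have := key n
  rwa [hn, Subgroup.map_bot, le_bot_iff] at this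

namespace Gam

variable {X : Type u} [Group X] [Finite X] {F : Type v} [Field F] [Fintype F] {l : ℕ} (Γ : Gam X F l)
variable {B H : Type u} [Group B] [Finite B] [Group H] [Finite H]

include Γ in
/-- A quadratic element is central on a factor centralised by `U`, with `l`-th power in the kernel. -/
theorem factor_central (φ : B →* X) (hφ : Function.Surjective φ) (hodd : Odd (Nat.card φ.ker)) {U : Subgroup B}
    [U.Normal] (hidx : ¬ l ∣ U.relIndex φ.ker) (f : B →* H) (hf : Function.Surjective f)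
    (P N : Subgroup H) [P.Normal] [N.Normal] (hcomm : ⁅P, P⁆ ≤ N) (hpow : ∀ x ∈ P, x ^ l ∈ N)
    (hU : ⁅P, U.map f⁆ ≤ N) {a : H} (hq : Grp.Quad.QuadOn a P) :
    (∀ h : H, a * h * a⁻¹ * h⁻¹ ∈ Cfsg.sectionKernel P N) ∧ a ^ l ∈ Cfsg.sectionKernel P N := by
  classical
  haveI := Fact.mk Γ.hl
  set π := QuotientGroup.mk' N with hπ
  set W := P.map π with hW
  haveI hWn : W.Normal := (inferInstance : P.Normal).map π (QuotientGroup.mk'_surjective N)
  have hWc : ∀ x ∈ W, ∀ y ∈ W, x * y = y * x := by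
    rintro _ ⟨x, hx, rfl⟩ _ ⟨y, hy, rfl⟩
    rw [← commutatorElement_eq_one_iff_mul_comm, ← map_commutatorElement]
    exact (QuotientGroup.eq_one_iff _).2 (hcomm (Subgroup.commutator_mem_commutator hx hy))
  letI : CommGroup W := { (inferInstance : Group W) with
    mul_comm := fun x y => Subtype.ext (hWc x x.2 y y.2) }
  haveI : Module (ZMod l) (Additive W) := AddCommGroup.zmodModule (fun w => by
    refine Additive.toMul.injective (Subtype.ext ?_)
    rw [toMul_nsmul, toMul_zero]
    obtain ⟨x, hx, e⟩ := (Additive.toMul w).2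
    rw [Subgroup.coe_pow, ← e, ← map_pow, Subgroup.coe_one]
    exact (QuotientGroup.eq_one_iff _).2 (hpow x hx))
  let θ : H →* MulAut W := MulAut.conjNormal.comp π
  let ρH : H →* Module.End (ZMod l) (Additive W) :=
    { toFun := fun g => (θ g).toMonoidHom.toAdditive.toZModLinearMap l
      map_one' := LinearMap.ext fun w => by rw [map_one]; rfl
      map_mul' := fun g g' => LinearMap.ext fun w => by rw [map_mul]; rfl }
  have hval : ∀ (g : H) (w : Additive W), ((Additive.toMul (ρH g w) : W) : H ⧸ N) =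
      π g * (Additive.toMul w : W) * (π g)⁻¹ := fun g w => MulAut.conjNormal_apply (π g) (Additive.toMul w)
  have hmem : ∀ g : H, ρH g = 1 → g ∈ Cfsg.sectionKernel P N := by
    intro g hg
    refine Subgroup.mem_centralizer_iff.2 ?_
    intro w hw
    have h := congrArg (fun e => ((Additive.toMul (e (Additive.ofMul (⟨w, hw⟩ : W))) : W) : H ⧸ N)) hg
    simp only [hval, Module.End.one_apply] at h
    rw [toMul_ofMul, mul_inv_eq_iff_eq_mul] at h
    exact h.symm
  have hρU : ∀ y ∈ U, ρH (f y) = 1 := fun y hy => LinearMap.ext fun w => by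
    refine Additive.toMul.injective (Subtype.ext ?_)
    rw [hval, Module.End.one_apply]
    obtain ⟨x, hx, e⟩ := (Additive.toMul w).2
    rw [← e, mul_inv_eq_iff_eq_mul, ← map_mul, ← map_mul]
    refine ((QuotientGroup.eq (s := N)).2 ?_)
    have h1 := hU (Subgroup.commutator_mem_commutator (inv_mem hx) (inv_mem (⟨y, hy, rfl⟩ : f y ∈ U.map f)))
    rwa [show ⁅x⁻¹, (f y)⁻¹⁆ = (f y * x)⁻¹ * (x * f y) by rw [commutatorElement_def]; group] at h1
  set ρ := ρH.comp f with hρ
  haveI : Finite (Additive W) := Finite.of_equiv W Additive.ofMul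
  haveI : Finite (Module.End (ZMod l) (Additive W)) :=
    Finite.of_injective (fun e => (e : Additive W → Additive W)) DFunLike.coe_injective
  have hker : ¬ l ∣ Nat.card (φ.ker.map ρ.toHomUnits) := by
    intro hd
    obtain ⟨⟨_, k, hk, rfl⟩, hor⟩ := exists_prime_orderOf_dvd_card' l hd
    rw [← Subgroup.orderOf_coe] at hor
    have hkU : k ^ U.relIndex φ.ker ∈ U := by
      have h := Subgroup.pow_index_mem (U.subgroupOf φ.ker) (⟨k, hk⟩ : φ.ker)
      exact h
    refine hidx (hor ▸ orderOf_dvd_of_pow_eq_one ?_)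
    show ρ.toHomUnits k ^ U.relIndex φ.ker = 1
    rw [← map_pow]
    exact Units.ext (hρU _ hkU)
  obtain ⟨a₀, rfl⟩ := hf a
  have hqρ : (ρ a₀ - 1) * (ρ a₀ - 1) = 0 := by
    refine LinearMap.ext fun w => ?_
    simp only [Module.End.mul_apply, LinearMap.sub_apply, Module.End.one_apply, LinearMap.zero_apply]
    rw [sub_eq_zero]
    refine Additive.toMul.injective (Subtype.ext ?_)
    obtain ⟨x, hx, e⟩ := (Additive.toMul w).2
    have hs : ((Additive.toMul (ρ a₀ w - w) : W) : H ⧸ N) = π (f a₀ * x * (f a₀)⁻¹ * x⁻¹) := by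
      rw [toMul_sub, Subgroup.coe_div, div_eq_mul_inv]
      show ((Additive.toMul (ρH (f a₀) w) : W) : H ⧸ N) * _ = _
      rw [hval, ← e]
      simp only [map_mul, map_inv]
    show ((Additive.toMul (ρH (f a₀) (ρ a₀ w - w)) : W) : H ⧸ N) = _
    rw [hval, hs, ← map_mul, (hq x hx).eq]
    simp only [map_mul, map_inv, mul_inv_cancel_right]
  refine ⟨fun h => ?_, hmem _ ?_⟩
  · obtain ⟨h₀, rfl⟩ := hf h
    refine hmem _ ?_
    have hc := Γ.quad_central φ ρ hφ hodd hker hqρ h₀
    have e : f a₀ * f h₀ * (f a₀)⁻¹ * (f h₀)⁻¹ = f (a₀ * h₀ * a₀⁻¹ * h₀⁻¹) := by simp only [map_mul, map_inv]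
    rw [e]
    show ρ (a₀ * h₀ * a₀⁻¹ * h₀⁻¹) = 1
    rw [map_mul, map_mul, map_mul, hc.eq, mul_assoc (ρ h₀), ← map_mul ρ a₀, mul_inv_cancel, map_one, mul_one,
      ← map_mul, mul_inv_cancel, map_one]
  · rw [map_pow]
    exact quad_pow hqρ

include Γ in
/-- Stability. -/
theorem pStable_of (φ : B →* X) (hφ : Function.Surjective φ) (hodd : Odd (Nat.card φ.ker)) {U : Subgroup B}
    [U.Normal] (hUl : IsPGroup l U) (hidx : ¬ l ∣ U.relIndex φ.ker) (f : B →* H)
    (hf : Function.Surjective f) :
    ∀ (P : Subgroup H) [P.Normal], IsPGroup l P → Cfsg.IsPStableOn l P := by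
  classical
  haveI := Fact.mk Γ.hl
  suffices main : ∀ n, ∀ P : Subgroup H, ∀ _ : P.Normal, Nat.card P ≤ n → IsPGroup l P → ∀ a, Grp.Quad.QuadOn a P →
      ∃ D : Subgroup H, D.Normal ∧ a ∈ D ∧ ∀ d ∈ D, ∃ k : ℕ, d ^ l ^ k ∈ centralizer (P : Set H) by
    intro P hPn hPl a ha
    obtain ⟨D, hDn, haD, hD⟩ := main _ P hPn le_rfl hPl a (Grp.Quad.quadOn_of_commutator ha)
    refine Grp.le_pCore (hDn.map _ (QuotientGroup.mk'_surjective (centralizer (P : Set H)))) ?_ ⟨a, haD, rfl⟩
    rintro ⟨_, d, hd, rfl⟩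
    obtain ⟨k, hk⟩ := hD d hd
    exact ⟨k, Subtype.ext (show QuotientGroup.mk' (centralizer (P : Set H)) d ^ l ^ k = 1 by
      rw [← map_pow]; exact (QuotientGroup.eq_one_iff _).2 hk)⟩
  intro n
  induction n with
  | zero =>
    intro P _ hn
    exact absurd hn (by have := Nat.card_pos (α := P); omega)
  | succ n ih =>
    intro P hPn hn hPl a ha
    rcases eq_or_ne P ⊥ with rfl | hP1
    · exact ⟨⊤, inferInstance, mem_top a, fun d _ => ⟨0, Subgroup.mem_centralizer_iff.2 fun x hx => by
        rw [Subgroup.mem_bot.1 hx, one_mul, mul_one]⟩⟩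
    haveI := hPn
    haveI : (U.map f).Normal := (inferInstance : U.Normal).map f hf
    set Φ : Subgroup H := (frattini P).map P.subtype with hΦ
    haveI : Φ.Normal := Grp.normal_of_characteristic_map (frattini ↥P)
    set N := ⁅P, U.map f⁆ ⊔ Φ with hN
    haveI : N.Normal := Subgroup.sup_normal _ _
    have hΦP : Φ ≤ P := Subgroup.map_subtype_le _
    have hcP : ⁅P, U.map f⁆ ≤ P := Subgroup.commutator_le_left _ _
    have hNP : N ≤ P := sup_le hcP hΦP
    have hlt : N < P := by
      refine lt_of_le_of_ne hNP fun e => hP1 (eq_bot_of_commutator hPl (hUl.map f) ?_)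
      have h : (⁅P, U.map f⁆).subgroupOf P ⊔ frattini P = ⊤ := by
        refine Subgroup.map_injective P.subtype_injective ?_
        rw [Subgroup.map_sup, Subgroup.subgroupOf_map_subtype, inf_eq_left.2 hcP, ← MonoidHom.range_eq_map,
          Subgroup.range_subtype]
        exact e
      have := frattini_nongenerating h
      rwa [Subgroup.subgroupOf_eq_top] at this
    obtain ⟨D', hD'n, haD', hD'⟩ := ih N inferInstance (by
      have := Set.Finite.card_lt_card (Set.toFinite _) (SetLike.coe_ssubset_coe.2 hlt)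
      simp only [SetLike.coe_sort_coe] at this
      omega) (hPl.to_le hNP) a (fun v hv => ha v (hNP hv))
    have hcomm : ⁅P, P⁆ ≤ N := by
      refine le_trans ?_ le_sup_right
      rw [← Subgroup.range_subtype P, MonoidHom.range_eq_map, ← Subgroup.map_commutator]
      exact Subgroup.map_mono (Grp.pGroup_commutator_le_frattini hPl)
    have hpow : ∀ x ∈ P, x ^ l ∈ N := fun x hx =>
      (le_sup_right : Φ ≤ N) ⟨(⟨x, hx⟩ : P) ^ l, Grp.pGroup_pow_mem_frattini hPl _, rfl⟩
    obtain ⟨hcen, hal⟩ := Γ.factor_central φ hφ hodd hidx f hf P N hcomm hpow le_sup_left ha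
    set K := Cfsg.sectionKernel P N with hK
    haveI hKn : K.Normal := by rw [hK, Cfsg.sectionKernel]; infer_instance
    set E := K ⊔ zpowers a with hE
    have hEn : E.Normal := ⟨fun e he g => by
      rw [hE, ← SetLike.mem_coe, Subgroup.normal_mul K (zpowers a), Set.mem_mul] at he
      obtain ⟨k, hk, b, hb, rfl⟩ := he
      obtain ⟨i, rfl⟩ := Subgroup.mem_zpowers_iff.1 hb
      have hga : g * a * g⁻¹ ∈ E := by
        have h := (hKn.conj_mem _ (inv_mem (hcen g)) 1)
        rw [one_mul, inv_one, mul_one] at h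
        have e : g * a * g⁻¹ = (a * g * a⁻¹ * g⁻¹)⁻¹ * a := by group
        exact e ▸ mul_mem ((le_sup_left : K ≤ E) h) ((le_sup_right : zpowers a ≤ E) (mem_zpowers a))
      rw [show g * (k * a ^ i) * g⁻¹ = g * k * g⁻¹ * (g * a * g⁻¹) ^ i by rw [conj_zpow]; group]
      exact mul_mem ((le_sup_left : K ≤ E) (hKn.conj_mem _ hk g)) (zpow_mem hga i)⟩
    refine ⟨D' ⊓ E, inferInstance, ⟨haD', (le_sup_right : zpowers a ≤ E) (mem_zpowers a)⟩, fun d hd => ?_⟩
    obtain ⟨k, hk⟩ := hD' d hd.1
    have hd1 : d ^ l ^ (k + 1) ∈ K := by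
      have hd2 : d ∈ ((K ⊔ zpowers a : Subgroup H) : Set H) := hd.2
      rw [Subgroup.normal_mul K (zpowers a), Set.mem_mul] at hd2
      obtain ⟨x, hx, b, hb, e⟩ := hd2
      obtain ⟨i, rfl⟩ := Subgroup.mem_zpowers_iff.1 hb
      have h1 : (QuotientGroup.mk' K d) ^ l = 1 := by
        rw [← e, map_mul, show QuotientGroup.mk' K x = 1 from (QuotientGroup.eq_one_iff x).2 hx, one_mul, map_zpow,
          ← zpow_natCast, ← zpow_mul, mul_comm, zpow_mul, zpow_natCast, ← map_pow,
          show QuotientGroup.mk' K (a ^ l) = 1 from (QuotientGroup.eq_one_iff _).2 hal, one_zpow]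
      refine (QuotientGroup.eq_one_iff _).1 ?_
      show QuotientGroup.mk' K (d ^ l ^ (k + 1)) = 1
      rw [map_pow, pow_succ, mul_comm, pow_mul, h1, one_pow]
    obtain ⟨j, hj⟩ := hPl.exists_card_eq
    refine ⟨k + 1 + j, Subgroup.mem_centralizer_iff.2 fun x hx => ?_⟩
    set y := d ^ l ^ (k + 1) with hy
    have hyN : y ∈ centralizer (N : Set H) := by rw [hy, pow_succ, pow_mul]; exact pow_mem hk _
    set c := x⁻¹ * (y * x * y⁻¹) with hc
    have hcN : c ∈ N := by
      have h := Subgroup.mem_centralizer_iff.1 hd1 (QuotientGroup.mk' N x) ⟨x, hx, rfl⟩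
      refine (QuotientGroup.eq_one_iff (N := N) c).1 ?_
      show QuotientGroup.mk' N c = 1
      rw [hc]
      simp only [map_mul, map_inv]
      rw [← h, mul_inv_cancel_right, inv_mul_cancel]
    have hyc : c * y = y * c := Subgroup.mem_centralizer_iff.1 hyN c hcN
    have hit : ∀ m : ℕ, y ^ m * x = x * c ^ m * y ^ m := fun m => by
      induction m with
      | zero => simp
      | succ m ih =>
        have hcm : y * c ^ m = c ^ m * y := ((show Commute c y from hyc).pow_left m).eq.symm
        calc y ^ (m + 1) * x = y * (y ^ m * x) := by rw [pow_succ', mul_assoc]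
          _ = (y * x) * c ^ m * y ^ m := by rw [ih]; simp only [mul_assoc]
          _ = x * c * (y * c ^ m) * y ^ m := by rw [hc]; group
          _ = x * c ^ (m + 1) * y ^ (m + 1) := by rw [hcm, pow_succ', pow_succ']; simp only [mul_assoc]
    have hcl : c ^ l ^ j = 1 := by
      rw [← hj]
      exact congrArg Subtype.val (pow_card_eq_one' (x := (⟨c, hNP hcN⟩ : P)))
    rw [pow_add, pow_mul, ← hy]
    exact (by rw [hit, hcl, mul_one] : y ^ l ^ j * x = x * y ^ l ^ j).symm

end Gam

end Cfsg.Agent.Invol.AbgOrder.Ell
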