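import Cfsg.Agent.Lib.Invol.AbgOrder.EllLemY
import Cfsg.Agent.Lib.Invol.AbgOrder.EllStable
import Cfsg.Agent.Lib.Invol.ZJFunctor

/-!
# The Sylow `l`-subgroup

A signalizer of maximal order gives, with a Sylow `l`-subgroup of its normalizer in the centralizer, a Sylow
`l`-subgroup, unless the kernel has order prime to `l` and a Sylow `l`-subgroup of the centralizer centralises an element
inverted by `z`.
-/

set_option autoImplicit false
set_option linter.unusedSectionVars false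
set_option linter.style.haveILetI false

namespace Cfsg.Agent.Invol.AbgOrder.Ell

open Subgroup Matrix Cfsg.Agent.Classical
open scoped Pointwise commutatorElement

universe u v

namespace Sett

variable {G : Type u} [Group G] [Finite G] {X : Type u} [Group X] [Finite X] {F : Type v} [Field F] [Fintype F]
  {l : ℕ} {Γ : Gam X F l} (St : Sett G Γ)

/-- The exceptional configuration. -/
def Exc : Prop :=
  (Nat.card St.O).factorization l = 0 ∧ ∃ T : Subgroup G, Grp.IsSylowIn l T St.C ∧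
    ∃ x : G, (∃ k : ℕ, x ^ l ^ k = 1) ∧ x ≠ 1 ∧ (∀ t ∈ T, Commute t x) ∧ St.z * x * St.z⁻¹ = x⁻¹

theorem fac_le {H K : Subgroup G} (h : H ≤ K) :
    (Nat.card H).factorization l ≤ (Nat.card K).factorization l :=
  (Nat.factorization_le_iff_dvd Nat.card_pos.ne' Nat.card_pos.ne').2 (Subgroup.card_dvd_of_le h) l

include St in
theorem eq_pow_fac {H : Subgroup G} (hH : IsPGroup l H) : Nat.card H = l ^ (Nat.card H).factorization l := by
  haveI := Fact.mk Γ.hl
  obtain ⟨a, ha⟩ := IsPGroup.iff_card.1 hH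
  rw [ha, Γ.hl.factorization_pow, Finsupp.single_eq_same]

theorem fac_C : (Nat.card St.C).factorization l =
    (Nat.card X).factorization l + (Nat.card St.O).factorization l := by
  have h := St.card_cov St.cov_top
  rw [top_inf_eq, top_inf_eq] at h
  rw [h, Nat.factorization_mul Nat.card_pos.ne' Nat.card_pos.ne', Finsupp.add_apply]

include St in
/-- An element of an `l`-group outside a subgroup of `l`-power order with the same bound is impossible. -/
theorem false_of_bigger {H R N : Subgroup G} (hR : IsPGroup l R) (hH : IsPGroup l H) (hle : H ≤ R) (hne : H ≠ R)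
    (hRN : R ≤ N) (hfac : (Nat.card N).factorization l ≤ (Nat.card H).factorization l) : False := by
  refine hne (Subgroup.eq_of_le_of_card_ge hle ?_)
  rw [St.eq_pow_fac hR, St.eq_pow_fac hH]
  exact Nat.pow_le_pow_right Γ.hl.pos ((fac_le hRN).trans hfac)

/-- The Sylow subgroup of the kernel is a signalizer. -/
theorem exists_good : ∃ U, St.Good U := by
  haveI := Fact.mk Γ.hl
  obtain ⟨W, hW⟩ := Grp.exists_isSylowIn l St.O
  have hWC : W ⊓ St.C = W := inf_eq_left.2 (hW.1.trans St.O_le)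
  refine ⟨W, hW.2.1, fun x => ?_, by rw [hWC]; exact hW.1, ?_⟩
  · obtain ⟨c, rfl⟩ := St.surj x
    have hcO : (c : G) ∈ normalizer (St.O : Set G) := mem_normalizer_fintype fun y hy => St.O_conj c.2 hy
    obtain ⟨o, ho, e⟩ := (hW.smul (Grp.mem_normalizer_iff_smul.1 hcO)).conj hW
    obtain ⟨hoC, ho1⟩ := St.mem_O.1 ho
    refine ⟨⟨o, hoC⟩ * c, Grp.mem_normalizer_iff_smul.2 ?_, by rw [map_mul, ho1, one_mul]⟩
    show MulAut.conj (o * (c : G)) • W = W
    rw [map_mul, mul_smul]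
    exact e
  · rw [hWC, hW.card, Γ.hl.factorization_pow, Finsupp.single_eq_same]

/-- The image of a Sylow subgroup of the centralizer is one of `X`. -/
theorem img_elt {T : Subgroup G} (hT : Grp.IsSylowIn l T St.C) : ∃ e ∈ St.img T, Γ.Elt e := by
  haveI := Fact.mk Γ.hl
  obtain ⟨S, hS⟩ := Grp.isSylowIn_iff.1 hT
  have hmap : St.img T = ((S.mapSurjective St.surj : Sylow l X) : Subgroup X) := by
    rw [Sylow.coe_mapSurjective, img, ← hS, Subgroup.subgroupOf, Subgroup.comap_map_eq_self_of_injective St.C.subtype_injective]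
  obtain ⟨e, he, hee, -⟩ := Γ.sylow_elt (S.mapSurjective St.surj)
  exact ⟨e, hmap ▸ he, hee⟩

/-- An involution of a subgroup is conjugate to `z` in it if no other involution of it commutes with `z`. -/
theorem conj_z {K : Subgroup G} (hz : St.z ∈ K)
    (huniq : ∀ v ∈ K, v * v = 1 → v ≠ 1 → Commute v St.z → v = St.z) {i : G} (hi : i ∈ K) (hii : i * i = 1)
    (hi1 : i ≠ 1) : ∃ k ∈ K, k * St.z * k⁻¹ = i := by
  set r := i * St.z with hr
  rcases Nat.even_or_odd (orderOf r) with ⟨k, hk⟩ | hodd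
  · have hk0 : 0 < k := by have := orderOf_pos r; omega
    set v := r ^ k with hv
    have hv1 : v ≠ 1 := pow_ne_one_of_lt_orderOf hk0.ne' (by omega)
    have hvv : v * v = 1 := by rw [hv, ← pow_add, ← hk, pow_orderOf_eq_one]
    have hvi : v⁻¹ = v := inv_eq_of_mul_eq_one_right hvv
    have hinv : St.z * r * St.z⁻¹ = r⁻¹ := by
      rw [hr, _root_.mul_inv_rev, St.z_inv, inv_eq_of_mul_eq_one_right hii, mul_assoc, mul_assoc, St.z_sq, mul_one]
    have hvz : Commute v St.z := by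
      have h : St.z * v * St.z⁻¹ = v := by rw [hv, ← conj_pow, hinv, inv_pow, ← hv, hvi]
      rw [mul_inv_eq_iff_eq_mul] at h
      exact h.symm
    have hvz' := huniq v (pow_mem (mul_mem hi hz) k) hvv hv1 hvz
    have hzr : Commute St.z r := hvz' ▸ (Commute.refl r).pow_left k
    refine ⟨1, one_mem _, ?_⟩
    rw [one_mul, inv_one, mul_one]
    refine (huniq i hi hii hi1 ?_).symm
    have h := hzr.symm.mul_left (Commute.refl St.z)
    rwa [hr, mul_assoc, St.z_sq, mul_one] at h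
  · obtain ⟨m, hm, e⟩ := exists_conj_coset St.z_sq hii (N := zpowers r) (by rwa [Nat.card_zpowers]) (mem_zpowers r)
    exact ⟨m, (zpowers_le.2 (mul_mem hi hz) : zpowers r ≤ K) hm, e⟩

/-- The case where `SL(2, q)` centralises the signalizer. -/
theorem case_b {U T : Subgroup G} (hU : St.Good U) (hcase : Γ.c.N ≤ St.img (centralizer (U : Set G)))
    (hTC : T ≤ St.C) (hT : Grp.IsSylowIn l T (normalizer (U : Set G) ⊓ St.C))
    (hfacT : (Nat.card T).factorization l = (Nat.card St.C).factorization l)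
    (hnS : (Nat.card T).factorization l < (Nat.card ↥(normalizer (T : Set G))).factorization l)
    (hUT : U ≤ St.C → U ≤ T)
    (hmax : ∀ U', St.Good U' → (Nat.card U').factorization l ≤ (Nat.card U).factorization l)
    (IH : ∀ (H : Type u) [Group H] [Finite H], Nat.card H < Nat.card G → ∀ S : Sett H Γ, S.Star)
    (hexc : ¬ St.Exc) : False := by
  haveI := Fact.mk Γ.hl
  -- `z` centralises `U`
  obtain ⟨c, hc, e⟩ := St.mem_img.1 (hcase Γ.c.z_mem_N)
  have hzU : St.z ∈ centralizer (U : Set G) := by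
    have hk := St.sub_mem_O (c := ⟨St.z, St.z_mem⟩) (d := c) (by rw [St.map_z, e])
    rw [St.z_inv] at hk
    obtain ⟨m, hm⟩ := St.O_odd
    have h1 : (St.z * (c : G)) ^ (2 * m + 1) = 1 := by
      rw [← hm]
      exact congrArg Subtype.val (pow_card_eq_one' (x := (⟨_, hk⟩ : St.O)))
    rw [(St.mem_C.1 c.2).symm.mul_pow, pow_succ (St.z), pow_mul, sq, St.z_sq, one_pow, one_mul] at h1
    have e' : St.z = (c : G) ^ (2 * m + 1) := by
      calc St.z = St.z * (St.z * (c : G) ^ (2 * m + 1)) := by rw [h1, mul_one]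
        _ = (c : G) ^ (2 * m + 1) := by rw [← mul_assoc, St.z_sq, one_mul]
    exact e' ▸ pow_mem hc _
  have hUC : U ≤ St.C := fun u hu => St.mem_C.2 (Subgroup.mem_centralizer_iff.1 hzU u hu)
  have hUO : U ≤ St.O := fun u hu => hU.2.2.1 ⟨hu, hUC hu⟩
  have hTS : Grp.IsSylowIn l T St.C := ⟨hTC, hT.2.1, fun hd => by
    have h1 := Grp.card_mul_relIndex hTC
    have hne : T.relIndex St.C ≠ 0 := fun e => Nat.card_pos.ne' (by rw [← h1, e, mul_zero])
    have h2 := congrArg (fun n => n.factorization l) h1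
    simp only [Nat.factorization_mul Nat.card_pos.ne' hne, Finsupp.add_apply, hfacT] at h2
    have := Γ.hl.factorization_pos_of_dvd hne hd
    omega⟩
  set K := centralizer (T : Set G) with hK
  have hzK : St.z ∈ K := Subgroup.mem_centralizer_iff.2 fun t ht => St.mem_C.1 (hTC ht)
  obtain ⟨e₀, he₀, helt⟩ := St.img_elt hTS
  obtain ⟨t₀, ht₀, rfl⟩ := St.mem_img.1 he₀
  have huniq : ∀ v ∈ K, v * v = 1 → v ≠ 1 → Commute v St.z → v = St.z := fun v hv hvv hv1 hvz => by
    by_contra hvne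
    refine Γ.nc_not_commute (St.nc (b := ⟨v, St.mem_C.2 hvz⟩) hvv hv1 hvne) helt ?_
    exact (show Commute (⟨v, St.mem_C.2 hvz⟩ : St.C) t₀ from
      Subtype.ext (Subgroup.mem_centralizer_iff.1 hv t₀ ht₀).symm).map St.φ
  -- `N(T) = K (N(T) ∩ C)`
  set N := normalizer (T : Set G) with hN
  have hKN : K ≤ N := centralizer_le_normalizer _
  have hNK : N ≤ normalizer (K : Set G) := fun g hg => mem_normalizer_fintype fun y hy =>
    Subgroup.mem_centralizer_iff.2 fun t ht => by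
      have h := Subgroup.mem_centralizer_iff.1 hy _ ((Subgroup.mem_normalizer_iff''.1 hg t).1 ht)
      calc t * (g * y * g⁻¹) = g * (g⁻¹ * t * g * y) * g⁻¹ := by group
        _ = g * (y * (g⁻¹ * t * g)) * g⁻¹ := by rw [h]
        _ = g * y * g⁻¹ * t := by group
  have hsup : (N ⊓ St.C) ⊔ K = N := le_antisymm (sup_le inf_le_left hKN) fun g hg => by
    have hiK : g * St.z * g⁻¹ ∈ K := (Subgroup.mem_normalizer_iff.1 (hNK hg) _).1 hzK
    obtain ⟨k, hk, e⟩ := St.conj_z hzK huniq hiK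
      (by rw [show g * St.z * g⁻¹ * (g * St.z * g⁻¹) = g * (St.z * St.z) * g⁻¹ by group, St.z_sq, mul_one,
        mul_inv_cancel])
      (fun e => St.z_ne (by
        calc St.z = g⁻¹ * (g * St.z * g⁻¹) * g := by group
          _ = 1 := by rw [e, mul_one, inv_mul_cancel]))
    have h2 : k⁻¹ * g ∈ N ⊓ St.C := ⟨N.mul_mem (N.inv_mem (hKN hk)) hg, St.mem_C.2 (by
      show k⁻¹ * g * St.z = St.z * (k⁻¹ * g)
      calc k⁻¹ * g * St.z = k⁻¹ * (g * St.z * g⁻¹) * g := by group
        _ = St.z * (k⁻¹ * g) := by rw [← e]; group)⟩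
    have := mul_mem (le_sup_right (a := N ⊓ St.C) hk) (le_sup_left (b := K) h2)
    rwa [mul_inv_cancel_left] at this
  have hKbig : (Nat.card ↥(K ⊓ St.C)).factorization l < (Nat.card K).factorization l := by
    have h := Grp.card_sup_mul_card_inf (H := N ⊓ St.C) (N := K) (inf_le_left.trans hNK)
    rw [hsup, show N ⊓ St.C ⊓ K = K ⊓ St.C by rw [inf_comm N, inf_assoc, inf_eq_right.2 hKN, inf_comm]] at h
    have h2 := congrArg (fun n => n.factorization l) h
    simp only [Nat.factorization_mul Nat.card_pos.ne' Nat.card_pos.ne', Finsupp.add_apply] at h2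
    have h3 := fac_le (l := l) (inf_le_right : N ⊓ St.C ≤ St.C)
    omega
  -- an element inverted by `z`
  obtain ⟨x, hxl, hx1, hxK, hxi⟩ :
      ∃ x, (∃ k : ℕ, x ^ l ^ k = 1) ∧ x ≠ 1 ∧ x ∈ K ∧ St.z * x * St.z⁻¹ = x⁻¹ := by
    have hz' : Cfsg.IsIsolatedInvolution (⟨St.z, hzK⟩ : K) :=
      ⟨by rw [Subgroup.orderOf_mk]; exact orderOf_eq_prime (by rw [sq, St.z_sq]) St.z_ne, fun g hg => by
        refine Subtype.ext (huniq _ (g * ⟨St.z, hzK⟩ * g⁻¹ : K).2 ?_ ?_ (congrArg Subtype.val hg.eq).symm)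
        · show (g : G) * St.z * (g : G)⁻¹ * ((g : G) * St.z * (g : G)⁻¹) = 1
          rw [show (g : G) * St.z * (g : G)⁻¹ * ((g : G) * St.z * (g : G)⁻¹) = g * (St.z * St.z) * (g : G)⁻¹ by group,
            St.z_sq, mul_one, mul_inv_cancel]
        · show (g : G) * St.z * (g : G)⁻¹ ≠ 1
          exact fun e => St.z_ne (by
            calc St.z = (g : G)⁻¹ * ((g : G) * St.z * (g : G)⁻¹) * g := by group
              _ = 1 := by rw [e, mul_one, inv_mul_cancel])⟩
    set OK := (Cfsg.pPrimeCore 2 K).map K.subtype with hOK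
    have hOKK : OK ≤ K := Subgroup.map_subtype_le _
    have hOKn : K ≤ normalizer (OK : Set G) := fun g hg => by
      haveI := Grp.pPrimeCore_isNormal (p := 2) (G := K)
      refine mem_normalizer_fintype ?_
      rintro _ ⟨y, hy, rfl⟩
      exact ⟨⟨g, hg⟩ * y * (⟨g, hg⟩ : K)⁻¹, (inferInstance : (Cfsg.pPrimeCore 2 K).Normal).conj_mem _ hy _, rfl⟩
    have hodd : Odd (Nat.card OK) := by rw [hOK, Subgroup.card_subtype]; exact odd_oddCore
    have hcop : (Nat.card (zpowers St.z)).Coprime (Nat.card OK) := by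
      rw [Nat.card_zpowers, orderOf_eq_prime (by rw [sq, St.z_sq]) St.z_ne]
      exact Nat.coprime_two_left.2 hodd
    obtain ⟨R, hR, hzR⟩ := Grp.exists_invariant_sylow (zpowers St.z) OK (zpowers_le.2 (hOKn hzK)) hcop
      (Or.inl inferInstance) l
    obtain ⟨r, hr, hrC⟩ : ∃ r ∈ R, r ∉ St.C := by
      by_contra h
      push Not at h
      have hsupK : (K ⊓ St.C) ⊔ OK = K := le_antisymm (sup_le inf_le_left hOKK) fun g hg => by
        obtain ⟨k, -, -, hk, hc⟩ := isolated_exists_factor hz' ⟨g, hg⟩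
        have h1 : ((k⁻¹ * ⟨g, hg⟩ : K) : G) ∈ K ⊓ St.C :=
          ⟨(k⁻¹ * ⟨g, hg⟩ : K).2, St.mem_C.2 (congrArg Subtype.val (Subgroup.mem_centralizer_singleton_iff.1 hc))⟩
        have h2 : (k : G) ∈ OK := ⟨k, hk, rfl⟩
        have := mul_mem (le_sup_right (a := K ⊓ St.C) h2) (le_sup_left (b := OK) h1)
        rwa [Subgroup.coe_mul, InvMemClass.coe_inv, mul_inv_cancel_left] at this
      have hh := Grp.card_sup_mul_card_inf (H := K ⊓ St.C) (N := OK) (inf_le_left.trans hOKn)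
      rw [hsupK] at hh
      have h2 := congrArg (fun n => n.factorization l) hh
      simp only [Nat.factorization_mul Nat.card_pos.ne' Nat.card_pos.ne', Finsupp.add_apply] at h2
      have h3 := fac_le (l := l) (le_inf (le_inf (hR.1.trans hOKK) h) hR.1 : R ≤ K ⊓ St.C ⊓ OK)
      rw [hR.card, Γ.hl.factorization_pow, Finsupp.single_eq_same] at h3
      omega
    set x := r * St.z * r⁻¹ * St.z⁻¹ with hx
    have hxR : x ∈ R := by
      rw [hx, show r * St.z * r⁻¹ * St.z⁻¹ = r * (St.z * r⁻¹ * St.z⁻¹) by group]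
      exact mul_mem hr ((Subgroup.mem_normalizer_iff.1 (hzR (mem_zpowers _)) _).1 (inv_mem hr))
    obtain ⟨k, hk⟩ := hR.2.1 ⟨x, hxR⟩
    refine ⟨x, ⟨k, congrArg Subtype.val hk⟩, fun e => hrC (St.mem_C.2 ?_), hOKK (hR.1 hxR), ?_⟩
    · rw [hx, mul_inv_eq_one, mul_inv_eq_iff_eq_mul] at e
      exact e
    · rw [hx]
      simp only [_root_.mul_inv_rev, inv_inv, St.z_inv, mul_assoc]
      rw [St.z_sq, mul_one]
  have hxT : ∀ t ∈ T, Commute t x := Subgroup.mem_centralizer_iff.1 hxK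
  rcases eq_or_ne U ⊥ with rfl | hU1
  · exact hexc ⟨by
      have := hU.2.2.2
      rw [bot_inf_eq, Subgroup.card_bot] at this
      simpa using this.symm, T, hTS, x, hxl, hx1, hxT, hxi⟩
  have hTU : T ≤ normalizer (U : Set G) := hT.1.trans inf_le_left
  obtain ⟨U', hU', hfU⟩ := St.lemma_Y hU.1 hU1 hU.2.1 (le_antisymm (fac_le inf_le_right) (hfacT ▸ fac_le hT.1)) IH
  have hUfac : (Nat.card U).factorization l = (Nat.card St.O).factorization l := by
    rw [← hU.2.2.2, inf_eq_left.2 hUC]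
  have hxC : x ∉ T := fun h => hx1 (by
    have h1 : x⁻¹ = x := by rw [← hxi, (St.mem_C.1 (hTC h)).symm.eq, mul_inv_cancel_right]
    obtain ⟨k, hk⟩ := hxl
    obtain ⟨j, hj⟩ := ((Γ.hl.odd_of_ne_two Γ.hl2).pow (n := k))
    rw [hj, pow_succ, pow_mul, sq] at hk
    nth_rw 1 [← h1] at hk
    rwa [inv_mul_cancel, one_pow, one_mul] at hk)
  obtain ⟨k, hk⟩ := hxl
  have hxZ : zpowers x ≤ normalizer (T : Set G) := (zpowers_le.2 hxK).trans hKN
  have hR : IsPGroup l ↥(T ⊔ zpowers x) := hT.2.1.to_sup_of_normal_left' (IsPGroup.of_card_dvd_pow (n := k) (by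
    rw [Nat.card_zpowers]; exact orderOf_dvd_of_pow_eq_one hk)) hxZ
  refine St.false_of_bigger hR hT.2.1 le_sup_left (fun e => hxC (e.symm ▸ le_sup_right (a := T) (mem_zpowers x)))
    (sup_le hTU (zpowers_le.2 (centralizer_le_normalizer _ (Subgroup.mem_centralizer_iff.2 fun u hu =>
      (hxT u (hUT hUC hu)).eq)))) ?_
  rw [hfU, hfacT, fac_C, ← hUfac]
  have := hmax U' hU'
  omega

/-- The case where `SL(2, q)` does not centralise the signalizer: a characteristic subgroup of the `l`-group in it. -/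
theorem case_a {U T : Subgroup G} (hU : St.Good U) (hU1 : U ≠ ⊥)
    (hcase : ¬ Γ.c.N ≤ St.img (centralizer (U : Set G)))
    (hT : Grp.IsSylowIn l T (normalizer (U : Set G) ⊓ St.C))
    (hfacT : (Nat.card T).factorization l = (Nat.card St.C).factorization l)
    (hfacP : (Nat.card ↥(U ⊔ T)).factorization l = (Nat.card U).factorization l + (Nat.card X).factorization l) :
    ∃ Y : Subgroup G, IsPGroup l Y ∧ Y ≠ ⊥ ∧ St.Cov (normalizer (Y : Set G)) ∧ T ≤ normalizer (Y : Set G) ∧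
      normalizer ((U ⊔ T : Subgroup G) : Set G) ≤ normalizer (Y : Set G) := by
  classical
  haveI := Fact.mk Γ.hl
  obtain ⟨hUl, hcov, hUCO, hUf⟩ := hU
  set N1 := normalizer (U : Set G) with hN1
  set P := U ⊔ T with hPdef
  have hTN : T ≤ N1 := hT.1.trans inf_le_left
  have hP : IsPGroup l P := hUl.to_sup_of_normal_left' hT.2.1 hTN
  set B := U ⊔ (N1 ⊓ St.C) with hBdef
  have hPB : P ≤ B := sup_le_sup_left hT.1 U
  have hzC : St.z ∈ N1 ⊓ St.C := ⟨St.z_mem_of_cov hcov, St.z_mem⟩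
  have hUN : N1 ⊓ St.C ≤ normalizer (U : Set G) := inf_le_left
  have hdec : ∀ x ∈ B, ∃ u ∈ U, ∃ c : St.C, (c : G) ∈ N1 ∧ x = u * c := fun x hx => by
    have hx' : x ∈ ((U ⊔ (N1 ⊓ St.C) : Subgroup G) : Set G) := hx
    rw [Subgroup.coe_mul_of_right_le_normalizer_left U _ hUN] at hx'
    obtain ⟨u, hu, c, hc, rfl⟩ := hx'
    exact ⟨u, hu, ⟨c, hc.2⟩, hc.1, rfl⟩
  choose! uf huf cf hcf hxf using hdec
  let φB : B →* X :=
    MonoidHom.mk' (fun x => St.φ (cf x)) fun x y => by
      show St.φ (cf ((x : G) * y)) = St.φ (cf x) * St.φ (cf y)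
      rw [← map_mul]
      have hy2 := huf _ y.2
      have hc := hcf _ x.2
      have hn : (cf x : G) * uf y * (cf x : G)⁻¹ ∈ U := (Subgroup.mem_normalizer_iff.1 hc _).1 hy2
      have e : uf ((x : G) * y) * (cf ((x : G) * y) : G) =
          (uf x * ((cf x : G) * uf y * (cf x : G)⁻¹)) * ((cf x : G) * cf y) := by
        rw [← hxf _ (mul_mem x.2 y.2)]
        nth_rw 1 [hxf _ x.2, hxf _ y.2]
        group
      have h1 : (cf ((x : G) * y) : G) * ((cf x : G) * cf y)⁻¹ ∈ U := by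
        have h2 : (cf ((x : G) * y) : G) * ((cf x : G) * cf y)⁻¹ =
            (uf ((x : G) * y))⁻¹ * (uf x * ((cf x : G) * uf y * (cf x : G)⁻¹)) := by
          rw [eq_inv_mul_iff_mul_eq, ← mul_assoc, e, mul_inv_cancel_right]
        rw [h2]
        exact mul_mem (inv_mem (huf _ (mul_mem x.2 y.2))) (mul_mem (huf _ x.2) hn)
      obtain ⟨_, h3⟩ := St.mem_O.1 (hUCO ⟨h1, (cf ((x : G) * y) * (cf x * cf y)⁻¹).2⟩)
      have h4 : St.φ (cf ((x : G) * y) * (cf x * cf y)⁻¹) = 1 := h3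
      rwa [map_mul, map_inv, mul_inv_eq_one] at h4
  have hφB : ∀ (c : St.C) (hc : (c : G) ∈ B), (c : G) ∈ N1 → φB ⟨c, hc⟩ = St.φ c := fun c hc _ => by
    show St.φ (cf (c : G)) = St.φ c
    have e := hxf _ hc
    have h1 : uf (c : G) ∈ St.C := by
      have h := St.C.mul_mem c.2 (St.C.inv_mem (cf (c : G)).2)
      nth_rw 1 [e] at h
      rwa [mul_inv_cancel_right] at h
    obtain ⟨hC', h2⟩ := St.mem_O.1 (hUCO ⟨huf _ hc, h1⟩)
    have e' : c = ⟨uf (c : G), h1⟩ * cf (c : G) := Subtype.ext e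
    nth_rw 2 [e']
    rw [map_mul, h2, one_mul]
  have hsurj : Function.Surjective φB := fun x => by
    obtain ⟨c, hc, rfl⟩ := hcov x
    exact ⟨⟨c, le_sup_right (a := U) ⟨hc, c.2⟩⟩, hφB c _ hc⟩
  -- the kernel
  have hker : φB.ker.map B.subtype = U ⊔ (N1 ⊓ St.O) := by
    refine le_antisymm ?_ (sup_le ?_ ?_)
    · rintro _ ⟨x, hx, rfl⟩
      show (x : G) ∈ _
      rw [hxf _ x.2]
      exact mul_mem (le_sup_left (b := N1 ⊓ St.O) (huf _ x.2))
        (le_sup_right (a := U) ⟨hcf _ x.2, St.mem_O.2 ⟨(cf (x : G)).2, hx⟩⟩)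
    · intro u hu
      have hub : u ∈ B := le_sup_left (b := N1 ⊓ St.C) hu
      refine ⟨⟨u, hub⟩, ?_, rfl⟩
      show St.φ (cf u) = 1
      have h : (cf u : G) = (uf u)⁻¹ * u := eq_inv_mul_iff_mul_eq.2 (hxf _ hub).symm
      obtain ⟨_, h2⟩ := St.mem_O.1 (hUCO ⟨h ▸ U.mul_mem (U.inv_mem (huf _ hub)) hu, (cf u).2⟩)
      exact h2
    · rintro o ⟨ho, hoO⟩
      obtain ⟨hoC, h1⟩ := St.mem_O.1 hoO
      refine ⟨⟨o, le_sup_right (a := U) ⟨ho, hoC⟩⟩, ?_, rfl⟩
      show φB _ = 1
      rw [hφB ⟨o, hoC⟩ _ ho, h1]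
  have hkU : N1 ⊓ St.O ≤ normalizer (U : Set G) := inf_le_left
  have hUinf : (N1 ⊓ St.O) ⊓ U = U ⊓ St.C := by
    refine le_antisymm (fun x hx => ⟨hx.2, St.O_le hx.1.2⟩) fun x hx => ⟨⟨?_, hUCO hx⟩, hx.1⟩
    exact Subgroup.le_normalizer hx.1
  have hkodd : Odd (Nat.card φB.ker) := by
    rw [← Subgroup.card_subtype B φB.ker, hker, sup_comm]
    exact (((St.O_odd.of_dvd_nat (Subgroup.card_dvd_of_le inf_le_right)).mul (odd_pgroup hUl St))).of_dvd_nat
      (Grp.card_sup_dvd_mul hkU)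
  have hOfac : (Nat.card ↥(N1 ⊓ St.O)).factorization l = (Nat.card St.O).factorization l :=
    St.card_inf_O hcov (le_antisymm (fac_le inf_le_right) (hfacT ▸ fac_le hT.1))
  set U' := U.subgroupOf B with hU'
  have hUB : U ≤ B := le_sup_left
  haveI hU'n : U'.Normal := Subgroup.normal_subgroupOf_of_le_normalizer (sup_le Subgroup.le_normalizer inf_le_left)
  have hU'k : U' ≤ φB.ker := fun x hx => by
    have : (x : G) ∈ φB.ker.map B.subtype := by
      rw [hker]; exact le_sup_left (b := N1 ⊓ St.O) (Subgroup.mem_subgroupOf.1 hx)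
    obtain ⟨y, hy, e⟩ := this
    rwa [show x = y from Subtype.ext e.symm]
  have hkfac : (Nat.card φB.ker).factorization l = (Nat.card U).factorization l := by
    have h := Grp.card_sup_mul_card_inf (H := N1 ⊓ St.O) (N := U) hkU
    rw [sup_comm, ← hker, Subgroup.card_subtype, hUinf] at h
    have h2 := congrArg (fun n => n.factorization l) h
    simp only [Nat.factorization_mul Nat.card_pos.ne' Nat.card_pos.ne', Finsupp.add_apply, hUf, hOfac] at h2
    omega
  have hcardU' : Nat.card U' = Nat.card U := Nat.card_congr (Subgroup.subgroupOfEquivOfLe hUB).toEquiv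
  have hidx : ¬ l ∣ U'.relIndex φB.ker := fun hd => by
    have h1 := Grp.card_mul_relIndex hU'k
    have hne : U'.relIndex φB.ker ≠ 0 := fun e => Nat.card_pos.ne' (by rw [← h1, e, mul_zero])
    have h2 := congrArg (fun n => n.factorization l) h1
    simp only [Nat.factorization_mul Nat.card_pos.ne' hne, Finsupp.add_apply, hcardU', hkfac] at h2
    have := Γ.hl.factorization_pos_of_dvd hne hd
    omega
  have hU'l : IsPGroup l U' := hUl.of_equiv (Subgroup.subgroupOfEquivOfLe hUB).symm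
  have hkl : ∀ x : B, x ∈ φB.ker → ∀ {k : ℕ}, x ^ l ^ k = 1 → (x : G) ∈ U := fun x hx k hk => by
    have h1 : x ^ U'.relIndex φB.ker ∈ U' := Subgroup.pow_index_mem (U'.subgroupOf φB.ker) (⟨x, hx⟩ : φB.ker)
    obtain ⟨m, hm⟩ := exists_pow_eq_self_of_coprime (x := x) (n := U'.relIndex φB.ker)
      ((((Γ.hl.coprime_iff_not_dvd.2 hidx).symm).pow_right k).coprime_dvd_right (orderOf_dvd_of_pow_eq_one hk))
    exact Subgroup.mem_subgroupOf.1 (hm ▸ pow_mem h1 m : x ∈ U')
  -- the core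
  set R := Cfsg.pPrimeCore l B with hR
  haveI hRn : R.Normal := Grp.pPrimeCore_isNormal
  have hRl : ∀ x ∈ R, ∀ {k : ℕ}, x ^ l ^ k = 1 → x = 1 := fun x hx k hk => by
    have h1 : orderOf x ∣ Nat.gcd (l ^ k) (Nat.card R) :=
      Nat.dvd_gcd (orderOf_dvd_of_pow_eq_one hk) (Subgroup.orderOf_dvd_natCard _ hx)
    rwa [(Grp.pPrimeCore_coprime (p := l) (G := B)).symm.pow_left k |>.gcd_eq_one, Nat.dvd_one,
      orderOf_eq_one_iff] at h1
  set f := QuotientGroup.mk' R with hf
  have hfs : Function.Surjective f := QuotientGroup.mk'_surjective R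
  have hφR : ∀ r ∈ R, φB r = 1 ∨ φB r = Γ.c.z := by
    intro r hr
    refine Γ.normal_small ((inferInstance : R.Normal).map φB hsurj) (fun hN => ?_) ⟨r, hr, rfl⟩
    obtain ⟨e, he⟩ := Γ.exists_elt
    have h1 := Subgroup.orderOf_dvd_natCard _ (hN he.1)
    rw [orderOf_eq_prime he.2.2 he.2.1] at h1
    exact Γ.hl.coprime_iff_not_dvd.1 (Grp.pPrimeCore_coprime (p := l) (G := B)).symm
      (h1.trans (Subgroup.card_map_dvd _ _))
  have hzB : St.z ∈ B := le_sup_right (a := U) hzC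
  have hzφ : φB ⟨St.z, hzB⟩ = Γ.c.z := (hφB ⟨St.z, St.z_mem⟩ hzB hzC.1).trans St.map_z
  have hkz : ∀ {x : B}, φB x = Γ.c.z → x * ⟨St.z, hzB⟩ ∈ φB.ker := fun {x} hx => by
    rw [MonoidHom.mem_ker, map_mul, hx, hzφ, Γ.c.z_sq]
  have hBC : B ⊓ St.C ≤ N1 := fun x hx => by
    rw [hxf x hx.1]
    exact mul_mem (Subgroup.le_normalizer (huf x hx.1)) (hcf x hx.1)
  have hfix : ∀ (H : Subgroup G), St.z ∈ normalizer (H : Set G) → ∀ x : B, (x : G) ∈ H →
      ∃ c : St.C, (c : G) ∈ H ∧ (c : G) ∈ N1 ∧ St.φ c = φB x := by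
    intro H hzH x hxH
    have hn : (x : G)⁻¹ * (St.z * x * St.z⁻¹) ∈ H ⊓ φB.ker.map B.subtype := by
      refine ⟨H.mul_mem (H.inv_mem hxH) ((Subgroup.mem_normalizer_iff.1 hzH _).1 hxH), x⁻¹ * (⟨St.z, hzB⟩ * x * (⟨St.z, hzB⟩ : B)⁻¹), ?_, rfl⟩
      show φB _ = 1
      rw [map_mul, map_inv, map_mul, map_mul, map_inv, hzφ, ← Γ.c.z_comm (φB x), mul_inv_cancel_right, inv_mul_cancel]
    obtain ⟨m, hm, hcm⟩ := exists_fix St.z_sq
      ((by rw [Subgroup.card_subtype]; exact hkodd : Odd (Nat.card ↥(φB.ker.map B.subtype))).of_dvd_nat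
        (Subgroup.card_dvd_of_le inf_le_right)) hn
    obtain ⟨m', hm', rfl⟩ := hm.2
    have hxmB : (x : G) * m' ∈ B := B.mul_mem x.2 m'.2
    have hxmC : (x : G) * m' ∈ St.C := St.mem_C.2 hcm.symm
    refine ⟨⟨_, hxmC⟩, H.mul_mem hxH hm.1, hBC ⟨hxmB, hxmC⟩, ?_⟩
    rw [← hφB ⟨_, hxmC⟩ hxmB (hBC ⟨hxmB, hxmC⟩), show (⟨_, hxmB⟩ : B) = x * m' from rfl, map_mul,
      MonoidHom.mem_ker.1 hm', mul_one]
  -- constrained
  set D := (centralizer (U : Set G)).subgroupOf B with hD
  haveI hDn : D.Normal := by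
    refine ⟨fun x hx g => Subgroup.mem_subgroupOf.2 (Subgroup.mem_centralizer_iff.2 fun u hu => ?_)⟩
    have hg : (g : G) ∈ N1 := sup_le Subgroup.le_normalizer inf_le_left g.2
    have h := Subgroup.mem_centralizer_iff.1 (Subgroup.mem_subgroupOf.1 hx) _
      ((Subgroup.mem_normalizer_iff''.1 hg u).1 hu)
    show u * ((g : G) * x * (g : G)⁻¹) = (g : G) * x * (g : G)⁻¹ * u
    calc u * ((g : G) * x * (g : G)⁻¹) = g * ((g : G)⁻¹ * u * g * x) * (g : G)⁻¹ := by group
      _ = g * (x * ((g : G)⁻¹ * u * g)) * (g : G)⁻¹ := by rw [h]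
      _ = _ := by group
  have hCn : (St.img (centralizer (U : Set G))).Normal := ⟨fun a ha r => by
    obtain ⟨y, hy, rfl⟩ := St.mem_img.1 ha
    obtain ⟨c, hc, rfl⟩ := hcov r
    refine St.mem_img.2 ⟨c * y * c⁻¹, Subgroup.mem_centralizer_iff.2 fun u hu => ?_, by rw [map_mul, map_mul, map_inv]⟩
    have h := Subgroup.mem_centralizer_iff.1 hy _ ((Subgroup.mem_normalizer_iff''.1 hc u).1 hu)
    show u * ((c : G) * y * (c : G)⁻¹) = (c : G) * y * (c : G)⁻¹ * u
    calc u * ((c : G) * y * (c : G)⁻¹) = c * ((c : G)⁻¹ * u * c * y) * (c : G)⁻¹ := by group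
      _ = c * (y * ((c : G)⁻¹ * u * c)) * (c : G)⁻¹ := by rw [h]
      _ = _ := by group⟩
  have hzD : ∀ d ∈ D, φB d = 1 ∨ φB d = Γ.c.z := fun d hd => by
    obtain ⟨c, hc, -, e⟩ := hfix (centralizer (U : Set G)) (mem_normalizer_fintype fun y hy =>
      Subgroup.mem_centralizer_iff.2 fun u hu => by
        have h := Subgroup.mem_centralizer_iff.1 hy _ ((Subgroup.mem_normalizer_iff''.1 hzC.1 u).1 hu)
        calc u * (St.z * y * St.z⁻¹) = St.z * (St.z⁻¹ * u * St.z * y) * St.z⁻¹ := by group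
          _ = St.z * (y * (St.z⁻¹ * u * St.z)) * St.z⁻¹ := by rw [h]
          _ = St.z * y * St.z⁻¹ * u := by group) d (Subgroup.mem_subgroupOf.1 hd)
    exact e ▸ Γ.normal_small hCn hcase (St.mem_img.2 ⟨c, hc, rfl⟩)
  set M := D ⊓ φB.ker with hM
  have hMim : ∀ m ∈ M, f m ∈ Cfsg.pCore l (B ⧸ R) := by
    intro m hm
    set n' := (U'.subgroupOf M).index with hn'
    have hn'0 : ¬ l ∣ n' := fun h => hidx (h.trans (by
      rw [hn', ← Subgroup.relIndex, ← Subgroup.relIndex_sup_right M U']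
      exact ⟨_, (Subgroup.relIndex_mul_relIndex U' (M ⊔ U') φB.ker le_sup_right (sup_le inf_le_right hU'k)).symm⟩))
    set E : Set B := {x | x ∈ M ∧ x ^ (n' * (center M).index) = 1} with hE
    have hcen : ∀ x : M, ((x : B) : G) ∈ U → x ∈ center M := fun x hx => Subgroup.mem_center_iff.2 fun y =>
      Subtype.ext (Subtype.ext (Subgroup.mem_centralizer_iff.1 (Subgroup.mem_subgroupOf.1 y.2.1) _ hx).symm)
    have hpow : ∀ x : M, ((((x ^ n' : M) : B)) : G) ∈ U := fun x =>
      Subgroup.mem_subgroupOf.1 (Subgroup.mem_subgroupOf.1 (Subgroup.pow_index_mem (U'.subgroupOf M) x))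
    have hidx2 : ¬ l ∣ (center M).index := fun h => hn'0 (h.trans (Subgroup.index_dvd_of_le fun x hx =>
      hcen x (Subgroup.mem_subgroupOf.1 (Subgroup.mem_subgroupOf.1 hx))))
    let g : M →* M :=
      MonoidHom.mk' (fun x => ((MonoidHom.transferCenterPow M x : center M) ^ n' : center M)) fun x y => by
        rw [map_mul]
        show (((MonoidHom.transferCenterPow M x * MonoidHom.transferCenterPow M y) ^ n' : center M) : M) = _
        rw [(show Commute (MonoidHom.transferCenterPow M x) (MonoidHom.transferCenterPow M y) from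
          Subtype.ext (Subgroup.mem_center_iff.1 (MonoidHom.transferCenterPow M y).2 _)).mul_pow]
        rfl
    have hg : ∀ x : M, g x = x ^ (n' * (center M).index) := fun x => by
      show (((MonoidHom.transferCenterPow M x : center M) ^ n' : center M) : M) = _
      rw [SubmonoidClass.coe_pow, MonoidHom.transferCenterPow_apply, ← pow_mul, mul_comm]
    let ES : Subgroup B := g.ker.map M.subtype
    haveI hESn : ES.Normal := ⟨by
      rintro _ ⟨x, hx, rfl⟩ b
      have hM' : b * (x : B) * b⁻¹ ∈ M :=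
        ⟨(inferInstance : D.Normal).conj_mem _ x.2.1 b, (inferInstance : φB.ker.Normal).conj_mem _ x.2.2 b⟩
      refine ⟨⟨_, hM'⟩, ?_, rfl⟩
      rw [SetLike.mem_coe, MonoidHom.mem_ker, hg] at hx ⊢
      refine Subtype.ext ?_
      have e := congrArg (fun y : M => (y : B)) hx
      simp only [SubmonoidClass.coe_pow, Subgroup.coe_one] at e ⊢
      rw [conj_pow, e, mul_one, mul_inv_cancel]⟩
    have hESle : ES ≤ R := Grp.le_pPrimeCore hESn (by
      rw [Nat.coprime_comm, Γ.hl.coprime_iff_not_dvd, Subgroup.card_subtype]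
      intro hd
      obtain ⟨⟨y, hy⟩, hy'⟩ := exists_prime_orderOf_dvd_card' l hd
      rw [Subgroup.orderOf_mk] at hy'
      rw [MonoidHom.mem_ker, hg] at hy
      rcases (Γ.hl.dvd_mul).1 (hy' ▸ orderOf_dvd_of_pow_eq_one hy) with h | h
      · exact hn'0 h
      · exact hidx2 h)
    obtain ⟨j, hj⟩ := IsPGroup.iff_card.1 hUl
    haveI hMn : M.Normal := inferInstance
    refine Grp.le_pCore (hMn.map f hfs) ?_ ⟨m, hm, rfl⟩
    rintro ⟨_, x, hx, rfl⟩
    refine ⟨j, Subtype.ext ?_⟩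
    show f x ^ l ^ j = 1
    rw [← map_pow]
    refine (QuotientGroup.eq_one_iff _).2 (hESle ⟨(⟨x, hx⟩ : M) ^ l ^ j, ?_, rfl⟩)
    rw [SetLike.mem_coe, MonoidHom.mem_ker, hg, ← pow_mul, mul_comm, mul_assoc, pow_mul]
    set y : M := (⟨x, hx⟩ : M) ^ n'
    rw [mul_comm, pow_mul, show y ^ l ^ j = 1 from Subtype.ext (Subtype.ext (by
      simp only [SubmonoidClass.coe_pow, Subgroup.coe_one]
      rw [← hj]
      exact congrArg Subtype.val (pow_card_eq_one' (x := (⟨((y : B) : G), hpow ⟨x, hx⟩⟩ : U))))), one_pow]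
  have hc : centralizer (Cfsg.pCore l (B ⧸ R) : Set (B ⧸ R)) ≤ Cfsg.pCore l (B ⧸ R) := by
    intro q hq
    obtain ⟨b, rfl⟩ := hfs q
    have hb : b ∈ D := by
      refine Subgroup.mem_subgroupOf.2 (Subgroup.mem_centralizer_iff.2 fun u hu => ?_)
      have h := Subgroup.mem_centralizer_iff.1 hq (f ⟨u, hUB hu⟩)
        (Grp.le_pCore (hU'n.map f hfs) (hU'l.map f) ⟨_, Subgroup.mem_subgroupOf.2 hu, rfl⟩)
      set u' : B := ⟨u, hUB hu⟩
      have h1 : u' * b * u'⁻¹ * b⁻¹ ∈ R := (QuotientGroup.eq_one_iff _).1 (show f (u' * b * u'⁻¹ * b⁻¹) = 1 by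
        simp only [map_mul, map_inv]
        rw [h, mul_inv_cancel_right, mul_inv_cancel])
      have h2 : u' * b * u'⁻¹ * b⁻¹ ∈ U' := by
        rw [show u' * b * u'⁻¹ * b⁻¹ = u' * (b * u'⁻¹ * b⁻¹) by group]
        exact mul_mem (Subgroup.mem_subgroupOf.2 hu) (hU'n.conj_mem _ (inv_mem (Subgroup.mem_subgroupOf.2 hu)) b)
      obtain ⟨k, hk⟩ := hU'l ⟨_, h2⟩
      have h3 := hRl _ h1 (congrArg Subtype.val hk)
      have h4 := congrArg (fun x : B => (x : G)) (mul_inv_eq_iff_eq_mul.1 (mul_inv_eq_one.1 h3))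
      exact h4
    rcases hzD b hb with e | e
    · exact hMim b ⟨hb, e⟩
    · -- `z` centralises `U`
      obtain ⟨c, hc, -, e'⟩ := hfix (centralizer (U : Set G)) (mem_normalizer_fintype fun y hy =>
        Subgroup.mem_centralizer_iff.2 fun u hu => by
          have h := Subgroup.mem_centralizer_iff.1 hy _ ((Subgroup.mem_normalizer_iff''.1 hzC.1 u).1 hu)
          calc u * (St.z * y * St.z⁻¹) = St.z * (St.z⁻¹ * u * St.z * y) * St.z⁻¹ := by group
            _ = St.z * (y * (St.z⁻¹ * u * St.z)) * St.z⁻¹ := by rw [h]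
            _ = St.z * y * St.z⁻¹ * u := by group) b (Subgroup.mem_subgroupOf.1 hb)
      rw [e] at e'
      have hzU : St.z ∈ centralizer (U : Set G) := by
        have hk := St.sub_mem_O (c := ⟨St.z, St.z_mem⟩) (d := c) (by rw [St.map_z, e'])
        rw [St.z_inv] at hk
        obtain ⟨m, hm⟩ := St.O_odd
        have h1 : (St.z * (c : G)) ^ (2 * m + 1) = 1 := by
          rw [← hm]
          exact congrArg Subtype.val (pow_card_eq_one' (x := (⟨_, hk⟩ : St.O)))
        rw [(St.mem_C.1 c.2).symm.mul_pow, pow_succ (St.z), pow_mul, sq, St.z_sq, one_pow, one_mul] at h1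
        have e'' : St.z = (c : G) ^ (2 * m + 1) := by
          calc St.z = St.z * (St.z * (c : G) ^ (2 * m + 1)) := by rw [h1, mul_one]
            _ = (c : G) ^ (2 * m + 1) := by rw [← mul_assoc, St.z_sq, one_mul]
        exact e'' ▸ pow_mem hc _
      have hzc : ∀ x : B, Commute (⟨St.z, hzB⟩ : B) x := fun x => Subtype.ext (by
        show St.z * (x : G) = x * St.z
        rw [hxf _ x.2]
        exact ((show Commute St.z (uf (x : G)) from (Subgroup.mem_centralizer_iff.1 hzU _ (huf _ x.2)).symm).mul_right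
          (St.mem_C.1 (cf (x : G)).2).symm).eq)
      set zB : B := ⟨St.z, hzB⟩
      have hzR : zB ∈ R := by
        have hn : (zpowers zB).Normal := ⟨fun y hy g => by
          obtain ⟨i, rfl⟩ := Subgroup.mem_zpowers_iff.1 hy
          rw [((hzc g).symm.zpow_right i).eq, mul_inv_cancel_right]
          exact zpow_mem (mem_zpowers _) i⟩
        refine Grp.le_pPrimeCore hn ?_ (mem_zpowers zB)
        rw [Nat.card_zpowers, orderOf_eq_prime (show zB ^ 2 = 1 from Subtype.ext (by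
          rw [SubmonoidClass.coe_pow, sq]; exact St.z_sq)) (fun h => St.z_ne (congrArg Subtype.val h))]
        exact (Nat.coprime_primes Nat.prime_two Γ.hl).2 Γ.hl2.symm
      have h1 := hMim (b * zB) ⟨mul_mem hb (Subgroup.mem_subgroupOf.2 hzU), hkz e⟩
      rwa [map_mul, show f zB = 1 from (QuotientGroup.eq_one_iff _).2 hzR, mul_one] at h1
  -- the Sylow subgroup and its functor
  have hPfac : (Nat.card B).factorization l = (Nat.card P).factorization l := by
    rw [hfacP, ← Subgroup.index_mul_card φB.ker, Subgroup.index_ker, φB.range_eq_top.2 hsurj, Subgroup.card_top,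
      Nat.factorization_mul Nat.card_pos.ne' Nat.card_pos.ne', Finsupp.add_apply, hkfac, add_comm]
  set S0 : Sylow l B := Sylow.ofCard (P.subgroupOf B) (by
    rw [Nat.card_congr (Subgroup.subgroupOfEquivOfLe hPB).toEquiv, St.eq_pow_fac hP, hPfac]) with hS0
  let W := fun (H : Type u) [Group H] (Q : Subgroup H) => Cfsg.centerThompsonAOf Q
  have hW : IsZJFunctor l W := isZJFunctor_centerThompsonA
  have hinj : ∀ x ∈ P.subgroupOf B, f x = 1 → x = 1 := fun x hx hfx => by
    obtain ⟨k, hk⟩ := hP ⟨x, Subgroup.mem_subgroupOf.1 hx⟩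
    have h := congrArg Subtype.val hk
    exact hRl x ((QuotientGroup.eq_one_iff x).1 hfx) (Subtype.ext (by rw [SubmonoidClass.coe_pow]; exact h))
  have hn := hW.normal Γ.hl2 hc (Γ.pStable_of φB hsurj hkodd hU'l hidx f hfs) (S0.mapSurjective hfs)
    (D := (P.subgroupOf B).map f) ⟨le_rfl, fun _ _ _ h => h⟩
  rw [← hW.map f _ hinj] at hn
  set Z' := W B (P.subgroupOf B) with hZ'
  have hZP : Z' ≤ P.subgroupOf B := hW.le _
  have hZl : ∀ x ∈ Z', ∃ k : ℕ, x ^ l ^ k = 1 := fun x hx => by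
    obtain ⟨k, hk⟩ := hP ⟨x, Subgroup.mem_subgroupOf.1 (hZP hx)⟩
    exact ⟨k, Subtype.ext (by rw [SubmonoidClass.coe_pow]; exact congrArg Subtype.val hk)⟩
  set M2 := (Z'.map f).comap f with hM2
  haveI hM2n : M2.Normal := hn.comap f
  have hM2eq : M2 = Z' ⊔ R := by rw [hM2, Subgroup.comap_map_eq, hf, QuotientGroup.ker_mk']
  have hφM2 : ∀ x ∈ M2, φB x = 1 ∨ φB x = Γ.c.z := by
    intro x hx
    refine Γ.normal_small (hM2n.map φB hsurj) (fun hN => ?_) ⟨x, hx, rfl⟩
    obtain ⟨w, v, hw, -, -, -⟩ := Γ.c.exists_quat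
    obtain ⟨y, hy, e⟩ := hN (Γ.mem_N.2 ⟨w, rfl⟩)
    rw [hM2eq, Subgroup.mul_normal Z' R, Set.mem_mul] at hy
    obtain ⟨a, ha, r, hr, rfl⟩ := hy
    have hw2 : Γ.c.ι w * Γ.c.ι w = Γ.c.z := by rw [← map_mul, hw]; rfl
    obtain ⟨k, hk⟩ := hZl a ha
    have hr' := hφR r hr
    have hpow : (φB a) ^ l ^ k = 1 := by rw [← map_pow, hk, map_one]
    have hcases : (φB (a * r)) ^ (l ^ k * 2) = 1 := by
      rw [map_mul, (show Commute (φB a) (φB r) by
        rcases hr' with h | h <;> rw [h]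
        · exact Commute.one_right _
        · exact Γ.c.z_comm _).mul_pow, pow_mul, hpow, one_pow, one_mul, mul_comm, pow_mul]
      rcases hr' with h | h <;> rw [h, sq]
      · rw [one_mul, one_pow]
      · rw [Γ.c.z_sq, one_pow]
    rw [e, mul_comm, pow_mul, sq, hw2] at hcases
    obtain ⟨j, hj⟩ := (Γ.hl.odd_of_ne_two Γ.hl2).pow (n := k)
    rw [hj, pow_succ, pow_mul, sq, Γ.c.z_sq, one_pow, one_mul] at hcases
    exact Γ.c.z_ne hcases
  have hZU : Z'.map B.subtype ≤ U := by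
    rintro _ ⟨x, hx, rfl⟩
    obtain ⟨k, hk⟩ := hZl x hx
    refine hkl x ?_ hk
    rcases hφM2 x (Subgroup.le_comap_map f Z' hx) with e | e
    · exact e
    · exfalso
      have h := congrArg φB hk
      obtain ⟨j, hj⟩ := (Γ.hl.odd_of_ne_two Γ.hl2).pow (n := k)
      rw [map_pow, map_one, e, hj, pow_succ, pow_mul, sq, Γ.c.z_sq, one_pow, one_mul] at h
      exact Γ.c.z_ne h
  have hY : Z'.map B.subtype = W G P := by
    rw [hZ', hW.map B.subtype _ (fun x _ hx => Subtype.ext hx), Subgroup.subgroupOf_map_subtype, inf_eq_left.2 hPB]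
  refine ⟨W G P, hP.to_le (hW.le P), hW.ne_bot hP (fun h => hU1 (le_bot_iff.1 (h ▸ le_sup_left))), fun x => ?_,
    (le_sup_right.trans Subgroup.le_normalizer).trans (hW.normalizer_le P), hW.normalizer_le P⟩
  have hzY : St.z ∈ normalizer (W G P : Set G) := hW.normalizer_le P (mem_normalizer_fintype fun y hy => by
    have hle : cj St.z P ≤ P := by
      rw [hPdef, cj, Subgroup.map_sup]
      refine sup_le_sup ?_ ?_ <;> rintro _ ⟨a, ha, rfl⟩
      · exact (Subgroup.mem_normalizer_iff.1 hzC.1 a).1 ha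
      · show St.z * a * St.z⁻¹ ∈ T
        rwa [← (St.mem_C.1 (hT.1 ha).2).eq, mul_inv_cancel_right]
    exact hle (conj_mem_cj hy))
  obtain ⟨b, rfl⟩ := hsurj x
  have hZM : Z' ≤ M2 := Subgroup.le_comap_map f Z'
  have hZS : Grp.IsSylowIn l Z' M2 := ⟨hZM, (hP.of_equiv (Subgroup.subgroupOfEquivOfLe hPB).symm).to_le hZP, fun hd => by
    rw [hM2eq] at hd
    have h1 := Grp.card_mul_relIndex (le_sup_left : Z' ≤ Z' ⊔ R)
    have h2 := Grp.card_sup_dvd_mul (H := Z') (N := R) Subgroup.le_normalizer_of_normal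
    rw [← h1] at h2
    exact Γ.hl.coprime_iff_not_dvd.1 (Grp.pPrimeCore_coprime (p := l) (G := B)).symm
      (hd.trans (Nat.dvd_of_mul_dvd_mul_left Nat.card_pos h2))⟩
  have hbM : b ∈ normalizer (M2 : Set B) := by rw [Subgroup.normalizer_eq_top]; exact Subgroup.mem_top _
  obtain ⟨m, hm, em⟩ := (hZS.smul (Grp.mem_normalizer_iff_smul.1 hbM)).conj hZS
  have hmb : m * b ∈ normalizer (Z' : Set B) := Grp.mem_normalizer_iff_smul.2 (by rw [map_mul, mul_smul]; exact em)
  obtain ⟨b', hb', e'⟩ : ∃ b' : B, (b' : G) ∈ normalizer (W G P : Set G) ∧ φB b' = φB b := by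
    have h1 : ((m * b : B) : G) ∈ normalizer (W G P : Set G) := by
      rw [← hY]
      exact Subgroup.le_normalizer_map B.subtype ⟨_, hmb, rfl⟩
    rcases hφM2 m hm with e | e
    · exact ⟨m * b, h1, by rw [map_mul, e, one_mul]⟩
    · refine ⟨⟨St.z, hzB⟩ * (m * b), mul_mem hzY h1, ?_⟩
      rw [map_mul, map_mul, hzφ, e, ← mul_assoc, Γ.c.z_sq, one_mul]
  obtain ⟨c, hc, -, e⟩ := hfix _ (Subgroup.le_normalizer hzY) b' hb'
  exact ⟨c, hc, e.trans e'⟩

/-- By induction, the `l`-part of the order, unless the exceptional configuration occurs in some such group. -/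
theorem star_step (IH : ∀ (H : Type u) [Group H] [Finite H], Nat.card H < Nat.card G → ∀ S : Sett H Γ, S.Star)
    (hexc : ¬ St.Exc) : St.Star := by
  classical
  haveI := Fact.mk Γ.hl
  haveI : Finite (Subgroup G) := inferInstance
  obtain ⟨U, hU, hmax⟩ := Set.exists_max_image {U : Subgroup G | St.Good U}
    (fun U => (Nat.card U).factorization l) (Set.toFinite _) St.exists_good
  have hmax' : ∀ U', St.Good U' → (Nat.card U').factorization l ≤ (Nat.card U).factorization l := hmax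
  obtain ⟨hUl, hcov, hUCO, hUf⟩ := hU
  set N1 := normalizer (U : Set G) with hN1
  obtain ⟨T, hT⟩ := Grp.exists_isSylowIn l (N1 ⊓ St.C)
  have hTN : T ≤ N1 := hT.1.trans inf_le_left
  have hWT : U ⊓ St.C ≤ T := by
    have hn : T ≤ normalizer ((U ⊓ St.C : Subgroup G) : Set G) := fun t ht => mem_normalizer_fintype fun y hy =>
      ⟨(Subgroup.mem_normalizer_iff.1 (hTN ht) y).1 hy.1,
        St.C.mul_mem (St.C.mul_mem (hT.1 ht).2 hy.2) (St.C.inv_mem (hT.1 ht).2)⟩
    have h := hT.eq_of_le le_sup_right (sup_le (inf_le_inf_right _ Subgroup.le_normalizer) hT.1)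
      ((hUl.to_le inf_le_left).to_sup_of_normal_left' hT.2.1 hn)
    rw [h]; exact le_sup_left
  have hfacT : (Nat.card T).factorization l = (Nat.card St.C).factorization l := by
    rw [hT.card, Γ.hl.factorization_pow, Finsupp.single_eq_same, St.card_cov hcov,
      Nat.factorization_mul Nat.card_pos.ne' Nat.card_pos.ne', Finsupp.add_apply, fac_C]
    refine congrArg _ (le_antisymm (fac_le inf_le_right) ?_)
    rw [← hUf]
    exact fac_le fun y hy => ⟨Subgroup.le_normalizer hy.1, hUCO hy⟩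
  have hTU : T ⊓ U = U ⊓ St.C :=
    le_antisymm (fun y hy => ⟨hy.2, (hT.1 hy.1).2⟩) fun y hy => ⟨hWT hy, hy.1⟩
  set P := U ⊔ T with hPdef
  have hP : IsPGroup l P := hUl.to_sup_of_normal_left' hT.2.1 hTN
  have hfacP : (Nat.card P).factorization l = (Nat.card U).factorization l + (Nat.card X).factorization l := by
    have h := Grp.card_sup_mul_card_inf (H := T) (N := U) hTN
    rw [sup_comm, hTU] at h
    have h2 := congrArg (fun n => n.factorization l) h
    rw [Nat.factorization_mul Nat.card_pos.ne' Nat.card_pos.ne', Nat.factorization_mul Nat.card_pos.ne' Nat.card_pos.ne',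
      Finsupp.add_apply, Finsupp.add_apply, hfacT, hUf, fac_C] at h2
    rw [← hPdef] at h2
    omega
  by_contra hns
  -- `P` is not a Sylow subgroup
  obtain ⟨S, hS⟩ := hP.exists_le_sylow
  have hlt : P < (S : Subgroup G) := lt_of_le_of_ne hS fun e => hns ⟨U, ⟨hUl, hcov, hUCO, hUf⟩, by
    rw [← hfacP, e, S.card_eq_multiplicity, Γ.hl.factorization_pow, Finsupp.single_eq_same]⟩
  obtain ⟨x, hxS, hxN, hxP⟩ : ∃ x ∈ (S : Subgroup G), x ∈ normalizer (P : Set G) ∧ x ∉ P := by
    haveI : Group.IsNilpotent (S : Subgroup G) := S.isPGroup'.isNilpotent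
    have hsub : P.subgroupOf S < normalizer ((P.subgroupOf S : Subgroup (S : Subgroup G)) : Set (S : Subgroup G)) :=
      Group.normalizerCondition_of_isNilpotent _ (lt_top_iff_ne_top.2 fun e =>
        hlt.not_ge (Subgroup.subgroupOf_eq_top.1 e))
    obtain ⟨x, hx, hxP⟩ := Set.exists_of_ssubset hsub
    refine ⟨x, x.2, ?_, fun h => hxP (Subgroup.mem_subgroupOf.2 h)⟩
    refine mem_normalizer_fintype fun y hy => ?_
    have h := (Subgroup.mem_normalizer_iff.1 hx ⟨y, hS hy⟩).1 (Subgroup.mem_subgroupOf.2 hy)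
    exact Subgroup.mem_subgroupOf.1 h
  set R := P ⊔ zpowers x with hR
  have hRl : IsPGroup l R := S.isPGroup'.to_le (sup_le hS (zpowers_le.2 hxS))
  have hRN : R ≤ normalizer (P : Set G) := sup_le Subgroup.le_normalizer (zpowers_le.2 hxN)
  have hbig : P ≠ R := fun e => hxP (e.symm ▸ le_sup_right (a := P) (mem_zpowers x))
  by_cases hcase : Γ.c.N ≤ St.img (centralizer (U : Set G))
  · obtain ⟨c, hc, e⟩ := St.mem_img.1 (hcase Γ.c.z_mem_N)
    have hzU : St.z ∈ centralizer (U : Set G) := by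
      have hk := St.sub_mem_O (c := ⟨St.z, St.z_mem⟩) (d := c) (by rw [St.map_z, e])
      rw [St.z_inv] at hk
      obtain ⟨m, hm⟩ := St.O_odd
      have h1 : (St.z * (c : G)) ^ (2 * m + 1) = 1 := by
        rw [← hm]
        exact congrArg Subtype.val (pow_card_eq_one' (x := (⟨_, hk⟩ : St.O)))
      rw [(St.mem_C.1 c.2).symm.mul_pow, pow_succ (St.z), pow_mul, sq, St.z_sq, one_pow, one_mul] at h1
      have e' : St.z = (c : G) ^ (2 * m + 1) := by
        calc St.z = St.z * (St.z * (c : G) ^ (2 * m + 1)) := by rw [h1, mul_one]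
          _ = (c : G) ^ (2 * m + 1) := by rw [← mul_assoc, St.z_sq, one_mul]
      exact e' ▸ pow_mem hc _
    have hUC : U ≤ St.C := fun u hu => St.mem_C.2 (Subgroup.mem_centralizer_iff.1 hzU u hu)
    have hUT : U ≤ T := fun u hu => hWT ⟨hu, hUC hu⟩
    have hPT : P = T := sup_eq_right.2 hUT
    refine St.case_b ⟨hUl, hcov, hUCO, hUf⟩ hcase (hT.1.trans inf_le_right) hT hfacT ?_ (fun _ => hUT) hmax' IH hexc
    by_contra hle
    push Not at hle
    exact St.false_of_bigger hRl hP le_sup_left hbig hRN (by rw [hPT]; exact hle)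
  · have hU1 : U ≠ ⊥ := fun e => hcase (fun a ha => by
      obtain ⟨c, rfl⟩ := St.surj a
      exact St.mem_img.2 ⟨c, Subgroup.mem_centralizer_iff.2 fun u hu => by
        rw [e] at hu
        rw [Subgroup.mem_bot.1 hu, one_mul, mul_one], rfl⟩)
    obtain ⟨Y, hYl, hY1, hYcov, hTY, hPY⟩ := St.case_a ⟨hUl, hcov, hUCO, hUf⟩ hU1 hcase hT hfacT hfacP
    obtain ⟨U', hU', hfU⟩ := St.lemma_Y hYl hY1 hYcov
      (le_antisymm (fac_le inf_le_right) (hfacT ▸ fac_le (le_inf hTY (hT.1.trans inf_le_right)))) IH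
    refine St.false_of_bigger hRl hP le_sup_left hbig (hRN.trans hPY) ?_
    rw [hfU, hfacP]
    have := hmax' U' hU'
    omega

end Sett

end Cfsg.Agent.Invol.AbgOrder.Ell
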