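import Cfsg.Agent.Lib.Invol.AbgOrder.EllTrick
import Cfsg.Agent.Lib.Invol.AbgOrder.EllSylow

/-!
# The signalizer with an elliptic part

A four-group `⟨z, w⟩` acts on a signalizer `U` of full order and on a Sylow `l`-subgroup `T` of its normalizer in the
centralizer; `N₀ = [U, z]`, and `z` is isolated in its normalizer when `U` is elliptic at `w`.
-/

set_option autoImplicit false
set_option linter.unusedSectionVars false
set_option linter.style.haveILetI false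

namespace Cfsg.Agent.Invol.AbgOrder.Ell

open Subgroup Matrix Cfsg.Agent.Classical
open scoped commutatorElement

universe u v

theorem sq_conj {G : Type*} [Group G] {g b : G} (hb : b * b = 1) : g * b * g⁻¹ * (g * b * g⁻¹) = 1 := by
  rw [show g * b * g⁻¹ * (g * b * g⁻¹) = g * (b * b) * g⁻¹ by group, hb, mul_one, mul_inv_cancel]

theorem conj_ne_one {G : Type*} [Group G] {g b : G} (hb : b ≠ 1) : g * b * g⁻¹ ≠ 1 := fun h => hb (conj_eq_one_iff.1 h)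

namespace Sett

variable {G : Type u} [Group G] [Finite G] {X : Type u} [Group X] [Finite X] {F : Type v} [Field F] [Fintype F]
  {l : ℕ} {Γ : Gam X F l} {St : Sett G Γ}

theorem cov_cj (St : Sett G Γ) {c : G} (hc : c ∈ St.C) {H : Subgroup G} (hH : St.Cov H) : St.Cov (cj c H) := fun x => by
  obtain ⟨h, hh, e⟩ := hH ((St.φ ⟨c, hc⟩)⁻¹ * x * St.φ ⟨c, hc⟩)
  refine ⟨⟨c, hc⟩ * h * (⟨c, hc⟩ : St.C)⁻¹, conj_mem_cj hh, ?_⟩
  rw [map_mul, map_mul, map_inv, e]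
  group

theorem cov_inf (St : Sett G Γ) {H : Subgroup G} (hH : St.Cov H) : St.Cov (H ⊓ St.C) := fun x =>
  let ⟨h, hh, e⟩ := hH x; ⟨h, ⟨hh, h.2⟩, e⟩

/-- Ellipticity only depends on the part centralising the involution. -/
theorem ellAt_inf (St : Sett G Γ) {b : G} {Y : Subgroup G} (h : St.EllAt b Y) :
    St.EllAt b (Y ⊓ Subgroup.centralizer ({b} : Set G)) := by
  obtain ⟨g, hg, x, hx, he⟩ := h
  obtain ⟨c, hc, rfl⟩ := St.mem_img.1 hx
  refine ⟨g, hg, _, St.mem_img.2 ⟨c, ?_, rfl⟩, he⟩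
  rw [cj_inf]
  refine ⟨hc, mem_cj.2 (Subgroup.mem_centralizer_singleton_iff.2 ?_)⟩
  have h := (St.mem_C.1 c.2).eq
  rw [← hg] at h
  calc g⁻¹ * (c : G) * g * b = g⁻¹ * ((c : G) * (g * b * g⁻¹)) * g := by group
    _ = b * (g⁻¹ * (c : G) * g) := by rw [h]; group

/-- An elliptic element among the commutators with an involution. -/
theorem exists_cm_elt (St : Sett G Γ) {b : G} (hbC : b ∈ St.C) (hb : b * b = 1) (hb1 : b ≠ 1) (hbz : b ≠ St.z)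
    {Y : Subgroup G} (hY : IsPGroup l Y) (hbY : b ∈ normalizer (Y : Set G)) (h : St.EllAt St.z Y) :
    ∃ y : St.C, (y : G) ∈ cm b Y ∧ Γ.Elt (St.φ y) ∧ b * (y : G) * b⁻¹ = (y : G)⁻¹ := by
  obtain ⟨y, hy, ⟨he, hinv⟩, -⟩ := St.exists_elt_inv hbC hb hb1 hbz hY hbY h
  have hinv' : St.φ ⟨b, hbC⟩ * St.φ y * (St.φ ⟨b, hbC⟩)⁻¹ = (St.φ y)⁻¹ := hinv
  refine ⟨y⁻¹ * (⟨b, hbC⟩ * y * (⟨b, hbC⟩ : St.C)⁻¹), cm_mem hy, ?_, ?_⟩
  · rw [map_mul, map_mul, map_mul, map_inv, map_inv, hinv', ← _root_.mul_inv_rev, ← sq]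
    refine Γ.elt_of_mem_zpowers he (inv_mem (pow_mem (mem_zpowers _) 2)) (fun h => Γ.hl2 ?_)
    haveI := Fact.mk Γ.hl
    have hd := orderOf_dvd_of_pow_eq_one (inv_eq_one.1 h)
    rw [orderOf_eq_prime he.2.2 he.2.1] at hd
    exact (Nat.prime_dvd_prime_iff_eq Γ.hl Nat.prime_two).1 hd
  · show b * ((y : G)⁻¹ * (b * y * b⁻¹)) * b⁻¹ = ((y : G)⁻¹ * (b * y * b⁻¹))⁻¹
    rw [show b * ((y : G)⁻¹ * (b * y * b⁻¹)) * b⁻¹ = b * (y : G)⁻¹ * b⁻¹ * (b * b * y * (b * b)⁻¹) by group, hb]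
    group

/-- The frame. -/
structure Frame (St : Sett G Γ) where
  V : St.Four
  U : Subgroup G
  good : St.Good U
  fac : (Nat.card G).factorization l = (Nat.card U).factorization l + (Nat.card X).factorization l
  zU : St.z ∈ normalizer (U : Set G)
  wU : V.w ∈ normalizer (U : Set G)
  T : Subgroup G
  hT : Grp.IsSylowIn l T (normalizer (U : Set G) ⊓ St.C)
  wT : V.w ∈ normalizer (T : Set G)

namespace Frame

variable (Φ : Frame St)

/-- The Sylow subgroup. -/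
def P : Subgroup G := Φ.U ⊔ Φ.T

/-- The commutators of `U` with `z`. -/
def N₀ : Subgroup G := cm St.z Φ.U

/-- Their normalizer. -/
def M : Subgroup G := normalizer (Φ.N₀ : Set G)

theorem T_le_C : Φ.T ≤ St.C := Φ.hT.1.trans inf_le_right

theorem U_l : IsPGroup l Φ.U := Φ.good.1

theorem U_odd : Odd (Nat.card Φ.U) := odd_pgroup Φ.U_l St

theorem UC_le_T : Φ.U ⊓ St.C ≤ Φ.T := by
  haveI := Fact.mk Γ.hl
  have hn : Φ.T ≤ normalizer ((Φ.U ⊓ St.C : Subgroup G) : Set G) := fun t ht =>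
    mem_normalizer_inf (Φ.hT.1 ht).1 (Subgroup.le_normalizer (Φ.T_le_C ht))
  have h := Φ.hT.eq_of_le le_sup_right (sup_le (inf_le_inf_right _ Subgroup.le_normalizer) Φ.hT.1)
    ((Φ.U_l.to_le inf_le_left).to_sup_of_normal_left' Φ.hT.2.1 hn)
  rw [h]; exact le_sup_left

theorem fac_T : (Nat.card Φ.T).factorization l = (Nat.card St.C).factorization l := by
  haveI := Fact.mk Γ.hl
  obtain ⟨-, hcov, hUCO, hUf⟩ := Φ.good
  rw [Φ.hT.card, Γ.hl.factorization_pow, Finsupp.single_eq_same, St.card_cov hcov,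
    Nat.factorization_mul Nat.card_pos.ne' Nat.card_pos.ne', Finsupp.add_apply, St.fac_C]
  refine congrArg _ (le_antisymm (fac_le inf_le_right) ?_)
  rw [← hUf]
  exact fac_le fun y hy => ⟨Subgroup.le_normalizer hy.1, hUCO hy⟩

theorem T_sylow : Grp.IsSylowIn l Φ.T St.C := by
  haveI := Fact.mk Γ.hl
  refine ⟨Φ.T_le_C, Φ.hT.2.1, fun hd => ?_⟩
  have h1 := Grp.card_mul_relIndex Φ.T_le_C
  have hne : Φ.T.relIndex St.C ≠ 0 := fun e => Nat.card_pos.ne' (by rw [← h1, e, mul_zero])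
  have h2 := congrArg (fun n => n.factorization l) h1
  simp only [Nat.factorization_mul Nat.card_pos.ne' hne, Finsupp.add_apply, Φ.fac_T] at h2
  have := Γ.hl.factorization_pos_of_dvd hne hd
  omega

theorem P_l : IsPGroup l Φ.P := Φ.U_l.to_sup_of_normal_left' Φ.hT.2.1 (Φ.hT.1.trans inf_le_left)

theorem P_odd : Odd (Nat.card Φ.P) := odd_pgroup Φ.P_l St

theorem fac_P : (Nat.card Φ.P).factorization l = (Nat.card G).factorization l := by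
  have h := Grp.card_sup_mul_card_inf (H := Φ.T) (N := Φ.U) (Φ.hT.1.trans inf_le_left)
  rw [sup_comm, show Φ.T ⊓ Φ.U = Φ.U ⊓ St.C from
    le_antisymm (fun y hy => ⟨hy.2, Φ.T_le_C hy.1⟩) (le_inf Φ.UC_le_T inf_le_left)] at h
  have h2 := congrArg (fun n => n.factorization l) h
  rw [Nat.factorization_mul Nat.card_pos.ne' Nat.card_pos.ne', Nat.factorization_mul Nat.card_pos.ne' Nat.card_pos.ne',
    Finsupp.add_apply, Finsupp.add_apply, Φ.fac_T, Φ.good.2.2.2, St.fac_C] at h2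
  have := Φ.fac
  show (Nat.card ↥(Φ.U ⊔ Φ.T)).factorization l = _
  omega

theorem P_max {Q : Subgroup G} (hQ : IsPGroup l Q) (h : Φ.P ≤ Q) : Φ.P = Q := by
  by_contra hne
  exact St.false_of_bigger hQ Φ.P_l h hne le_rfl
    ((fac_le le_top).trans_eq (by rw [Subgroup.card_top, Φ.fac_P]))

theorem zT : St.z ∈ normalizer (Φ.T : Set G) :=
  Subgroup.centralizer_le_normalizer _ (Subgroup.mem_centralizer_iff.2 fun _ ht => St.mem_C.1 (Φ.T_le_C ht))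

theorem zP : St.z ∈ normalizer (Φ.P : Set G) := mem_normalizer_sup Φ.zU Φ.zT

theorem wP : Φ.V.w ∈ normalizer (Φ.P : Set G) := mem_normalizer_sup Φ.wU Φ.wT

theorem N₀_le_U : Φ.N₀ ≤ Φ.U := cm_le Φ.zU

theorem N₀_le_P : Φ.N₀ ≤ Φ.P := Φ.N₀_le_U.trans le_sup_left

theorem N₀_l : IsPGroup l Φ.N₀ := Φ.U_l.to_le Φ.N₀_le_U

theorem mem_M {c : G} (hcU : c ∈ normalizer (Φ.U : Set G)) (hcC : c ∈ St.C) : c ∈ Φ.M :=
  cm_stable hcU (St.mem_C.1 hcC)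

theorem zM : St.z ∈ Φ.M := Φ.mem_M Φ.zU St.z_mem

theorem wM : Φ.V.w ∈ Φ.M := Φ.mem_M Φ.wU Φ.V.mem

theorem cov_M : St.Cov Φ.M := fun x => let ⟨c, hc, e⟩ := Φ.good.2.1 x; ⟨c, Φ.mem_M hc c.2, e⟩

theorem T_le_M : Φ.T ≤ Φ.M := fun _ ht => Φ.mem_M (Φ.hT.1 ht).1 (Φ.T_le_C ht)

theorem P_le_M : Φ.P ≤ Φ.M := sup_le cm_normal Φ.T_le_M

theorem cm_P : cm St.z Φ.P = Φ.N₀ := by
  refine le_antisymm (cm_le_of_comKer ?_) (cm_mono le_sup_left)
  refine sup_le (fun u hu => ⟨cm_normal hu, cm_mem hu⟩) fun t ht => ⟨Φ.T_le_M ht, ?_⟩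
  rw [← (St.mem_C.1 (Φ.T_le_C ht)).eq, mul_inv_cancel_right, inv_mul_cancel]
  exact one_mem _

theorem cm_N₀ : cm St.z Φ.N₀ = Φ.N₀ := cm_cm St.z_sq Φ.zU Φ.U_odd

theorem cm_eq {D : Subgroup G} (h1 : Φ.N₀ ≤ D) (h2 : D ≤ Φ.P) : cm St.z D = Φ.N₀ :=
  le_antisymm ((cm_mono h2).trans Φ.cm_P.le) (Φ.cm_N₀.ge.trans (cm_mono h1))

theorem N₀_C : Φ.N₀ ⊓ St.C ≤ St.O := (inf_le_inf_right _ Φ.N₀_le_U).trans Φ.good.2.2.1

theorem not_ell_z : ¬ St.EllAt St.z Φ.N₀ := fun h => by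
  obtain ⟨y, hy, he⟩ := St.ellAt_z.1 h
  obtain ⟨_, h1⟩ := St.mem_O.1 (Φ.N₀_C ⟨hy, y.2⟩)
  exact he.2.1 h1

variable {Φ} (hell : St.EllAt Φ.V.w Φ.U)
include hell

theorem ell_w : St.EllAt Φ.V.w Φ.N₀ := by
  obtain ⟨g, hgz, hgw⟩ := Φ.V.exists_swap
  have hU : St.EllAt St.z (cj g Φ.U) := by
    have := (St.ellAt_conj g).2 hell
    rwa [hgw] at this
  obtain ⟨y, hy, he, -⟩ := St.exists_cm_elt Φ.V.mem Φ.V.sq Φ.V.ne Φ.V.nez (isPGroup_cj g Φ.U_l)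
    (mem_normalizer_cj (by rw [← hgz, show g⁻¹ * (g * St.z * g⁻¹) * g = St.z by group]; exact Φ.zU)) hU
  refine (St.ellAt_conj g).1 ?_
  rw [hgw]
  exact St.ellAt_z.2 ⟨y, by rw [N₀, cj_cm, hgz]; exact hy, he⟩

theorem ell_of_mem {b : G} (hbM : b ∈ Φ.M) (hbC : b ∈ St.C) (hb : b * b = 1) (hb1 : b ≠ 1) (hbz : b ≠ St.z) :
    St.EllAt b Φ.N₀ := by
  obtain ⟨c, hcM, -, hc⟩ := St.nc_conj Φ.cov_M Φ.V.mem hbC Φ.V.sq Φ.V.ne Φ.V.nez hb hb1 hbz
    (Subgroup.le_normalizer Φ.wM) (Or.inr ⟨Φ.wM, hbM⟩)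
  have := (St.ellAt_conj c).2 (ell_w hell)
  rwa [cj_eq_of_mem hcM, hc] at this

theorem z_iso {n : G} (hn : n ∈ Φ.M) (h : Commute St.z (n * St.z * n⁻¹)) : n * St.z * n⁻¹ = St.z := by
  by_contra hne
  refine Φ.not_ell_z ((St.ellAt_conj n).1 ?_)
  rw [cj_eq_of_mem hn]
  exact ell_of_mem hell (mul_mem (mul_mem hn Φ.zM) (inv_mem hn)) (St.mem_C.2 h.symm) (sq_conj St.z_sq)
    (conj_ne_one St.z_ne) hne

/-- The key step: `z` is isolated in the normalizer of a subgroup whose commutator with `z` is `N₀`. -/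
theorem key {D : Subgroup G} (hD : IsPGroup l D) (hzD : St.z ∈ normalizer (D : Set G)) (hcm : cm St.z D = Φ.N₀)
    {n : G} (hn : n ∈ normalizer (D : Set G)) (hcomm : Commute St.z (n * St.z * n⁻¹)) : n * St.z * n⁻¹ = St.z := by
  by_contra hne
  set b := n * St.z * n⁻¹ with hbdef
  have hb : b * b = 1 := sq_conj St.z_sq
  have hb1 : b ≠ 1 := conj_ne_one St.z_ne
  have hbC : b ∈ St.C := St.mem_C.2 hcomm.symm
  have hbD : b ∈ normalizer (D : Set G) := mul_mem (mul_mem hn hzD) (inv_mem hn)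
  have hbM : b ∈ Φ.M := by rw [M, ← hcm]; exact cm_stable hbD hcomm.symm
  have hN₀D : Φ.N₀ ≤ D := hcm ▸ cm_le hzD
  set N₁ := cm b D with hN₁
  have hN₁eq : N₁ = cj n Φ.N₀ := by rw [← hcm, cj_cm, cj_eq_of_mem hn]
  set b₂ := n⁻¹ * St.z * n with hb₂
  have hb₂C : Commute b₂ St.z := by
    show n⁻¹ * St.z * n * St.z = St.z * (n⁻¹ * St.z * n)
    have h := hcomm.eq
    rw [hbdef] at h
    calc n⁻¹ * St.z * n * St.z = n⁻¹ * (St.z * (n * St.z * n⁻¹)) * n := by group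
      _ = n⁻¹ * (n * St.z * n⁻¹ * St.z) * n := by rw [h]
      _ = _ := by group
  have hb₂D : b₂ ∈ normalizer (D : Set G) := mul_mem (mul_mem (inv_mem hn) hzD) hn
  have hb₂e : n * b₂ * n⁻¹ = St.z := by rw [hb₂]; group
  have hb₂ne : b₂ ≠ St.z := fun e => hne (by
    rw [e] at hb₂e
    exact hb₂e)
  have hell₁ : St.EllAt St.z N₁ := by
    rw [hN₁eq, ← hb₂e, St.ellAt_conj]
    exact ell_of_mem hell (by rw [M, ← hcm]; exact cm_stable hb₂D hb₂C) (St.mem_C.2 hb₂C)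
      (by rw [hb₂, show n⁻¹ * St.z * n * (n⁻¹ * St.z * n) = n⁻¹ * (St.z * St.z) * n by group, St.z_sq, mul_one,
        inv_mul_cancel])
      (fun e => St.z_ne (by rw [← hb₂e, e, mul_one, mul_inv_cancel])) hb₂ne
  have hzN₁ : St.z ∈ normalizer (N₁ : Set G) := cm_stable hzD hcomm
  have hbN₁ : b ∈ normalizer (N₁ : Set G) := cm_stable hbD (Commute.refl b)
  obtain ⟨y, hy, he, -⟩ := St.exists_cm_elt hbC hb hb1 hne (hD.to_le (cm_le hbD)) hbN₁ hell₁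
  have hy₁ : (y : G) ∈ N₁ := cm_le hbN₁ hy
  have hyD : (y : G) ∈ D := cm_le hbD hy₁
  have hyM : (y : G) ∈ Φ.M := by rw [M, ← hcm]; exact cm_stable (Subgroup.le_normalizer hyD) (St.mem_C.1 y.2)
  let Vb : St.Four := ⟨b, hbC, hb, hb1, hne⟩
  obtain ⟨g, hgz, hgb⟩ := Vb.exists_swap
  set C₀ := cj g (Φ.M ⊓ St.C) with hC₀
  have hzC₀ : St.z ∈ C₀ := hgb ▸ conj_mem_cj (show b ∈ Φ.M ⊓ St.C from ⟨hbM, hbC⟩)
  have hbC₀ : Vb.w ∈ C₀ := hgz ▸ conj_mem_cj (show St.z ∈ Φ.M ⊓ St.C from ⟨Φ.zM, St.z_mem⟩)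
  have hC₀N : C₀ ≤ normalizer (cj g Φ.N₀ : Set G) := fun x hx => mem_normalizer_cj (mem_cj.1 hx).1
  obtain ⟨A, A₀, L, hAN, -, -, -, hA, hA₀⟩ := exists_lay Vb (isPGroup_cj g Φ.N₀_l) hC₀N (hC₀N hzC₀) (hC₀N hbC₀)
    (by have := (St.ellAt_conj g).2 (ell_of_mem hell hbM hbC hb hb1 hne); rwa [hgb] at this)
  have hgg : g * g ∈ St.C := St.mem_C.2 (by
    show g * g * St.z = St.z * (g * g)
    calc g * g * St.z = g * (g * St.z * g⁻¹) * g⁻¹ * (g * g) := by group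
      _ = St.z * (g * g) := by rw [hgz]; exact congrArg (· * (g * g)) hgb)
  set t := g * (y : G) * g⁻¹ with ht
  have htC₀ : t ∈ C₀ := conj_mem_cj ⟨hyM, y.2⟩
  have hzn : St.z ∈ normalizer (cj g N₁ : Set G) := mem_normalizer_cj (by
    rw [← hgb, show g⁻¹ * (g * Vb.w * g⁻¹) * g = Vb.w by group]; exact hbN₁)
  have hbn : Vb.w ∈ normalizer (cj g N₁ : Set G) := mem_normalizer_cj (by
    rw [← hgz, show g⁻¹ * (g * St.z * g⁻¹) * g = St.z by group]; exact hzN₁)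
  have hfix : t ∈ L.fixer := L.mem_fixer_of_zero (hA htC₀) fun a ha => by
    refine L.f_zero (B := A ⊓ cj g N₁) inf_le_left (mem_normalizer_inf L.zA hzn) (mem_normalizer_inf L.wA hbn)
      (fun h => Φ.not_ell_z ?_) ⟨?_, ?_⟩
    · have h := St.ellAt_mono inf_le_right h
      rw [← hgb, St.ellAt_conj, hN₁eq] at h
      exact (St.ellAt_conj n).1 h
    · rw [commutatorElement_def]
      exact A.mul_mem ((Subgroup.mem_normalizer_iff.1 (hA htC₀) _).1 ha) (A.inv_mem ha)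
    · have ha' := mem_cj.1 (hAN ha)
      rw [show ⁅t, a⁆ = g * ⁅(y : G), g⁻¹ * a * g⁆ * g⁻¹ by
        rw [ht, commutatorElement_def, commutatorElement_def]; group]
      refine conj_mem_cj ?_
      rw [commutatorElement_def, mul_assoc (y : G), mul_assoc (y : G)]
      exact N₁.mul_mem hy₁ ((Subgroup.mem_normalizer_iff.1 (cm_normal (hN₀D ha')) _).1 (N₁.inv_mem hy₁))
  refine L.l1 (C₀ := C₀) hA hA₀ hzC₀ hbC₀ hgz hgb ?_ (y := ⟨g * g, hgg⟩ * y * (⟨g * g, hgg⟩ : St.C)⁻¹) ?_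
    (by rw [map_mul, map_mul, map_inv]; exact Γ.elt_conj he _) ?_
  · rw [hC₀, cj_cj]; exact St.cov_cj hgg (St.cov_inf Φ.cov_M)
  · refine mem_cj.2 ?_
    rw [show g⁻¹ * ((⟨g * g, hgg⟩ * y * (⟨g * g, hgg⟩ : St.C)⁻¹ : St.C) : G) * g = t by
      simp only [Subgroup.coe_mul, InvMemClass.coe_inv, ht]; group]
    exact htC₀
  · intro a ha
    rw [show g⁻¹ * ((⟨g * g, hgg⟩ * y * (⟨g * g, hgg⟩ : St.C)⁻¹ : St.C) : G) * g = t by
      simp only [Subgroup.coe_mul, InvMemClass.coe_inv, ht]; group]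
    exact hfix.2 a ha

end Frame

end Sett

end Cfsg.Agent.Invol.AbgOrder.Ell
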