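import Cfsg.Agent.Lib.Invol.AbgOrder.Shape0Aut
import Cfsg.Agent.Lib.Invol.AbgOrder.CoreMat
import Cfsg.Agent.Lib.Grp.SL2Coord

/-!
# Tori of `SL(2)` through a matrix of trace zero

The centraliser of a matrix `g` of trace zero consists of the `α + β g`; for non-square determinant it has
exponent `tT`, for determinant one exponent `tE`, and an element of odd prime order dividing `tE` lies in one
of the second kind and commutes with none of the first.
-/

set_option autoImplicit false
set_option linter.unusedSectionVars false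
set_option linter.style.haveILetI false

namespace Cfsg.Agent.Invol.AbgOrder.Ell

open Matrix

universe v

/-- The exponent of the centraliser of a non-central involution. -/
def tT (q : ℕ) : ℕ := if q % 4 = 3 then q - 1 else q + 1

/-- The exponent of the elliptic torus. -/
def tE (q : ℕ) : ℕ := if q % 4 = 3 then q + 1 else q - 1

variable {F : Type v} [Field F]

local notation "SL₂" => Matrix.SpecialLinearGroup (Fin 2) F
local notation "GL₂" => GL (Fin 2) F
local notation "M₂" => Matrix (Fin 2) (Fin 2) F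

/-- Trace zero. -/
def TZ (g : M₂) : Prop := g 0 0 + g 1 1 = 0

theorem TZ.eq {g : M₂} (h : TZ g) : g 1 1 = -g 0 0 := eq_neg_of_add_eq_zero_right h

theorem TZ.smul {g : M₂} (h : TZ g) (a : F) : TZ (a • g) := by
  simp only [TZ, Matrix.smul_apply, smul_eq_mul, ← mul_add]
  rw [h, mul_zero]

theorem TZ.mul_self {g : M₂} (h : TZ g) : g * g = (-g.det) • (1 : M₂) := by
  have e := h.eq
  ext i j
  fin_cases i <;> fin_cases j <;>
    simp [Matrix.mul_apply, Fin.sum_univ_two, Matrix.det_fin_two, e] <;> ring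

theorem not_scalar_of_tz (h2 : (2 : F) ≠ 0) {g : M₂} (h : TZ g) (hd : g.det ≠ 0) : ∀ c : F, g ≠ c • 1 := by
  intro c e
  have h0 : c + c = 0 := by simpa [TZ, e] using h
  have hc : c = 0 := (mul_eq_zero.1 (show (2 : F) * c = 0 by linear_combination h0)).resolve_left h2
  refine hd ?_
  rw [e, hc, zero_smul, Matrix.det_zero]

/-- A matrix commuting with a non-scalar one is linear in it. -/
theorem exists_lin {M A : M₂} (hM : ∀ c : F, M ≠ c • 1) (h : A * M = M * A) :
    ∃ α β : F, A = α • (1 : M₂) + β • M := by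
  have e00 := congrFun (congrFun h 0) 0
  have e01 := congrFun (congrFun h 0) 1
  have e10 := congrFun (congrFun h 1) 0
  simp only [Matrix.mul_apply, Fin.sum_univ_two] at e00 e01 e10
  by_cases h01 : M 0 1 = 0
  · by_cases h10 : M 1 0 = 0
    · have hd : M 0 0 - M 1 1 ≠ 0 := fun e => hM (M 0 0) (by
        ext i j; fin_cases i <;> fin_cases j <;> simp [h01, h10, ← sub_eq_zero.1 e])
      have a01 : A 0 1 = 0 := by
        refine (mul_eq_zero.1 (?_ : A 0 1 * (M 0 0 - M 1 1) = 0)).resolve_right hd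
        rw [h01] at e01; linear_combination -e01
      have a10 : A 1 0 = 0 := by
        refine (mul_eq_zero.1 (?_ : A 1 0 * (M 0 0 - M 1 1) = 0)).resolve_right hd
        rw [h10] at e10; linear_combination e10
      refine ⟨A 0 0 - (A 0 0 - A 1 1) / (M 0 0 - M 1 1) * M 0 0, (A 0 0 - A 1 1) / (M 0 0 - M 1 1), ?_⟩
      ext i j; fin_cases i <;> fin_cases j <;> simp [h01, h10, a01, a10]
      field_simp
      ring
    · refine ⟨A 0 0 - A 1 0 / M 1 0 * M 0 0, A 1 0 / M 1 0, ?_⟩
      ext i j; fin_cases i <;> fin_cases j <;> simp [h01]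
      · exact (mul_eq_zero.1 (show A 0 1 * M 1 0 = 0 by rw [h01] at e00; linear_combination e00)).resolve_right h10
      · field_simp
      · field_simp
        linear_combination e10
  · refine ⟨A 0 0 - A 0 1 / M 0 1 * M 0 0, A 0 1 / M 0 1, ?_⟩
    ext i j; fin_cases i <;> fin_cases j <;> simp
    · field_simp
    · field_simp
      linear_combination -e00
    · field_simp
      linear_combination -e01

theorem det_lin {g : M₂} (h : TZ g) (α β : F) :
    (α • (1 : M₂) + β • g).det = α ^ 2 + β ^ 2 * g.det := by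
  simp only [Matrix.det_fin_two, Matrix.add_apply, Matrix.smul_apply, smul_eq_mul, Matrix.one_apply_eq,
    Matrix.one_apply_ne (show (0 : Fin 2) ≠ 1 by decide), Matrix.one_apply_ne (show (1 : Fin 2) ≠ 0 by decide)]
  rw [h.eq]
  ring

theorem lin_commute (g : M₂) (α β γ ε : F) :
    (α • (1 : M₂) + β • g) * (γ • (1 : M₂) + ε • g) = (γ • (1 : M₂) + ε • g) * (α • (1 : M₂) + β • g) :=
  ((Commute.one_left _).smul_left α).add_left
    ((((Commute.one_right g).smul_right γ).add_right ((Commute.refl g).smul_right ε)).smul_left β)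

/-- Commuting with the same non-scalar matrix. -/
theorem commute_of_commute {M A B : M₂} (hM : ∀ c : F, M ≠ c • 1) (hA : A * M = M * A) (hB : B * M = M * B) :
    A * B = B * A := by
  obtain ⟨α, β, rfl⟩ := exists_lin hM hA
  obtain ⟨γ, ε, rfl⟩ := exists_lin hM hB
  exact lin_commute M α β γ ε

/-- A coordinate system `e, g e`. -/
theorem exists_frame (h2 : (2 : F) ≠ 0) {g : M₂} (h : TZ g) (hd : g.det ≠ 0) :
    ∃ P : GL₂, g * (P : M₂) = (P : M₂) * !![0, -g.det; 1, 0] := by
  have e := h.eq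
  have key : ∀ a b : F, a * (g 1 0 * a + g 1 1 * b) - b * (g 0 0 * a + g 0 1 * b) ≠ 0 →
      ∃ P : GL₂, g * (P : M₂) = (P : M₂) * !![0, -g.det; 1, 0] := by
    intro a b hne
    refine ⟨Matrix.GeneralLinearGroup.mkOfDetNeZero
      !![a, g 0 0 * a + g 0 1 * b; b, g 1 0 * a + g 1 1 * b] ?_, ?_⟩
    · rw [Matrix.det_fin_two_of]
      intro h0
      exact hne (by linear_combination h0)
    · show g * !![a, g 0 0 * a + g 0 1 * b; b, g 1 0 * a + g 1 1 * b] =
        !![a, g 0 0 * a + g 0 1 * b; b, g 1 0 * a + g 1 1 * b] * !![0, -g.det; 1, 0]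
      ext i j
      fin_cases i <;> fin_cases j <;>
        simp [Matrix.mul_apply, Fin.sum_univ_two, Matrix.det_fin_two, e] <;> ring
  by_cases h10 : g 1 0 = 0
  · by_cases h01 : g 0 1 = 0
    · refine key 1 1 ?_
      rw [h10, h01, e]
      intro h0
      rw [Matrix.det_fin_two, h01, h10, e] at hd
      have h00 : g 0 0 = 0 :=
        (mul_eq_zero.1 (show (2 : F) * g 0 0 = 0 by linear_combination -h0)).resolve_left h2
      exact hd (by rw [h00]; ring)
    · refine key 0 1 ?_
      intro h0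
      exact h01 (by linear_combination -h0)
  · refine key 1 0 ?_
    intro h0
    exact h10 (by linear_combination h0)

/-- Matrices of trace zero with the same non-zero determinant are conjugate. -/
theorem exists_conj (h2 : (2 : F) ≠ 0) {g g' : M₂} (h : TZ g) (h' : TZ g') (hd : g.det ≠ 0)
    (he : g'.det = g.det) : ∃ k : GL₂, (k : M₂) * g * ((k⁻¹ : GL₂) : M₂) = g' := by
  obtain ⟨P, hP⟩ := exists_frame h2 h hd
  obtain ⟨R, hR⟩ := exists_frame h2 h' (he ▸ hd)
  refine ⟨R * P⁻¹, ?_⟩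
  rw [he, ← Units.inv_mul_eq_iff_eq_mul] at hR
  rw [← Units.inv_mul_eq_iff_eq_mul, ← hR] at hP
  rw [_root_.mul_inv_rev, inv_inv, Units.val_mul, Units.val_mul]
  calc (R : M₂) * ((P⁻¹ : GL₂) : M₂) * g * ((P : M₂) * ((R⁻¹ : GL₂) : M₂))
      = (R : M₂) * (((P⁻¹ : GL₂) : M₂) * (g * (P : M₂))) * ((R⁻¹ : GL₂) : M₂) := by simp only [Matrix.mul_assoc]
    _ = g' := by
      rw [hP, ← Matrix.mul_assoc, Units.mul_inv, Matrix.one_mul, Matrix.mul_assoc, Units.mul_inv, Matrix.mul_one]

/-- A matrix anticommuting with `g`. -/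
theorem exists_anti (h2 : (2 : F) ≠ 0) {g : M₂} (h : TZ g) (hd : g.det ≠ 0) :
    ∃ k : M₂, g * k = -(k * g) ∧ k.det = -1 := by
  obtain ⟨P, hP⟩ := exists_frame h2 h hd
  set D : M₂ := !![1, 0; 0, -1] with hD
  refine ⟨(P : M₂) * D * ((P⁻¹ : GL₂) : M₂), ?_, ?_⟩
  · have hC : g = (P : M₂) * !![0, -g.det; 1, 0] * ((P⁻¹ : GL₂) : M₂) := by
      rw [← hP, Units.mul_inv_cancel_right]
    have hanti : !![0, -g.det; 1, 0] * D = -(D * !![0, -g.det; 1, 0]) := by
      rw [hD]
      ext i j
      fin_cases i <;> fin_cases j <;> simp [Matrix.mul_apply, Fin.sum_univ_two]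
    conv_lhs => rw [hC]
    conv_rhs => rw [hC]
    calc (P : M₂) * !![0, -g.det; 1, 0] * ((P⁻¹ : GL₂) : M₂) * ((P : M₂) * D * ((P⁻¹ : GL₂) : M₂))
        = (P : M₂) * (!![0, -g.det; 1, 0] * D) * ((P⁻¹ : GL₂) : M₂) := by
          simp only [Matrix.mul_assoc, Units.inv_mul_cancel_left]
      _ = _ := by
          rw [hanti]
          simp only [Matrix.mul_assoc, Units.inv_mul_cancel_left, Matrix.mul_neg, Matrix.neg_mul]
  · rw [Matrix.det_mul, Matrix.det_mul, hD, Matrix.det_fin_two_of, mul_comm (P : M₂).det, mul_assoc,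
      ← Matrix.det_mul, Units.mul_inv, Matrix.det_one]
    ring

/-- An invertible matrix anticommuting with `g` has trace zero. -/
theorem tz_of_anti (h2 : (2 : F) ≠ 0) {g A : M₂} (h : TZ g) (hd : g.det ≠ 0) (ha : g * A = -(A * g)) : TZ A := by
  have e := h.eq
  have e00 := congrFun (congrFun ha 0) 0
  have e01 := congrFun (congrFun ha 0) 1
  have e10 := congrFun (congrFun ha 1) 0
  have e11 := congrFun (congrFun ha 1) 1
  simp only [Matrix.mul_apply, Matrix.neg_apply, Fin.sum_univ_two, e] at e00 e01 e10 e11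
  by_contra hs
  have hs' : A 0 0 + A 1 1 ≠ 0 := hs
  have g01 : g 0 1 = 0 := (mul_eq_zero.1 (show g 0 1 * (A 0 0 + A 1 1) = 0 by linear_combination e01)).resolve_right hs'
  have g10 : g 1 0 = 0 := (mul_eq_zero.1 (show g 1 0 * (A 0 0 + A 1 1) = 0 by linear_combination e10)).resolve_right hs'
  rw [g01, g10] at e00 e11
  rw [Matrix.det_fin_two, g01, g10, e] at hd
  have h4 : (2 : F) * g 0 0 * (A 0 0 + A 1 1) = 0 := by linear_combination e00 - e11
  rcases mul_eq_zero.1 h4 with h5 | h5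
  · rcases mul_eq_zero.1 h5 with h6 | h6
    · exact h2 h6
    · exact hd (by rw [h6]; ring)
  · exact hs' h5

variable [Fintype F]

theorem two_ne (hodd : Odd (Fintype.card F)) : (2 : F) ≠ 0 := fun e => by
  obtain ⟨p, hp⟩ := CharP.exists F
  obtain ⟨n, hpp, hn⟩ := FiniteField.card F p
  have hd : p ∣ 2 := (CharP.cast_eq_zero_iff F p 2).1 (by exact_mod_cast e)
  rw [hn, (Nat.prime_dvd_prime_iff_eq hpp Nat.prime_two).1 hd, Nat.odd_pow_iff n.ne_zero] at hodd
  exact absurd hodd (by decide)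

theorem ringChar_ne (hodd : Odd (Fintype.card F)) : ringChar F ≠ 2 := fun e => two_ne hodd (by
  have h := ringChar.Nat.cast_ringChar (R := F)
  rw [e] at h
  exact_mod_cast h)

/-- The norm is onto. -/
theorem exists_norm (hodd : Odd (Fintype.card F)) {d : F} (hd : d ≠ 0) (c : F) :
    ∃ α β : F, α ^ 2 + β ^ 2 * d = c := by
  open Polynomial in
  obtain ⟨a, b, hab⟩ := FiniteField.exists_root_sum_quadratic (R := F)
    (f := X ^ 2) (g := Polynomial.C d * X ^ 2 - Polynomial.C c) (degree_X_pow 2)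
    (by rw [Polynomial.degree_sub_C (by rw [Polynomial.degree_C_mul_X_pow 2 hd]; decide),
      Polynomial.degree_C_mul_X_pow 2 hd]; rfl)
    (Nat.odd_iff.1 hodd)
  refine ⟨a, b, ?_⟩
  simp at hab
  linear_combination hab

/-- An element of `SL(2)` anticommuting with `g`. -/
theorem exists_anti_sl (hodd : Odd (Fintype.card F)) {g : M₂} (h : TZ g) (hd : g.det ≠ 0) :
    ∃ t : SL₂, g * (t : M₂) = -((t : M₂) * g) := by
  obtain ⟨k, hk, hkd⟩ := exists_anti (two_ne hodd) h hd
  obtain ⟨α, β, hab⟩ := exists_norm hodd hd (-1)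
  refine ⟨⟨(α • (1 : M₂) + β • g) * k, by rw [Matrix.det_mul, det_lin h, hab, hkd]; ring⟩, ?_⟩
  show g * ((α • (1 : M₂) + β • g) * k) = -((α • (1 : M₂) + β • g) * k * g)
  simp only [mul_add, add_mul, smul_mul_assoc, mul_smul_comm, one_mul, mul_assoc]
  rw [hk, mul_neg, ← mul_assoc]
  simp only [smul_neg, neg_add]

/-- The `q`-th power. -/
theorem pow_card {g : M₂} (h : TZ g) (hodd : Odd (Fintype.card F)) (α β : F) :
    (α • (1 : M₂) + β • g) ^ Fintype.card F =
      α • (1 : M₂) + (β * (-g.det) ^ (Fintype.card F / 2)) • g := by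
  obtain ⟨p, hp⟩ := CharP.exists F
  obtain ⟨n, hpp, hn⟩ := FiniteField.card F p
  haveI : Fact p.Prime := ⟨hpp⟩
  haveI : CharP M₂ p := inferInstance
  have hc : Commute (α • (1 : M₂)) (β • g) := ((Commute.one_left g).smul_left α).smul_right β
  have hgq : g ^ Fintype.card F = (-g.det) ^ (Fintype.card F / 2) • g := by
    conv_lhs => rw [← Nat.two_mul_div_two_add_one_of_odd hodd, pow_succ, pow_mul, sq, h.mul_self, smul_pow,
      one_pow, smul_mul_assoc, one_mul]
  rw [hn, add_pow_char_pow_of_commute p n hc, ← hn, smul_pow, smul_pow, one_pow, hgq, FiniteField.pow_card,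
    FiniteField.pow_card, smul_smul]

/-- The exponent of a centraliser. -/
theorem pow_of_commute (hodd : Odd (Fintype.card F)) {g : M₂} (h : TZ g) (hd : g.det ≠ 0) {t : SL₂}
    (ht : (t : M₂) * g = g * (t : M₂)) :
    ((-g.det) ^ (Fintype.card F / 2) = 1 → t ^ (Fintype.card F - 1) = 1) ∧
      ((-g.det) ^ (Fintype.card F / 2) = -1 → t ^ (Fintype.card F + 1) = 1) := by
  obtain ⟨α, β, e⟩ := exists_lin (not_scalar_of_tz (two_ne hodd) h hd) ht
  have hq := pow_card h hodd α β
  rw [← e, ← cpow] at hq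
  constructor <;> intro hk <;> rw [hk] at hq
  · rw [mul_one, ← e] at hq
    have h1 : t ^ Fintype.card F = t := Subtype.ext hq
    refine mul_right_cancel (b := t) ?_
    rw [← pow_succ, Nat.sub_add_cancel Fintype.card_pos, h1, one_mul]
  · have h1 : t ^ Fintype.card F = t⁻¹ := Subtype.ext (by
      rw [hq, mul_neg_one, cinv, e, Matrix.adjugate_fin_two]
      ext i j
      fin_cases i <;> fin_cases j <;> simp [h.eq])
    rw [pow_succ, h1, inv_mul_cancel]

/-- The centraliser of a matrix of non-square determinant. -/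
theorem pow_tT (hodd : Odd (Fintype.card F)) {g : M₂} (h : TZ g) (hd : ¬ IsSquare g.det) {t : SL₂}
    (ht : (t : M₂) * g = g * (t : M₂)) : t ^ tT (Fintype.card F) = 1 := by
  have hd0 : g.det ≠ 0 := fun e => hd (e ▸ IsSquare.zero)
  have hk := (FiniteField.pow_dichotomy (ringChar_ne hodd) hd0).resolve_left fun e =>
    hd ((FiniteField.isSquare_iff (ringChar_ne hodd) hd0).2 e)
  obtain ⟨h1, h2⟩ := pow_of_commute hodd h hd0 ht
  rw [neg_pow, hk] at h1 h2
  unfold tT
  split
  · exact h1 (by rw [Odd.neg_one_pow (Nat.odd_iff.2 (by omega))]; ring)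
  · exact h2 (by
      rw [Even.neg_one_pow (Nat.even_iff.2 (by have := Nat.odd_iff.1 hodd; omega))]; ring)

/-- The centraliser of a matrix of determinant one. -/
theorem pow_tE (hodd : Odd (Fintype.card F)) {u : M₂} (h : TZ u) (hd : u.det = 1) {t : SL₂}
    (ht : (t : M₂) * u = u * (t : M₂)) : t ^ tE (Fintype.card F) = 1 := by
  obtain ⟨h1, h2⟩ := pow_of_commute hodd h (by rw [hd]; exact one_ne_zero) ht
  rw [hd] at h1 h2
  unfold tE
  split
  · exact h2 (Odd.neg_one_pow (Nat.odd_iff.2 (by omega)))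
  · exact h1 (Even.neg_one_pow (Nat.even_iff.2 (by have := Nat.odd_iff.1 hodd; omega)))

theorem gcd_tT_tE (hodd : Odd (Fintype.card F)) : Nat.gcd (tT (Fintype.card F)) (tE (Fintype.card F)) ∣ 2 := by
  have h0 := Nat.odd_iff.1 hodd
  set a := Fintype.card F with ha
  have h1 : Nat.gcd (a - 1) (a + 1) ∣ 2 := by
    have h := Nat.dvd_sub (Nat.gcd_dvd_right (a - 1) (a + 1)) (Nat.gcd_dvd_left (a - 1) (a + 1))
    rwa [show a + 1 - (a - 1) = 2 by omega] at h
  unfold tT tE
  split
  · exact h1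
  · rwa [Nat.gcd_comm]

section Prime

variable {l : ℕ} (hl : l.Prime) (hl2 : l ≠ 2) (hlt : l ∣ tE (Fintype.card F))

include hl hl2 hlt

theorem not_dvd_tT (hodd : Odd (Fintype.card F)) : ¬ l ∣ tT (Fintype.card F) := fun h =>
  hl2 ((Nat.prime_dvd_prime_iff_eq hl Nat.prime_two).1 ((Nat.dvd_gcd h hlt).trans (gcd_tT_tE hodd)))

theorem ne_char {p : ℕ} (hp : p.Prime) {n : ℕ} (hn : 0 < n) (hF : Fintype.card F = p ^ n) : l ≠ p := by
  rintro rfl
  have hd : l ∣ Fintype.card F := hF ▸ dvd_pow_self l hn.ne'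
  have h1 : l ∣ 1 := by
    unfold tE at hlt
    split at hlt
    · exact (Nat.dvd_add_right hd).1 hlt
    · have := Nat.dvd_sub hd hlt
      rwa [show Fintype.card F - (Fintype.card F - 1) = 1 by
        have := Fintype.card_pos (α := F); omega] at this
  exact hl.not_dvd_one h1

/-- An element of order `l` lies in an elliptic torus. -/
theorem exists_torus (hodd : Odd (Fintype.card F)) {s : SL₂} (hs : s ^ l = 1) (hs1 : s ≠ 1) :
    ∃ u : SL₂, u * u = -1 ∧ u * s = s * u ∧ (∀ c : F, (s : M₂) ≠ c • 1) := by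
  have h2 := two_ne hodd
  obtain ⟨p, hp⟩ := CharP.exists F
  obtain ⟨n, hpp, hn⟩ := FiniteField.card F p
  haveI : Fact p.Prime := ⟨hpp⟩
  haveI := Fact.mk hl
  have hso : orderOf s = l := orderOf_eq_prime hs hs1
  have hlp : l ≠ p := ne_char hl hl2 hlt hpp n.pos hn
  have h4 : (4 : F) ≠ 0 := fun e => h2 (mul_self_eq_zero.1 (by linear_combination e))
  set τ := str s with hτ
  have hd := Matrix.det_fin_two (s : M₂)
  rw [s.2] at hd
  have hτ4 : τ * τ ≠ 4 := fun e => by
    have h1 := orderOf_dvd_of_pow_eq_one (pow_eq_one_of_trace (p := p) h2 e)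
    rw [hso] at h1
    rcases (Nat.Prime.dvd_mul hl).1 h1 with h | h
    · exact hl2 ((Nat.prime_dvd_prime_iff_eq hl Nat.prime_two).1 h)
    · exact hlp ((Nat.prime_dvd_prime_iff_eq hl hpp).1 h)
  set M : M₂ := (s : M₂) - (τ / 2) • 1 with hM
  have hMz : TZ M := by
    simp [TZ, hM, hτ, str]
    field_simp
    ring
  have hMd : M.det = 1 - τ ^ 2 / 4 := by
    simp [Matrix.det_fin_two, hM]
    have e : τ = (s : M₂) 0 0 + (s : M₂) 1 1 := rfl
    rw [e]
    field_simp
    linear_combination (-16 : F) * hd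
  have hMd0 : M.det ≠ 0 := fun e => hτ4 (by
    rw [hMd] at e
    field_simp at e
    linear_combination -e)
  have hns : ∀ c : F, (s : M₂) ≠ c • 1 := fun c e => not_scalar_of_tz h2 hMz hMd0 (c - τ / 2) (by
    rw [hM, e, sub_smul])
  have hsM : (s : M₂) * M = M * (s : M₂) := by
    rw [hM, mul_sub, sub_mul, mul_smul_comm, smul_mul_assoc, mul_one, one_mul]
  by_cases hsq : IsSquare M.det
  · obtain ⟨c, hc⟩ := hsq
    have hc0 : c ≠ 0 := fun e => hMd0 (by rw [hc, e, mul_zero])
    have hud : (c⁻¹ • M).det = 1 := by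
      rw [Matrix.det_smul, Fintype.card_fin, hc]; field_simp
    refine ⟨⟨c⁻¹ • M, hud⟩, Subtype.ext ?_, Subtype.ext ?_, hns⟩
    · rw [Matrix.SpecialLinearGroup.coe_neg, Matrix.SpecialLinearGroup.coe_one]
      show (c⁻¹ • M) * (c⁻¹ • M) = _
      rw [(hMz.smul _).mul_self, hud, neg_smul, one_smul]
    · show (c⁻¹ • M) * (s : M₂) = (s : M₂) * (c⁻¹ • M)
      rw [smul_mul_assoc, mul_smul_comm, hsM]
  · exfalso
    refine not_dvd_tT hl hl2 hlt hodd ?_
    rw [← hso]
    exact orderOf_dvd_of_pow_eq_one (pow_tT hodd hMz hsq hsM)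

/-- An element of order `l` commutes with no matrix of non-square determinant and trace zero. -/
theorem not_commute (hodd : Odd (Fintype.card F)) {g : M₂} (h : TZ g) (hd : ¬ IsSquare g.det) {s : SL₂}
    (hs : s ^ l = 1) (hs1 : s ≠ 1) : (s : M₂) * g ≠ g * (s : M₂) := fun hc => by
  haveI := Fact.mk hl
  refine not_dvd_tT hl hl2 hlt hodd ?_
  rw [← orderOf_eq_prime hs hs1]
  exact orderOf_dvd_of_pow_eq_one (pow_tT hodd h hd hc)

end Prime

theorem tz_of_sq {u : SL₂} (hodd : Odd (Fintype.card F)) (hu : u * u = -1) : TZ (u : M₂) := by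
  refine (Grp.SL2.mul_self_eq_neg_one ?_).1 hu
  rintro (rfl | rfl) <;>
  · simp at hu
    have := congrArg (fun a : SL₂ => (a : M₂) 0 0) hu
    simp [Matrix.SpecialLinearGroup.coe_neg] at this
    exact two_ne hodd (by linear_combination this)

/-- The order of `SL(2)`. -/
theorem card_sl : Nat.card SL₂ = Fintype.card F * (Fintype.card F ^ 2 - 1) := by
  classical
  have h1 := card_GL_two (F := F)
  rw [Matrix.card_GL_field] at h1
  simp [Fin.prod_univ_two] at h1
  rw [Fintype.card_units] at h1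
  have hq : 1 < Fintype.card F := Fintype.one_lt_card
  refine Nat.eq_of_mul_eq_mul_left (show 0 < Fintype.card F - 1 by omega) ?_
  rw [Nat.card_eq_fintype_card, ← h1, Nat.mul_comm (Fintype.card F ^ 2 - 1), ← mul_assoc]
  congr 1
  rw [sq, Nat.sub_mul, one_mul]

/-- A point of the conic other than `±1`. -/
theorem exists_conic (hodd : Odd (Fintype.card F)) (h5 : 5 ≤ Fintype.card F) {g : M₂} (h : TZ g)
    (hd : g.det ≠ 0) : ∃ t : SL₂, (t : M₂) * g = g * (t : M₂) ∧ t * t ≠ 1 := by
  classical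
  have h2 := two_ne hodd
  obtain ⟨r, hr0, hrd⟩ : ∃ r : F, r ≠ 0 ∧ r ^ 2 + g.det ≠ 0 := by
    by_contra hne
    push Not at hne
    obtain ⟨a, ha⟩ : ∃ a : F, a ≠ 0 := ⟨1, one_ne_zero⟩
    have hsub : (Finset.univ : Finset F) ⊆ {0, a, -a} := by
      intro r _
      rcases eq_or_ne r 0 with rfl | hr
      · simp
      · rcases sq_eq_sq_iff_eq_or_eq_neg.1 (show r ^ 2 = a ^ 2 by
          linear_combination hne r hr - hne a ha) with rfl | rfl <;> simp
    have := (Finset.card_le_card hsub).trans Finset.card_le_three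
    rw [Finset.card_univ] at this
    omega
  set α := (r ^ 2 - g.det) / (r ^ 2 + g.det) with hα
  set β := 2 * r / (r ^ 2 + g.det) with hβ
  refine ⟨⟨α • (1 : M₂) + β • g, ?_⟩, ?_, ?_⟩
  · rw [det_lin h, hα, hβ]
    field_simp
    ring
  · exact (((Commute.one_left g).smul_left α).add_left ((Commute.refl g).smul_left β)).eq
  · intro hsq
    have hβ0 : β ≠ 0 := div_ne_zero (mul_ne_zero h2 hr0) hrd
    obtain ⟨c, hc⟩ : ∃ c : F, α • (1 : M₂) + β • g = c • 1 := by
      rcases eq_one_or_neg_one hodd hsq with e | e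
      · exact ⟨1, by rw [one_smul]; exact congrArg Subtype.val e⟩
      · refine ⟨-1, ?_⟩
        have e' := congrArg Subtype.val e
        rw [Matrix.SpecialLinearGroup.coe_neg, Matrix.SpecialLinearGroup.coe_one] at e'
        rw [neg_smul, one_smul]
        exact e'
    refine not_scalar_of_tz h2 h hd (β⁻¹ * (c - α)) ?_
    rw [mul_smul, sub_smul, ← hc, add_sub_cancel_left, smul_smul, inv_mul_cancel₀ hβ0, one_smul]

end Cfsg.Agent.Invol.AbgOrder.Ell
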