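import Cfsg.Agent.Lib.Invol.AbgOrder.Shape0Ctx
import Cfsg.Agent.Lib.Invol.AbgOrder.EllMat
import Cfsg.Agent.Lib.Classical.SLNormal
import Cfsg.Agent.Lib.Classical.DicksonSL
import Cfsg.Agent.Lib.Grp.CyclicTwo

/-!
# A centraliser modulo its odd core, and an odd prime `l` dividing the order of its elliptic torus

The non-central involutions, the elements of order `l` of `SL(2, q)` (elliptic) and the lines they span.
-/

set_option autoImplicit false
set_option linter.unusedSectionVars false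
set_option linter.style.haveILetI false

namespace Cfsg.Agent.Invol.AbgOrder.Ell

open Matrix Cfsg.Agent.Classical

universe u v

/-- The setting. -/
structure Gam (X : Type u) [Group X] [Finite X] (F : Type v) [Field F] [Fintype F] (l : ℕ) where
  c : Ctx X F 2
  hl : l.Prime
  hl2 : l ≠ 2
  hlt : l ∣ tE (Fintype.card F)
  w₀ : X
  w₀_sq : w₀ * w₀ = 1
  w₀_ne : w₀ ≠ 1
  w₀_nez : w₀ ≠ c.z

namespace Gam

variable {X : Type u} [Group X] [Finite X] {F : Type v} [Field F] [Fintype F] {l : ℕ} (Γ : Gam X F l)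

local notation "SL₂" => Matrix.SpecialLinearGroup (Fin 2) F
local notation "GL₂" => GL (Fin 2) F
local notation "M₂" => Matrix (Fin 2) (Fin 2) F

/-- A non-central involution. -/
def NC (x : X) : Prop := x * x = 1 ∧ x ≠ 1 ∧ x ≠ Γ.c.z

/-- An elliptic element. -/
def Elt (e : X) : Prop := e ∈ Γ.c.N ∧ e ≠ 1 ∧ e ^ l = 1

/-- An elliptic element inverted by `w`. -/
def Inv (w e : X) : Prop := Γ.Elt e ∧ w * e * w⁻¹ = e⁻¹

include Γ in
theorem two_ne : (2 : F) ≠ 0 := Γ.c.two_ne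

include Γ in
theorem five_le : 5 ≤ Fintype.card F := by
  have h1 := Fintype.one_lt_card (α := F)
  have h2 := Nat.odd_iff.1 Γ.c.odd
  by_contra hlt
  have h3 : Fintype.card F = 3 := by omega
  have h := Γ.hlt
  simp [tE, h3] at h
  exact Γ.hl2 ((Nat.prime_dvd_prime_iff_eq Γ.hl Nat.prime_two).1 (Γ.hl.dvd_of_dvd_pow (m := 2) (n := 2) h))

include Γ in
theorem perfect : commutator SL₂ = ⊤ :=
  SL_commutator_eq_top fun _ => exists_sq_ne_one_field (by have := Γ.five_le; omega)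

theorem mem_N {x : X} : x ∈ Γ.c.N ↔ ∃ s : SL₂, Γ.c.ι s = x := by
  rw [← Γ.c.range_ι]; rfl

theorem Zs_eq {x : X} (hx : x ∈ Γ.c.Zs) : x = 1 ∨ x = Γ.c.z := by
  classical
  by_contra h
  push Not at h
  haveI := Fintype.ofFinite X
  have hz : Γ.c.z ∈ Γ.c.Zs := Γ.c.mem_Zs_of_forall Γ.c.z_mem_S fun s _ => Γ.c.z_comm s
  have hsub : ({1, Γ.c.z, x} : Finset X) ⊆ Finset.univ.filter (· ∈ Γ.c.Zs) := by
    intro y hy
    simp at hy ⊢
    rcases hy with rfl | rfl | rfl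
    exacts [one_mem _, hz, hx]
  have h3 := Finset.card_le_card hsub
  rw [← Fintype.card_subtype, ← Nat.card_eq_fintype_card] at h3
  rw [show Nat.card {y // y ∈ Γ.c.Zs} = 2 from Γ.c.card_Zs, Finset.card_insert_of_notMem (by
    simp [Γ.c.z_ne.symm, h.1.symm]), Finset.card_pair h.2.symm] at h3
  omega

theorem ker_cases {x : X} (h : Γ.c.ψ x = 1) : x = 1 ∨ x = Γ.c.z :=
  Γ.Zs_eq (Γ.c.ker_eq ▸ MonoidHom.mem_ker.2 h)

theorem ψ_z : Γ.c.ψ Γ.c.z = 1 := by
  rw [← MonoidHom.mem_ker, Γ.c.ker_eq]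
  exact Γ.c.mem_Zs_of_forall Γ.c.z_mem_S fun s _ => Γ.c.z_comm s

theorem ι_neg (s : SL₂) : Γ.c.ι (-s) = Γ.c.z * Γ.c.ι s := by
  rw [Ctx.z, ← map_mul, neg_one_mul]

/-- An element of `2`-power order has no field part. -/
theorem fld_two {x : X} {j : ℕ} (h : x ^ 2 ^ j = 1) : fld (Γ.c.ψ x) = 1 := by
  haveI : Fact (Nat.Prime 2) := ⟨Nat.prime_two⟩
  obtain ⟨k, -, hk⟩ := (Nat.dvd_prime_pow Nat.prime_two).1 (orderOf_dvd_of_pow_eq_one h)
  obtain ⟨r, hr⟩ := Γ.c.exists_conj_mem (T := Subgroup.zpowers x)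
    (IsPGroup.of_card (n := k) (by rw [Nat.card_zpowers, hk]))
  have h1 := Γ.c.fld_eq_one (hr x (Subgroup.mem_zpowers x))
  rw [map_mul, map_mul, map_inv, map_mul, map_mul, map_inv, PSLAut.ringAut_commute (fld (Γ.c.ψ r)),
    mul_inv_cancel_right] at h1
  exact h1

/-- Proportional matrices induce the same automorphism. -/
theorem inn_smul {g h : GL₂} {a : F} (e : (h : M₂) = a • (g : M₂)) : inn h = inn g := by
  have ha : a ≠ 0 := fun h0 => by
    rw [h0, zero_smul] at e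
    have := h.det_ne_zero
    rw [e, Matrix.det_zero] at this
    exact this rfl
  have hh : h = Matrix.GeneralLinearGroup.scalar (Fin 2) (Units.mk0 a ha) * g := Units.ext (by
    rw [Units.val_mul, Matrix.GeneralLinearGroup.coe_scalar, e, Matrix.smul_eq_diagonal_mul]
    rfl)
  rw [hh, map_mul]
  have hs : Matrix.GeneralLinearGroup.scalar (Fin 2) (Units.mk0 a ha) ∈ (inn (F := F)).ker := by
    rw [ker_inn, Matrix.GeneralLinearGroup.center_eq_range_scalar]; exact ⟨_, rfl⟩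
  rw [MonoidHom.mem_ker.1 hs, one_mul]

/-- Equal automorphisms come from proportional matrices. -/
theorem exists_smul_of_inn {g h : GL₂} (e : inn g = inn h) : ∃ a : F, a ≠ 0 ∧ (g : M₂) = a • (h : M₂) := by
  obtain ⟨-, a, ha⟩ := smi_unique e
  refine ⟨a, a.ne_zero, ?_⟩
  rw [ha, Units.val_mul, Matrix.GeneralLinearGroup.coe_scalar,
    show Matrix.scalar (Fin 2) (a : F) = (a : F) • (1 : M₂) by
      simp [Matrix.smul_one_eq_diagonal], mul_smul_comm, mul_one]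

/-- A non-central involution induces the conjugation by a matrix of trace zero and non-square determinant. -/
theorem nc_rep {x : X} (hx : Γ.NC x) :
    ∃ g : GL₂, Γ.c.ψ x = inn g ∧ TZ (g : M₂) ∧ ¬ IsSquare (g : M₂).det := by
  obtain ⟨hsq, h1, hz⟩ := hx
  obtain ⟨g, hg⟩ := mem_range_inn.2 (Γ.fld_two (x := x) (j := 1) (by rw [pow_one, sq, hsq]))
  obtain ⟨a, -, hgg⟩ := exists_smul_of_inn (g := g * g) (h := 1) (by
    rw [map_mul, hg, ← map_mul, hsq, map_one, map_one])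
  rw [Units.val_mul, Units.val_one] at hgg
  have hns : ∀ b : F, (g : M₂) ≠ b • 1 := fun b e => by
    have : Γ.c.ψ x = 1 := by rw [← hg, inn_smul (g := 1) (by rw [e, Units.val_one]), map_one]
    rcases Γ.ker_cases this with h | h
    · exact h1 h
    · exact hz h
  have htz : TZ (g : M₂) := by
    by_contra ht
    set G := (g : M₂)
    have hc : G * G = (G 0 0 + G 1 1) • G - G.det • 1 := by
      ext i j
      fin_cases i <;> fin_cases j <;> simp [Matrix.mul_apply, Fin.sum_univ_two, Matrix.det_fin_two] <;> ring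
    refine hns ((G 0 0 + G 1 1)⁻¹ * (a + G.det)) ?_
    have e2 : (G 0 0 + G 1 1) • G = (a + G.det) • 1 := by
      rw [add_smul a G.det, ← hgg, hc, sub_add_cancel]
    rw [mul_smul, ← e2, smul_smul, inv_mul_cancel₀ (show G 0 0 + G 1 1 ≠ 0 from ht), one_smul]
  refine ⟨g, hg.symm, htz, fun ⟨b, hb⟩ => ?_⟩
  have hb0 : b ≠ 0 := fun e => g.det_ne_zero (by rw [hb, e, mul_zero])
  let t : SL₂ := ⟨b⁻¹ • (g : M₂), by
    rw [Matrix.det_smul, Fintype.card_fin, hb]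
    field_simp⟩
  have ht : MulAut.conj t = Γ.c.ψ x := by
    rw [← inn_toGL, inn_smul (g := g) (show ((Matrix.SpecialLinearGroup.toGL t : GL₂) : M₂) = b⁻¹ • (g : M₂) from rfl),
      hg]
  have hN : x ∈ Γ.c.N := by
    have : Γ.c.ψ ((Γ.c.ι t)⁻¹ * x) = 1 := by rw [map_mul, map_inv, Γ.c.ψ_ι, ht, inv_mul_cancel]
    rcases Γ.ker_cases this with h | h <;> rw [inv_mul_eq_iff_eq_mul] at h <;> rw [h]
    · rw [mul_one]; exact Γ.mem_N.2 ⟨t, rfl⟩
    · exact mul_mem (Γ.mem_N.2 ⟨t, rfl⟩) Γ.c.z_mem_N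
  rcases Γ.c.sq_eq_one hN hsq with h | h
  · exact h1 h
  · exact hz h

theorem nc_of_conj {x : X} (hx : Γ.NC x) (r : X) : Γ.NC (r * x * r⁻¹) := by
  refine ⟨by rw [conj_mul, hx.1, mul_one, mul_inv_cancel], fun h => hx.2.1 (conj_eq_one_iff.1 h), fun h => hx.2.2 ?_⟩
  rw [mul_inv_eq_iff_eq_mul, ← Γ.c.z_comm] at h
  exact mul_left_cancel h

theorem nc_z_mul {x : X} (hx : Γ.NC x) : Γ.NC (Γ.c.z * x) := by
  refine ⟨?_, fun h => hx.2.2 ?_, fun h => hx.2.1 (mul_eq_left.1 h)⟩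
  · rw [mul_assoc, ← mul_assoc x, Γ.c.z_comm x, mul_assoc, hx.1, mul_one, Γ.c.z_sq]
  · have e := congrArg (Γ.c.z * ·) h
    simp only [← mul_assoc, Γ.c.z_sq, one_mul, mul_one] at e
    exact e

theorem div_square {a b : F} (hb0 : b ≠ 0) (ha : ¬ IsSquare a) (hb : ¬ IsSquare b) : IsSquare (a / b) := by
  classical
  by_contra hns
  have e4 := map_mul (quadraticChar F) (a / b) b
  rw [div_mul_cancel₀ _ hb0, quadraticChar_neg_one_iff_not_isSquare.2 ha,
    quadraticChar_neg_one_iff_not_isSquare.2 hb, quadraticChar_neg_one_iff_not_isSquare.2 hns] at e4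
  norm_num at e4

/-- Every such matrix is induced by a non-central involution. -/
theorem exists_nc {g : GL₂} (h : TZ (g : M₂)) (hd : ¬ IsSquare (g : M₂).det) :
    ∃ x, Γ.NC x ∧ Γ.c.ψ x = inn g := by
  obtain ⟨g0, hg0, h0, hd0⟩ := Γ.nc_rep ⟨Γ.w₀_sq, Γ.w₀_ne, Γ.w₀_nez⟩
  have hne := g0.det_ne_zero
  obtain ⟨a, ha⟩ : IsSquare ((g : M₂).det / (g0 : M₂).det) := div_square hne hd hd0
  have had : (g : M₂).det = a * a * (g0 : M₂).det := by rw [← ha, div_mul_cancel₀ _ hne]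
  have ha0 : a ≠ 0 := fun e => g.det_ne_zero (by rw [had, e, mul_zero, zero_mul])
  obtain ⟨k, hk⟩ := exists_conj Γ.two_ne h0 (h.smul a⁻¹) hne (by
    rw [Matrix.det_smul, Fintype.card_fin, had]; field_simp)
  obtain ⟨r, hr⟩ := Γ.c.range_inn_le ⟨k, rfl⟩
  refine ⟨r * Γ.w₀ * r⁻¹, Γ.nc_of_conj ⟨Γ.w₀_sq, Γ.w₀_ne, Γ.w₀_nez⟩ r, ?_⟩
  rw [map_mul, map_mul, map_inv, hr, hg0, ← map_inv, ← map_mul, ← map_mul]
  refine inn_smul (a := a⁻¹) ?_
  rw [Units.val_mul, Units.val_mul, hk]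

/-- Conjugation by an element of `SL(2)`. -/
theorem conj_ι_ι (t s : SL₂) : Γ.c.ι t * Γ.c.ι s * (Γ.c.ι t)⁻¹ = Γ.c.ι (t * s * t⁻¹) := by
  rw [map_mul, map_mul, map_inv]

/-- An involution and an element of `SL(2)`. -/
theorem conj_nc {x : X} {g : GL₂} (hg : Γ.c.ψ x = inn g) (s : SL₂) :
    (Γ.c.ι s * x = x * Γ.c.ι s ↔ (s : M₂) * (g : M₂) = (g : M₂) * (s : M₂)) ∧
      (∀ s' : SL₂, x * Γ.c.ι s * x⁻¹ = Γ.c.ι s' ↔ (s' : M₂) * (g : M₂) = (g : M₂) * (s : M₂)) := by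
  have h : ∀ s' : SL₂, x * Γ.c.ι s * x⁻¹ = Γ.c.ι s' ↔ (s' : M₂) * (g : M₂) = (g : M₂) * (s : M₂) := by
    intro s'
    rw [Γ.c.conj_ι, hg, Γ.c.ι_inj.eq_iff]
    constructor
    · rintro rfl
      rw [inn_coe, Units.inv_mul_cancel_right]
    · intro e
      refine Subtype.ext ?_
      rw [inn_coe, ← e, Units.mul_inv_cancel_right]
  refine ⟨?_, h⟩
  rw [← h s, mul_inv_eq_iff_eq_mul, eq_comm]

/-- An element inducing the conjugation by a matrix anticommuting with that of `x` maps `x` to `z x`. -/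
theorem anti_flip {x : X} {g : GL₂} (hg : Γ.c.ψ x = inn g) {t : SL₂}
    (h : (g : M₂) * (t : M₂) = -((t : M₂) * (g : M₂))) : Γ.c.ι t * x * (Γ.c.ι t)⁻¹ = Γ.c.z * x := by
  have h1 : x * Γ.c.ι t * x⁻¹ = Γ.c.ι (-t) := ((Γ.conj_nc hg t).2 (-t)).2 (by
    rw [Matrix.SpecialLinearGroup.coe_neg, neg_mul, h])
  rw [Γ.ι_neg, mul_inv_eq_iff_eq_mul] at h1
  rw [mul_inv_eq_iff_eq_mul, mul_assoc Γ.c.z, h1, ← mul_assoc, ← mul_assoc, Γ.c.z_sq, one_mul]

/-- The non-central involutions are conjugate. -/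
theorem nc_conj {x y : X} (hx : Γ.NC x) (hy : Γ.NC y) : ∃ r, r * x * r⁻¹ = y := by
  suffices key : ∀ x, Γ.NC x → ∃ r, r * Γ.w₀ * r⁻¹ = x by
    obtain ⟨r, hr⟩ := key x hx
    obtain ⟨s, hs⟩ := key y hy
    refine ⟨s * r⁻¹, ?_⟩
    rw [← hr, ← hs]; group
  intro x hx
  obtain ⟨g, hg, h, hd⟩ := Γ.nc_rep hx
  have hw : Γ.NC Γ.w₀ := ⟨Γ.w₀_sq, Γ.w₀_ne, Γ.w₀_nez⟩
  obtain ⟨g0, hg0, h0, hd0⟩ := Γ.nc_rep hw
  have hne := g0.det_ne_zero
  obtain ⟨a, ha⟩ : IsSquare ((g : M₂).det / (g0 : M₂).det) := div_square hne hd hd0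
  have had : (g : M₂).det = a * a * (g0 : M₂).det := by rw [← ha, div_mul_cancel₀ _ hne]
  have ha0 : a ≠ 0 := fun e => g.det_ne_zero (by rw [had, e, mul_zero, zero_mul])
  obtain ⟨k, hk⟩ := exists_conj Γ.two_ne h0 (h.smul a⁻¹) hne (by
    rw [Matrix.det_smul, Fintype.card_fin, had]; field_simp)
  obtain ⟨r, hr⟩ := Γ.c.range_inn_le ⟨k, rfl⟩
  set y := r * Γ.w₀ * r⁻¹ with hy
  have hψ : Γ.c.ψ y = Γ.c.ψ x := by
    rw [hy, map_mul, map_mul, map_inv, hr, hg0, ← map_inv, ← map_mul, ← map_mul, hg]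
    exact inn_smul (a := a⁻¹) (by rw [Units.val_mul, Units.val_mul, hk])
  rcases Γ.ker_cases (show Γ.c.ψ (y * x⁻¹) = 1 by rw [map_mul, map_inv, hψ, mul_inv_cancel]) with e | e <;>
    rw [mul_inv_eq_iff_eq_mul] at e
  · exact ⟨r, by rw [← hy, e, one_mul]⟩
  · obtain ⟨t, ht⟩ := exists_anti_sl Γ.c.odd h g.det_ne_zero
    refine ⟨Γ.c.ι t * r, ?_⟩
    calc Γ.c.ι t * r * Γ.w₀ * (Γ.c.ι t * r)⁻¹ = Γ.c.ι t * y * (Γ.c.ι t)⁻¹ := by rw [hy]; group
      _ = Γ.c.ι t * Γ.c.z * (Γ.c.ι t)⁻¹ * (Γ.c.ι t * x * (Γ.c.ι t)⁻¹) := by rw [e]; group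
      _ = x := by
        rw [Γ.anti_flip hg ht, Γ.c.z_comm (Γ.c.ι t), mul_inv_cancel_right, ← mul_assoc, Γ.c.z_sq, one_mul]

theorem elt_ι {e : X} (he : Γ.Elt e) :
    ∃ s : SL₂, Γ.c.ι s = e ∧ s ≠ 1 ∧ s ^ l = 1 ∧
      ∃ u : SL₂, u * u = -1 ∧ u * s = s * u ∧ (∀ b : F, (s : M₂) ≠ b • 1) ∧ Grp.SL2.IsSemi s := by
  obtain ⟨s, rfl⟩ := Γ.mem_N.1 he.1
  have hs1 : s ≠ 1 := fun h => he.2.1 (by rw [h, map_one])
  have hs : s ^ l = 1 := Γ.c.ι_inj (by rw [map_pow, map_one]; exact he.2.2)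
  obtain ⟨u, hu, hus, hns⟩ := exists_torus Γ.hl Γ.hl2 Γ.hlt Γ.c.odd hs hs1
  refine ⟨s, rfl, hs1, hs, u, hu, hus, hns, ?_⟩
  have hnu : ¬ Grp.SL2.IsScalar u := fun h => by
    rcases h with rfl | rfl <;>
    · simp at hu
      exact Γ.c.neg_one_ne hu.symm
  refine Grp.SL2.IsSemi.of_commute ⟨hnu, ?_⟩ (fun h => ?_) hus
  · rw [(Grp.SL2.mul_self_eq_neg_one hnu).1 hu, sq, mul_zero]
    exact fun e => Γ.two_ne (mul_self_eq_zero.1 (by linear_combination -e))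
  · rcases h with rfl | rfl
    · exact hs1 rfl
    · exact hns (-1) (by rw [Matrix.SpecialLinearGroup.coe_neg, Matrix.SpecialLinearGroup.coe_one, neg_smul, one_smul])

theorem elt_pow {e : X} (he : Γ.Elt e) {i : ℕ} (hi : ¬ l ∣ i) : Γ.Elt (e ^ i) :=
  ⟨pow_mem he.1 i, fun h => hi (by
    haveI := Fact.mk Γ.hl
    rw [← orderOf_eq_prime he.2.2 he.2.1]
    exact orderOf_dvd_of_pow_eq_one h), by rw [← pow_mul, mul_comm, pow_mul, he.2.2, one_pow]⟩

theorem elt_inv {e : X} (he : Γ.Elt e) : Γ.Elt e⁻¹ :=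
  ⟨inv_mem he.1, inv_ne_one.2 he.2.1, by rw [inv_pow, he.2.2, inv_one]⟩

theorem elt_conj {e : X} (he : Γ.Elt e) (r : X) : Γ.Elt (r * e * r⁻¹) :=
  ⟨Γ.c.normal.conj_mem e he.1 r, fun h => he.2.1 (conj_eq_one_iff.1 h), by rw [conj_pow, he.2.2, mul_one, mul_inv_cancel]⟩

theorem elt_of_mem_zpowers {e e' : X} (he : Γ.Elt e) (h : e' ∈ Subgroup.zpowers e) (h1 : e' ≠ 1) : Γ.Elt e' := by
  obtain ⟨i, rfl⟩ := Subgroup.mem_zpowers_iff.1 h
  exact ⟨zpow_mem he.1 i, h1, by rw [← zpow_natCast, ← _root_.zpow_mul, mul_comm, _root_.zpow_mul, zpow_natCast, he.2.2, _root_.one_zpow]⟩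

/-- Commuting elliptic elements generate the same line. -/
theorem elt_unique {e e' : X} (he : Γ.Elt e) (he' : Γ.Elt e') (h : Commute e e') :
    e' ∈ Subgroup.zpowers e := by
  obtain ⟨s, rfl, hs1, hs, u, -, -, -, hsemi⟩ := Γ.elt_ι he
  obtain ⟨s', rfl, hs1', hs', -⟩ := Γ.elt_ι he'
  have hc : Commute s' s := Γ.c.ι_inj (by rw [map_mul, map_mul]; exact h.eq.symm)
  haveI := Fact.mk Γ.hl
  let a : Dickson.cen s := ⟨s, Dickson.mem_cen.2 (Commute.refl s)⟩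
  let b : Dickson.cen s := ⟨s', Dickson.mem_cen.2 hc⟩
  have ha : orderOf a = l := by rw [← Subgroup.orderOf_coe]; exact orderOf_eq_prime hs hs1
  have hb : orderOf b = l := by rw [← Subgroup.orderOf_coe]; exact orderOf_eq_prime hs' hs1'
  obtain ⟨χ, hχ⟩ := Dickson.exists_char hsemi
  obtain ⟨i, hi⟩ : b ∈ Subgroup.zpowers a := by
    haveI : NeZero l := ⟨Γ.hl.ne_zero⟩
    have hprim : IsPrimitiveRoot (χ a) l := by
      rw [← ha, ← orderOf_injective χ hχ a]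
      exact IsPrimitiveRoot.orderOf _
    obtain ⟨k, -, hk⟩ := hprim.eq_pow_of_pow_eq_one (ξ := χ b) (by rw [← map_pow, ← hb, pow_orderOf_eq_one, map_one])
    rw [← map_pow] at hk
    exact ⟨k, (zpow_natCast a k).trans (hχ hk)⟩
  refine ⟨i, ?_⟩
  show Γ.c.ι s ^ i = Γ.c.ι s'
  rw [← map_zpow]
  exact congrArg Γ.c.ι (congrArg Subtype.val hi)

/-- A non-central involution centralises no elliptic element. -/
theorem nc_not_commute {x e : X} (hx : Γ.NC x) (he : Γ.Elt e) : ¬ Commute x e := by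
  intro h
  obtain ⟨g, hg, htz, hd⟩ := Γ.nc_rep hx
  obtain ⟨s, rfl, hs1, hs, -⟩ := Γ.elt_ι he
  exact not_commute Γ.hl Γ.hl2 Γ.hlt Γ.c.odd htz hd hs hs1 ((Γ.conj_nc hg s).1.1 h.eq.symm)

/-- An element without field part moves an elliptic element of its own line to itself or its inverse. -/
theorem conj_cases {x e : X} (hx : fld (Γ.c.ψ x) = 1) (he : Γ.Elt e) (h : Commute e (x * e * x⁻¹)) :
    x * e * x⁻¹ = e ∨ x * e * x⁻¹ = e⁻¹ := by
  obtain ⟨g, hg⟩ := mem_range_inn.2 hx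
  obtain ⟨s, rfl, hs1, hs, u, -, -, -, hsemi⟩ := Γ.elt_ι he
  rw [Γ.c.conj_ι, ← hg] at h ⊢
  have hc : Commute s (inn g s) := Γ.c.ι_inj (by rw [map_mul, map_mul]; exact h.eq)
  have htr : str (inn g s) = str s := by
    have e := trace_smi g 1 s
    rw [Matrix.trace_fin_two, Matrix.trace_fin_two] at e
    exact e
  rcases eq_or_inv hc.symm.eq htr (fun e => hsemi.2 (by rw [sq]; exact e)) with e | e <;> rw [e]
  · exact Or.inl rfl
  · exact Or.inr (map_inv _ _)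

theorem nc_inv {x e : X} (hx : Γ.NC x) (he : Γ.Elt e) (h : x * e * x⁻¹ ∈ Subgroup.zpowers e) :
    x * e * x⁻¹ = e⁻¹ := by
  obtain ⟨i, hi⟩ := h
  refine (Γ.conj_cases (Γ.fld_two (j := 1) (by rw [pow_one, sq, hx.1])) he (hi ▸ (Commute.refl e).zpow_right i)).resolve_left
    fun e' => Γ.nc_not_commute hx he (mul_inv_eq_iff_eq_mul.1 e')

include Γ in
/-- Every element of square `-1` commutes with an element of order `l`. -/
theorem exists_order_l {t : SL₂} (ht : t * t = -1) : ∃ s : SL₂, s ^ l = 1 ∧ s ≠ 1 ∧ s * t = t * s := by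
  classical
  haveI := Fact.mk Γ.hl
  have hl2 : l ∣ Nat.card SL₂ := by
    rw [card_sl]
    refine dvd_mul_of_dvd_right (Γ.hlt.trans ?_) _
    rw [show Fintype.card F ^ 2 - 1 = (Fintype.card F + 1) * (Fintype.card F - 1) by
      rw [← Nat.sq_sub_sq, one_pow]]
    unfold tE
    split
    · exact dvd_mul_right _ _
    · exact dvd_mul_left _ _
  obtain ⟨s, hs⟩ := exists_prime_orderOf_dvd_card' l hl2
  have hs1 : s ≠ 1 := fun h => by rw [h, orderOf_one] at hs; exact Γ.hl.one_lt.ne hs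
  have hsl : s ^ l = 1 := by rw [← hs, pow_orderOf_eq_one]
  obtain ⟨u, hu, hus, -⟩ := exists_torus Γ.hl Γ.hl2 Γ.hlt Γ.c.odd hsl hs1
  obtain ⟨k, hk⟩ := exists_conj Γ.two_ne (tz_of_sq Γ.c.odd hu) (tz_of_sq Γ.c.odd ht)
    (by rw [u.2]; exact one_ne_zero) (by rw [u.2, t.2])
  refine ⟨inn k s, by rw [← map_pow, hsl, map_one],
    fun h => hs1 ((inn k).injective (h.trans (map_one _).symm)), Subtype.ext ?_⟩
  rw [cmul, cmul, inn_coe, ← hk]
  simp only [Matrix.mul_assoc, Units.inv_mul_cancel_left]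
  rw [← Matrix.mul_assoc (s : M₂), ← cmul, ← hus, cmul, Matrix.mul_assoc]

/-- A non-central involution inverts some elliptic element. -/
theorem exists_inv {w : X} (hw : Γ.NC w) : ∃ e, Γ.Inv w e := by
  obtain ⟨g, hg, htz, hd⟩ := Γ.nc_rep hw
  obtain ⟨t, ht⟩ := exists_anti_sl Γ.c.odd htz g.det_ne_zero
  have hts : TZ (t : M₂) := tz_of_anti Γ.two_ne htz g.det_ne_zero ht
  have htt : t * t = -1 := Subtype.ext (by
    rw [cmul, hts.mul_self, t.2, Matrix.SpecialLinearGroup.coe_neg, Matrix.SpecialLinearGroup.coe_one, neg_smul,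
      one_smul])
  obtain ⟨s, hs, hs1, hst⟩ := Γ.exists_order_l htt
  refine ⟨Γ.c.ι s, ⟨Γ.mem_N.2 ⟨s, rfl⟩, fun h => hs1 (Γ.c.ι_inj (h.trans (map_one _).symm)),
    by rw [← map_pow, hs, map_one]⟩, ?_⟩
  rw [← map_inv]
  refine ((Γ.conj_nc hg s).2 _).2 ?_
  obtain ⟨α, β, hab⟩ := exists_lin (not_scalar_of_tz Γ.two_ne hts (by rw [t.2]; exact one_ne_zero))
    (by rw [← cmul, hst, cmul] : (s : M₂) * (t : M₂) = (t : M₂) * (s : M₂))
  rw [cinv, hab, Matrix.mul_add, mul_smul_comm, mul_one, mul_smul_comm, ht, Matrix.adjugate_fin_two]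
  ext i j
  fin_cases i <;> fin_cases j <;> simp [Matrix.mul_apply, Fin.sum_univ_two, hts.eq] <;> ring

theorem exists_elt : ∃ e, Γ.Elt e :=
  let ⟨e, he, _⟩ := Γ.exists_inv ⟨Γ.w₀_sq, Γ.w₀_ne, Γ.w₀_nez⟩
  ⟨e, he⟩

/-- The centraliser of a non-central involution is transitive on the lines it inverts. -/
theorem trans_inv {w e e' : X} {g : GL₂} (hg : Γ.c.ψ w = inn g) (htz : TZ (g : M₂))
    (hd : ¬ IsSquare (g : M₂).det) (he : Γ.Inv w e) (he' : Γ.Inv w e') :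
    ∃ t : SL₂, (t : M₂) * (g : M₂) = (g : M₂) * (t : M₂) ∧
      Γ.c.ι t * e * (Γ.c.ι t)⁻¹ ∈ Subgroup.zpowers e' := by
  have hg0 := g.det_ne_zero
  have hgs := not_scalar_of_tz Γ.two_ne htz hg0
  -- the matrix of square `-1` of an inverted line anticommutes with `g`
  have key : ∀ e, Γ.Inv w e → ∃ s u : SL₂, Γ.c.ι s = e ∧ (∀ b : F, (s : M₂) ≠ b • 1) ∧ u * u = -1 ∧
      u * s = s * u ∧ (g : M₂) * (u : M₂) = -((u : M₂) * (g : M₂)) := by
    intro e he
    obtain ⟨s, rfl, hs1, hs, u, hu, hus, hns, hsemi⟩ := Γ.elt_ι he.1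
    refine ⟨s, u, rfl, hns, hu, hus, ?_⟩
    set u' := inn g u
    have hsinv : inn g s = s⁻¹ := Γ.c.ι_inj (by rw [← hg, ← Γ.c.conj_ι, he.2, map_inv])
    have hc : Commute u' s := by
      have h1 : Commute u' s⁻¹ := by rw [← hsinv]; exact (show Commute u s from hus).map (inn g)
      exact Commute.inv_right_iff.1 h1
    have hc' : Commute u' u := Grp.SL2.commute_trans hsemi.1 hc (show Commute u s from hus).symm
    have hnu : ¬ Grp.SL2.IsScalar u := fun h => by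
      rcases h with rfl | rfl <;>
      · simp at hu
        exact Γ.c.neg_one_ne hu.symm
    have htr : str u' = str u := by
      have e := trace_smi g 1 u
      rw [Matrix.trace_fin_two, Matrix.trace_fin_two] at e
      exact e
    have hss : str u * str u ≠ 4 := by
      have h0 : str u = 0 := (Grp.SL2.mul_self_eq_neg_one hnu).1 hu
      rw [h0, mul_zero]
      exact fun e => Γ.two_ne (mul_self_eq_zero.1 (by linear_combination -e))
    have huu : ((u' : SL₂) : M₂) * (g : M₂) = (g : M₂) * (u : M₂) := by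
      rw [inn_coe, Units.inv_mul_cancel_right]
    rcases eq_or_inv hc'.eq htr hss with h | h
    · exfalso
      rw [h] at huu
      refine not_commute Γ.hl Γ.hl2 Γ.hlt Γ.c.odd htz hd hs hs1 ?_
      exact commute_of_commute (not_scalar_of_tz Γ.two_ne (tz_of_sq Γ.c.odd hu) (by rw [u.2]; exact one_ne_zero))
        (by rw [← cmul, ← hus, cmul]) huu.symm
    · have hui : u⁻¹ = -u := inv_eq_of_mul_eq_one_right (by rw [mul_neg, hu, neg_neg])
      rw [h, hui, Matrix.SpecialLinearGroup.coe_neg, neg_mul] at huu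
      exact huu.symm
  obtain ⟨s, u, rfl, hns, hu, hus, hgu⟩ := key e he
  obtain ⟨s', u', rfl, hns', hu', hus', hgu'⟩ := key e' he'
  have hui : u⁻¹ = -u := inv_eq_of_mul_eq_one_right (by rw [mul_neg, hu, neg_neg])
  set v : SL₂ := u' * u⁻¹ with hv
  have hvg : (v : M₂) * (g : M₂) = (g : M₂) * (v : M₂) := by
    rw [hv, hui, cmul, Matrix.SpecialLinearGroup.coe_neg, Matrix.mul_neg, Matrix.mul_neg, Matrix.neg_mul,
      ← Matrix.mul_assoc, hgu', Matrix.neg_mul, Matrix.mul_assoc, Matrix.mul_assoc, hgu, Matrix.mul_neg, neg_neg]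
  have hq := Nat.odd_iff.1 Γ.c.odd
  obtain ⟨m, hm⟩ : ∃ m, tT (Fintype.card F) = 2 * (2 * m + 1) := by
    refine ⟨tT (Fintype.card F) / 4, ?_⟩
    unfold tT; split <;> omega
  have hvp := pow_tT Γ.c.odd htz hd hvg
  rw [hm, mul_comm, pow_mul, sq] at hvp
  obtain ⟨ε, hε, hεv⟩ : ∃ ε : SL₂, (ε = 1 ∨ ε = -1) ∧ (ε * v) ^ (2 * m + 1) = 1 := by
    rcases eq_one_or_neg_one Γ.c.odd hvp with h | h
    · exact ⟨1, Or.inl rfl, by rw [one_mul]; exact h⟩
    · refine ⟨-1, Or.inr rfl, ?_⟩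
      rw [(Commute.neg_one_left v).mul_pow, h, Odd.neg_one_pow ⟨m, rfl⟩, neg_one_mul, neg_neg]
  set t := (ε * v) ^ (m + 1) with ht
  have ht2 : t * t = ε * v := by
    rw [ht, ← pow_add, show m + 1 + (m + 1) = 2 * m + 1 + 1 by omega, pow_succ, hεv, one_mul]
  have hεg : ((ε * v : SL₂) : M₂) * (g : M₂) = (g : M₂) * ((ε * v : SL₂) : M₂) := by
    rcases hε with rfl | rfl
    · rw [one_mul]; exact hvg
    · rw [neg_one_mul, Matrix.SpecialLinearGroup.coe_neg, Matrix.neg_mul, Matrix.mul_neg, hvg]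
  have htg : (t : M₂) * (g : M₂) = (g : M₂) * (t : M₂) := by
    rw [ht, cpow]
    exact (Commute.pow_left (show Commute _ (g : M₂) from hεg) (m + 1)).eq
  -- `u` inverts `t`
  have hut : t * u = u * t⁻¹ := by
    obtain ⟨α, β, hab⟩ := exists_lin hgs htg
    refine Subtype.ext ?_
    rw [cmul, cmul, cinv, hab]
    have htu := tz_of_sq Γ.c.odd hu
    rw [Matrix.adjugate_fin_two]
    have h00 := congrFun (congrFun hgu 0) 0
    have h01 := congrFun (congrFun hgu 0) 1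
    have h10 := congrFun (congrFun hgu 1) 0
    have h11 := congrFun (congrFun hgu 1) 1
    simp only [Matrix.mul_apply, Matrix.neg_apply, Fin.sum_univ_two, htz.eq] at h00 h01 h10 h11
    ext i j
    fin_cases i <;> fin_cases j <;> simp [Matrix.mul_apply, Fin.sum_univ_two, htz.eq] <;>
      first
        | linear_combination β * h00
        | linear_combination β * h01
        | linear_combination β * h10
        | linear_combination β * h11
  refine ⟨t, htg, ?_⟩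
  have hconj : t * u * t⁻¹ = ε * u' := by
    calc t * u * t⁻¹ = t * (t * u) := by rw [mul_assoc, ← hut]
      _ = ε * (v * u) := by rw [← mul_assoc, ht2, mul_assoc]
      _ = ε * u' := by rw [hv, inv_mul_cancel_right]
  have he1 : Γ.Elt (Γ.c.ι t * Γ.c.ι s * (Γ.c.ι t)⁻¹) := Γ.elt_conj he.1 _
  refine Γ.elt_unique he'.1 he1 ?_
  rw [Γ.conj_ι_ι]
  refine (show Commute s' (t * s * t⁻¹) from ?_).map Γ.c.ι
  have h1 : Commute (t * s * t⁻¹) (t * u * t⁻¹) := (show Commute s u from hus.symm).map (MulAut.conj t)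
  rw [hconj] at h1
  have h2 : Commute (t * s * t⁻¹) u' := by
    rcases hε with rfl | rfl
    · rwa [one_mul] at h1
    · rw [neg_one_mul] at h1
      simpa using h1.neg_right
  refine Subtype.ext ?_
  rw [cmul s', cmul (t * s * t⁻¹) s']
  exact commute_of_commute (not_scalar_of_tz Γ.two_ne (tz_of_sq Γ.c.odd hu') (by rw [u'.2]; exact one_ne_zero))
    (by rw [← cmul, ← hus', cmul]) (congrArg Subtype.val h2.eq)

end Gam

end Cfsg.Agent.Invol.AbgOrder.Ell
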