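import Cfsg.Agent.Lib.Invol.AbgOrder.EllBase

/-!
# Layers and their functionals

A layer is an `l`-subgroup `A` with a subgroup `A₀` over which it is elementary, both invariant under the four-group
`⟨z, w⟩`, the first elliptic at `z`, the second not.  The functional is the elliptic image of the part centralised by `z`.
-/

set_option autoImplicit false
set_option linter.unusedSectionVars false
set_option linter.style.haveILetI false

namespace Cfsg.Agent.Invol.AbgOrder.Ell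

open Subgroup Matrix Cfsg.Agent.Classical
open scoped commutatorElement

universe u v

namespace Sett

variable {G : Type u} [Group G] [Finite G] {X : Type u} [Group X] [Finite X] {F : Type v} [Field F] [Fintype F]
  {l : ℕ} {Γ : Gam X F l}

/-- A second involution of the centralizer. -/
structure Four (St : Sett G Γ) where
  w : G
  mem : w ∈ St.C
  sq : w * w = 1
  ne : w ≠ 1
  nez : w ≠ St.z

namespace Four

variable {St : Sett G Γ} (V : St.Four)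

/-- Its image. -/
def img : X := St.φ ⟨V.w, V.mem⟩

theorem comm : Commute V.w St.z := St.mem_C.1 V.mem

theorem inv : V.w⁻¹ = V.w := inv_eq_of_mul_eq_one_right V.sq

theorem nc : Γ.NC V.img := St.nc (b := ⟨V.w, V.mem⟩) V.sq V.ne V.nez

theorem img_sq : V.img * V.img = 1 := V.nc.1

theorem exists_swap : ∃ g, g * St.z * g⁻¹ = V.w ∧ g * V.w * g⁻¹ = St.z := by
  obtain ⟨g, h1, h2⟩ :=
    St.exists_pair V.mem V.sq V.ne V.nez (b := V.w) (b' := St.z) V.sq V.ne St.z_sq St.z_ne V.nez.symm V.comm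
  exact ⟨g, h2, h1⟩

/-- Without elliptic elements, an invariant `l`-subgroup of the centralizer is centralised in the image. -/
theorem commute_img {B : Subgroup G} (hB : IsPGroup l B) (hwB : V.w ∈ normalizer (B : Set G))
    (h : ¬ St.EllAt St.z B) {c : St.C} (hc : (c : G) ∈ B) : Commute V.img (St.φ c) :=
  Γ.fixed_of_no_elt (St.img_isPGroup hB) (St.img_normalizer (c := ⟨V.w, V.mem⟩) hwB)
    (fun e he hE => by
      obtain ⟨y, hy, rfl⟩ := St.mem_img.1 he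
      exact h (St.ellAt_z.2 ⟨y, hy, hE⟩)) (St.mem_img.2 ⟨c, hc, rfl⟩)

end Four

/-- A layer. -/
structure Lay {St : Sett G Γ} (V : St.Four) (A A₀ : Subgroup G) : Prop where
  le : A₀ ≤ A
  pgrp : IsPGroup l A
  comm : ⁅A, A⁆ ≤ A₀
  pow : ∀ a ∈ A, a ^ l ∈ A₀
  zA : St.z ∈ normalizer (A : Set G)
  wA : V.w ∈ normalizer (A : Set G)
  zA₀ : St.z ∈ normalizer (A₀ : Set G)
  wA₀ : V.w ∈ normalizer (A₀ : Set G)
  ell : St.EllAt St.z A
  nell : ¬ St.EllAt St.z A₀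

open scoped _root_.Classical in
/-- The functional. -/
noncomputable def Four.f {St : Sett G Γ} (V : St.Four) (A A₀ : Subgroup G) (a : G) : X :=
  if h : ∃ c : St.C, (c : G) ∈ A ∧ (c : G)⁻¹ * (a * (St.z * a * St.z⁻¹)) ∈ A₀ then
    St.φ h.choose * V.img * (St.φ h.choose)⁻¹ * V.img⁻¹
  else 1

namespace Lay

variable {St : Sett G Γ} {V : St.Four} {A A₀ : Subgroup G} (L : Lay V A A₀)
include L

theorem normal₀ {a y : G} (ha : a ∈ A) (hy : y ∈ A₀) : a * y * a⁻¹ ∈ A₀ := by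
  have h := mul_mem (L.comm (Subgroup.commutator_mem_commutator ha (L.le hy))) hy
  rwa [commutatorElement_def, inv_mul_cancel_right] at h

theorem odd_A₀ : Odd (Nat.card A₀) := by
  haveI := Fact.mk Γ.hl
  obtain ⟨k, hk⟩ := IsPGroup.iff_card.1 (L.pgrp.to_le L.le)
  rw [hk]
  exact (Γ.hl.odd_of_ne_two Γ.hl2).pow

theorem w₀ {c : St.C} (hc : (c : G) ∈ A₀) : Commute V.img (St.φ c) :=
  V.commute_img (L.pgrp.to_le L.le) L.wA₀ L.nell hc

/-- The commutator with the involution is central in the image of `A ⊓ C`. -/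
theorem comm_central {c : St.C} (hc : (c : G) ∈ A) :
    (St.φ c * V.img * (St.φ c)⁻¹ * V.img⁻¹) ^ l = 1 ∧
      ∀ y : St.C, (y : G) ∈ A → Commute (St.φ y) (St.φ c * V.img * (St.φ c)⁻¹ * V.img⁻¹) := by
  haveI := Fact.mk Γ.hl
  set W : St.C := ⟨V.w, V.mem⟩ with hW
  set d : St.C := c * W * c⁻¹ * W⁻¹ with hd
  have hdA : (d : G) ∈ A := by
    show (c : G) * V.w * (c : G)⁻¹ * V.w⁻¹ ∈ A
    rw [show (c : G) * V.w * (c : G)⁻¹ * V.w⁻¹ = c * (V.w * (c : G)⁻¹ * V.w⁻¹) by group]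
    exact A.mul_mem hc ((Subgroup.mem_normalizer_iff.1 L.wA _).1 (A.inv_mem hc))
  set x := St.φ c * V.img * (St.φ c)⁻¹ * V.img⁻¹ with hx
  have hxd : St.φ d = x := by rw [hd, map_mul, map_mul, map_mul, map_inv, map_inv]; rfl
  have hxN : x ∈ Γ.c.N := Γ.comm_mem_N _ _
  have hxl : x ^ l = 1 := by
    by_contra hne
    obtain ⟨k, hk⟩ := L.pgrp ⟨_, hdA⟩
    have hxk : x ^ l ^ k = 1 := by
      rw [← hxd, ← map_pow, show d ^ l ^ k = 1 from Subtype.ext (by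
        have := congrArg Subtype.val hk
        simpa only [SubmonoidClass.coe_pow, OneMemClass.coe_one] using this), map_one]
    obtain ⟨j, -, hj⟩ := (Nat.dvd_prime_pow Γ.hl).1 (orderOf_dvd_of_pow_eq_one hxk)
    have hj2 : 2 ≤ j := by
      by_contra h
      refine hne (orderOf_dvd_iff_pow_eq_one.1 (hj ▸ ?_))
      exact (pow_dvd_pow l (show j ≤ 1 by omega)).trans (by rw [pow_one])
    set y := x ^ l ^ (j - 1) with hy
    have hy1 : y ≠ 1 := pow_ne_one_of_lt_orderOf (pow_ne_zero _ Γ.hl.ne_zero) (by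
      rw [hj]; exact Nat.pow_lt_pow_right Γ.hl.one_lt (by omega))
    have hyl : y ^ l = 1 := by
      rw [hy, ← pow_mul, ← pow_succ, show j - 1 + 1 = j by omega, ← hj, pow_orderOf_eq_one]
    refine L.nell (St.ellAt_z.2 ⟨d ^ l ^ (j - 1), ?_, by rw [map_pow, hxd]; exact ⟨pow_mem hxN _, hy1, hyl⟩⟩)
    rw [SubmonoidClass.coe_pow, show l ^ (j - 1) = l ^ (j - 2) * l by rw [← pow_succ]; congr 1; omega, pow_mul]
    exact L.pow _ (pow_mem hdA _)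
  refine ⟨hxl, fun y hy => ?_⟩
  by_cases hx1 : x = 1
  · rw [hx1]; exact Commute.one_right _
  obtain ⟨e₀, he₀, he₀'⟩ := St.ellAt_z.1 L.ell
  obtain ⟨e, -, he, hec⟩ := Γ.elt_central (St.img_isPGroup L.pgrp) (St.mem_img.2 ⟨e₀, he₀, rfl⟩) he₀'.1 he₀'.2.1
  have hxe : Commute x e := hec x (St.mem_img.2 ⟨d, hdA, hxd⟩)
  obtain ⟨i, hi⟩ := Subgroup.mem_zpowers_iff.1 (Γ.elt_unique he ⟨hxN, hx1, hxl⟩ hxe.symm)
  rw [← hi]
  exact (hec _ (St.mem_img.2 ⟨y, hy, rfl⟩)).zpow_right i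

theorem exists_c {a : G} (ha : a ∈ A) :
    ∃ c : St.C, (c : G) ∈ A ∧ (c : G)⁻¹ * (a * (St.z * a * St.z⁻¹)) ∈ A₀ := by
  set za := St.z * a * St.z⁻¹ with hza
  have hzaA : za ∈ A := (Subgroup.mem_normalizer_iff.1 L.zA _).1 ha
  set c₀ := a * za with hc₀
  have hc₀A : c₀ ∈ A := A.mul_mem ha hzaA
  have hzz : St.z * za * St.z⁻¹ = a := by
    rw [hza, show St.z * (St.z * a * St.z⁻¹) * St.z⁻¹ = St.z * St.z * a * (St.z * St.z)⁻¹ by group, St.z_sq,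
      one_mul, inv_one, mul_one]
  have h1 : c₀⁻¹ * (St.z * c₀ * St.z⁻¹) ∈ A₀ := by
    rw [hc₀, show St.z * (a * za) * St.z⁻¹ = za * (St.z * za * St.z⁻¹) by rw [hza]; group, hzz,
      _root_.mul_inv_rev, show za⁻¹ * a⁻¹ * (za * a) = ⁅za⁻¹, a⁻¹⁆ by rw [commutatorElement_def, inv_inv, inv_inv]; group]
    exact L.comm (Subgroup.commutator_mem_commutator (inv_mem hzaA) (inv_mem ha))
  obtain ⟨m, hm, hcm⟩ := exists_fix St.z_sq L.odd_A₀ h1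
  refine ⟨⟨c₀ * m, St.mem_C.2 hcm.symm⟩, A.mul_mem hc₀A (L.le hm), ?_⟩
  show (c₀ * m)⁻¹ * c₀ ∈ A₀
  rw [_root_.mul_inv_rev, inv_mul_cancel_right]
  exact inv_mem hm

theorem f_eq {a : G} {c : St.C} (hc : (c : G) ∈ A) (h : (c : G)⁻¹ * (a * (St.z * a * St.z⁻¹)) ∈ A₀) :
    V.f A A₀ a = St.φ c * V.img * (St.φ c)⁻¹ * V.img⁻¹ := by
  have hex : ∃ c : St.C, (c : G) ∈ A ∧ (c : G)⁻¹ * (a * (St.z * a * St.z⁻¹)) ∈ A₀ := ⟨c, hc, h⟩
  rw [Four.f, dif_pos hex]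
  obtain ⟨hc'A, hc'⟩ := hex.choose_spec
  set c' := hex.choose
  have hd : ((c'⁻¹ * c : St.C) : G) ∈ A₀ := by
    have := mul_mem hc' (inv_mem h)
    rwa [_root_.mul_inv_rev, inv_inv, ← mul_assoc, mul_inv_cancel_right] at this
  have hw := L.w₀ hd
  have e : c = c' * (c'⁻¹ * c) := by rw [mul_inv_cancel_left]
  conv_rhs => rw [e, map_mul]
  rw [show St.φ c' * St.φ (c'⁻¹ * c) * V.img * (St.φ c' * St.φ (c'⁻¹ * c))⁻¹ =
    St.φ c' * (St.φ (c'⁻¹ * c) * V.img * (St.φ (c'⁻¹ * c))⁻¹) * (St.φ c')⁻¹ by group, ← hw.eq, mul_inv_cancel_right]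

theorem f_mul {a b : G} (ha : a ∈ A) (hb : b ∈ A) : V.f A A₀ (a * b) = V.f A A₀ a * V.f A A₀ b := by
  obtain ⟨c, hc, hca⟩ := L.exists_c ha
  obtain ⟨d, hd, hdb⟩ := L.exists_c hb
  set za := St.z * a * St.z⁻¹ with hza
  set zb := St.z * b * St.z⁻¹ with hzb
  have hzaA : za ∈ A := (Subgroup.mem_normalizer_iff.1 L.zA _).1 ha
  have hzbA : zb ∈ A := (Subgroup.mem_normalizer_iff.1 L.zA _).1 hb
  have h : ((c * d : St.C) : G)⁻¹ * (a * b * (St.z * (a * b) * St.z⁻¹)) ∈ A₀ := by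
    set x := (c : G)⁻¹ * (a * za) with hx
    set y := (d : G)⁻¹ * (b * zb) with hy
    have hk : (a * za * b)⁻¹ * (a * b * za) ∈ A₀ := by
      rw [show (a * za * b)⁻¹ * (a * b * za) = ⁅b⁻¹, za⁻¹⁆ by rw [commutatorElement_def, inv_inv, inv_inv]; group]
      exact L.comm (Subgroup.commutator_mem_commutator (inv_mem hb) (inv_mem hzaA))
    have hkk := L.normal₀ (inv_mem hzbA) hk
    have hxx := L.normal₀ (inv_mem hd) hca
    rw [show ((c * d : St.C) : G)⁻¹ * (a * b * (St.z * (a * b) * St.z⁻¹)) =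
        (((d : G)⁻¹ * x * ((d : G)⁻¹)⁻¹) * y) * (zb⁻¹ * ((a * za * b)⁻¹ * (a * b * za)) * zb⁻¹⁻¹) by
      rw [hx, hy, hzb, hza, Subgroup.coe_mul]; group]
    exact mul_mem (mul_mem hxx hdb) hkk
  rw [L.f_eq (A.mul_mem hc hd) h, L.f_eq hc hca, L.f_eq hd hdb, map_mul]
  have hcen := (L.comm_central hd).2 c hc
  calc St.φ c * St.φ d * V.img * (St.φ c * St.φ d)⁻¹ * V.img⁻¹
      = St.φ c * (St.φ d * V.img * (St.φ d)⁻¹ * V.img⁻¹) * (V.img * (St.φ c)⁻¹ * V.img⁻¹) := by group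
    _ = (St.φ d * V.img * (St.φ d)⁻¹ * V.img⁻¹) * (St.φ c * V.img * (St.φ c)⁻¹ * V.img⁻¹) := by
      rw [hcen.eq]; group
    _ = _ := by
      have hdd : ((c * ⟨V.w, V.mem⟩ * c⁻¹ * (⟨V.w, V.mem⟩ : St.C)⁻¹ : St.C) : G) ∈ A := by
        show (c : G) * V.w * (c : G)⁻¹ * V.w⁻¹ ∈ A
        rw [show (c : G) * V.w * (c : G)⁻¹ * V.w⁻¹ = c * (V.w * (c : G)⁻¹ * V.w⁻¹) by group]
        exact A.mul_mem hc ((Subgroup.mem_normalizer_iff.1 L.wA _).1 (A.inv_mem hc))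
      have h2 := (L.comm_central hd).2 _ hdd
      rw [map_mul, map_mul, map_mul, map_inv, map_inv] at h2
      exact h2.eq.symm

theorem f_one : V.f A A₀ 1 = 1 := by
  have h := L.f_mul A.one_mem A.one_mem
  rwa [one_mul, left_eq_mul] at h

theorem f_inv {a : G} (ha : a ∈ A) : V.f A A₀ a⁻¹ = (V.f A A₀ a)⁻¹ := by
  have h := L.f_mul (A.inv_mem ha) ha
  rw [inv_mul_cancel, L.f_one] at h
  exact eq_inv_of_mul_eq_one_left h.symm

theorem f_A₀ {a : G} (ha : a ∈ A₀) : V.f A A₀ a = 1 := by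
  rw [L.f_eq (c := 1) A.one_mem (by
    rw [OneMemClass.coe_one, inv_one, one_mul]
    exact mul_mem ha ((Subgroup.mem_normalizer_iff.1 L.zA₀ _).1 ha))]
  simp

/-- Elements inverted by `z` modulo `A₀`. -/
theorem f_neg {a : G} (h : a * (St.z * a * St.z⁻¹) ∈ A₀) : V.f A A₀ a = 1 := by
  rw [L.f_eq (c := 1) A.one_mem (by rwa [OneMemClass.coe_one, inv_one, one_mul])]
  simp

theorem f_fix {c : St.C} (hc : (c : G) ∈ A) :
    V.f A A₀ c = (St.φ c * V.img * (St.φ c)⁻¹ * V.img⁻¹) ^ 2 := by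
  rw [L.f_eq (c := c * c) (A.mul_mem hc hc) (by
    rw [show St.z * (c : G) * St.z⁻¹ = c by rw [← (St.mem_C.1 c.2).eq, mul_inv_cancel_right], Subgroup.coe_mul,
      inv_mul_cancel]
    exact one_mem _), map_mul]
  have hcen := (L.comm_central hc).2 c hc
  calc St.φ c * St.φ c * V.img * (St.φ c * St.φ c)⁻¹ * V.img⁻¹
      = St.φ c * (St.φ c * V.img * (St.φ c)⁻¹ * V.img⁻¹) * (V.img * (St.φ c)⁻¹ * V.img⁻¹) := by group
    _ = (St.φ c * V.img * (St.φ c)⁻¹ * V.img⁻¹) * (St.φ c * (V.img * (St.φ c)⁻¹ * V.img⁻¹)) := by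
      rw [hcen.eq, mul_assoc]
    _ = _ := by rw [sq]; group

/-- Elements of `C` centralised by `w` in the image. -/
theorem f_cen {c : St.C} (hc : (c : G) ∈ A) (h : Commute (St.φ c) V.img) : V.f A A₀ c = 1 := by
  rw [L.f_fix hc, h.eq, mul_inv_cancel_right, mul_inv_cancel, one_pow]

theorem f_nontriv : ∃ a ∈ A, V.f A A₀ a ≠ 1 := by
  obtain ⟨y, hy, ⟨he, hinv⟩, -⟩ := St.exists_elt_inv V.mem V.sq V.ne V.nez L.pgrp L.wA L.ell
  refine ⟨y, hy, ?_⟩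
  rw [L.f_fix hy, show St.φ y * V.img * (St.φ y)⁻¹ * V.img⁻¹ = St.φ y * (V.img * (St.φ y)⁻¹ * V.img⁻¹) by group,
    show V.img * (St.φ y)⁻¹ * V.img⁻¹ = (V.img * St.φ y * V.img⁻¹)⁻¹ by group, show V.img * St.φ y * V.img⁻¹ =
    (St.φ y)⁻¹ from hinv, inv_inv]
  intro h
  have h4 : St.φ y ^ 4 = 1 := by rw [show (4 : ℕ) = 2 * 2 from rfl, pow_mul, sq (St.φ y)]; exact h
  haveI := Fact.mk Γ.hl
  have hd := orderOf_dvd_of_pow_eq_one h4
  rw [orderOf_eq_prime he.2.2 he.2.1] at hd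
  exact Γ.hl2 ((Nat.prime_dvd_prime_iff_eq Γ.hl Nat.prime_two).1 (Γ.hl.dvd_of_dvd_pow (m := 2) (n := 2) hd))

theorem f_pow {a : G} (ha : a ∈ A) : V.f A A₀ a ^ l = 1 := by
  obtain ⟨c, hc, h⟩ := L.exists_c ha
  rw [L.f_eq hc h]
  exact (L.comm_central hc).1

/-- Elements of an invariant subgroup without elliptic elements. -/
theorem f_zero {B : Subgroup G} (hBA : B ≤ A) (hzB : St.z ∈ normalizer (B : Set G))
    (hwB : V.w ∈ normalizer (B : Set G)) (hB : ¬ St.EllAt St.z B) {a : G} (ha : a ∈ B) : V.f A A₀ a = 1 := by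
  set za := St.z * a * St.z⁻¹ with hza
  have hzaB : za ∈ B := (Subgroup.mem_normalizer_iff.1 hzB _).1 ha
  set c₀ := a * za with hc₀
  have hzz : St.z * za * St.z⁻¹ = a := by
    rw [hza, show St.z * (St.z * a * St.z⁻¹) * St.z⁻¹ = St.z * St.z * a * (St.z * St.z)⁻¹ by group, St.z_sq,
      one_mul, inv_one, mul_one]
  have h1 : c₀⁻¹ * (St.z * c₀ * St.z⁻¹) ∈ A₀ ⊓ B := by
    rw [hc₀, show St.z * (a * za) * St.z⁻¹ = za * (St.z * za * St.z⁻¹) by rw [hza]; group, hzz]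
    refine ⟨?_, B.mul_mem (B.inv_mem (B.mul_mem ha hzaB)) (B.mul_mem hzaB ha)⟩
    rw [_root_.mul_inv_rev, show za⁻¹ * a⁻¹ * (za * a) = ⁅za⁻¹, a⁻¹⁆ by
      rw [commutatorElement_def, inv_inv, inv_inv]; group]
    exact L.comm (Subgroup.commutator_mem_commutator (inv_mem (hBA hzaB)) (inv_mem (hBA ha)))
  obtain ⟨m, hm, hcm⟩ := exists_fix St.z_sq (L.odd_A₀.of_dvd_nat (Subgroup.card_dvd_of_le inf_le_left)) h1
  have hcB : c₀ * m ∈ B := B.mul_mem (B.mul_mem ha hzaB) hm.2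
  rw [L.f_eq (c := ⟨c₀ * m, St.mem_C.2 hcm.symm⟩) (hBA hcB) (by
    show (c₀ * m)⁻¹ * c₀ ∈ A₀
    rw [_root_.mul_inv_rev, inv_mul_cancel_right]
    exact inv_mem hm.1), ← (V.commute_img (L.pgrp.to_le hBA) hwB hB (c := ⟨c₀ * m, St.mem_C.2 hcm.symm⟩) hcB).eq,
    mul_inv_cancel_right, mul_inv_cancel]

/-- Equivariance. -/
theorem f_conj {h : St.C} (hA : (h : G) ∈ normalizer (A : Set G)) (hA₀ : (h : G) ∈ normalizer (A₀ : Set G))
    (hw : St.φ h * V.img * (St.φ h)⁻¹ = V.img ∨ St.φ h * V.img * (St.φ h)⁻¹ = Γ.c.z * V.img)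
    {a : G} (ha : a ∈ A) : V.f A A₀ ((h : G) * a * (h : G)⁻¹) = St.φ h * V.f A A₀ a * (St.φ h)⁻¹ := by
  obtain ⟨c, hc, hca⟩ := L.exists_c ha
  have hcA : ((h * c * h⁻¹ : St.C) : G) ∈ A := (Subgroup.mem_normalizer_iff.1 hA _).1 hc
  have hzh : St.z * (h : G) = h * St.z := (St.mem_C.1 h.2).eq.symm
  rw [L.f_eq hcA (by
    have e : ((h * c * h⁻¹ : St.C) : G)⁻¹ * ((h : G) * a * (h : G)⁻¹ * (St.z * ((h : G) * a * (h : G)⁻¹) * St.z⁻¹)) =
        (h : G) * ((c : G)⁻¹ * (a * (St.z * a * St.z⁻¹))) * (h : G)⁻¹ := by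
      rw [show St.z * ((h : G) * a * (h : G)⁻¹) * St.z⁻¹ = (h : G) * (St.z * a * St.z⁻¹) * (h : G)⁻¹ by
        rw [← mul_assoc, ← mul_assoc, hzh, mul_assoc _ (h : G)⁻¹ St.z⁻¹, ← _root_.mul_inv_rev, hzh,
          _root_.mul_inv_rev]
        group]
      simp only [Subgroup.coe_mul, InvMemClass.coe_inv]
      group
    rw [e]
    exact (Subgroup.mem_normalizer_iff.1 hA₀ _).1 hca), L.f_eq hc hca, map_mul, map_mul, map_inv]
  set H := St.φ h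
  set c' := St.φ c
  rcases hw with hw | hw
  · have e1 : H * V.img = V.img * H := mul_inv_eq_iff_eq_mul.1 hw
    calc H * c' * H⁻¹ * V.img * (H * c' * H⁻¹)⁻¹ * V.img⁻¹
        = H * c' * (H⁻¹ * (V.img * H)) * c'⁻¹ * (H⁻¹ * V.img⁻¹) := by group
      _ = H * c' * (H⁻¹ * (H * V.img)) * c'⁻¹ * (V.img * H)⁻¹ := by rw [e1, _root_.mul_inv_rev]
      _ = H * c' * (H⁻¹ * (H * V.img)) * c'⁻¹ * (H * V.img)⁻¹ := by rw [e1]
      _ = _ := by group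
  · have e1 : H * V.img = Γ.c.z * V.img * H := mul_inv_eq_iff_eq_mul.1 hw
    have e2 : V.img * H = Γ.c.z * (H * V.img) := by
      rw [e1, ← mul_assoc, ← mul_assoc, Γ.c.z_sq, one_mul]
    calc H * c' * H⁻¹ * V.img * (H * c' * H⁻¹)⁻¹ * V.img⁻¹
        = H * c' * (H⁻¹ * (V.img * H)) * c'⁻¹ * (V.img * H)⁻¹ := by group
      _ = H * c' * (H⁻¹ * (Γ.c.z * (H * V.img))) * c'⁻¹ * (Γ.c.z * (H * V.img))⁻¹ := by rw [e2]
      _ = H * c' * (H⁻¹ * Γ.c.z * H * V.img) * c'⁻¹ * (V.img⁻¹ * H⁻¹ * Γ.c.z⁻¹) := by group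
      _ = H * c' * (Γ.c.z * V.img) * c'⁻¹ * (V.img⁻¹ * H⁻¹ * Γ.c.z⁻¹) := by
        rw [mul_assoc H⁻¹ Γ.c.z H, ← Γ.c.z_comm H, inv_mul_cancel_left]
      _ = H * (c' * Γ.c.z) * V.img * c'⁻¹ * V.img⁻¹ * H⁻¹ * Γ.c.z⁻¹ := by group
      _ = (H * Γ.c.z) * c' * V.img * c'⁻¹ * V.img⁻¹ * H⁻¹ * Γ.c.z⁻¹ := by rw [Γ.c.z_comm c']; group
      _ = Γ.c.z * (H * (c' * V.img * c'⁻¹ * V.img⁻¹) * H⁻¹) * Γ.c.z⁻¹ := by rw [Γ.c.z_comm H]; group
      _ = _ := by rw [← Γ.c.z_comm, mul_inv_cancel_right]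

theorem f_w {a : G} (ha : a ∈ A) : V.f A A₀ (V.w * a * V.w⁻¹) = (V.f A A₀ a)⁻¹ := by
  rw [L.f_conj (h := ⟨V.w, V.mem⟩) L.wA L.wA₀ (Or.inl (mul_inv_cancel_right _ _)) ha]
  obtain ⟨c, hc, hca⟩ := L.exists_c ha
  rw [L.f_eq hc hca]
  show V.img * _ * V.img⁻¹ = _
  have hi : V.img⁻¹ = V.img := inv_eq_of_mul_eq_one_right V.img_sq
  simp only [_root_.mul_inv_rev, inv_inv, hi, mul_assoc]
  rw [V.img_sq, mul_one]

theorem f_z {a : G} (ha : a ∈ A) : V.f A A₀ (St.z * a * St.z⁻¹) = V.f A A₀ a := by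
  have h := L.f_conj (h := ⟨St.z, St.z_mem⟩) L.zA L.zA₀ (Or.inl (by
    rw [St.map_z, ← Γ.c.z_comm, mul_inv_cancel_right])) ha
  rw [St.map_z, ← Γ.c.z_comm, mul_inv_cancel_right] at h
  exact h

/-- No element elliptic at `w` of a covering subgroup of its centralizer fixes the functional. -/
theorem l1 {C₀ : Subgroup G} (hA : C₀ ≤ normalizer (A : Set G)) (hA₀ : C₀ ≤ normalizer (A₀ : Set G))
    (hz : St.z ∈ C₀) (hw : V.w ∈ C₀) {g : G} (hgz : g * St.z * g⁻¹ = V.w) (hgw : g * V.w * g⁻¹ = St.z)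
    (hcov : St.Cov (cj g C₀)) {y : St.C} (hy : (y : G) ∈ cj g C₀) (he : Γ.Elt (St.φ y))
    (hfix : ∀ a ∈ A, V.f A A₀ (g⁻¹ * y * g * a * (g⁻¹ * y * g)⁻¹) = V.f A A₀ a) : False := by
  classical
  let H₁ : Subgroup G :=
    { carrier := {h | h ∈ C₀ ∧ Commute h V.w ∧ ∀ a ∈ A, V.f A A₀ (h * a * h⁻¹) = 1 ↔ V.f A A₀ a = 1}
      one_mem' := ⟨one_mem _, Commute.one_left _, fun a _ => by rw [one_mul, inv_one, mul_one]⟩
      mul_mem' := fun {x x'} hx hx' => ⟨mul_mem hx.1 hx'.1, hx.2.1.mul_left hx'.2.1, fun a ha => by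
        rw [show x * x' * a * (x * x')⁻¹ = x * (x' * a * x'⁻¹) * x⁻¹ by group,
          hx.2.2 _ ((Subgroup.mem_normalizer_iff.1 (hA hx'.1) _).1 ha), hx'.2.2 a ha]⟩
      inv_mem' := fun {x} hx => ⟨inv_mem hx.1, hx.2.1.inv_left, fun a ha => by
        have h := hx.2.2 (x⁻¹ * a * x⁻¹⁻¹) ((Subgroup.mem_normalizer_iff.1 (hA (inv_mem hx.1)) _).1 ha)
        rw [show x * (x⁻¹ * a * x⁻¹⁻¹) * x⁻¹ = a by group] at h
        exact h.symm⟩ }
  let K₁ : Subgroup G :=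
    { carrier := {h | h ∈ H₁ ∧ ∀ a ∈ A, V.f A A₀ (h * a * h⁻¹) = V.f A A₀ a}
      one_mem' := ⟨one_mem _, fun a _ => by rw [one_mul, inv_one, mul_one]⟩
      mul_mem' := fun {x x'} hx hx' => ⟨mul_mem hx.1 hx'.1, fun a ha => by
        rw [show x * x' * a * (x * x')⁻¹ = x * (x' * a * x'⁻¹) * x⁻¹ by group,
          hx.2 _ ((Subgroup.mem_normalizer_iff.1 (hA hx'.1.1) _).1 ha), hx'.2 a ha]⟩
      inv_mem' := fun {x} hx => ⟨inv_mem hx.1, fun a ha => by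
        have h := hx.2 (x⁻¹ * a * x⁻¹⁻¹) ((Subgroup.mem_normalizer_iff.1 (hA (inv_mem hx.1.1)) _).1 ha)
        rw [show x * (x⁻¹ * a * x⁻¹⁻¹) * x⁻¹ = a by group] at h
        exact h.symm⟩ }
  have hwH : V.w ∈ H₁ := ⟨hw, Commute.refl _, fun a ha => by rw [L.f_w ha, inv_eq_one]⟩
  have hwK : V.w ∉ K₁ := fun h => by
    obtain ⟨a, ha, hfa⟩ := L.f_nontriv
    have e := h.2 a ha
    rw [L.f_w ha] at e
    have h2 : orderOf (V.f A A₀ a) ∣ Nat.gcd 2 l := Nat.dvd_gcd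
      (orderOf_dvd_of_pow_eq_one (by rw [sq]; nth_rw 1 [← e]; exact inv_mul_cancel _))
      (orderOf_dvd_of_pow_eq_one (L.f_pow ha))
    rw [((Nat.coprime_primes Nat.prime_two Γ.hl).2 Γ.hl2.symm).gcd_eq_one, Nat.dvd_one, orderOf_eq_one_iff] at h2
    exact hfa h2
  have hKH : ∀ h ∈ H₁, ∀ k ∈ K₁, h * k * h⁻¹ ∈ K₁ := fun h hh k hk =>
    ⟨mul_mem (mul_mem hh hk.1) (inv_mem hh), fun a ha => by
      have hhA := hA hh.1
      have ha' : h⁻¹ * a * h⁻¹⁻¹ ∈ A := (Subgroup.mem_normalizer_iff.1 (inv_mem hhA) _).1 ha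
      have hka : k * (h⁻¹ * a * h⁻¹⁻¹) * k⁻¹ ∈ A := (Subgroup.mem_normalizer_iff.1 (hA hk.1.1) _).1 ha'
      have h1 : V.f A A₀ ((k * (h⁻¹ * a * h⁻¹⁻¹) * k⁻¹) * (h⁻¹ * a * h⁻¹⁻¹)⁻¹) = 1 := by
        rw [L.f_mul hka (A.inv_mem ha'), L.f_inv ha', hk.2 _ ha', mul_inv_cancel]
      have h2 := (hh.2.2 _ (A.mul_mem hka (A.inv_mem ha'))).2 h1
      rw [show h * ((k * (h⁻¹ * a * h⁻¹⁻¹) * k⁻¹) * (h⁻¹ * a * h⁻¹⁻¹)⁻¹) * h⁻¹ =
        (h * k * h⁻¹ * a * (h * k * h⁻¹)⁻¹) * a⁻¹ by group, L.f_mul ?_ (A.inv_mem ha), L.f_inv ha,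
        mul_inv_eq_one] at h2
      · exact h2
      · exact (Subgroup.mem_normalizer_iff.1 (hA (mul_mem (mul_mem hh.1 hk.1.1) (inv_mem hh.1))) _).1 ha⟩
  have hyH : g⁻¹ * (y : G) * g ∈ K₁ := by
    refine ⟨⟨mem_cj.1 hy, ?_, fun a ha => by rw [hfix a ha]⟩, hfix⟩
    have h := (St.mem_C.1 y.2).eq
    show g⁻¹ * y * g * V.w = V.w * (g⁻¹ * y * g)
    rw [← hgw] at h
    calc g⁻¹ * y * g * V.w = g⁻¹ * ((y : G) * (g * V.w * g⁻¹)) * g := by group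
      _ = V.w * (g⁻¹ * y * g) := by rw [h]; group
  -- the images
  obtain ⟨m, hm, htm, hdm⟩ := Γ.nc_rep V.nc
  refine Γ.l1_core htm hdm (H := St.img (cj g H₁)) (K := St.img (cj g K₁)) ?_ ?_ ?_ he
    (St.mem_img.2 ⟨y, mem_cj.2 hyH, rfl⟩) hm
  · rintro _ hh0 _ hk0
    obtain ⟨h, hh, rfl⟩ := St.mem_img.1 hh0
    obtain ⟨k, hk, rfl⟩ := St.mem_img.1 hk0
    refine St.mem_img.2 ⟨h * k * h⁻¹, mem_cj.2 ?_, by rw [map_mul, map_mul, map_inv]⟩
    have := hKH _ (mem_cj.1 hh) _ (mem_cj.1 hk)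
    rwa [show g⁻¹ * ((h * k * h⁻¹ : St.C) : G) * g = g⁻¹ * (h : G) * g * (g⁻¹ * (k : G) * g) * (g⁻¹ * (h : G) * g)⁻¹ by
      simp only [Subgroup.coe_mul, InvMemClass.coe_inv]; group]
  · intro t ht
    obtain ⟨c₀, hc₀, e₀⟩ := hcov (Γ.c.ι t)
    have hcomm : Commute (St.φ ⟨V.w, V.mem⟩) (St.φ c₀) := by
      rw [e₀]; exact ((Γ.conj_nc hm t).1.2 ht).symm
    have hwn : V.w ∈ normalizer (cj g C₀ : Set G) := mem_normalizer_cj (by
      rw [← hgz, show g⁻¹ * (g * St.z * g⁻¹) * g = St.z by group]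
      exact Subgroup.le_normalizer hz)
    obtain ⟨c, hc, hcw, ec⟩ := St.exists_fix_lift (b := ⟨V.w, V.mem⟩) (c := c₀) V.sq hwn hc₀ hcomm
    refine St.mem_img.2 ⟨c, mem_cj.2 ⟨mem_cj.1 hc, ?_, fun a ha => ?_⟩, ec.trans e₀⟩
    · show g⁻¹ * (c : G) * g * V.w = V.w * (g⁻¹ * (c : G) * g)
      have h := (St.mem_C.1 c.2).eq
      rw [← hgw] at h
      calc g⁻¹ * (c : G) * g * V.w = g⁻¹ * ((c : G) * (g * V.w * g⁻¹)) * g := by group
        _ = V.w * (g⁻¹ * (c : G) * g) := by rw [h]; group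
    · have hz : Commute (g⁻¹ * (c : G) * g) St.z := by
        show g⁻¹ * (c : G) * g * St.z = St.z * (g⁻¹ * (c : G) * g)
        have h : (c : G) * (g * St.z * g⁻¹) = g * St.z * g⁻¹ * c := by rw [hgz]; exact hcw.eq.symm
        calc g⁻¹ * (c : G) * g * St.z = g⁻¹ * ((c : G) * (g * St.z * g⁻¹)) * g := by group
          _ = St.z * (g⁻¹ * (c : G) * g) := by rw [h]; group
      have hcc := mem_cj.1 hc
      have hw' : Commute (g⁻¹ * (c : G) * g) V.w := by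
        have h := (St.mem_C.1 c.2).eq
        show g⁻¹ * (c : G) * g * V.w = V.w * (g⁻¹ * (c : G) * g)
        rw [← hgw] at h
        calc g⁻¹ * (c : G) * g * V.w = g⁻¹ * ((c : G) * (g * V.w * g⁻¹)) * g := by group
          _ = V.w * (g⁻¹ * (c : G) * g) := by rw [h]; group
      rw [L.f_conj (h := ⟨_, St.mem_C.2 hz⟩) (hA hcc) (hA₀ hcc) (Or.inl (mul_inv_eq_iff_eq_mul.2
        ((show Commute (⟨_, St.mem_C.2 hz⟩ : St.C) ⟨V.w, V.mem⟩ from Subtype.ext hw'.eq).map St.φ).eq)) ha]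
      constructor
      · intro e; rwa [mul_inv_eq_one, mul_eq_left] at e
      · intro e; rw [e, mul_one, mul_inv_cancel]
  · intro hzK
    obtain ⟨k, hk, ek⟩ := St.mem_img.1 hzK
    have hkz : (k : G) * St.z ∈ St.O ⊓ cj g H₁ := by
      refine ⟨St.mem_O.2 ⟨(k * ⟨St.z, St.z_mem⟩ : St.C).2, ?_⟩, mul_mem (cj_mono g (show K₁ ≤ H₁ from fun _ h => h.1) hk)
        (by rw [← hgw]; exact conj_mem_cj hwH)⟩
      show St.φ (k * ⟨St.z, St.z_mem⟩) = 1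
      rw [map_mul, St.map_z, ek, Γ.c.z_sq]
    obtain ⟨j, hj⟩ := St.O_odd
    have h1 : ((k : G) * St.z) ^ (2 * j + 1) = 1 := by
      rw [← hj]
      exact congrArg Subtype.val (pow_card_eq_one' (x := (⟨_, hkz.1⟩ : St.O)))
    rw [(St.mem_C.1 k.2).mul_pow, pow_succ St.z, pow_mul St.z, sq, St.z_sq, one_pow, one_mul] at h1
    have e : St.z = (k : G) ^ (2 * j + 1) := by
      calc St.z = (k : G) ^ (2 * j + 1) * St.z * St.z := by rw [h1, one_mul]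
        _ = _ := by rw [mul_assoc, St.z_sq, mul_one]
    have hzK' : St.z ∈ cj g K₁ := e ▸ pow_mem hk _
    refine hwK ?_
    have := mem_cj.1 hzK'
    rwa [show g⁻¹ * St.z * g = V.w by rw [← hgw]; group] at this

end Lay

end Sett

end Cfsg.Agent.Invol.AbgOrder.Ell
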