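import Cfsg.Agent.Lib.Invol.AbgOrder.EllBase
import Cfsg.Agent.Lib.Invol.IsolatedFactor

/-!
# The `l`-part of the normalizer of an `l`-subgroup whose normalizer covers `X`

`Good U`: an `l`-subgroup with covering normalizer meeting the centralizer in a Sylow `l`-subgroup of its kernel.  By
induction, such a `U` gives the `l`-part of the order of the normalizer, with that of `X`.
-/

set_option autoImplicit false
set_option linter.unusedSectionVars false
set_option linter.style.haveILetI false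

namespace Cfsg.Agent.Invol.AbgOrder.Ell

open Subgroup Matrix Cfsg.Agent.Classical
open scoped Pointwise

universe u v

namespace Sett

variable {G : Type u} [Group G] [Finite G] {X : Type u} [Group X] [Finite X] {F : Type v} [Field F] [Fintype F]
  {l : ℕ} {Γ : Gam X F l} (St : Sett G Γ)

/-- A signalizer. -/
def Good (U : Subgroup G) : Prop :=
  IsPGroup l U ∧ St.Cov (normalizer (U : Set G)) ∧ U ⊓ St.C ≤ St.O ∧
    (Nat.card ↥(U ⊓ St.C)).factorization l = (Nat.card St.O).factorization l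

/-- The inductive statement. -/
def Star : Prop :=
  ∃ U, St.Good U ∧
    (Nat.card G).factorization l = (Nat.card U).factorization l + (Nat.card X).factorization l

theorem card_comap {A B : Type*} [Group A] [Group B] [Finite A] {f : A →* B} (hf : Function.Surjective f)
    (H : Subgroup B) : Nat.card (H.comap f) = Nat.card H * Nat.card f.ker := by
  have h1 := Subgroup.index_mul_card (H.comap f)
  rw [Subgroup.index_comap_of_surjective H hf, ← Subgroup.index_mul_card f.ker, Subgroup.index_ker,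
    f.range_eq_top.2 hf, Subgroup.card_top, ← Subgroup.index_mul_card H, mul_assoc] at h1
  haveI : Finite B := Finite.of_surjective f hf
  exact Nat.eq_of_mul_eq_mul_left (Nat.pos_of_ne_zero H.index_ne_zero_of_finite) h1

theorem z_mem_of_cov {H : Subgroup G} (hH : St.Cov H) : St.z ∈ H := by
  obtain ⟨c, hc, e⟩ := hH Γ.c.z
  have hk := St.sub_mem_O (c := ⟨St.z, St.z_mem⟩) (d := c) (by rw [St.map_z, e])
  rw [St.z_inv] at hk
  obtain ⟨m, hm⟩ := St.O_odd
  have h1 : (St.z * (c : G)) ^ (2 * m + 1) = 1 := by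
    rw [← hm]
    exact congrArg Subtype.val (pow_card_eq_one' (x := (⟨_, hk⟩ : St.O)))
  have hcom : Commute St.z (c : G) := (St.mem_C.1 c.2).symm
  rw [hcom.mul_pow, pow_succ (St.z), pow_mul, sq, St.z_sq, one_pow, one_mul] at h1
  have e' : St.z = (c : G) ^ (2 * m + 1) := by
    calc St.z = St.z * (St.z * (c : G) ^ (2 * m + 1)) := by rw [h1, mul_one]
      _ = (c : G) ^ (2 * m + 1) := by rw [← mul_assoc, St.z_sq, one_mul]
  exact e' ▸ pow_mem hc _

/-- A subgroup of `C`, of odd order and normalised by a covering subgroup, lies in the kernel. -/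
theorem le_O {H M : Subgroup G} (hH : St.Cov H) (hM : Odd (Nat.card M)) (hMC : M ≤ St.C)
    (hHM : H ⊓ St.C ≤ normalizer (M : Set G)) : M ≤ St.O := by
  intro x hx
  have hn : (St.img M).Normal := ⟨fun a ha r => by
    obtain ⟨y, hy, rfl⟩ := St.mem_img.1 ha
    obtain ⟨c, hc, rfl⟩ := hH r
    exact St.mem_img.2 ⟨c * y * c⁻¹, (Subgroup.mem_normalizer_iff.1 (hHM ⟨hc, c.2⟩) _).1 hy,
      by rw [map_mul, map_mul, map_inv]⟩⟩
  have hodd : Odd (Nat.card (St.img M)) :=
    (hM.of_dvd_nat (Subgroup.card_comap_dvd_of_injective M St.C.subtype St.C.subtype_injective)).of_dvd_nat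
      (Subgroup.card_map_dvd _ _)
  have hord : ∀ a ∈ St.img M, a * a = 1 → a = 1 := by
    intro a ha h
    have h1 : orderOf a ∣ Nat.gcd 2 (Nat.card (St.img M)) :=
      Nat.dvd_gcd (orderOf_dvd_of_pow_eq_one (by rwa [sq])) (Subgroup.orderOf_dvd_natCard _ ha)
    rwa [(Nat.coprime_two_left.2 hodd).gcd_eq_one, Nat.dvd_one, orderOf_eq_one_iff] at h1
  have hxi : St.φ ⟨x, hMC hx⟩ ∈ St.img M := St.mem_img.2 ⟨⟨x, hMC hx⟩, hx, rfl⟩
  refine St.mem_O.2 ⟨hMC hx, ?_⟩
  by_cases hN : Γ.c.N ≤ St.img M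
  · exact absurd (hord _ (hN Γ.c.z_mem_N) Γ.c.z_sq) Γ.c.z_ne
  · rcases Γ.normal_small hn hN hxi with e | e
    · exact e
    · exact absurd (hord _ (e ▸ hxi) Γ.c.z_sq) Γ.c.z_ne

/-- An `l`-group has odd order. -/
theorem odd_pgroup {Y : Type*} [Group Y] [Finite Y] {H : Subgroup Y} (hH : IsPGroup l H) (_St : Sett G Γ) :
    Odd (Nat.card H) := by
  haveI := Fact.mk Γ.hl
  obtain ⟨k, hk⟩ := IsPGroup.iff_card.1 hH
  rw [hk]
  exact (Γ.hl.odd_of_ne_two Γ.hl2).pow

theorem card_inf_O {H : Subgroup G} (hH : St.Cov H)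
    (hl : (Nat.card ↥(H ⊓ St.C)).factorization l = (Nat.card St.C).factorization l) :
    (Nat.card ↥(H ⊓ St.O)).factorization l = (Nat.card St.O).factorization l := by
  have h1 := St.card_cov hH
  have h2 := St.card_cov St.cov_top
  rw [top_inf_eq, top_inf_eq] at h2
  rw [h1, h2, Nat.factorization_mul Nat.card_pos.ne' Nat.card_pos.ne',
    Nat.factorization_mul Nat.card_pos.ne' Nat.card_pos.ne'] at hl
  simpa using hl

/-- The case where `z` is isolated. -/
theorem good_isolated {N : Subgroup G} (hN : St.Cov N)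
    (hl : (Nat.card ↥(N ⊓ St.C)).factorization l = (Nat.card St.C).factorization l)
    (hiso : ∀ g ∈ N, Commute St.z (g * St.z * g⁻¹) → g * St.z * g⁻¹ = St.z) :
    ∃ U, St.Good U ∧
      (Nat.card N).factorization l = (Nat.card U).factorization l + (Nat.card X).factorization l := by
  haveI := Fact.mk Γ.hl
  have hzN := St.z_mem_of_cov hN
  have hz' : Cfsg.IsIsolatedInvolution (⟨St.z, hzN⟩ : N) :=
    ⟨by rw [Subgroup.orderOf_mk]; exact orderOf_eq_prime (by rw [sq, St.z_sq]) St.z_ne, fun g hg =>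
      Subtype.ext (hiso g g.2 (congrArg Subtype.val hg.eq))⟩
  set ON := (Cfsg.pPrimeCore 2 N).map N.subtype with hON
  have hONN : ON ≤ N := Subgroup.map_subtype_le _
  have hONodd : Odd (Nat.card ON) := by rw [hON, Subgroup.card_subtype]; exact odd_oddCore
  have hnorm : N ≤ normalizer (ON : Set G) := fun g hg => by
    haveI := Grp.pPrimeCore_isNormal (p := 2) (G := N)
    refine mem_normalizer_fintype ?_
    rintro _ ⟨y, hy, rfl⟩
    exact ⟨⟨g, hg⟩ * y * (⟨g, hg⟩ : N)⁻¹, (inferInstance : (Cfsg.pPrimeCore 2 N).Normal).conj_mem _ hy _, rfl⟩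
  have hfac : ∀ g ∈ N, ∃ k ∈ ON, ∃ c ∈ N ⊓ St.C, g = k * c := fun g hg => by
    obtain ⟨k, -, -, hk, hc⟩ := isolated_exists_factor hz' ⟨g, hg⟩
    refine ⟨k, ⟨k, hk, rfl⟩, (k⁻¹ * ⟨g, hg⟩ : N), ⟨(k⁻¹ * ⟨g, hg⟩ : N).2, St.mem_C.2 ?_⟩, by
      rw [Subgroup.coe_mul, InvMemClass.coe_inv, mul_inv_cancel_left]⟩
    exact congrArg Subtype.val (Subgroup.mem_centralizer_singleton_iff.1 hc)
  -- the part of the kernel in `N` lies in the odd core
  set M := ON ⊔ (N ⊓ St.O) with hM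
  have hMN : M ≤ N := sup_le hONN inf_le_left
  have hOc : ∀ c ∈ N ⊓ St.C, c ∈ normalizer ((N ⊓ St.O : Subgroup G) : Set G) := fun c hc =>
    mem_normalizer_fintype fun y hy => ⟨N.mul_mem (N.mul_mem hc.1 hy.1) (N.inv_mem hc.1), St.O_conj hc.2 hy.2⟩
  have hMn : N ≤ normalizer (M : Set G) := fun g hg => by
    obtain ⟨k, hk, c, hc, rfl⟩ := hfac g hg
    refine mul_mem (Subgroup.le_normalizer (le_sup_left (b := N ⊓ St.O) hk)) (mem_normalizer_fintype fun y hy => ?_)
    have hle : cj c M ≤ M := by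
      rw [hM, cj, Subgroup.map_sup]
      refine sup_le_sup ?_ ?_ <;> rintro _ ⟨x, hx, rfl⟩
      · exact (Subgroup.mem_normalizer_iff.1 (hnorm hc.1) x).1 hx
      · exact (Subgroup.mem_normalizer_iff.1 (hOc c hc) x).1 hx
    exact hle (conj_mem_cj hy)
  have hModd : Odd (Nat.card M) := by
    rw [hM, sup_comm]
    exact ((St.O_odd.of_dvd_nat (Subgroup.card_dvd_of_le inf_le_right)).mul hONodd).of_dvd_nat
      (Grp.card_sup_dvd_mul (inf_le_left.trans hnorm))
  have hOle : N ⊓ St.O ≤ ON := by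
    have h : M.subgroupOf N ≤ Cfsg.pPrimeCore 2 N :=
      Grp.le_pPrimeCore (Subgroup.normal_subgroupOf_of_le_normalizer hMn) (by
        rw [Nat.card_congr (Subgroup.subgroupOfEquivOfLe hMN).toEquiv]
        exact Nat.coprime_two_right.2 hModd)
    intro x hx
    exact ⟨⟨x, hx.1⟩, h (Subgroup.mem_subgroupOf.2 (le_sup_right (a := ON) hx)), rfl⟩
  have hle : ON ⊓ St.C ≤ St.O :=
    St.le_O hN (hONodd.of_dvd_nat (Subgroup.card_dvd_of_le inf_le_left)) inf_le_right fun c hc =>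
      mem_normalizer_fintype fun y hy =>
        ⟨(Subgroup.mem_normalizer_iff.1 (hnorm hc.1) y).1 hy.1, St.C.mul_mem (St.C.mul_mem hc.2 hy.2) (St.C.inv_mem hc.2)⟩
  have heq : ON ⊓ St.C = N ⊓ St.O :=
    le_antisymm (le_inf (inf_le_left.trans hONN) hle) (le_inf hOle (inf_le_right.trans St.O_le))
  have hcard : Nat.card N = Nat.card ON * Nat.card X := by
    have hsup : (N ⊓ St.C) ⊔ ON = N := le_antisymm (sup_le inf_le_left hONN) fun g hg => by
      obtain ⟨k, hk, c, hc, rfl⟩ := hfac g hg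
      exact mul_mem (le_sup_right (a := N ⊓ St.C) hk) (le_sup_left (b := ON) hc)
    have h := Grp.card_sup_mul_card_inf (H := N ⊓ St.C) (N := ON) (inf_le_left.trans hnorm)
    rw [hsup, show N ⊓ St.C ⊓ ON = ON ⊓ St.C by rw [inf_comm N, inf_assoc, inf_eq_right.2 hONN, inf_comm],
      heq, St.card_cov hN] at h
    refine Nat.eq_of_mul_eq_mul_right (Nat.card_pos (α := ↥(N ⊓ St.O))) ?_
    rw [h]; ring
  -- the signalizer
  have hzON : zpowers St.z ≤ normalizer (ON : Set G) := zpowers_le.2 (hnorm hzN)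
  have hcop : (Nat.card (zpowers St.z)).Coprime (Nat.card ON) := by
    rw [Nat.card_zpowers, orderOf_eq_prime (by rw [sq, St.z_sq]) St.z_ne]
    exact Nat.coprime_two_left.2 hONodd
  obtain ⟨U, hU, hzU⟩ := Grp.exists_invariant_sylow (zpowers St.z) ON hzON hcop (Or.inl inferInstance) l
  have hconj : ∀ {d : G}, d ∈ ON ⊓ Subgroup.centralizer ((zpowers St.z : Subgroup G) : Set G) →
      d ∈ St.O ∧ d ∈ N := fun {d} hd =>
    ⟨hle ⟨hd.1, St.mem_C.2 (Subgroup.mem_centralizer_iff.1 hd.2 St.z (mem_zpowers _)).symm⟩, hONN hd.1⟩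
  refine ⟨U, ⟨hU.2.1, fun x => ?_, le_trans (inf_le_inf_right _ hU.1) hle, ?_⟩, ?_⟩
  · obtain ⟨c, hc, rfl⟩ := hN x
    have hcz : zpowers St.z ≤ normalizer (cj (c : G) U : Set G) := zpowers_le.2 (mem_normalizer_cj (by
      rw [mul_assoc, (St.mem_C.1 c.2).symm.eq, inv_mul_cancel_left]
      exact hzU (mem_zpowers _)))
    have hcU : Grp.IsSylowIn l (cj (c : G) U) ON := by
      exact hU.smul (Grp.mem_normalizer_iff_smul.1 (hnorm hc))
    obtain ⟨d, hd, e⟩ := Grp.invariant_sylow_conj (zpowers St.z) ON hzON hcop (Or.inl inferInstance) hcU hU hcz hzU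
    obtain ⟨hdO, -⟩ := hconj hd
    obtain ⟨hdC, hd1⟩ := St.mem_O.1 hdO
    refine ⟨⟨d, hdC⟩ * c, Grp.mem_normalizer_iff_smul.2 ?_, by rw [map_mul, hd1, one_mul]⟩
    show MulAut.conj (d * (c : G)) • U = U
    rw [map_mul, mul_smul, ← Grp.map_conj_eq_smul U (c : G)]
    exact e
  · rw [← St.card_inf_O hN hl]
    refine le_antisymm ((Nat.factorization_le_iff_dvd Nat.card_pos.ne' Nat.card_pos.ne').2
      (Subgroup.card_dvd_of_le (heq ▸ inf_le_inf_right _ hU.1)) l) ?_
    obtain ⟨L, hL⟩ := Grp.exists_isSylowIn l (N ⊓ St.O)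
    have hzL : zpowers St.z ≤ normalizer (L : Set G) := zpowers_le.2 (Subgroup.centralizer_le_normalizer _
      (Subgroup.mem_centralizer_iff.2 fun y hy => St.mem_C.1 (St.O_le (hL.1 hy).2)))
    obtain ⟨X2, hX2, hzX2, hLX⟩ := Grp.exists_invariant_sylow_ge (zpowers St.z) ON hzON hcop (Or.inl inferInstance)
      (hL.1.trans hOle) hL.2.1 hzL
    obtain ⟨d, hd, e⟩ := Grp.invariant_sylow_conj (zpowers St.z) ON hzON hcop (Or.inl inferInstance) hX2 hU hzX2 hzU
    have hle2 : cj d L ≤ U ⊓ St.C := by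
      rintro _ ⟨y, hy, rfl⟩
      refine ⟨?_, St.C.mul_mem (St.C.mul_mem (St.O_le (hconj hd).1) (St.O_le (hL.1 hy).2)) (St.C.inv_mem (St.O_le (hconj hd).1))⟩
      have h : d * y * d⁻¹ ∈ MulAut.conj d • X2 := by rw [← Grp.map_conj_eq_smul]; exact ⟨y, hLX hy, rfl⟩
      exact e ▸ h
    have h1 := (Nat.factorization_le_iff_dvd Nat.card_pos.ne' Nat.card_pos.ne').2 (Subgroup.card_dvd_of_le hle2) l
    rwa [card_cj, hL.card, Γ.hl.factorization_pow, Finsupp.single_eq_same] at h1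
  · rw [hcard, Nat.factorization_mul Nat.card_pos.ne' Nat.card_pos.ne', hU.card, Γ.hl.factorization_pow]
    simp

/-- The case where `z` is not isolated: induction in the quotient. -/
theorem good_quotient {Y : Subgroup G} (hY : IsPGroup l Y) (hY1 : Y ≠ ⊥) (hcov : St.Cov (normalizer (Y : Set G)))
    (hl : (Nat.card ↥(normalizer (Y : Set G) ⊓ St.C)).factorization l = (Nat.card St.C).factorization l)
    (hniso : ∃ g ∈ normalizer (Y : Set G), Commute St.z (g * St.z * g⁻¹) ∧ g * St.z * g⁻¹ ≠ St.z)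
    (IH : ∀ (H : Type u) [Group H] [Finite H], Nat.card H < Nat.card G → ∀ S : Sett H Γ, S.Star) :
    ∃ U, St.Good U ∧ (Nat.card (normalizer (Y : Set G) : Subgroup G)).factorization l =
      (Nat.card U).factorization l + (Nat.card X).factorization l := by
  classical
  haveI := Fact.mk Γ.hl
  haveI : Fact (Nat.Prime 2) := ⟨Nat.prime_two⟩
  set N := normalizer (Y : Set G) with hN
  set Y' := Y.subgroupOf N with hY'
  haveI : Y'.Normal := Subgroup.normal_subgroupOf_of_le_normalizer le_rfl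
  have hYN : Y ≤ N := Subgroup.le_normalizer
  have hzN := St.z_mem_of_cov hcov
  set π := QuotientGroup.mk' Y' with hπ
  have hπ1 : ∀ {y : N}, π y = 1 ↔ (y : G) ∈ Y := fun {y} =>
    (QuotientGroup.eq_one_iff y).trans Subgroup.mem_subgroupOf
  have hYodd : Odd (Nat.card Y) := odd_pgroup hY St
  have hYC : Y ⊓ St.C ≤ St.O := St.le_O hcov (hYodd.of_dvd_nat (Subgroup.card_dvd_of_le inf_le_left)) inf_le_right
    fun c hc => mem_normalizer_fintype fun y hy =>
      ⟨(Subgroup.mem_normalizer_iff.1 hc.1 y).1 hy.1, St.C.mul_mem (St.C.mul_mem hc.2 hy.2) (St.C.inv_mem hc.2)⟩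
  set zN : N := ⟨St.z, hzN⟩ with hzNdef
  set D := (N ⊓ St.C).subgroupOf N with hD
  have hlift : ∀ n : N, Commute (π n) (π zN) → ∃ d ∈ D, π d = π n := fun n hn => by
    have h1 : π (n⁻¹ * (zN * n * zN⁻¹)) = 1 := by
      rw [map_mul, map_inv, map_mul, map_mul, map_inv, ← hn.eq, mul_inv_cancel_right, inv_mul_cancel]
    obtain ⟨m, hm, hcm⟩ := exists_fix St.z_sq hYodd (c := (n : G)) (hπ1.1 h1)
    refine ⟨n * ⟨m, hYN hm⟩, Subgroup.mem_subgroupOf.2 ⟨(n * ⟨m, hYN hm⟩).2, St.mem_C.2 hcm.symm⟩, ?_⟩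
    rw [map_mul, hπ1.2 (show ((⟨m, hYN hm⟩ : N) : G) ∈ Y from hm), mul_one]
  let C' := Subgroup.centralizer ({π zN} : Set (N ⧸ Y'))
  let ρ : D →* C' := (π.comp D.subtype).codRestrict C' fun d => Subgroup.mem_centralizer_singleton_iff.2 (by
    show π (d : N) * π zN = π zN * π (d : N)
    rw [← map_mul, ← map_mul]
    exact congrArg π (Subtype.ext (St.mem_C.1 (Subgroup.mem_subgroupOf.1 d.2).2).eq))
  have hρs : Function.Surjective ρ := fun x => by
    obtain ⟨n, hn⟩ := QuotientGroup.mk'_surjective Y' x.1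
    obtain ⟨d, hd, e⟩ := hlift n (by rw [hπ, hn]; exact Subgroup.mem_centralizer_singleton_iff.1 x.2)
    exact ⟨⟨d, hd⟩, Subtype.ext (e.trans hn)⟩
  let toC : D →* St.C := (N.subtype.comp D.subtype).codRestrict St.C fun d => (Subgroup.mem_subgroupOf.1 d.2).2
  have hker : ρ.ker ≤ (St.φ.comp toC).ker := fun d hd => by
    have h := St.mem_O.1 (hYC ⟨hπ1.1 (congrArg Subtype.val hd), (Subgroup.mem_subgroupOf.1 d.2).2⟩)
    exact h.2
  set φ' : C' →* X := ρ.liftOfSurjective hρs ⟨St.φ.comp toC, hker⟩ with hφ'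
  have hφρ : ∀ d : D, φ' (ρ d) = St.φ (toC d) := fun d =>
    MonoidHom.liftOfRightInverse_comp_apply _ _ _ _ d
  -- the setting in the quotient
  have hcardD : Nat.card D = Nat.card ↥(N ⊓ St.C) :=
    Nat.card_congr (Subgroup.subgroupOfEquivOfLe inf_le_left).toEquiv
  have hidx : Odd (N ⊓ St.C).index := by
    rw [← Subgroup.relIndex_mul_index (inf_le_right : N ⊓ St.C ≤ St.C)]
    refine Odd.mul ?_ St.odd_index
    refine St.O_odd.of_dvd_nat ⟨Nat.card ↥(N ⊓ St.O), ?_⟩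
    have h1 := St.card_cov hcov
    have h2 := St.card_cov St.cov_top
    rw [top_inf_eq, top_inf_eq] at h2
    have h3 := Grp.card_mul_relIndex (inf_le_right : N ⊓ St.C ≤ St.C)
    rw [h1, h2, mul_assoc] at h3
    have := Nat.eq_of_mul_eq_mul_left Nat.card_pos h3
    rw [← this]; ring
  have hDidx : Odd D.index := hidx.of_dvd_nat (Subgroup.relIndex_dvd_index_of_le inf_le_left)
  obtain ⟨g₀, hg₀, hg₀c, hg₀z⟩ := hniso
  have hone : ∀ b : N ⧸ Y', b * b = 1 → b ≠ 1 → ∃ g, g * b * g⁻¹ = π zN := by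
    intro b hb hb1
    obtain ⟨n, hn⟩ := QuotientGroup.mk'_surjective Y' b
    -- an involution in the coset
    have hnn : ((n * n : N) : G) ∈ Y := hπ1.1 (by rw [map_mul, hn, hb])
    obtain ⟨m, hm⟩ := hYodd
    have hn2 : n ^ (2 * (2 * m + 1)) = 1 := Subtype.ext (by
      rw [pow_mul, sq, SubmonoidClass.coe_pow, Subgroup.coe_one, ← hm]
      exact congrArg Subtype.val (pow_card_eq_one' (x := (⟨_, hnn⟩ : Y))))
    set i : N := n ^ (2 * m + 1) with hi
    have hii : i * i = 1 := by rw [hi, ← pow_add, ← two_mul, hn2]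
    have hπi : π i = b := by rw [hi, map_pow, hn, pow_succ, pow_mul, sq, hb, one_pow, one_mul]
    have hi1 : i ≠ 1 := fun e => hb1 (by rw [← hπi, e, map_one])
    haveI : Finite (N ⧸ D) := inferInstance
    have hI : IsPGroup 2 (zpowers i) := IsPGroup.of_card (n := 1) (by
      rw [Nat.card_zpowers, pow_one, orderOf_eq_prime (by rw [sq, hii]) hi1])
    obtain ⟨x, hx⟩ := hI.nonempty_fixed_point_of_prime_not_dvd_card (N ⧸ D)
      (by rw [← Subgroup.index_eq_card]; exact fun h => Nat.not_even_iff_odd.2 hDidx (even_iff_two_dvd.2 h))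
    obtain ⟨a, rfl⟩ := QuotientGroup.mk_surjective x
    have hai : a⁻¹ * i * a ∈ D := by
      have h := QuotientGroup.eq.1 (hx ⟨i, mem_zpowers i⟩)
      have h2 : (i * a)⁻¹ * a ∈ D := h
      have := inv_mem h2
      rwa [_root_.mul_inv_rev, inv_inv, ← mul_assoc] at this
    obtain ⟨-, hiC⟩ := Subgroup.mem_subgroupOf.1 hai
    set i₁ : N := a⁻¹ * i * a with hi₁
    suffices h : ∃ c : N, c * i₁ * c⁻¹ = zN by
      obtain ⟨c, hc⟩ := h
      refine ⟨π (c * a⁻¹), ?_⟩
      rw [← hπi, ← hc, hi₁]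
      simp only [map_mul, map_inv]
      group
    have h11 : i₁ * i₁ = 1 := by
      rw [hi₁, show a⁻¹ * i * a * (a⁻¹ * i * a) = a⁻¹ * (i * i) * a by group, hii, mul_one, inv_mul_cancel]
    by_cases hz1 : (i₁ : G) = St.z
    · exact ⟨1, by rw [one_mul, inv_one, mul_one]; exact Subtype.ext hz1⟩
    obtain ⟨c, hcN, -, hc⟩ := St.nc_conj hcov hiC (St.mem_C.2 hg₀c.symm) (congrArg Subtype.val h11)
      (fun e => hi1 (by
        have : i₁ = 1 := Subtype.ext e
        rw [show i = a * i₁ * a⁻¹ by rw [hi₁]; group, this, mul_one, mul_inv_cancel]))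
      hz1 (by rw [show g₀ * St.z * g₀⁻¹ * (g₀ * St.z * g₀⁻¹) = g₀ * (St.z * St.z) * g₀⁻¹ by group, St.z_sq, mul_one,
        mul_inv_cancel])
      (fun e => St.z_ne (by
        calc St.z = g₀⁻¹ * (g₀ * St.z * g₀⁻¹) * g₀ := by group
          _ = 1 := by rw [e, mul_one, inv_mul_cancel]))
      hg₀z (Subgroup.le_normalizer i₁.2) (Or.inr ⟨i₁.2, N.mul_mem (N.mul_mem hg₀ hzN) (N.inv_mem hg₀)⟩)
    refine ⟨(⟨g₀, hg₀⟩ : N)⁻¹ * ⟨c, hcN⟩, Subtype.ext ?_⟩
    show g₀⁻¹ * c * (i₁ : G) * (g₀⁻¹ * c)⁻¹ = St.z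
    rw [show g₀⁻¹ * c * (i₁ : G) * (g₀⁻¹ * c)⁻¹ = g₀⁻¹ * (c * (i₁ : G) * c⁻¹) * g₀ by group, hc]
    group
  let S' : Sett (N ⧸ Y') Γ :=
    { z := π zN
      z_sq := by rw [← map_mul, show zN * zN = 1 from Subtype.ext St.z_sq, map_one]
      φ := φ'
      surj := fun x => by
        obtain ⟨c, hc, rfl⟩ := hcov x
        exact ⟨ρ ⟨⟨c, hc⟩, Subgroup.mem_subgroupOf.2 ⟨hc, c.2⟩⟩, by rw [hφρ]; rfl⟩
      odd := by
        have h : φ'.ker ≤ ((St.φ.comp toC).ker).map ρ := fun x hx => by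
          obtain ⟨d, rfl⟩ := hρs x
          exact ⟨d, (hφρ d).symm.trans hx, rfl⟩
        refine Odd.of_dvd_nat ?_ ((Subgroup.card_dvd_of_le h).trans (Subgroup.card_map_dvd _ _))
        refine St.odd.of_dvd_nat (Subgroup.card_dvd_of_injective
          ((toC.comp (St.φ.comp toC).ker.subtype).codRestrict St.φ.ker fun x => x.2) ?_)
        intro a a' h
        exact Subtype.ext (Subtype.ext (Subtype.ext (congrArg (fun y : St.φ.ker => ((y : St.C) : G)) h)))
      map_z := by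
        have h := hφρ ⟨zN, Subgroup.mem_subgroupOf.2 ⟨hzN, St.z_mem⟩⟩
        exact h.trans St.map_z
      odd_index := hDidx.of_dvd_nat ((Subgroup.index_dvd_of_le (fun x hx => by
        obtain ⟨d, hd, rfl⟩ := hx
        exact (ρ ⟨d, hd⟩).2 : D.map π ≤ C')).trans
          (Subgroup.index_map_dvd _ (QuotientGroup.mk'_surjective _)))
      one := hone }
  have hlt : Nat.card (N ⧸ Y') < Nat.card G := by
    have hne : Y' ≠ ⊥ := fun e => hY1 (by
      rw [Subgroup.subgroupOf_eq_bot] at e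
      exact le_bot_iff.1 (e le_rfl hYN))
    exact (Grp.card_quotient_lt hne).trans_le (Subgroup.card_le_card_group N)
  obtain ⟨Ub, ⟨hUbl, hUbc, hUbO, hUbf⟩, hNf⟩ := IH (N ⧸ Y') hlt S'
  set U := (Ub.comap π).map N.subtype with hU
  have hcardU : Nat.card U = Nat.card Ub * Nat.card Y := by
    rw [hU, Subgroup.card_subtype, card_comap (QuotientGroup.mk'_surjective _), QuotientGroup.ker_mk']
    rw [Nat.card_congr (Subgroup.subgroupOfEquivOfLe hYN).toEquiv]
  -- the part in `C`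
  have hDker : Nat.card ρ.ker = Nat.card ↥(Y ⊓ St.C) := by
    refine Nat.card_congr
      { toFun := fun d => ⟨(((d : D) : N) : G), hπ1.1 (congrArg Subtype.val d.2),
          (Subgroup.mem_subgroupOf.1 d.1.2).2⟩
        invFun := fun y => ⟨⟨⟨y, hYN y.2.1⟩, Subgroup.mem_subgroupOf.2 ⟨hYN y.2.1, y.2.2⟩⟩,
          Subtype.ext (hπ1.2 y.2.1)⟩
        left_inv := fun d => rfl
        right_inv := fun y => rfl }
  have hcomap : ∀ H : Subgroup C', Nat.card (H.comap ρ) = Nat.card H * Nat.card ↥(Y ⊓ St.C) := fun H => by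
    rw [card_comap hρs, hDker]
  have hUC : Nat.card ↥(U ⊓ St.C) = Nat.card ↥(Ub ⊓ C') * Nat.card ↥(Y ⊓ St.C) := by
    rw [← Nat.card_congr (Subgroup.subgroupOfEquivOfLe (inf_le_right : Ub ⊓ C' ≤ C')).toEquiv, ← hcomap]
    refine Nat.card_congr
      { toFun := fun x => ⟨⟨⟨x, Subgroup.map_subtype_le _ x.2.1⟩, Subgroup.mem_subgroupOf.2
            ⟨Subgroup.map_subtype_le _ x.2.1, x.2.2⟩⟩, by
          obtain ⟨n, hn, e⟩ := x.2.1
          refine ⟨?_, (ρ _).2⟩
          show π ⟨x, _⟩ ∈ Ub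
          rw [show (⟨(x : G), Subgroup.map_subtype_le _ x.2.1⟩ : N) = n from Subtype.ext e.symm]
          exact hn⟩
        invFun := fun d => ⟨(((d : D) : N) : G), ⟨((d : D) : N), d.2.1, rfl⟩, (Subgroup.mem_subgroupOf.1 d.1.2).2⟩
        left_inv := fun x => rfl
        right_inv := fun d => rfl }
  have hOC : Nat.card ↥(N ⊓ St.O) = Nat.card φ'.ker * Nat.card ↥(Y ⊓ St.C) := by
    rw [← hcomap]
    refine Nat.card_congr
      { toFun := fun x => ⟨⟨⟨x, x.2.1⟩, Subgroup.mem_subgroupOf.2 ⟨x.2.1, St.O_le x.2.2⟩⟩, by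
          obtain ⟨h, e⟩ := St.mem_O.1 x.2.2
          show φ' (ρ _) = 1
          rw [hφρ]
          exact e⟩
        invFun := fun d => ⟨(((d : D) : N) : G), ((d : D) : N).2, St.mem_O.2 ⟨(Subgroup.mem_subgroupOf.1 d.1.2).2,
          (hφρ d.1).symm.trans d.2⟩⟩
        left_inv := fun x => rfl
        right_inv := fun d => rfl }
  refine ⟨U, ⟨?_, fun x => ?_, ?_, ?_⟩, ?_⟩
  · refine IsPGroup.of_card (n := (Nat.card Ub).factorization l + (Nat.card Y).factorization l) ?_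
    obtain ⟨a, ha⟩ := IsPGroup.iff_card.1 hUbl
    obtain ⟨b, hb⟩ := IsPGroup.iff_card.1 hY
    rw [hcardU, ha, hb, ← pow_add, Γ.hl.factorization_pow, Γ.hl.factorization_pow]
    simp
  · obtain ⟨x', hx', rfl⟩ := hUbc x
    obtain ⟨d, rfl⟩ := hρs x'
    refine ⟨toC d, mem_normalizer_fintype ?_, (hφρ d).symm⟩
    rintro _ ⟨n, hn, rfl⟩
    refine ⟨(d : N) * n * (d : N)⁻¹, ?_, rfl⟩
    show π ((d : N) * n * (d : N)⁻¹) ∈ Ub
    rw [map_mul, map_mul, map_inv]
    exact (Subgroup.mem_normalizer_iff.1 hx' _).1 hn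
  · rintro x ⟨⟨n, hn, rfl⟩, hxC⟩
    refine St.mem_O.2 ⟨hxC, ?_⟩
    set d : D := ⟨n, Subgroup.mem_subgroupOf.2 ⟨n.2, hxC⟩⟩ with hd
    have h := S'.mem_O.1 (hUbO (show π n ∈ Ub ⊓ C' from ⟨hn, (ρ d).2⟩))
    have h2 : φ' (ρ d) = 1 := h.2
    rw [hφρ] at h2
    exact h2
  · rw [hUC, Nat.factorization_mul Nat.card_pos.ne' Nat.card_pos.ne', ← St.card_inf_O hcov hl, hOC,
      Nat.factorization_mul Nat.card_pos.ne' Nat.card_pos.ne', Finsupp.add_apply, Finsupp.add_apply, hUbf]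
    congr 2
    rw [Sett.O, Subgroup.card_subtype]
  · have e : Nat.card N = Nat.card (N ⧸ Y') * Nat.card Y := by
      rw [Subgroup.card_eq_card_quotient_mul_card_subgroup Y',
        Nat.card_congr (Subgroup.subgroupOfEquivOfLe hYN).toEquiv]
    rw [e, hcardU, Nat.factorization_mul Nat.card_pos.ne' Nat.card_pos.ne', Finsupp.add_apply, hNf,
      Nat.factorization_mul Nat.card_pos.ne' Nat.card_pos.ne', Finsupp.add_apply]
    ring

/-- The `l`-part of the normalizer of an `l`-subgroup with covering normalizer. -/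
theorem lemma_Y {Y : Subgroup G} (hY : IsPGroup l Y) (hY1 : Y ≠ ⊥) (hcov : St.Cov (normalizer (Y : Set G)))
    (hl : (Nat.card ↥(normalizer (Y : Set G) ⊓ St.C)).factorization l = (Nat.card St.C).factorization l)
    (IH : ∀ (H : Type u) [Group H] [Finite H], Nat.card H < Nat.card G → ∀ S : Sett H Γ, S.Star) :
    ∃ U, St.Good U ∧ (Nat.card (normalizer (Y : Set G) : Subgroup G)).factorization l =
      (Nat.card U).factorization l + (Nat.card X).factorization l := by
  by_cases hniso : ∃ g ∈ normalizer (Y : Set G), Commute St.z (g * St.z * g⁻¹) ∧ g * St.z * g⁻¹ ≠ St.z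
  · exact St.good_quotient hY hY1 hcov hl hniso IH
  · push Not at hniso
    exact St.good_isolated hcov hl hniso

end Sett

end Cfsg.Agent.Invol.AbgOrder.Ell
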