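import Cfsg.Agent.Lib.Invol.AbgOrder.EllMat
import Cfsg.Agent.Lib.Grp.Coprime
import Cfsg.Agent.Lib.Invol.HallFourGroup
import Mathlib.LinearAlgebra.Matrix.Charpoly.FiniteField
import Mathlib.GroupTheory.PGroup

/-!
# A group of `3 × 3` matrices over `ZMod l` with semidihedral Sylow `2`-subgroup

The setting of the exceptional configuration: the diagonal four group, an element of order `2^n` centralising `z`, a
monomial matrix moving `z` to `w`; first properties of the centraliser of `z`.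
-/

set_option autoImplicit false
set_option linter.unusedSectionVars false
set_option linter.style.haveILetI false

namespace Cfsg.Agent.Invol.AbgOrder.Ell

open Matrix Subgroup

local notation "M₃" l => Matrix (Fin 3) (Fin 3) (ZMod l)
local notation "GL₃" l => GL (Fin 3) (ZMod l)

/-- The setting. -/
structure Lin (l : ℕ) [Fact l.Prime] where
  hl2 : l ≠ 2
  H : Subgroup (GL₃ l)
  z : GL₃ l
  w : GL₃ l
  g : GL₃ l
  x : GL₃ l
  n : ℕ
  hn : 3 ≤ n
  z_eq : (z : M₃ l) = diagonal ![1, -1, -1]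
  w_eq : (w : M₃ l) = diagonal ![-1, 1, -1]
  zH : z ∈ H
  wH : w ∈ H
  gH : g ∈ H
  xH : x ∈ H
  g00 : (g : M₃ l) 0 0 = 0
  g11 : (g : M₃ l) 1 1 = 0
  g02 : (g : M₃ l) 0 2 = 0
  g20 : (g : M₃ l) 2 0 = 0
  g12 : (g : M₃ l) 1 2 = 0
  g21 : (g : M₃ l) 2 1 = 0
  xz : Commute x z
  x00 : (x : M₃ l) 0 0 = 1
  x_pow : x ^ 2 ^ (n - 1) = z
  x_inv : w * x * w = x⁻¹ * z
  fac : (Nat.card H).factorization 2 = n + 1
  K₀ : Subgroup (GL₃ l)
  K₀_le : K₀ ≤ H ⊓ centralizer ({z} : Set (GL₃ l))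
  K₀_odd : Odd (Nat.card K₀)
  K₀_norm : H ⊓ centralizer ({z} : Set (GL₃ l)) ≤ normalizer (K₀ : Set (GL₃ l))
  K₀_two : ∀ h ∈ H ⊓ centralizer ({z} : Set (GL₃ l)), ∃ j : ℕ, h ^ 2 ^ j ∈ K₀

section blocks

variable {l : ℕ} [Fact l.Prime]

/-- Block diagonal matrices. -/
def Blk (a : M₃ l) : Prop := a 0 1 = 0 ∧ a 0 2 = 0 ∧ a 1 0 = 0 ∧ a 2 0 = 0

/-- The second block. -/
def blk (a : M₃ l) : Matrix (Fin 2) (Fin 2) (ZMod l) := !![a 1 1, a 1 2; a 2 1, a 2 2]

theorem blk_one : blk (1 : M₃ l) = 1 := by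
  ext i j; fin_cases i <;> fin_cases j <;> simp [blk]

theorem blk_mul {a : M₃ l} (h : Blk a) (b : M₃ l) : blk (a * b) = blk a * blk b := by
  obtain ⟨-, -, h10, h20⟩ := h
  ext i j
  fin_cases i <;> fin_cases j <;> simp [blk, Matrix.mul_apply, Fin.sum_univ_three, Fin.sum_univ_two, h10, h20]

theorem mul00 {a : M₃ l} (h : Blk a) (b : M₃ l) : (a * b) 0 0 = a 0 0 * b 0 0 := by
  obtain ⟨h01, h02, -, -⟩ := h
  simp [Matrix.mul_apply, Fin.sum_univ_three, h01, h02]

theorem Blk.mul {a b : M₃ l} (h : Blk a) (h' : Blk b) : Blk (a * b) := by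
  obtain ⟨a01, a02, a10, a20⟩ := h
  obtain ⟨b01, b02, b10, b20⟩ := h'
  refine ⟨?_, ?_, ?_, ?_⟩ <;> simp [Matrix.mul_apply, Fin.sum_univ_three, *]

theorem Blk.one : Blk (1 : M₃ l) := ⟨by simp, by simp, by simp, by simp⟩

theorem Blk.pow {a : M₃ l} (h : Blk a) (k : ℕ) : Blk (a ^ k) := by
  induction k with
  | zero => rw [pow_zero]; exact Blk.one
  | succ k ih => rw [pow_succ]; exact ih.mul h

theorem blk_pow {a : M₃ l} (h : Blk a) (k : ℕ) : blk (a ^ k) = blk a ^ k := by
  induction k with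
  | zero => rw [pow_zero, pow_zero, blk_one]
  | succ k ih => rw [pow_succ, pow_succ, blk_mul (h.pow k), ih]

theorem pow00 {a : M₃ l} (h : Blk a) (k : ℕ) : (a ^ k) 0 0 = a 0 0 ^ k := by
  induction k with
  | zero => rw [pow_zero, pow_zero]; simp
  | succ k ih => rw [pow_succ, pow_succ, mul00 (h.pow k), ih]

theorem blk_ext {a b : M₃ l} (ha : Blk a) (hb : Blk b) (h0 : a 0 0 = b 0 0) (h : blk a = blk b) : a = b := by
  obtain ⟨a01, a02, a10, a20⟩ := ha
  obtain ⟨b01, b02, b10, b20⟩ := hb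
  have h11 := congrFun (congrFun h 0) 0
  have h12 := congrFun (congrFun h 0) 1
  have h21 := congrFun (congrFun h 1) 0
  have h22 := congrFun (congrFun h 1) 1
  simp only [blk, Matrix.of_apply, Matrix.cons_val', Matrix.cons_val_zero, Matrix.cons_val_one,
    Matrix.cons_val_fin_one] at h11 h12 h21 h22
  ext i j
  fin_cases i <;> fin_cases j <;> simp [*]

theorem blk_commute {a b : GL₃ l} (ha : Blk (a : M₃ l)) (hb : Blk (b : M₃ l))
    (h : Commute (blk (a : M₃ l)) (blk (b : M₃ l))) : Commute a b :=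
  Units.ext (by
    rw [Units.val_mul, Units.val_mul]
    refine blk_ext (ha.mul hb) (hb.mul ha) ?_ ?_
    · rw [mul00 ha, mul00 hb, mul_comm]
    · rw [blk_mul ha, blk_mul hb, h.eq])

theorem blk_scalar {a : M₃ l} {c : ZMod l} (h : a = c • 1) : Blk a ∧ a 0 0 = c ∧ blk a = c • 1 := by
  subst h
  refine ⟨⟨by simp, by simp, by simp, by simp⟩, by simp, ?_⟩
  ext i j; fin_cases i <;> fin_cases j <;> simp [blk]

theorem w_conj (N : Matrix (Fin 2) (Fin 2) (ZMod l)) :
    !![1, 0; 0, -1] * N * !![1, 0; 0, -1] = !![N 0 0, -N 0 1; -N 1 0, N 1 1] := by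
  ext i j
  fin_cases i <;> fin_cases j <;> simp [Matrix.mul_apply, Fin.sum_univ_two, Matrix.vecMul, dotProduct]

theorem pow_l_pow (c : ZMod l) {k : ℕ} (h : c ^ l ^ k = 1) : c = 1 := by rwa [ZMod.pow_card_pow] at h

theorem trace_pow_pow (A : Matrix (Fin 2) (Fin 2) (ZMod l)) (k : ℕ) : (A ^ l ^ k).trace = A.trace := by
  induction k with
  | zero => rw [pow_zero, pow_one]
  | succ k ih => rw [pow_succ, pow_mul, ZMod.trace_pow_card, ih, ZMod.pow_card]

/-- A unipotent `2 × 2` matrix. -/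
theorem tr_det_of_pow {A : Matrix (Fin 2) (Fin 2) (ZMod l)} {k : ℕ} (h : A ^ l ^ k = 1) :
    A.trace = 2 ∧ A.det = 1 := by
  refine ⟨?_, pow_l_pow A.det (k := k) (by rw [← Matrix.det_pow, h, Matrix.det_one])⟩
  rw [← trace_pow_pow A k, h]
  simp

end blocks

namespace Lin

variable {l : ℕ} [Fact l.Prime] (L : Lin l)

include L in
theorem two_ne : (2 : ZMod l) ≠ 0 := by
  intro h
  have h1 : ((2 : ℕ) : ZMod l) = 0 := h
  rw [ZMod.natCast_eq_zero_iff] at h1
  exact L.hl2 ((Nat.prime_dvd_prime_iff_eq (Fact.out : l.Prime) Nat.prime_two).1 h1)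

include L in
theorem neg_ne_one : (-1 : ZMod l) ≠ 1 := fun h => L.two_ne (by linear_combination -h)

/-- The centraliser of `z` in `H`. -/
abbrev CH : Subgroup (GL₃ l) := L.H ⊓ centralizer ({L.z} : Set (GL₃ l))

theorem commute_z_iff {h : GL₃ l} : Commute h L.z ↔ Blk (h : M₃ l) := by
  rw [show Commute h L.z ↔ (h : M₃ l) * L.z = (L.z : M₃ l) * h from
    ⟨fun e => by rw [← Units.val_mul, ← Units.val_mul, e.eq],
      fun e => Units.ext (by rw [Units.val_mul, Units.val_mul]; exact e)⟩]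
  rw [L.z_eq]
  constructor
  · intro e
    have key : ∀ i j, (h : M₃ l) i j * (![1, -1, -1] : Fin 3 → ZMod l) j =
        (![1, -1, -1] : Fin 3 → ZMod l) i * (h : M₃ l) i j := fun i j => by
      have := congrFun (congrFun e i) j
      rwa [Matrix.mul_diagonal, Matrix.diagonal_mul] at this
    have h2 := L.two_ne
    refine ⟨?_, ?_, ?_, ?_⟩ <;> refine (mul_eq_zero.1 (?_ : (2 : ZMod l) * _ = 0)).resolve_left h2
    · have := key 0 1; simp at this; linear_combination -this
    · have := key 0 2; simp at this; linear_combination -this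
    · have := key 1 0; simp at this; linear_combination this
    · have := key 2 0; simp at this; linear_combination this
  · rintro ⟨h01, h02, h10, h20⟩
    ext i j
    rw [Matrix.mul_diagonal, Matrix.diagonal_mul]
    fin_cases i <;> fin_cases j <;> simp [h01, h02, h10, h20]

theorem mem_CH {h : GL₃ l} : h ∈ L.CH ↔ h ∈ L.H ∧ Blk (h : M₃ l) := by
  rw [Subgroup.mem_inf, Subgroup.mem_centralizer_singleton_iff]
  exact and_congr_right fun _ => L.commute_z_iff

theorem zz : L.z * L.z = 1 := Units.ext (by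
  rw [Units.val_mul, L.z_eq, Matrix.diagonal_mul_diagonal, Units.val_one, ← Matrix.diagonal_one]
  congr 1; ext i; fin_cases i <;> simp)

theorem ww : L.w * L.w = 1 := Units.ext (by
  rw [Units.val_mul, L.w_eq, Matrix.diagonal_mul_diagonal, Units.val_one, ← Matrix.diagonal_one]
  congr 1; ext i; fin_cases i <;> simp)

theorem w_inv : L.w⁻¹ = L.w := inv_eq_of_mul_eq_one_right L.ww

theorem z_inv : L.z⁻¹ = L.z := inv_eq_of_mul_eq_one_right L.zz

theorem z_ne : L.z ≠ 1 := fun h => L.neg_ne_one (by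
  have e0 := congrArg Units.val h
  rw [L.z_eq, Units.val_one] at e0
  have e := congrFun (congrFun e0 1) 1
  simpa using e)

theorem w_ne : L.w ≠ 1 := fun h => L.neg_ne_one (by
  have e0 := congrArg Units.val h
  rw [L.w_eq, Units.val_one] at e0
  have e := congrFun (congrFun e0 0) 0
  simpa using e)

theorem x_blk : Blk (L.x : M₃ l) := L.commute_z_iff.1 L.xz

theorem z_blk : Blk (L.z : M₃ l) := L.commute_z_iff.1 (Commute.refl _)

theorem w_blk : Blk (L.w : M₃ l) := by rw [L.w_eq]; exact ⟨by simp, by simp, by simp, by simp⟩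

theorem wz : Commute L.w L.z := L.commute_z_iff.2 L.w_blk

theorem xCH : L.x ∈ L.CH := L.mem_CH.2 ⟨L.xH, L.x_blk⟩

theorem wCH : L.w ∈ L.CH := L.mem_CH.2 ⟨L.wH, L.w_blk⟩

theorem blk_z : blk (L.z : M₃ l) = -1 := by
  rw [L.z_eq]; ext i j; fin_cases i <;> fin_cases j <;> simp [blk]

theorem blk_w : blk (L.w : M₃ l) = !![1, 0; 0, -1] := by
  rw [L.w_eq]; ext i j; fin_cases i <;> fin_cases j <;> simp [blk]

/-- The block of `x`. -/
theorem x_form : ∃ p q r : ZMod l, blk (L.x : M₃ l) = !![p, q; r, p] ∧ p * p - q * r = -1 ∧ p ≠ 0 ∧ q ≠ 0 ∧ r ≠ 0 := by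
  set M := blk (L.x : M₃ l) with hM
  have e : L.x * (L.w * L.x * L.w) = L.z := by rw [L.x_inv, mul_inv_cancel_left]
  have e' := congrArg (fun a : GL₃ l => blk (a : M₃ l)) e
  simp only [Units.val_mul] at e'
  rw [blk_mul L.x_blk, blk_mul (L.w_blk.mul L.x_blk), blk_mul L.w_blk, L.blk_w, L.blk_z, w_conj] at e'
  have e00 := congrFun (congrFun e' 0) 0
  have e01 := congrFun (congrFun e' 0) 1
  have e10 := congrFun (congrFun e' 1) 0
  have e11 := congrFun (congrFun e' 1) 1
  rw [← hM] at e00 e01 e10 e11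
  simp [Matrix.mul_apply, Fin.sum_univ_two] at e00 e01 e10 e11
  have hpow : M ^ 2 ^ (L.n - 1) = -1 := by
    rw [hM, ← blk_pow L.x_blk, ← Units.val_pow_eq_pow_val, L.x_pow, L.blk_z]
  have hn := L.hn
  -- the diagonal of a triangular power
  have htri : ∀ a : ZMod l, M 0 0 = a → (M 0 1 = 0 ∨ M 1 0 = 0) → a * a = -1 → False := by
    intro a ha h0 haa
    have hk : ∀ k, (M ^ k) 0 0 = a ^ k ∧ (M 0 1 = 0 → (M ^ k) 0 1 = 0) := by
      intro k
      induction k with
      | zero => simp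
      | succ k ih =>
        refine ⟨?_, fun h => ?_⟩
        · rw [pow_succ, pow_succ, Matrix.mul_apply, Fin.sum_univ_two, ih.1, ha]
          rcases h0 with h | h
          · rw [ih.2 h, zero_mul, add_zero]
          · rw [h, mul_zero, add_zero]
        · rw [pow_succ, Matrix.mul_apply, Fin.sum_univ_two, ih.2 h, h, mul_zero, zero_mul, add_zero]
    have h1 := (hk (2 ^ (L.n - 1))).1
    rw [hpow, show L.n - 1 = (L.n - 3) + 2 by omega, pow_add, mul_comm, pow_mul,
      show a ^ (2 ^ 2) = 1 by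
        rw [show (2 : ℕ) ^ 2 = 2 * 2 by rfl, pow_mul, sq a, haa]
        ring, one_pow] at h1
    simp at h1
    exact L.neg_ne_one h1
  have had : M 0 0 = M 1 1 := by
    by_contra hne
    have hb : M 0 1 = 0 := (mul_eq_zero.1 (show M 0 1 * (M 1 1 - M 0 0) = 0 by linear_combination e01)).resolve_right
      (sub_ne_zero.2 (Ne.symm hne))
    exact htri _ rfl (Or.inl hb) (by rw [hb] at e00; linear_combination e00)
  refine ⟨M 0 0, M 0 1, M 1 0, ?_, by linear_combination e00, ?_, ?_, ?_⟩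
  · ext i j; fin_cases i <;> fin_cases j <;> simp [had]
  · intro hp
    have hsq : M ^ 2 = 1 := by
      rw [sq]; ext i j
      fin_cases i <;> fin_cases j <;> simp [Matrix.mul_apply, Fin.sum_univ_two, ← had, hp]
      · rw [hp] at e00; linear_combination -e00
      · rw [hp] at e00; linear_combination -e00
    rw [show L.n - 1 = (L.n - 2) + 1 by omega, pow_succ', pow_mul, hsq, one_pow] at hpow
    have := congrFun (congrFun hpow 0) 0
    simp at this
    exact L.neg_ne_one this.symm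
  · exact fun h => htri _ rfl (Or.inl h) (by rw [h] at e00; linear_combination e00)
  · exact fun h => htri _ rfl (Or.inr h) (by rw [h] at e00; linear_combination e00)

theorem x_sq_nonscalar : ∀ c : ZMod l, blk ((L.x * L.x : GL₃ l) : M₃ l) ≠ c • 1 := by
  obtain ⟨p, q, r, e, -, hp, hq, -⟩ := L.x_form
  intro c h
  rw [Units.val_mul, blk_mul L.x_blk, e] at h
  have h01 := congrFun (congrFun h 0) 1
  simp [Matrix.mul_apply, Fin.sum_univ_two] at h01
  have h02 : (2 : ZMod l) * (p * q) = 0 := by linear_combination h01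
  simp [L.two_ne, hp, hq] at h02

theorem x_nonscalar : ∀ c : ZMod l, blk (L.x : M₃ l) ≠ c • 1 := by
  obtain ⟨p, q, r, e, -, -, hq, -⟩ := L.x_form
  intro c h
  rw [e] at h
  exact hq (by simpa using congrFun (congrFun h 0) 1)

theorem wxw_pow (k : ℕ) : L.w * L.x ^ k * L.w = (L.x ^ k)⁻¹ * L.z ^ k := by
  nth_rw 2 [← L.w_inv]
  rw [← conj_pow, L.w_inv, L.x_inv, (L.xz.inv_left).mul_pow, inv_pow]

/-- The element of order four. -/
theorem exists_i : ∃ i ∈ L.H, ∃ α β : ZMod l, α * β = -1 ∧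
    (i : M₃ l) = !![1, 0, 0; 0, 0, α; 0, β, 0] := by
  set i := L.x ^ 2 ^ (L.n - 2) with hi
  have hn := L.hn
  have hii : i * i = L.z := by
    rw [hi, ← pow_add, ← two_mul, ← pow_succ', show L.n - 2 + 1 = L.n - 1 by omega, L.x_pow]
  have hev : L.z ^ 2 ^ (L.n - 2) = 1 := by
    rw [show L.n - 2 = L.n - 3 + 1 by omega, pow_succ', pow_mul, sq, L.zz, one_pow]
  have hiw : L.w * i * L.w = i⁻¹ := by rw [hi, L.wxw_pow, hev, mul_one]
  have hB : Blk (i : M₃ l) := by rw [hi, Units.val_pow_eq_pow_val]; exact L.x_blk.pow _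
  have h1 : i * (L.w * i * L.w) = 1 := by rw [hiw, mul_inv_cancel]
  have e1 := congrArg (fun a : GL₃ l => blk (a : M₃ l)) h1
  have e2 := congrArg (fun a : GL₃ l => blk (a : M₃ l)) hii
  simp only [Units.val_mul, Units.val_one] at e1 e2
  rw [blk_mul hB, blk_mul (L.w_blk.mul hB), blk_mul L.w_blk, L.blk_w, blk_one, w_conj] at e1
  rw [blk_mul hB, L.blk_z] at e2
  set N := blk (i : M₃ l) with hN
  have a00 := congrFun (congrFun e1 0) 0
  have b00 := congrFun (congrFun e2 0) 0
  have a11 := congrFun (congrFun e1 1) 1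
  have b11 := congrFun (congrFun e2 1) 1
  simp [Matrix.mul_apply, Fin.sum_univ_two] at a00 b00 a11 b11
  have h00 : N 0 0 = 0 := by
    have : (2 : ZMod l) * (N 0 0 * N 0 0) = 0 := by linear_combination a00 + b00
    simpa [L.two_ne] using this
  have h11 : N 1 1 = 0 := by
    have : (2 : ZMod l) * (N 1 1 * N 1 1) = 0 := by linear_combination a11 + b11
    simpa [L.two_ne] using this
  have h0 : (i : M₃ l) 0 0 = 1 := by
    rw [hi, Units.val_pow_eq_pow_val, pow00 L.x_blk, L.x00, one_pow]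
  refine ⟨i, pow_mem L.xH _, N 0 1, N 1 0, ?_, ?_⟩
  · rw [h00] at b00; linear_combination b00
  · obtain ⟨h01, h02, h10, h20⟩ := hB
    have a : (i : M₃ l) 1 1 = 0 := h00
    have b : (i : M₃ l) 2 2 = 0 := h11
    ext u v
    fin_cases u <;> fin_cases v <;> simp [h0, h01, h02, h10, h20, a, b, hN, blk]

/-- The semidihedral Sylow subgroup. -/
def S : Subgroup (GL₃ l) := zpowers L.x ⊔ zpowers L.w

theorem x_order : orderOf L.x = 2 ^ L.n := by
  haveI : Fact (Nat.Prime 2) := ⟨Nat.prime_two⟩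
  have h := L.hn
  rw [show L.n = (L.n - 1) + 1 by omega]
  exact orderOf_eq_prime_pow (by rw [L.x_pow]; exact L.z_ne) (by rw [pow_succ, pow_mul, L.x_pow, sq, L.zz])

theorem w_norm : zpowers L.w ≤ normalizer (zpowers L.x : Set (GL₃ l)) := by
  refine zpowers_le.2 (mem_normalizer_fintype fun y hy => ?_)
  obtain ⟨k, rfl⟩ := mem_zpowers_iff.1 hy
  rw [← conj_zpow, L.w_inv, L.x_inv]
  exact zpow_mem (mul_mem (inv_mem (mem_zpowers _)) (L.x_pow ▸ pow_mem (mem_zpowers _) _)) k

theorem w_not : L.w ∉ zpowers L.x := fun hw => by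
  obtain ⟨k, hk⟩ := mem_zpowers_iff.1 hw
  have h : L.w * L.x = L.x * L.w := by rw [← hk]; exact ((Commute.refl L.x).zpow_left k).eq
  have h2 : L.x * L.x = L.z := by
    have h3 := L.x_inv
    rw [h, mul_assoc, L.ww, mul_one] at h3
    nth_rw 2 [h3]
    rw [mul_inv_cancel_left]
  exact L.x_sq_nonscalar (-1) (by rw [h2, L.blk_z, neg_one_smul])

theorem card_S : Nat.card L.S = 2 ^ (L.n + 1) := by
  have h := Grp.card_sup_mul_card_inf (H := zpowers L.w) (N := zpowers L.x) L.w_norm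
  have h2 : zpowers L.w ⊓ zpowers L.x = ⊥ := by
    refine (Subgroup.eq_bot_iff_forall _).2 fun y hy => ?_
    obtain ⟨k, rfl⟩ := mem_zpowers_iff.1 hy.1
    rcases Int.even_or_odd k with ⟨m, rfl⟩ | ⟨m, rfl⟩
    · rw [_root_.zpow_add, ← (Commute.refl L.w).mul_zpow, L.ww, _root_.one_zpow]
    · exfalso
      refine L.w_not ?_
      have h := hy.2
      rwa [_root_.zpow_add, _root_.zpow_mul, zpow_two, L.ww, _root_.one_zpow, one_mul, zpow_one] at h
  rw [h2, Subgroup.card_bot, mul_one, sup_comm, Nat.card_zpowers, Nat.card_zpowers, L.x_order,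
    orderOf_eq_prime (by rw [sq, L.ww]) L.w_ne] at h
  rw [S, h, pow_succ']

theorem S_le : L.S ≤ L.CH := sup_le (zpowers_le.2 L.xCH) (zpowers_le.2 L.wCH)

theorem S_le_norm : L.S ≤ normalizer (L.K₀ : Set (GL₃ l)) := L.S_le.trans L.K₀_norm

theorem K₀_blk {h : GL₃ l} (hh : h ∈ L.K₀) : Blk (h : M₃ l) := (L.mem_CH.1 (L.K₀_le hh)).2

/-- `K₀` has order prime to `l`. -/
theorem not_dvd_K₀ : ¬ l ∣ Nat.card L.K₀ := by
  intro hdvd
  obtain ⟨P, hP, hSP⟩ := Grp.exists_invariant_sylow L.S L.K₀ L.S_le_norm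
    (by rw [L.card_S]; exact (Nat.coprime_two_left.2 L.K₀_odd).pow_left _)
    (Or.inl (by
      haveI : Fact (Nat.Prime 2) := ⟨Nat.prime_two⟩
      haveI := (IsPGroup.of_card (p := 2) L.card_S).isNilpotent
      infer_instance)) l
  have hbad : ∀ u ∈ P, u = 1 := by
    intro u hu
    have hB : ∀ {y}, y ∈ P → Blk (y : M₃ l) := fun {y} hy => L.K₀_blk (hP.1 hy)
    have hun : ∀ {y}, y ∈ P → ((y : GL₃ l) : M₃ l) 0 0 = 1 ∧
        (blk (y : M₃ l)).trace = 2 ∧ (blk (y : M₃ l)).det = 1 := by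
      intro y hy
      obtain ⟨k, hk⟩ := hP.2.1 ⟨y, hy⟩
      have hk' : (y : M₃ l) ^ l ^ k = 1 := by
        rw [← Units.val_pow_eq_pow_val, show y ^ l ^ k = 1 from congrArg Subtype.val hk, Units.val_one]
      exact ⟨pow_l_pow _ (k := k) (by rw [← pow00 (hB hy), hk']; simp),
        tr_det_of_pow (k := k) (by rw [← blk_pow (hB hy), hk', blk_one])⟩
    obtain ⟨h0, ht, hd⟩ := hun hu
    have hwu : L.w * u * L.w ∈ P := by
      have := (Subgroup.mem_normalizer_iff.1 (hSP (le_sup_right (a := zpowers L.x) (mem_zpowers L.w))) u).1 hu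
      rwa [L.w_inv] at this
    have hxu : L.x * u * (L.w * L.x * L.w) * L.z ∈ P := by
      have := (Subgroup.mem_normalizer_iff.1 (hSP (le_sup_left (b := zpowers L.w) (mem_zpowers L.x))) u).1 hu
      rwa [L.x_inv, ← mul_assoc, mul_assoc (L.x * u * L.x⁻¹), L.zz, mul_one]
    have t1 := (hun (mul_mem hu hwu)).2.1
    have t2 := (hun (mul_mem hu hxu)).2.1
    simp only [Units.val_mul] at t1 t2
    rw [blk_mul (hB hu), blk_mul (L.w_blk.mul (hB hu)), blk_mul L.w_blk, L.blk_w, w_conj] at t1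
    rw [blk_mul (hB hu), blk_mul ((L.x_blk.mul (hB hu)).mul ((L.w_blk.mul L.x_blk).mul L.w_blk)),
      blk_mul (L.x_blk.mul (hB hu)), blk_mul L.x_blk, blk_mul (L.w_blk.mul L.x_blk), blk_mul L.w_blk,
      L.blk_w, L.blk_z, w_conj] at t2
    obtain ⟨p, q, r, ex, hpqr, -, hq, hr⟩ := L.x_form
    rw [ex] at t2
    set N := blk (u : M₃ l) with hN
    simp [Matrix.trace_fin_two, Matrix.det_fin_two, Matrix.mul_apply, Fin.sum_univ_two, Matrix.vecMul, dotProduct] at t1 t2 ht hd
    have e11 : N 1 1 = 2 - N 0 0 := by linear_combination ht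
    rw [e11] at t1 t2 hd
    have hd' : N 0 1 * N 1 0 = -(N 0 0 - 1) ^ 2 := by linear_combination -hd
    have h00 : N 0 0 = 1 := by
      have : (4 : ZMod l) * ((N 0 0 - 1) * (N 0 0 - 1)) = 0 := by linear_combination t1 + (2 : ZMod l) * hd'
      have h4 : (4 : ZMod l) ≠ 0 := by
        rw [show (4 : ZMod l) = 2 * 2 by norm_num]; exact mul_ne_zero L.two_ne L.two_ne
      rw [mul_eq_zero, mul_eq_zero, sub_eq_zero] at this
      tauto
    rw [h00] at t2 hd'
    have hbc : N 0 1 = 0 ∨ N 1 0 = 0 := mul_eq_zero.1 (by rw [hd']; ring)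
    have hz : N 0 1 = 0 ∧ N 1 0 = 0 := by
      rcases hbc with h | h
      · refine ⟨h, ?_⟩
        rw [h] at t2
        have : (q * q) * (N 1 0 * N 1 0) = 0 := by linear_combination t2 + 2 * hpqr
        simpa [hq] using this
      · refine ⟨?_, h⟩
        rw [h] at t2
        have : (r * r) * (N 0 1 * N 0 1) = 0 := by linear_combination t2 + 2 * hpqr
        simpa [hr] using this
    refine Units.ext (blk_ext (hB hu) Blk.one (by rw [h0]; simp) ?_)
    rw [Units.val_one, blk_one, ← hN]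
    ext i j
    fin_cases i <;> fin_cases j <;> simp [h00, hz.1, hz.2, e11]
    norm_num
  have hc := hP.card
  rw [show P = ⊥ from (Subgroup.eq_bot_iff_forall P).2 hbad, Subgroup.card_bot] at hc
  have h2 := (Nat.pow_eq_one.1 hc.symm).resolve_left (Fact.out : l.Prime).one_lt.ne'
  exact ((Fact.out : l.Prime).factorization_pos_of_dvd Nat.card_pos.ne' hdvd).ne' h2

/-- A unitriangular matrix. -/
theorem no_tv {t : GL₃ l} (ht : t ∈ L.H) {c₁ c₂ : ZMod l} (e : (t : M₃ l) = !![1, c₁, c₂; 0, 1, 0; 0, 0, 1]) :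
    c₁ = 0 ∧ c₂ = 0 := by
  obtain ⟨i, hi, α, β, hαβ, ei⟩ := L.exists_i
  have hα : α ≠ 0 := fun h => by rw [h, zero_mul] at hαβ; exact one_ne_zero (neg_eq_zero.1 hαβ.symm)
  have hβ : β ≠ 0 := fun h => by rw [h, mul_zero] at hαβ; exact one_ne_zero (neg_eq_zero.1 hαβ.symm)
  -- from `(0, c)` to a unipotent element of the centraliser
  have core : ∀ {t : GL₃ l}, t ∈ L.H → ∀ c : ZMod l, (t : M₃ l) = !![1, 0, c; 0, 1, 0; 0, 0, 1] → c = 0 := by
    intro t ht c e
    by_contra hc
    set a := (L.g : M₃ l) 0 1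
    set b := (L.g : M₃ l) 1 0
    set d := (L.g : M₃ l) 2 2
    have eg : (L.g : M₃ l) = !![0, a, 0; b, 0, 0; 0, 0, d] := by
      ext u v
      fin_cases u <;> fin_cases v <;> simp [a, b, d, L.g00, L.g11, L.g02, L.g20, L.g12, L.g21]
    have hdet : a * b * d ≠ 0 := fun h => by
      apply Matrix.GeneralLinearGroup.det_ne_zero L.g
      rw [eg, Matrix.det_fin_three]; simpa [mul_assoc] using h
    simp only [mul_ne_zero_iff] at hdet
    set c' := b * c / d with hc'
    set s := L.g * t * L.g⁻¹ with hs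
    have es : (s : M₃ l) = !![1, 0, 0; 0, 1, c'; 0, 0, 1] := by
      have h1 : (L.g : M₃ l) * t = !![1, 0, 0; 0, 1, c'; 0, 0, 1] * (L.g : M₃ l) := by
        rw [eg, e]
        ext u v
        fin_cases u <;> fin_cases v <;> simp [Matrix.mul_apply, Fin.sum_univ_three, hc']
        field_simp [hdet.2]
      rw [hs, Units.val_mul, Units.val_mul, h1, Units.mul_inv_cancel_right]
    have hsC : s ∈ L.CH :=
      L.mem_CH.2 ⟨mul_mem (mul_mem L.gH ht) (inv_mem L.gH), by rw [es]; exact ⟨by simp, by simp, by simp, by simp⟩⟩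
    have hp : ∀ k : ℕ, ((s ^ k : GL₃ l) : M₃ l) = !![1, 0, 0; 0, 1, (k : ZMod l) * c'; 0, 0, 1] := by
      intro k
      induction k with
      | zero =>
        rw [pow_zero, Units.val_one]
        ext u v; fin_cases u <;> fin_cases v <;> simp
      | succ k ih =>
        rw [pow_succ, Units.val_mul, ih, es]
        ext u v; fin_cases u <;> fin_cases v <;> simp [Matrix.mul_apply, Fin.sum_univ_three]; ring
    obtain ⟨j, hj⟩ := L.K₀_two s hsC
    have hne : s ^ 2 ^ j ≠ 1 := fun h => by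
      have e0 := congrArg Units.val h
      rw [hp, Units.val_one] at e0
      have := congrFun (congrFun e0 1) 2
      simp [hc', hdet.1.2, hdet.2, hc, L.two_ne] at this
    have hl : (s ^ 2 ^ j) ^ l = 1 := Units.ext (by
      rw [← pow_mul, hp, Nat.cast_mul, ZMod.natCast_self, mul_zero, zero_mul, Units.val_one]
      ext u v; fin_cases u <;> fin_cases v <;> simp)
    apply L.not_dvd_K₀
    have h := Subgroup.orderOf_dvd_natCard _ hj
    simpa only [orderOf_eq_prime hl hne] using h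
  have hwtw : ((L.w * t * L.w : GL₃ l) : M₃ l) = !![1, -c₁, c₂; 0, 1, 0; 0, 0, 1] := by
    rw [Units.val_mul, Units.val_mul, L.w_eq, e]
    ext u v; fin_cases u <;> fin_cases v <;> simp
  have hwH : L.w * t * L.w ∈ L.H := mul_mem (mul_mem L.wH ht) L.wH
  have h2 : c₂ = 0 := by
    have := core (mul_mem ht hwH) (2 * c₂) (by
      rw [Units.val_mul, e, hwtw]
      ext u v; fin_cases u <;> fin_cases v <;> simp [Matrix.mul_apply, Fin.sum_univ_three]; ring)
    simpa [L.two_ne] using this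
  refine ⟨?_, h2⟩
  subst h2
  have h1 : (i : M₃ l) * t = !![1, 0, c₁ / β; 0, 1, 0; 0, 0, 1] * (i : M₃ l) := by
    rw [ei, e]
    ext u v
    fin_cases u <;> fin_cases v <;> simp [Matrix.mul_apply, Fin.sum_univ_three]
    field_simp
  have := core (mul_mem (mul_mem hi ht) (inv_mem hi)) (c₁ / β) (by
    rw [Units.val_mul, Units.val_mul, h1, Units.mul_inv_cancel_right])
  simpa [hβ] using this

/-- An element of `H` fixing the first axis commutes with `z`. -/
theorem commute_of_col {h : GL₃ l} (hh : h ∈ L.H) (h10 : (h : M₃ l) 1 0 = 0) (h20 : (h : M₃ l) 2 0 = 0) :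
    Commute h L.z := by
  set A := (h : M₃ l) with hA
  set B := ((h⁻¹ : GL₃ l) : M₃ l) with hB
  have hBA : B * A = 1 := by rw [hB, hA, ← Units.val_mul, inv_mul_cancel, Units.val_one]
  have hAB : A * B = 1 := by rw [hB, hA, ← Units.val_mul, mul_inv_cancel, Units.val_one]
  have b0 : ∀ i, B i 0 * A 0 0 = (1 : M₃ l) i 0 := fun i => by
    have := congrFun (congrFun hBA i) 0
    simpa [Matrix.mul_apply, Fin.sum_univ_three, h10, h20] using this
  have hA0 : A 0 0 ≠ 0 := fun h0 => by have := b0 0; rw [h0, mul_zero] at this; simp at this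
  have hB10 : B 1 0 = 0 := by have := b0 1; simpa [hA0] using this
  have hB20 : B 2 0 = 0 := by have := b0 2; simpa [hA0] using this
  have ab : ∀ i j, A i 0 * B 0 j + A i 1 * B 1 j + A i 2 * B 2 j = (1 : M₃ l) i j := fun i j => by
    have := congrFun (congrFun hAB i) j
    simpa [Matrix.mul_apply, Fin.sum_univ_three] using this
  have et : ((h * L.z * h⁻¹ * L.z : GL₃ l) : M₃ l) =
      !![1, -2 * A 0 0 * B 0 1, -2 * A 0 0 * B 0 2; 0, 1, 0; 0, 0, 1] := by
    rw [Units.val_mul, Units.val_mul, Units.val_mul, L.z_eq, ← hA, ← hB]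
    have a00 := ab 0 0
    have a01 := ab 0 1
    have a02 := ab 0 2
    have a10 := ab 1 0
    have a11 := ab 1 1
    have a12 := ab 1 2
    have a20 := ab 2 0
    have a21 := ab 2 1
    have a22 := ab 2 2
    simp [h10, h20, hB10, hB20] at a00 a01 a02 a10 a11 a12 a20 a21 a22
    ext u v
    fin_cases u <;> fin_cases v <;> simp [Matrix.mul_apply, Fin.sum_univ_three, h10, h20, hB10, hB20] <;>
      first
        | linear_combination a00
        | linear_combination a01
        | linear_combination a02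
        | linear_combination a11
        | linear_combination a12
        | linear_combination a21
        | linear_combination a22
  obtain ⟨e1, e2⟩ := L.no_tv (mul_mem (mul_mem (mul_mem hh L.zH) (inv_mem hh)) L.zH) et
  simp [L.two_ne, hA0] at e1 e2
  exact Commute.inv_left_iff.1 (L.commute_z_iff.2 ⟨e1, e2, hB10, hB20⟩)

/-- The Sylow subgroup is a `2`-group. -/
theorem S_two : IsPGroup 2 L.S := IsPGroup.of_card L.card_S

end Lin

end Cfsg.Agent.Invol.AbgOrder.Ell
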