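import Cfsg.Agent.Lib.Invol.AbgOrder.EllLinProj

/-!
# The subgroup given by the theorem of Brauer, Suzuki and Wall

It may be chosen normalised by the abelian part of the centraliser and by one of the outer elements `x`, `w x`.
-/

set_option autoImplicit false
set_option linter.unusedSectionVars false
set_option linter.style.haveILetI false

namespace Cfsg.Agent.Invol.AbgOrder.Ell

open Matrix Subgroup
open scoped Pointwise

local notation "M₃" l => Matrix (Fin 3) (Fin 3) (ZMod l)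
local notation "GL₃" l => GL (Fin 3) (ZMod l)

theorem card_sup_invol {G : Type*} [Group G] [Finite G] {D : Subgroup G} {u : G} (hu : u * u = 1) (huD : u ∉ D)
    (hn : u ∈ normalizer (D : Set G)) :
    Nat.card ↥(D ⊔ zpowers u) = 2 * Nat.card D ∧ ∀ g ∈ D ⊔ zpowers u, g ∈ D ∨ g * u ∈ D := by
  have h := Grp.card_sup_mul_card_inf (H := zpowers u) (N := D) (zpowers_le.2 hn)
  have hpow : ∀ k : ℤ, u ^ k = 1 ∨ u ^ k = u := fun k => by
    rcases Int.even_or_odd k with ⟨m, rfl⟩ | ⟨m, rfl⟩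
    · left; rw [_root_.zpow_add, ← (Commute.refl u).mul_zpow, hu, _root_.one_zpow]
    · right; rw [_root_.zpow_add, _root_.zpow_mul, zpow_two, hu, _root_.one_zpow, one_mul, zpow_one]
  have hinf : zpowers u ⊓ D = ⊥ := by
    refine (Subgroup.eq_bot_iff_forall _).2 fun y hy => ?_
    obtain ⟨k, rfl⟩ := mem_zpowers_iff.1 hy.1
    rcases hpow k with e | e
    · exact e
    · exact absurd (e ▸ hy.2) huD
  rw [hinf, Subgroup.card_bot, mul_one, sup_comm, Nat.card_zpowers,
    orderOf_eq_prime (by rw [sq, hu]) (fun e => huD (by rw [e]; exact one_mem D))] at h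
  refine ⟨h, fun g hg => ?_⟩
  have hg' : g ∈ ((D ⊔ zpowers u : Subgroup G) : Set G) := hg
  rw [Subgroup.coe_mul_of_right_le_normalizer_left _ _ (zpowers_le.2 hn)] at hg'
  obtain ⟨d, hd, v, ⟨k, rfl⟩, rfl⟩ := hg'
  rcases hpow k with e | e <;> simp only [e]
  · left; rw [mul_one]; exact hd
  · right; rw [mul_assoc, hu, mul_one]; exact hd

namespace Lin

variable {l : ℕ} [Fact l.Prime]

/-- The data taken from the theorem of Brauer, Suzuki and Wall. -/
structure Bs (L : Lin l) where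
  Q : Subgroup (PQ l)
  le : Q ≤ L.Gb
  odd : Odd (Nat.card Q)
  nine : 9 ≤ Nat.card Q
  cardG : 2 * Nat.card L.Gb = Nat.card Q * (Nat.card Q + 1) * (Nat.card Q - 1)
  cardK : 2 * Nat.card L.Kb + 1 = Nat.card Q
  cent : ∀ x ∈ Q, x ≠ 1 → L.Gb ⊓ centralizer ({x} : Set (PQ l)) = Q
  tN : prj L.z ∈ normalizer (Q : Set (PQ l))
  xxN : prj (L.x * L.x) ∈ normalizer (Q : Set (PQ l))
  rN : prj L.x ∈ normalizer (Q : Set (PQ l)) ∨ prj (L.w * L.x) ∈ normalizer (Q : Set (PQ l))

variable (L : Lin l)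

theorem invol_H₂ {y : GL₃ l} (hy : y ∈ L.H) (hyy : y * y = 1) : y ∈ L.H₂ := by
  rcases eq_or_ne y 1 with rfl | h1
  · exact one_mem _
  obtain ⟨a, ha, e⟩ := L.invol_conj hy hyy h1
  rw [show y = a⁻¹ * (a * y * a⁻¹) * a by group, e]
  exact mul_mem (mul_mem (inv_mem ha) L.z_H₂) ha

theorem H₂_conj {h y : GL₃ l} (hh : h ∈ L.H) (hy : y ∈ L.H₂) : h * y * h⁻¹ ∈ L.H₂ :=
  L.mem_H₂.2 ⟨mul_mem (mul_mem hh (L.H₂_le hy)) (inv_mem hh), by rw [dt_conj]; exact (L.mem_H₂.1 hy).2⟩

theorem prj_normal {h : GL₃ l} (hh : h ∈ L.H) : prj h ∈ normalizer (L.Gb : Set (PQ l)) := by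
  refine mem_normalizer_fintype ?_
  rintro _ ⟨y, hy, rfl⟩
  exact ⟨h * y * h⁻¹, L.H₂_conj hh hy, by rw [map_mul, map_mul, map_inv]⟩

theorem xx_ne : prj (L.x * L.x) ≠ 1 ∧ prj (L.x * L.x) ≠ prj L.z := by
  refine ⟨fun h => ?_, fun h => ?_⟩
  · obtain ⟨c, hc⟩ := prj_eq_one.1 h
    exact L.x_sq_nonscalar c (blk_scalar hc).2.2
  · obtain ⟨c, hc⟩ := (prj_eq (a := L.z) (b := L.x * L.x)).1 h.symm
    rw [L.z_inv, Units.val_mul] at hc
    have h2 := (blk_scalar hc).2.2
    rw [blk_mul L.z_blk, L.blk_z, neg_one_mul] at h2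
    exact L.x_sq_nonscalar (-c) (by rw [neg_smul, ← h2, neg_neg])

theorem xx_Kb : prj (L.x * L.x) ∈ L.Kb :=
  ⟨L.x * L.x, le_sup_right (a := L.K₀) (mem_zpowers (L.x * L.x)), rfl⟩

/-- An element normalising `Gb` can be moved into the normaliser of `Q`. -/
theorem exists_move {Q : Subgroup (PQ l)} (hQ : Q ≤ L.Gb) (hodd : Odd (Nat.card Q)) (h3 : 3 ≤ Nat.card Q)
    (hcard : 2 * Nat.card L.Gb = Nat.card Q * (Nat.card Q + 1) * (Nat.card Q - 1))
    (hcent : ∀ x ∈ Q, x ≠ 1 → L.Gb ⊓ centralizer ({x} : Set (PQ l)) = Q) {n : PQ l}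
    (hn : n ∈ normalizer (L.Gb : Set (PQ l))) : ∃ g ∈ L.Gb, g * n ∈ normalizer (Q : Set (PQ l)) := by
  obtain ⟨p, hp, hpq⟩ := Nat.exists_prime_and_dvd (show Nat.card Q ≠ 1 by omega)
  haveI := Fact.mk hp
  obtain ⟨P, hP⟩ := Grp.exists_isSylowIn p Q
  have hPG : Grp.IsSylowIn p P L.Gb := ⟨hP.1.trans hQ, hP.2.1, fun hd => by
    rw [← Subgroup.relIndex_mul_relIndex P Q L.Gb hP.1 hQ] at hd
    rcases hp.dvd_mul.1 hd with h | h
    · exact hP.2.2 h
    · have h1 := Grp.card_mul_relIndex hQ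
      have h2 : 2 * Q.relIndex L.Gb = (Nat.card Q + 1) * (Nat.card Q - 1) := by
        refine Nat.eq_of_mul_eq_mul_left (Nat.card_pos (α := Q)) ?_
        rw [← mul_assoc (Nat.card Q) (Nat.card Q + 1), ← hcard, ← h1]
        ring
      have hp2 : p ≠ 2 := fun e => hodd.not_two_dvd_nat (e ▸ hpq)
      have h' : p ∣ (Nat.card Q + 1) * (Nat.card Q - 1) := h2 ▸ h.mul_left 2
      rcases hp.dvd_mul.1 h' with h'' | h''
      · have := Nat.dvd_sub h'' hpq
        rw [Nat.add_sub_cancel_left, Nat.dvd_one] at this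
        exact hp.one_lt.ne' this
      · have := Nat.dvd_sub hpq h''
        rw [Nat.sub_sub_self (by omega), Nat.dvd_one] at this
        exact hp.one_lt.ne' this⟩
  obtain ⟨g, hg, e⟩ := (hPG.smul (Grp.mem_normalizer_iff_smul.1 hn)).conj hPG
  refine ⟨g, hg, mem_normalizer_fintype fun y hy => ?_⟩
  have hgnP : g * n ∈ normalizer (P : Set (PQ l)) :=
    Grp.mem_normalizer_iff_smul.2 (by rw [map_mul, mul_smul]; exact e)
  obtain ⟨x, hx, hx1⟩ : ∃ x ∈ P, x ≠ 1 := by
    by_contra h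
    push Not at h
    have hc := hP.card
    rw [(Subgroup.eq_bot_iff_forall P).2 h, Subgroup.card_bot] at hc
    exact (hp.factorization_pos_of_dvd Nat.card_pos.ne' hpq).ne'
      ((Nat.pow_eq_one.1 hc.symm).resolve_left hp.one_lt.ne')
  set a := g * n with ha
  rw [← hcent (a * x * a⁻¹) (hP.1 ((Subgroup.mem_normalizer_iff.1 hgnP x).1 hx))
    (fun h => hx1 (conj_eq_one_iff.1 h))]
  have hyC : y ∈ L.Gb ⊓ centralizer ({x} : Set (PQ l)) := by rw [hcent x (hP.1 hx) hx1]; exact hy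
  refine ⟨?_, Subgroup.mem_centralizer_singleton_iff.2 ?_⟩
  · exact (Subgroup.mem_normalizer_iff.1 (mul_mem (Subgroup.le_normalizer hg) hn) y).1 hyC.1
  · exact ((show Commute y x from Subgroup.mem_centralizer_singleton_iff.1 hyC.2).map (MulAut.conj a)).eq

/-- An element of `H` outside `H₂` has a power which is an involution. -/
theorem exists_invol_pow {h : GL₃ l} (hh : h ∈ L.H) (hh2 : h ∉ L.H₂) :
    ∃ j : GL₃ l, ∃ k : ℕ, j = (h * h) ^ k ∧ j * j = 1 ∧ j ≠ 1 ∧ h ^ L.m ∉ L.H₂ := by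
  have hdt : dt h ^ L.m = -1 := (L.dt_m hh).resolve_left fun e => hh2 (L.mem_H₂.2 ⟨hh, e⟩)
  have h' : h ^ L.m ∉ L.H₂ := fun hm => L.neg_ne_one (by
    have := (L.mem_H₂.1 hm).2
    rwa [map_pow, hdt, L.m_odd.neg_one_pow] at this)
  have h2 : (h * h) ^ L.m ≠ 1 := fun e => h' (L.invol_H₂ (pow_mem hh _) (by
    rw [← pow_add, ← two_mul, pow_mul, sq, e]))
  have h4 : ((h * h) ^ L.m) ^ 2 ^ L.n = 1 := by
    rw [← sq, ← pow_mul, ← pow_mul, show 2 * (L.m * 2 ^ L.n) = 2 ^ (L.n + 1) * L.m by ring, ← L.card_H]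
    exact congrArg Subtype.val (pow_card_eq_one' (x := (⟨h, hh⟩ : L.H)))
  obtain ⟨e, -, he⟩ := (Nat.dvd_prime_pow Nat.prime_two).1 (orderOf_dvd_of_pow_eq_one h4)
  obtain _ | e := e
  · exact absurd (orderOf_eq_one_iff.1 he) h2
  refine ⟨((h * h) ^ L.m) ^ 2 ^ e, L.m * 2 ^ e, (pow_mul _ _ _).symm, ?_, ?_, h'⟩
  · rw [← pow_add, ← two_mul, ← pow_succ', ← he, pow_orderOf_eq_one]
  · exact pow_ne_one_of_lt_orderOf (by positivity) (by rw [he]; exact Nat.pow_lt_pow_right one_lt_two (by omega))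

theorem exists_bs : Nonempty (Bs L) := by
  haveI : Fact (Nat.Prime 2) := ⟨Nat.prime_two⟩
  obtain ⟨Q, D, hQ, hD, hcard, hcent, hDc, hDQ, hQD, hN, hX⟩ := L.bsw
  set G := L.Gb with hG
  have hodd : Odd (Nat.card Q) := ⟨Nat.card D, hDQ.symm⟩
  have hD0 : 0 < Nat.card D := Nat.card_pos
  have hn1 : prj L.x ∈ normalizer (G : Set (PQ l)) := L.prj_normal L.xH
  -- `D` has even order
  have hDeven : 2 ∣ Nat.card D := by
    by_contra hDo
    obtain ⟨g, hg, hgn⟩ := L.exists_move hQ hodd (by omega) hcard hcent hn1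
    obtain ⟨a, ha, rfl⟩ := hg
    set h := a * L.x with hh
    have hhH : h ∈ L.H := mul_mem (L.H₂_le ha) L.xH
    have hh2 : h ∉ L.H₂ := fun e => L.x_not (by
      have := mul_mem (inv_mem ha) e
      rwa [hh, inv_mul_cancel_left] at this)
    obtain ⟨j, k, hj, hjj, hj1, -⟩ := L.exists_invol_pow hhH hh2
    have hjH : j ∈ L.H := hj ▸ pow_mem (mul_mem hhH hhH) k
    have hmem : prj j ∈ Q ⊔ D := by
      rw [← hN]
      refine ⟨⟨j, L.invol_H₂ hjH hjj, rfl⟩, ?_⟩
      rw [hj, map_pow, map_mul, hh, map_mul]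
      exact pow_mem (mul_mem hgn hgn) k
    have hc := Grp.card_sup_mul_card_inf (H := D) (N := Q) ((le_sup_right (a := Q)).trans (hN.ge.trans inf_le_right))
    rw [inf_comm, hQD, Subgroup.card_bot, mul_one, sup_comm] at hc
    have hdvd := Subgroup.orderOf_dvd_natCard _ hmem
    rw [orderOf_eq_prime (by rw [sq, ← map_mul, hjj, map_one]) (fun e => hj1 (L.scl_invol hjH (prj_eq_one.1 e) hjj)),
      hc] at hdvd
    exact ((Nat.odd_iff.2 (Nat.two_dvd_ne_zero.1 hDo)).mul hodd).not_two_dvd_nat hdvd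
  obtain ⟨⟨u₀, hu₀⟩, ho⟩ := exists_prime_orderOf_dvd_card' 2 hDeven
  rw [Subgroup.orderOf_mk] at ho
  have hu₀2 : u₀ * u₀ = 1 := by rw [← sq, ← ho, pow_orderOf_eq_one]
  have hu₀1 : u₀ ≠ 1 := fun e => by rw [e, orderOf_one] at ho; norm_num at ho
  obtain ⟨hNX, u, huG, huu, huD, huinv, hND⟩ := hX (zpowers u₀) (zpowers_le.2 hu₀)
    (fun e => hu₀1 (Subgroup.zpowers_eq_bot.1 e))
  obtain ⟨a, ha, hat⟩ := L.conj_t (hD hu₀) hu₀2 hu₀1
  set t := prj L.z with ht
  have haG : a ∈ normalizer (G : Set (PQ l)) := Subgroup.le_normalizer ha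
  have hGa : ∀ {y}, y ∈ G → a⁻¹ * y * a ∈ G := fun {y} hy => mul_mem (mul_mem (inv_mem ha) hy) ha
  -- conjugate
  set Q' := cj a Q with hQ'
  set D' := cj a D with hD'
  have hQ'G : Q' ≤ G := fun y hy => by
    rw [show y = a * (a⁻¹ * y * a) * a⁻¹ by group]
    exact mul_mem (mul_mem ha (hQ (mem_cj.1 hy))) (inv_mem ha)
  have hD'G : D' ≤ G := fun y hy => by
    rw [show y = a * (a⁻¹ * y * a) * a⁻¹ by group]
    exact mul_mem (mul_mem ha (hD (mem_cj.1 hy))) (inv_mem ha)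
  have hcent' : ∀ x ∈ Q', x ≠ 1 → G ⊓ centralizer ({x} : Set (PQ l)) = Q' := fun x hx hx1 => by
    have h := hcent _ (mem_cj.1 hx) (fun e => hx1 (by rw [show x = a * (a⁻¹ * x * a) * a⁻¹ by group, e, mul_one, mul_inv_cancel]))
    ext y
    rw [mem_cj, ← h, Subgroup.mem_inf, Subgroup.mem_inf, Subgroup.mem_centralizer_singleton_iff,
      Subgroup.mem_centralizer_singleton_iff]
    refine and_congr ⟨fun hy => hGa hy, fun hy => ?_⟩ ⟨fun hy => ?_, fun hy => ?_⟩
    · rw [show y = a * (a⁻¹ * y * a) * a⁻¹ by group]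
      exact mul_mem (mul_mem ha hy) (inv_mem ha)
    · calc a⁻¹ * y * a * (a⁻¹ * x * a) = a⁻¹ * (y * x) * a := by group
        _ = a⁻¹ * x * a * (a⁻¹ * y * a) := by rw [hy]; group
    · calc y * x = a * (a⁻¹ * y * a * (a⁻¹ * x * a)) * a⁻¹ := by group
        _ = x * y := by rw [hy]; group
  have htD : t ∈ D' := mem_cj.2 (by
    rw [show a⁻¹ * t * a = u₀ by rw [← hat]; group]
    exact hu₀)
  have hD'c : ∀ x ∈ D', ∀ y ∈ D', x * y = y * x := fun x hx y hy => by
    have h := hDc _ (mem_cj.1 hx) _ (mem_cj.1 hy)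
    calc x * y = a * (a⁻¹ * x * a * (a⁻¹ * y * a)) * a⁻¹ := by group
      _ = y * x := by rw [h]; group
  set u' := a * u * a⁻¹ with hu'
  have hu'inv : ∀ d ∈ D', u' * d * u'⁻¹ = d⁻¹ := fun d hd => by
    calc u' * d * u'⁻¹ = a * (u * (a⁻¹ * d * a) * u⁻¹) * a⁻¹ := by rw [hu']; group
      _ = d⁻¹ := by rw [huinv _ (mem_cj.1 hd)]; group
  have hu'u : u' * u' = 1 := by
    rw [hu', show a * u * a⁻¹ * (a * u * a⁻¹) = a * (u * u) * a⁻¹ by group, huu, mul_one, mul_inv_cancel]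
  have hu'D : u' ∉ D' := fun h => huD (by
    have := mem_cj.1 h
    rwa [hu', show a⁻¹ * (a * u * a⁻¹) * a = u by group] at this)
  have hu'N : u' ∈ normalizer (D' : Set (PQ l)) :=
    mem_normalizer_fintype fun d hd => by rw [hu'inv d hd]; exact inv_mem hd
  -- the centraliser of `t`
  set C := G ⊓ centralizer ({t} : Set (PQ l)) with hC
  have hC1 : C = D' ⊔ zpowers u' := by
    refine le_antisymm (fun y hy => ?_) (sup_le (fun d hd => ⟨hD'G hd,
      Subgroup.mem_centralizer_singleton_iff.2 (hD'c d hd t htD)⟩) (zpowers_le.2 ⟨?_, ?_⟩))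
    · have hy1 : a⁻¹ * y * a ∈ G ⊓ normalizer (zpowers u₀ : Set (PQ l)) := by
        refine ⟨hGa hy.1, centralizer_le_normalizer _ ?_⟩
        refine Subgroup.mem_centralizer_iff.2 fun v hv => ?_
        obtain ⟨k, rfl⟩ := mem_zpowers_iff.1 hv
        refine ((show Commute (a⁻¹ * y * a) u₀ from ?_).zpow_right k).eq.symm
        show a⁻¹ * y * a * u₀ = u₀ * (a⁻¹ * y * a)
        rw [show u₀ = a⁻¹ * t * a by rw [← hat]; group]
        calc a⁻¹ * y * a * (a⁻¹ * t * a) = a⁻¹ * (y * t) * a := by group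
          _ = a⁻¹ * t * a * (a⁻¹ * y * a) := by
            rw [Subgroup.mem_centralizer_singleton_iff.1 hy.2]; group
      rw [hNX, hND] at hy1
      have h2 : y ∈ cj a (D ⊔ zpowers u) := mem_cj.2 hy1
      have e : (zpowers u).map (MulAut.conj a).toMonoidHom = zpowers u' := MonoidHom.map_zpowers _ _
      rw [cj, Subgroup.map_sup, e] at h2
      exact h2
    · show u' ∈ G
      rw [hu']; exact mul_mem (mul_mem ha huG) (inv_mem ha)
    · refine Subgroup.mem_centralizer_singleton_iff.2 ?_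
      have h := hu'inv t htD
      rw [show t⁻¹ = t from inv_eq_of_mul_eq_one_right L.prj_tt, mul_inv_eq_iff_eq_mul] at h
      exact h
  have hwt : Commute (prj L.w) t := L.wz.map prj
  have hwK : prj L.w ∉ L.Kb := fun h => by
    have hc : Commute (prj L.w) (prj (L.x * L.x)) := by
      obtain ⟨k, hk, e⟩ := h
      rw [← e]
      exact (L.Kt_comm hk (le_sup_right (a := L.K₀) (mem_zpowers (L.x * L.x)))).map prj
    rcases L.Kb_fix L.xx_Kb hc.symm with e | e
    · exact L.xx_ne.1 e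
    · exact L.xx_ne.2 e
  have hwN : prj L.w ∈ normalizer (L.Kb : Set (PQ l)) :=
    mem_normalizer_fintype fun d hd => by rw [L.inverts hd]; exact inv_mem hd
  have hC2 : C = L.Kb ⊔ zpowers (prj L.w) := by
    refine le_antisymm (fun y hy => ?_) (sup_le (fun d hd => ⟨L.Kb_le hd,
      Subgroup.mem_centralizer_singleton_iff.2 (L.Kb_comm_t hd).eq⟩)
      (zpowers_le.2 ⟨⟨L.w, L.w_H₂, rfl⟩, Subgroup.mem_centralizer_singleton_iff.2 hwt.eq⟩))
    rcases L.cent_t hy.1 (Subgroup.mem_centralizer_singleton_iff.1 hy.2) with h | h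
    · exact le_sup_left (b := zpowers (prj L.w)) h
    · have h3 := mul_mem (le_sup_left (b := zpowers (prj L.w)) h) (le_sup_right (a := L.Kb) (mem_zpowers (prj L.w)))
      rwa [mul_assoc, L.prj_ss, mul_one] at h3
  have hcardeq : Nat.card D' = Nat.card L.Kb := by
    have h1 := (card_sup_invol hu'u hu'D hu'N).1
    have h2 := (card_sup_invol L.prj_ss hwK hwN).1
    rw [← hC1, hC2, h2] at h1
    omega
  have hDK : D' = L.Kb := by
    refine Subgroup.eq_of_le_of_card_ge ?_ hcardeq.ge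
    intro d hd
    by_contra hdK
    -- then every element of `D'` is an involution
    have hdC : d ∈ C := hC1 ▸ le_sup_left (b := zpowers u') hd
    have hdw : d * prj L.w ∈ L.Kb := by
      rcases L.cent_t hdC.1 (Subgroup.mem_centralizer_singleton_iff.1 hdC.2) with h | h
      · exact absurd h hdK
      · exact h
    have key : ∀ e ∈ D', e * e = 1 := by
      intro e he
      by_cases heK : e ∈ L.Kb
      · have h1 : d * e * d⁻¹ = e := by rw [hD'c d hd e he, mul_inv_cancel_right]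
        have h2 : d * e * d⁻¹ = e⁻¹ := by
          have hc : Commute (d * prj L.w) (prj L.w * e * (prj L.w)⁻¹) := by
            rw [L.inverts heK]
            obtain ⟨k, hk, e1⟩ := hdw
            obtain ⟨k', hk', e2⟩ := inv_mem heK
            rw [← e1, ← e2]
            exact (L.Kt_comm hk hk').map prj
          calc d * e * d⁻¹ = d * prj L.w * ((prj L.w)⁻¹ * e * prj L.w) * (d * prj L.w)⁻¹ := by group
            _ = d * prj L.w * (prj L.w * e * (prj L.w)⁻¹) * (d * prj L.w)⁻¹ := by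
              rw [inv_eq_of_mul_eq_one_right L.prj_ss]
            _ = e⁻¹ := by rw [hc.eq, mul_inv_cancel_right, L.inverts heK]
        calc e * e = d * e * d⁻¹ * (d * e * d⁻¹) := by rw [h1]
          _ = 1 := by nth_rw 1 [h2]; rw [h1, inv_mul_cancel]
      · have heC : e ∈ C := hC1 ▸ le_sup_left (b := zpowers u') he
        have hk : e * prj L.w ∈ L.Kb := by
          rcases L.cent_t heC.1 (Subgroup.mem_centralizer_singleton_iff.1 heC.2) with h | h
          · exact absurd h heK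
          · exact h
        have h := L.inverts hk
        rw [mul_assoc, mul_inv_cancel_right, _root_.mul_inv_rev, inv_eq_of_mul_eq_one_right L.prj_ss] at h
        have h' := mul_left_cancel h
        calc e * e = e * e⁻¹ := by nth_rw 2 [h']
          _ = 1 := mul_inv_cancel e
    have hcomm : ∀ y ∈ C, ∀ y' ∈ C, Commute y y' := by
      have hud : ∀ e ∈ D', Commute u' e := fun e he => by
        have h := hu'inv e he
        rw [inv_eq_of_mul_eq_one_right (key e he), mul_inv_eq_iff_eq_mul] at h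
        exact h
      have hcase : ∀ y ∈ C, ∃ e ∈ D', y = e ∨ y = e * u' := fun y hy => by
        rw [hC1] at hy
        rcases (card_sup_invol hu'u hu'D hu'N).2 y hy with h | h
        · exact ⟨y, h, Or.inl rfl⟩
        · exact ⟨y * u', h, Or.inr (by rw [mul_assoc, hu'u, mul_one])⟩
      intro y hy y' hy'
      obtain ⟨e, he, rfl | rfl⟩ := hcase y hy <;> obtain ⟨e', he', rfl | rfl⟩ := hcase y' hy'
      · exact hD'c _ he _ he'
      · exact (show Commute _ _ from hD'c _ he _ he').mul_right (hud _ he).symm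
      · exact (show Commute _ _ from hD'c _ he _ he').mul_left (hud _ he')
      · exact ((show Commute _ _ from hD'c _ he _ he').mul_right (hud _ he).symm).mul_left
          ((hud _ he').mul_right (Commute.refl u'))
    have hxw := hcomm _ (hC2 ▸ le_sup_left (b := zpowers (prj L.w)) L.xx_Kb) _
      (hC2 ▸ le_sup_right (a := L.Kb) (mem_zpowers (prj L.w)))
    rcases L.Kb_fix L.xx_Kb hxw with e | e
    · exact L.xx_ne.1 e
    · exact L.xx_ne.2 e
  have hD'card : Nat.card D' = Nat.card D := card_cj a D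
  have hQ'card : Nat.card Q' = Nat.card Q := card_cj a Q
  have hodd' : Odd (Nat.card Q') := hQ'card ▸ hodd
  -- `Kb` has order at least four
  have h4 : 4 ≤ Nat.card L.Kb := by
    classical
    haveI := Fintype.ofFinite L.Kb
    have h3 : 2 < Nat.card L.Kb := by
      rw [Nat.card_eq_fintype_card]
      refine Fintype.two_lt_card_iff.2 ⟨1, ⟨t, L.t_mem⟩, ⟨_, L.xx_Kb⟩, fun e => L.prj_z_ne
        (congrArg Subtype.val e).symm, fun e => L.xx_ne.1 (congrArg Subtype.val e).symm,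
        fun e => L.xx_ne.2 (congrArg Subtype.val e).symm⟩
    have h2 : 2 ∣ Nat.card L.Kb := by rw [← hcardeq, hD'card]; exact hDeven
    omega
  have hKN : L.Kb ≤ normalizer (Q' : Set (PQ l)) := fun d hd => by
    rw [← hDK] at hd
    have h1 : a⁻¹ * d * a ∈ normalizer (Q : Set (PQ l)) :=
      (hN.ge.trans inf_le_right) (le_sup_right (a := Q) (mem_cj.1 hd))
    exact mem_normalizer_cj h1
  have hdisj : ∀ y ∈ Q', y ∈ L.Kb → y = 1 := fun y hy hyK => by
    by_contra h1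
    have htQ : t ∈ Q' := by
      rw [← hcent' y hy h1]
      exact ⟨⟨L.z, L.z_H₂, rfl⟩, Subgroup.mem_centralizer_singleton_iff.2 (L.Kb_comm_t hyK).symm.eq⟩
    have hd := Subgroup.orderOf_dvd_natCard _ htQ
    rw [orderOf_eq_prime (by rw [sq, L.prj_tt]) L.prj_z_ne] at hd
    exact hodd'.not_two_dvd_nat hd
  obtain ⟨g, hg, hgn⟩ := L.exists_move hQ'G hodd' (by omega) (by rw [hQ'card]; exact hcard) hcent' hn1
  set n := prj L.x with hn
  have hnt : Commute n t := L.xz.map prj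
  -- `g t g⁻¹` is an involution of the normaliser
  set i := g * t * g⁻¹ with hi
  have hii : i * i = 1 := by
    rw [hi, show g * t * g⁻¹ * (g * t * g⁻¹) = g * (t * t) * g⁻¹ by group, L.prj_tt, mul_one, mul_inv_cancel]
  have hiN : i ∈ Q' ⊔ L.Kb := by
    have h1 : i ∈ normalizer (Q' : Set (PQ l)) := by
      rw [show i = g * n * t * (g * n)⁻¹ by rw [hi, mul_assoc g n t, hnt.eq]; group]
      exact mul_mem (mul_mem hgn (hKN L.t_mem)) (inv_mem hgn)
    have h2 : a⁻¹ * i * a ∈ G ⊓ normalizer (Q : Set (PQ l)) := by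
      refine ⟨hGa (mul_mem (mul_mem hg ⟨L.z, L.z_H₂, rfl⟩) (inv_mem hg)), mem_normalizer_fintype fun y hy => ?_⟩
      have h3 := mem_cj.1 ((Subgroup.mem_normalizer_iff.1 h1 _).1 (conj_mem_cj (g := a) hy))
      rwa [show a⁻¹ * (i * (a * y * a⁻¹) * i⁻¹) * a = a⁻¹ * i * a * y * (a⁻¹ * i * a)⁻¹ by group] at h3
    rw [hN] at h2
    have h4 : i ∈ cj a (Q ⊔ D) := mem_cj.2 h2
    rw [cj, Subgroup.map_sup] at h4
    rw [← hDK]
    exact h4
  have hi' : i ∈ ((Q' ⊔ L.Kb : Subgroup (PQ l)) : Set (PQ l)) := hiN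
  rw [Subgroup.coe_mul_of_right_le_normalizer_left _ _ hKN] at hi'
  obtain ⟨b, hb, d, hd, hbd⟩ := hi'
  have hdd : d * d = 1 := by
    refine hdisj _ ?_ (mul_mem hd hd)
    have h1 : d * b * d⁻¹ ∈ Q' := (Subgroup.mem_normalizer_iff.1 (hKN hd) b).1 hb
    have h2 : d * d = (d * b * d⁻¹)⁻¹ * b⁻¹ := by
      have h3 : b * d * (b * d) = 1 := by rw [show b * d = i from hbd, hii]
      calc d * d = (d * b * d⁻¹)⁻¹ * b⁻¹ * (b * d * (b * d)) := by group
        _ = (d * b * d⁻¹)⁻¹ * b⁻¹ := by rw [h3, mul_one]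
    rw [h2]
    exact mul_mem (inv_mem h1) (inv_mem hb)
  have hdt : d = t := by
    refine (L.Kb_fix hd ?_).resolve_left fun h => ?_
    · have h := L.inverts hd
      rw [inv_eq_of_mul_eq_one_right hdd, mul_inv_eq_iff_eq_mul] at h
      exact h.symm
    · rw [h, show (fun x1 x2 : PQ l => x1 * x2) b 1 = b from mul_one b] at hbd
      have h2 := Subgroup.orderOf_dvd_natCard _ hb
      rw [hbd, orderOf_eq_prime (by rw [sq, hii]) (fun e => L.prj_z_ne (conj_eq_one_iff.1 e))] at h2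
      exact hodd'.not_two_dvd_nat h2
  have hit : i * t ∈ Q' := by
    rw [← show b * d = i from hbd, hdt, mul_assoc, L.prj_tt, mul_one]; exact hb
  obtain ⟨k, hk, hkt⟩ := exists_conj_coset L.prj_tt hii hodd' hit
  set c := k⁻¹ * g with hc
  have hcG : c ∈ L.Gb := mul_mem (inv_mem (hQ'G hk)) hg
  have hct : Commute c t := by
    show c * t = t * c
    calc c * t = k⁻¹ * (g * t * g⁻¹) * g := by rw [hc]; group
      _ = k⁻¹ * (k * t * k⁻¹) * g := by rw [hkt]
      _ = t * c := by rw [hc]; group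
  have hcn : c * n ∈ normalizer (Q' : Set (PQ l)) := by
    rw [hc, mul_assoc]
    exact mul_mem (inv_mem (Subgroup.le_normalizer hk)) hgn
  refine ⟨⟨Q', hQ'G, hodd', by omega, by rw [hQ'card]; exact hcard, by omega, hcent', hKN L.t_mem, hKN L.xx_Kb, ?_⟩⟩
  rcases L.cent_t hcG hct with h | h
  · left
    have := mul_mem (inv_mem (hKN h)) hcn
    rwa [inv_mul_cancel_left] at this
  · right
    rw [map_mul]
    have := mul_mem (inv_mem (hKN h)) hcn
    rwa [show (c * prj L.w)⁻¹ * (c * n) = (prj L.w)⁻¹ * n by group, inv_eq_of_mul_eq_one_right L.prj_ss] at this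

end Lin

end Cfsg.Agent.Invol.AbgOrder.Ell
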