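import Cfsg.Agent.Lib.Invol.AbgOrder.EllLinBase

/-!
# The centraliser of `z` in the matrix group

The transpose-inverse dual of the setting; the complement `K₀` is abelian, centralised by `x`, and meets the centraliser
of the four group in scalars.
-/

set_option autoImplicit false
set_option linter.unusedSectionVars false
set_option linter.style.haveILetI false

namespace Cfsg.Agent.Invol.AbgOrder.Ell

open Matrix Subgroup

local notation "M₃" l => Matrix (Fin 3) (Fin 3) (ZMod l)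
local notation "GL₃" l => GL (Fin 3) (ZMod l)

section defs

variable {l : ℕ} [Fact l.Prime]

/-- A scalar matrix. -/
def Scl (h : GL₃ l) : Prop := ∃ c : ZMod l, (h : M₃ l) = c • 1

theorem Scl.commute {h : GL₃ l} (hh : Scl h) (a : GL₃ l) : Commute h a := by
  obtain ⟨c, hc⟩ := hh
  exact Units.ext (by rw [Units.val_mul, Units.val_mul, hc, smul_mul_assoc, one_mul, mul_smul_comm, mul_one])

theorem Scl.mul {a b : GL₃ l} (ha : Scl a) (hb : Scl b) : Scl (a * b) := by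
  obtain ⟨c, hc⟩ := ha
  obtain ⟨d, hd⟩ := hb
  exact ⟨c * d, by rw [Units.val_mul, hc, hd, smul_mul_smul_comm, one_mul]⟩

theorem Scl.one : Scl (1 : GL₃ l) := ⟨1, by rw [Units.val_one, one_smul]⟩

theorem Scl.inv {a : GL₃ l} (ha : Scl a) : Scl a⁻¹ := by
  obtain ⟨c, hc⟩ := ha
  have h1 : c • ((a⁻¹ : GL₃ l) : M₃ l) = 1 := by
    rw [← one_mul ((a⁻¹ : GL₃ l) : M₃ l), ← smul_mul_assoc, ← hc, ← Units.val_mul, mul_inv_cancel, Units.val_one]
  have h0 : c ≠ 0 := fun h => by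
    rw [h, zero_smul] at h1
    exact zero_ne_one h1
  exact ⟨c⁻¹, by rw [← h1, smul_smul, inv_mul_cancel₀ h0, one_smul]⟩

/-- The scalar matrices. -/
def scalars : Subgroup (GL₃ l) where
  carrier := {h | Scl h}
  one_mem' := Scl.one
  mul_mem' := Scl.mul
  inv_mem' := Scl.inv

theorem mem_scalars {h : GL₃ l} : h ∈ scalars ↔ Scl h := Iff.rfl

/-- Transpose of the inverse. -/
def tinv : (GL₃ l) →* (GL₃ l) where
  toFun h := ⟨((h⁻¹ : GL₃ l) : M₃ l)ᵀ, (h : M₃ l)ᵀ,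
    by rw [← Matrix.transpose_mul, ← Units.val_mul, mul_inv_cancel, Units.val_one, Matrix.transpose_one],
    by rw [← Matrix.transpose_mul, ← Units.val_mul, inv_mul_cancel, Units.val_one, Matrix.transpose_one]⟩
  map_one' := Units.ext (by simp)
  map_mul' a b := Units.ext (by
    show ((((a * b)⁻¹ : GL₃ l) : M₃ l))ᵀ = ((a⁻¹ : GL₃ l) : M₃ l)ᵀ * ((b⁻¹ : GL₃ l) : M₃ l)ᵀ
    rw [_root_.mul_inv_rev, Units.val_mul, Matrix.transpose_mul])

theorem coe_tinv (h : GL₃ l) : (tinv h : M₃ l) = ((h⁻¹ : GL₃ l) : M₃ l)ᵀ := rfl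

theorem coe_tinv_inv (h : GL₃ l) : (((tinv h)⁻¹ : GL₃ l) : M₃ l) = (h : M₃ l)ᵀ := rfl

theorem tinv_inj : Function.Injective (tinv (l := l)) := fun a b h => by
  have := congrArg (fun u : GL₃ l => ((u⁻¹ : GL₃ l) : M₃ l)) h
  simp only [coe_tinv_inv] at this
  exact Units.ext (Matrix.transpose_injective this)

end defs

namespace Lin

variable {l : ℕ} [Fact l.Prime] (L : Lin l)

theorem tinv_z : tinv L.z = L.z := Units.ext (by rw [coe_tinv, L.z_inv, L.z_eq, Matrix.diagonal_transpose])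

theorem tinv_w : tinv L.w = L.w := Units.ext (by rw [coe_tinv, L.w_inv, L.w_eq, Matrix.diagonal_transpose])

/-- The shape of the inverse of the monomial matrix. -/
theorem g_inv_shape : ((L.g⁻¹ : GL₃ l) : M₃ l) 0 0 = 0 ∧ ((L.g⁻¹ : GL₃ l) : M₃ l) 1 1 = 0 ∧
    ((L.g⁻¹ : GL₃ l) : M₃ l) 0 2 = 0 ∧ ((L.g⁻¹ : GL₃ l) : M₃ l) 2 0 = 0 ∧
    ((L.g⁻¹ : GL₃ l) : M₃ l) 1 2 = 0 ∧ ((L.g⁻¹ : GL₃ l) : M₃ l) 2 1 = 0 := by
  set B := ((L.g⁻¹ : GL₃ l) : M₃ l) with hB
  have hdet : (L.g : M₃ l).det ≠ 0 := Matrix.GeneralLinearGroup.det_ne_zero L.g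
  rw [Matrix.det_fin_three, L.g00, L.g11, L.g02, L.g20, L.g12, L.g21] at hdet
  have h : ∀ i j, (L.g : M₃ l) i 0 * B 0 j + (L.g : M₃ l) i 1 * B 1 j + (L.g : M₃ l) i 2 * B 2 j =
      (1 : M₃ l) i j := fun i j => by
    have := congrFun (congrFun (show (L.g : M₃ l) * B = 1 by
      rw [hB, ← Units.val_mul, mul_inv_cancel, Units.val_one]) i) j
    simpa [Matrix.mul_apply, Fin.sum_univ_three] using this
  have h00 := h 1 0
  have h02 := h 1 2
  have h11 := h 0 1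
  have h12 := h 0 2
  have h20 := h 2 0
  have h21 := h 2 1
  simp [L.g00, L.g11, L.g02, L.g20, L.g12, L.g21] at h00 h02 h11 h12 h20 h21 hdet
  simp_all

/-- The dual setting. -/
def dual : Lin l where
  hl2 := L.hl2
  H := L.H.map tinv
  z := L.z
  w := L.w
  g := tinv L.g
  x := tinv L.x
  n := L.n
  hn := L.hn
  z_eq := L.z_eq
  w_eq := L.w_eq
  zH := ⟨L.z, L.zH, L.tinv_z⟩
  wH := ⟨L.w, L.wH, L.tinv_w⟩
  gH := ⟨L.g, L.gH, rfl⟩
  xH := ⟨L.x, L.xH, rfl⟩
  g00 := L.g_inv_shape.1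
  g11 := L.g_inv_shape.2.1
  g02 := L.g_inv_shape.2.2.2.1
  g20 := L.g_inv_shape.2.2.1
  g12 := L.g_inv_shape.2.2.2.2.2
  g21 := L.g_inv_shape.2.2.2.2.1
  xz := by
    have h := L.xz.map tinv
    rwa [L.tinv_z] at h
  x00 := by
    show ((L.x⁻¹ : GL₃ l) : M₃ l) 0 0 = 1
    have h := congrFun (congrFun (show (L.x : M₃ l) * ((L.x⁻¹ : GL₃ l) : M₃ l) = 1 by
      rw [← Units.val_mul, mul_inv_cancel, Units.val_one]) 0) 0
    rw [mul00 L.x_blk, L.x00, one_mul] at h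
    simpa using h
  x_pow := by rw [← map_pow, L.x_pow, L.tinv_z]
  x_inv := by
    have h := congrArg tinv L.x_inv
    rwa [map_mul, map_mul, map_mul, map_inv, L.tinv_w, L.tinv_z] at h
  fac := by rw [Subgroup.card_map_of_injective tinv_inj]; exact L.fac
  K₀ := L.K₀.map tinv
  K₀_le := by
    rintro _ ⟨k, hk, rfl⟩
    refine ⟨⟨k, (L.K₀_le hk).1, rfl⟩, Subgroup.mem_centralizer_singleton_iff.2 ?_⟩
    rw [← L.tinv_z, ← map_mul, ← map_mul, Subgroup.mem_centralizer_singleton_iff.1 (L.K₀_le hk).2]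
  K₀_odd := by rw [Subgroup.card_map_of_injective tinv_inj]; exact L.K₀_odd
  K₀_norm := by
    rintro _ ⟨⟨h, hh, rfl⟩, hc⟩
    have hc' : h ∈ L.CH := ⟨hh, Subgroup.mem_centralizer_singleton_iff.2 (tinv_inj (by
      rw [map_mul, map_mul, L.tinv_z]
      exact Subgroup.mem_centralizer_singleton_iff.1 hc))⟩
    exact Subgroup.le_normalizer_map tinv ⟨h, L.K₀_norm hc', rfl⟩
  K₀_two := by
    rintro _ ⟨⟨h, hh, rfl⟩, hc⟩
    obtain ⟨j, hj⟩ := L.K₀_two h ⟨hh, Subgroup.mem_centralizer_singleton_iff.2 (tinv_inj (by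
      rw [map_mul, map_mul, L.tinv_z]
      exact Subgroup.mem_centralizer_singleton_iff.1 hc))⟩
    exact ⟨j, h ^ 2 ^ j, hj, map_pow _ _ _⟩

/-- An element of `H` fixing the plane of the other two axes commutes with `z`. -/
theorem commute_of_row {h : GL₃ l} (hh : h ∈ L.H) (h01 : (h : M₃ l) 0 1 = 0) (h02 : (h : M₃ l) 0 2 = 0) :
    Commute h L.z := by
  have hb : ∀ j, (h : M₃ l) 0 0 * ((h⁻¹ : GL₃ l) : M₃ l) 0 j = (1 : M₃ l) 0 j := fun j => by
    have := congrFun (congrFun (show (h : M₃ l) * ((h⁻¹ : GL₃ l) : M₃ l) = 1 by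
      rw [← Units.val_mul, mul_inv_cancel, Units.val_one]) 0) j
    simpa [Matrix.mul_apply, Fin.sum_univ_three, h01, h02] using this
  have h0 : (h : M₃ l) 0 0 ≠ 0 := fun e => by have := hb 0; rw [e, zero_mul] at this; simp at this
  have b1 : ((h⁻¹ : GL₃ l) : M₃ l) 0 1 = 0 := by have := hb 1; simpa [h0] using this
  have b2 : ((h⁻¹ : GL₃ l) : M₃ l) 0 2 = 0 := by have := hb 2; simpa [h0] using this
  have hc := L.dual.commute_of_col (h := tinv h) ⟨h, hh, rfl⟩ b1 b2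
  refine tinv_inj ?_
  rw [map_mul, map_mul, L.tinv_z]
  exact hc.eq

theorem z_mem_centralizer {k : GL₃ l} (hk : k ∈ L.K₀) : Commute k L.z :=
  Subgroup.mem_centralizer_singleton_iff.1 (L.K₀_le hk).2

/-- `x²` centralises `K₀`. -/
theorem K₀_x_sq {k : GL₃ l} (hk : k ∈ L.K₀) : Commute k (L.x * L.x) := by
  revert k
  suffices h : L.K₀ ≤ L.K₀ ⊓ centralizer ({L.x * L.x} : Set (GL₃ l)) by
    intro k hk
    exact Subgroup.mem_centralizer_singleton_iff.1 (h hk).2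
  refine HallFour.le_of_full inf_le_left fun r hr _ => ?_
  haveI := Fact.mk hr
  obtain ⟨P, hP, hSP⟩ := Grp.exists_invariant_sylow L.S L.K₀ L.S_le_norm
    (by rw [L.card_S]; exact (Nat.coprime_two_left.2 L.K₀_odd).pow_left _)
    (Or.inl (by
      haveI : Fact (Nat.Prime 2) := ⟨Nat.prime_two⟩
      haveI := L.S_two.isNilpotent
      infer_instance)) r
  refine ⟨P, le_inf hP.1 fun a ha => Subgroup.mem_centralizer_singleton_iff.2 ?_, hP.card⟩
  have hB : ∀ {y}, y ∈ P → Blk (y : M₃ l) := fun {y} hy => L.K₀_blk (hP.1 hy)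
  have bm : ∀ {u v}, u ∈ P → blk ((u * v : GL₃ l) : M₃ l) = blk (u : M₃ l) * blk (v : M₃ l) := fun {u v} hu => by
    rw [Units.val_mul, blk_mul (hB hu)]
  have bi : ∀ {u}, u ∈ P → blk (u : M₃ l) * blk ((u⁻¹ : GL₃ l) : M₃ l) = 1 := fun {u} hu => by
    rw [← bm hu, mul_inv_cancel, Units.val_one, blk_one]
  -- `P` is abelian
  have hab : ∀ u ∈ P, ∀ v ∈ P, Commute u v := by
    by_contra hna
    push Not at hna
    obtain ⟨u₁, hu₁, v₁, hv₁, hne⟩ := hna
    haveI : Nontrivial ↥P := ⟨⟨u₁, hu₁⟩, 1, fun e => hne (by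
      rw [show u₁ = 1 from congrArg Subtype.val e]; exact Commute.one_left _)⟩
    have hv : (⟨v₁, hv₁⟩ : P) ∉ center P := fun h =>
      hne (congrArg Subtype.val (Subgroup.mem_center_iff.1 h ⟨u₁, hu₁⟩))
    haveI : Nontrivial (P ⧸ center P) :=
      ⟨QuotientGroup.mk ⟨v₁, hv₁⟩, 1, fun e => hv ((QuotientGroup.eq_one_iff _).1 e)⟩
    haveI := (hP.2.1.to_quotient (center P)).center_nontrivial
    obtain ⟨⟨q, hq⟩, hq1⟩ := exists_ne (1 : center (P ⧸ center P))
    obtain ⟨u, rfl⟩ := QuotientGroup.mk_surjective q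
    refine hq1 (Subtype.ext ((QuotientGroup.eq_one_iff u).2 (Subgroup.mem_center_iff.2 fun v => ?_)))
    set c := u * v * u⁻¹ * v⁻¹ with hc
    have hcc : c ∈ center P := by
      rw [← QuotientGroup.eq_one_iff, hc]
      have h := Subgroup.mem_center_iff.1 hq (QuotientGroup.mk v)
      simp only [QuotientGroup.mk_mul, QuotientGroup.mk_inv]
      rw [← h, mul_inv_cancel_right, mul_inv_cancel]
    have hcs : ∃ ζ : ZMod l, blk ((c : GL₃ l) : M₃ l) = ζ • 1 := by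
      by_contra hns
      push Not at hns
      refine hne (blk_commute (hB hu₁) (hB hv₁) (commute_of_commute hns ?_ ?_))
      · rw [← bm hu₁, ← bm c.2]
        exact congrArg (fun t : P => blk ((t : GL₃ l) : M₃ l)) (Subgroup.mem_center_iff.1 hcc ⟨u₁, hu₁⟩)
      · rw [← bm hv₁, ← bm c.2]
        exact congrArg (fun t : P => blk ((t : GL₃ l) : M₃ l)) (Subgroup.mem_center_iff.1 hcc ⟨v₁, hv₁⟩)
    obtain ⟨ζ, hζ⟩ := hcs
    have hdc : (blk ((c : GL₃ l) : M₃ l)).det = 1 := by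
      have h1 : (c : GL₃ l) = (u : GL₃ l) * v * (u : GL₃ l)⁻¹ * (v : GL₃ l)⁻¹ := by rw [hc]; simp
      have h2 := congrArg Matrix.det (bi u.2)
      have h3 := congrArg Matrix.det (bi v.2)
      rw [Matrix.det_mul, Matrix.det_one] at h2 h3
      rw [h1, bm (mul_mem (mul_mem u.2 v.2) (inv_mem u.2)), bm (mul_mem u.2 v.2), bm u.2, Matrix.det_mul,
        Matrix.det_mul, Matrix.det_mul]
      calc (blk ((u : GL₃ l) : M₃ l)).det * (blk ((v : GL₃ l) : M₃ l)).det *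
            (blk (((u : GL₃ l)⁻¹ : GL₃ l) : M₃ l)).det * (blk (((v : GL₃ l)⁻¹ : GL₃ l) : M₃ l)).det
          = ((blk ((u : GL₃ l) : M₃ l)).det * (blk (((u : GL₃ l)⁻¹ : GL₃ l) : M₃ l)).det) *
              ((blk ((v : GL₃ l) : M₃ l)).det * (blk (((v : GL₃ l)⁻¹ : GL₃ l) : M₃ l)).det) := by ring
        _ = 1 := by rw [h2, h3, one_mul]
    have hζ2 : ζ * ζ = 1 := by
      rw [hζ, Matrix.det_smul, Matrix.det_one, mul_one, Fintype.card_fin, sq] at hdc
      exact hdc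
    have hc1 : (c : GL₃ l) = 1 := by
      have hco : Odd (orderOf (c : GL₃ l)) :=
        L.K₀_odd.of_dvd_nat (Subgroup.orderOf_dvd_natCard _ (hP.1 c.2))
      have hpow : ((c : GL₃ l) : M₃ l) ^ orderOf (c : GL₃ l) = 1 := by
        rw [← Units.val_pow_eq_pow_val, pow_orderOf_eq_one, Units.val_one]
      have hb := blk_pow (hB c.2) (orderOf (c : GL₃ l))
      obtain ⟨t, ht⟩ := hco
      rw [hpow, blk_one, hζ, smul_pow, one_pow, ht, pow_succ, pow_mul, sq, hζ2, one_pow, one_mul] at hb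
      have hζ1 : ζ = 1 := by simpa using (congrFun (congrFun hb 0) 0).symm
      refine Units.ext (blk_ext (hB c.2) Blk.one ?_ ?_)
      · have h1 : (c : GL₃ l) = (u : GL₃ l) * v * (u : GL₃ l)⁻¹ * (v : GL₃ l)⁻¹ := by rw [hc]; simp
        have e : ∀ {a : GL₃ l}, a ∈ P → (a : M₃ l) 0 0 * ((a⁻¹ : GL₃ l) : M₃ l) 0 0 = 1 := fun {a} ha => by
          rw [← mul00 (hB ha), ← Units.val_mul, mul_inv_cancel]; simp
        rw [h1, Units.val_mul, mul00 (hB (mul_mem (mul_mem u.2 v.2) (inv_mem u.2))), Units.val_mul,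
          mul00 (hB (mul_mem u.2 v.2)), Units.val_mul, mul00 (hB u.2), Units.val_one, Matrix.one_apply_eq]
        calc _ = (((u : GL₃ l) : M₃ l) 0 0 * (((u : GL₃ l)⁻¹ : GL₃ l) : M₃ l) 0 0) *
              (((v : GL₃ l) : M₃ l) 0 0 * (((v : GL₃ l)⁻¹ : GL₃ l) : M₃ l) 0 0) := by ring
          _ = 1 := by rw [e u.2, e v.2, one_mul]
      · rw [hζ, hζ1, one_smul, Units.val_one, blk_one]
    have hc2 : u * v * u⁻¹ * v⁻¹ = 1 := Subtype.ext hc1
    rw [mul_inv_eq_one, mul_inv_eq_iff_eq_mul] at hc2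
    exact hc2.symm
  -- `x²` fixes each element
  have hxn : ∀ {u}, u ∈ P → L.x * u * L.x⁻¹ ∈ P := fun {u} hu =>
    (Subgroup.mem_normalizer_iff.1 (hSP (le_sup_left (b := zpowers L.w) (mem_zpowers L.x))) u).1 hu
  set N := blk (a : M₃ l) with hN
  refine blk_commute (hB ha) (L.x_blk.mul L.x_blk) ?_
  rw [Units.val_mul, blk_mul L.x_blk]
  by_cases hsc : ∃ c : ZMod l, N = c • 1
  · obtain ⟨c, hc⟩ := hsc
    rw [← hN, hc]
    exact (Commute.one_left _).smul_left c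
  push Not at hsc
  set X := blk (L.x : M₃ l) with hX
  have hconj : ∀ {u}, u ∈ P → blk ((L.x * u * L.x⁻¹ : GL₃ l) : M₃ l) * X = X * blk (u : M₃ l) := fun {u} hu => by
    rw [hX, ← bm (hxn hu), inv_mul_cancel_right, Units.val_mul, blk_mul L.x_blk]
  obtain ⟨α, β, hαβ⟩ := exists_lin hsc (A := blk ((L.x * a * L.x⁻¹ : GL₃ l) : M₃ l))
    (by rw [← bm (hxn ha), ← bm ha]; exact congrArg _ (congrArg Units.val (hab _ (hxn ha) a ha).eq))
  have hXu : X.det ≠ 0 := by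
    obtain ⟨p, q, r, e, h, -⟩ := L.x_form
    rw [hX, e, Matrix.det_fin_two_of, h]
    exact neg_ne_zero.2 one_ne_zero
  have hrel := hconj ha
  rw [hαβ, ← hN, add_mul, smul_mul_assoc, smul_mul_assoc, one_mul] at hrel
  -- trace and determinant are preserved
  have htr : (α • (1 : Matrix (Fin 2) (Fin 2) (ZMod l)) + β • N).trace = N.trace ∧
      (α • (1 : Matrix (Fin 2) (Fin 2) (ZMod l)) + β • N).det = N.det := by
    have hi : X⁻¹ * X = 1 := Matrix.nonsing_inv_mul _ (isUnit_iff_ne_zero.2 hXu)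
    have hi' : X * X⁻¹ = 1 := Matrix.mul_nonsing_inv _ (isUnit_iff_ne_zero.2 hXu)
    have e : α • (1 : Matrix (Fin 2) (Fin 2) (ZMod l)) + β • N = X * N * X⁻¹ := by
      rw [← hrel]
      simp only [add_mul, smul_mul_assoc, mul_assoc, hi', mul_one]
    rw [e]
    exact ⟨by rw [Matrix.trace_mul_comm, ← mul_assoc, hi, one_mul],
      by rw [Matrix.det_mul, Matrix.det_mul, mul_right_comm, ← Matrix.det_mul, hi', Matrix.det_one, one_mul]⟩
  simp [Matrix.trace_fin_two, Matrix.det_fin_two] at htr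
  set t := N 0 0 + N 1 1 with ht
  have hα : 2 * α = (1 - β) * t := by linear_combination htr.1
  have hkey : (1 - β * β) * (t * t - 4 * (N 0 0 * N 1 1 - N 0 1 * N 1 0)) = 0 := by
    linear_combination 4 * htr.2 - (2 * α + (1 + β) * t) * hα
  have hdisc : t * t - 4 * (N 0 0 * N 1 1 - N 0 1 * N 1 0) ≠ 0 := by
    intro h0
    refine Exists.elim ?_ hsc
    -- otherwise `N` is a scalar plus a nilpotent
    have h2 := L.two_ne
    set c : ZMod l := t / 2 with hc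
    set B := N - c • (1 : Matrix (Fin 2) (Fin 2) (ZMod l)) with hBd
    have hcc : 2 * c = t := by rw [hc]; field_simp
    have hBB : B * B = 0 := by
      have h4 : c * c = N 0 0 * N 1 1 - N 0 1 * N 1 0 := mul_left_cancel₀ (mul_ne_zero h2 h2) (by
        linear_combination (2 * c + t) * hcc + h0)
      rw [hBd]
      ext i j
      fin_cases i <;> fin_cases j <;> simp [Matrix.mul_apply, Fin.sum_univ_two]
      · linear_combination h4 - (N 0 0 - c) * 0 + (ht.symm.trans hcc.symm) * 0 + N 0 0 * (ht.symm.trans hcc.symm)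
      · linear_combination N 0 1 * (ht.symm.trans hcc.symm)
      · linear_combination N 1 0 * (ht.symm.trans hcc.symm)
      · linear_combination h4 + N 1 1 * (ht.symm.trans hcc.symm)
    have hl := (Fact.out : l.Prime).two_le
    have hNl : N ^ l = c • 1 := by
      have e : N = c • 1 + B := by rw [hBd, add_sub_cancel]
      have hBl : B ^ l = 0 := by
        obtain ⟨d, hd⟩ : ∃ d, l = 2 + d := ⟨l - 2, by omega⟩
        calc B ^ l = B ^ (2 + d) := congrArg _ hd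
          _ = 0 := by rw [pow_add, sq, hBB, zero_mul]
      rw [e, add_pow_char_of_commute _ ((Commute.one_left B).smul_left c), smul_pow, one_pow, ZMod.pow_card,
        hBl, add_zero]
    obtain ⟨k, hk⟩ := hP.2.1 ⟨a, ha⟩
    have hcop : Nat.Coprime l (orderOf a) := ((Fact.out : l.Prime).coprime_iff_not_dvd.2 fun hd =>
      L.not_dvd_K₀ (hd.trans (Subgroup.orderOf_dvd_natCard _ (hP.1 ha))))
    obtain ⟨m, hm⟩ := exists_pow_eq_self_of_coprime hcop
    refine ⟨c ^ m, ?_⟩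
    rw [hN]
    conv_lhs => rw [← hm, Units.val_pow_eq_pow_val, Units.val_pow_eq_pow_val,
      blk_pow ((hB ha).pow l), blk_pow (hB ha), ← hN, hNl, smul_pow, one_pow]
  have hβ : (1 - β) * (1 + β) = 0 := by
    rcases mul_eq_zero.1 hkey with h | h
    · linear_combination h
    · exact absurd h hdisc
  -- hence `x²` fixes `N`
  show N * (X * X) = X * X * N
  have hfin : α * (1 + β) = 0 := mul_left_cancel₀ L.two_ne (by linear_combination (1 + β) * hα + t * hβ)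
  symm
  calc X * X * N = X * ((α • (1 : Matrix (Fin 2) (Fin 2) (ZMod l)) + β • N) * X) := by
        rw [add_mul, smul_mul_assoc, smul_mul_assoc, one_mul, hrel, mul_assoc]
    _ = α • (X * X) + β • (X * N) * X := by
        rw [add_mul, smul_mul_assoc, smul_mul_assoc, one_mul, mul_add, mul_smul_comm, mul_smul_comm, smul_mul_assoc,
          ← mul_assoc]
    _ = (α * (1 + β)) • (X * X) + (β * β) • (N * (X * X)) := by
        rw [← hrel]
        simp only [add_mul, smul_add, smul_mul_assoc, smul_smul, mul_assoc, mul_add, add_smul, mul_one]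
        rw [mul_comm β α, add_assoc]
    _ = N * (X * X) := by
        rw [hfin, zero_smul, zero_add, show β * β = 1 by linear_combination -hβ, one_smul]

/-- `x` centralises `K₀`. -/
theorem K₀_x {k : GL₃ l} (hk : k ∈ L.K₀) : Commute k L.x := by
  have h := congrArg (fun a : GL₃ l => blk (a : M₃ l)) (L.K₀_x_sq hk).eq
  simp only [Units.val_mul] at h
  rw [blk_mul (L.K₀_blk hk), blk_mul (L.x_blk.mul L.x_blk)] at h
  refine blk_commute (L.K₀_blk hk) L.x_blk (commute_of_commute L.x_sq_nonscalar ?_ ?_)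
  · rw [Units.val_mul]; exact h
  · rw [Units.val_mul, blk_mul L.x_blk, mul_assoc]

/-- `K₀` is abelian. -/
theorem K₀_comm {k k' : GL₃ l} (hk : k ∈ L.K₀) (hk' : k' ∈ L.K₀) : Commute k k' := by
  have e : ∀ {k}, k ∈ L.K₀ → blk (k : M₃ l) * blk (L.x : M₃ l) = blk (L.x : M₃ l) * blk (k : M₃ l) := fun {k} hk => by
    rw [← blk_mul (L.K₀_blk hk), ← blk_mul L.x_blk, ← Units.val_mul, ← Units.val_mul, (L.K₀_x hk).eq]
  exact blk_commute (L.K₀_blk hk) (L.K₀_blk hk') (commute_of_commute L.x_nonscalar (e hk) (e hk'))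

theorem diag_pow (a b c : ZMod l) (k : ℕ) : (!![a, 0, 0; 0, b, 0; 0, 0, c] : M₃ l) ^ k =
    !![a ^ k, 0, 0; 0, b ^ k, 0; 0, 0, c ^ k] := by
  induction k with
  | zero => rw [pow_zero]; ext i j; fin_cases i <;> fin_cases j <;> simp
  | succ k ih =>
    rw [pow_succ, ih]
    ext i j
    fin_cases i <;> fin_cases j <;> simp [Matrix.mul_apply, Fin.sum_univ_three, pow_succ]

/-- `K₀` meets the centraliser of `w` in scalars. -/
theorem scalar_of_commute {k : GL₃ l} (hk : k ∈ L.K₀) (hw : Commute k L.w) : Scl k := by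
  obtain ⟨p, q, r, ex, -, -, hq, -⟩ := L.x_form
  have hB := L.K₀_blk hk
  have hbx := congrArg (fun a : GL₃ l => blk (a : M₃ l)) (L.K₀_x hk).eq
  have hbw := congrArg (fun a : GL₃ l => blk (a : M₃ l)) hw.eq
  simp only [Units.val_mul] at hbx hbw
  rw [blk_mul hB, blk_mul L.x_blk, ex] at hbx
  rw [blk_mul hB, blk_mul L.w_blk, L.blk_w] at hbw
  obtain ⟨k01, k02, k10, k20⟩ := hB
  set a := (k : M₃ l) 0 0 with ha
  set b := (k : M₃ l) 1 1 with hb
  have w01 := congrFun (congrFun hbw 0) 1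
  have w10 := congrFun (congrFun hbw 1) 0
  have x01 := congrFun (congrFun hbx 0) 1
  simp [blk, Matrix.mul_apply, Fin.sum_univ_two, Matrix.vecMul, dotProduct] at w01 w10 x01
  have h2 := L.two_ne
  have k12 : (k : M₃ l) 1 2 = 0 := mul_left_cancel₀ h2 (by linear_combination -w01)
  have k21 : (k : M₃ l) 2 1 = 0 := mul_left_cancel₀ h2 (by linear_combination w10)
  rw [k12] at x01
  have k22 : (k : M₃ l) 2 2 = b := mul_left_cancel₀ hq (by linear_combination -x01)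
  have ek : (k : M₃ l) = !![a, 0, 0; 0, b, 0; 0, 0, b] := by
    ext i j; fin_cases i <;> fin_cases j <;> simp [k01, k02, k10, k20, k12, k21, k22, ha, hb]
  set k' := L.g * k * L.g⁻¹ with hk'
  have ek' : (k' : M₃ l) = !![b, 0, 0; 0, a, 0; 0, 0, b] := by
    have h1 : (L.g : M₃ l) * k = !![b, 0, 0; 0, a, 0; 0, 0, b] * (L.g : M₃ l) := by
      rw [ek]
      ext i j
      fin_cases i <;> fin_cases j <;>
        simp [Matrix.mul_apply, Fin.sum_univ_three, L.g00, L.g11, L.g02, L.g20, L.g12, L.g21, mul_comm]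
    rw [hk', Units.val_mul, Units.val_mul, h1, Units.mul_inv_cancel_right]
  have hk'C : k' ∈ L.CH := L.mem_CH.2 ⟨mul_mem (mul_mem L.gH (L.K₀_le hk).1) (inv_mem L.gH), by
    rw [ek']; exact ⟨by simp, by simp, by simp, by simp⟩⟩
  obtain ⟨j, hj⟩ := L.K₀_two k' hk'C
  have h := congrArg (fun u : GL₃ l => blk (u : M₃ l)) (L.K₀_x hj).eq
  simp only [Units.val_mul] at h
  rw [blk_mul (L.K₀_blk hj), blk_mul L.x_blk, Units.val_pow_eq_pow_val, ek', diag_pow, ex] at h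
  have h01 := congrFun (congrFun h 0) 1
  simp [blk, Matrix.mul_apply, Fin.sum_univ_two] at h01
  have hN : ((k : GL₃ l) : M₃ l) ^ Nat.card L.K₀ = 1 := by
    rw [← Units.val_pow_eq_pow_val, show k ^ Nat.card L.K₀ = 1 from
      congrArg Subtype.val (pow_card_eq_one' (x := (⟨k, hk⟩ : L.K₀))), Units.val_one]
  rw [ek, diag_pow] at hN
  have hNa := congrFun (congrFun hN 0) 0
  have hNb := congrFun (congrFun hN 1) 1
  simp at hNa hNb
  have hb0 : b ≠ 0 := fun e => by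
    rw [e, zero_pow Nat.card_pos.ne'] at hNb
    exact zero_ne_one hNb
  have hm : a ^ 2 ^ j = b ^ 2 ^ j := mul_right_cancel₀ hq (by linear_combination h01)
  have h1 : (a / b) ^ Nat.gcd (2 ^ j) (Nat.card L.K₀) = 1 := pow_gcd_eq_one.2
    ⟨by rw [div_pow, hm, div_self (pow_ne_zero _ hb0)], by rw [div_pow, hNa, hNb, div_one]⟩
  rw [((Nat.coprime_two_left.2 L.K₀_odd).pow_left j).gcd_eq_one, pow_one, div_eq_one_iff_eq hb0] at h1
  refine ⟨b, ?_⟩
  rw [ek, h1]
  ext i j; fin_cases i <;> fin_cases j <;> simp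

/-- `K₀⟨x²⟩`. -/
def Kt : Subgroup (GL₃ l) := L.K₀ ⊔ zpowers (L.x * L.x)

theorem mem_Kt {y : GL₃ l} (hy : y ∈ L.Kt) : ∃ k ∈ L.K₀, ∃ b : ℤ, y = k * (L.x * L.x) ^ b := by
  have hle : zpowers (L.x * L.x) ≤ normalizer (L.K₀ : Set (GL₃ l)) :=
    zpowers_le.2 (mul_mem (L.K₀_norm L.xCH) (L.K₀_norm L.xCH))
  have hy' : y ∈ ((L.K₀ ⊔ zpowers (L.x * L.x) : Subgroup (GL₃ l)) : Set (GL₃ l)) := hy
  rw [Subgroup.coe_mul_of_right_le_normalizer_left _ _ hle] at hy'
  obtain ⟨k, hk, u, ⟨b, rfl⟩, rfl⟩ := hy'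
  exact ⟨k, hk, b, rfl⟩

theorem Kt_le : L.Kt ≤ L.CH := sup_le L.K₀_le (zpowers_le.2 (mul_mem L.xCH L.xCH))

theorem Kt_x {y : GL₃ l} (hy : y ∈ L.Kt) : Commute y L.x := by
  obtain ⟨k, hk, b, rfl⟩ := L.mem_Kt hy
  exact (L.K₀_x hk).mul_left (((Commute.refl L.x).mul_left (Commute.refl L.x)).zpow_left b)

theorem Kt_comm {y y' : GL₃ l} (hy : y ∈ L.Kt) (hy' : y' ∈ L.Kt) : Commute y y' := by
  obtain ⟨k, hk, b, rfl⟩ := L.mem_Kt hy
  obtain ⟨k', hk', b', rfl⟩ := L.mem_Kt hy'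
  refine ((L.K₀_comm hk hk').mul_right ((L.K₀_x_sq hk).zpow_right b')).mul_left
    ((((L.K₀_x_sq hk').symm).zpow_left b).mul_right ((Commute.refl (L.x * L.x)).zpow_zpow b b'))

theorem w_x_sq (b : ℤ) : L.w * (L.x * L.x) ^ b * L.w = ((L.x * L.x) ^ b)⁻¹ := by
  nth_rw 2 [← L.w_inv]
  rw [← conj_zpow, L.w_inv, ← sq, L.wxw_pow, sq L.z, L.zz, mul_one, _root_.inv_zpow]

/-- `y` times its conjugate by `w` is scalar. -/
theorem Kt_norm {y : GL₃ l} (hy : y ∈ L.Kt) : Scl (y * (L.w * y * L.w)) := by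
  obtain ⟨k, hk, b, rfl⟩ := L.mem_Kt hy
  have hk' : L.w * k * L.w ∈ L.K₀ := by
    have := (Subgroup.mem_normalizer_iff.1 (L.K₀_norm L.wCH) k).1 hk
    rwa [L.w_inv] at this
  have h1 : Scl (k * (L.w * k * L.w)) := by
    refine L.scalar_of_commute (mul_mem hk hk') ?_
    show k * (L.w * k * L.w) * L.w = L.w * (k * (L.w * k * L.w))
    calc k * (L.w * k * L.w) * L.w = (L.w * k * L.w) * k * L.w := by rw [(L.K₀_comm hk hk').eq]
      _ = L.w * (k * (L.w * k * L.w)) := by simp only [mul_assoc]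
  have h2 : L.w * (k * (L.x * L.x) ^ b) * L.w = (L.w * k * L.w) * ((L.x * L.x) ^ b)⁻¹ := by
    rw [← L.w_x_sq b]
    simp only [mul_assoc]
    rw [← mul_assoc L.w L.w, L.ww, one_mul]
  rw [h2, show k * (L.x * L.x) ^ b * (L.w * k * L.w * ((L.x * L.x) ^ b)⁻¹) =
    k * ((L.x * L.x) ^ b * (L.w * k * L.w)) * ((L.x * L.x) ^ b)⁻¹ by group,
    ← ((L.K₀_x_sq hk').zpow_right b).eq, ← mul_assoc, mul_inv_cancel_right]
  exact h1

/-- The elements of `K₀⟨x²⟩` centralising `w`. -/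
theorem Kt_commute_w {y : GL₃ l} (hy : y ∈ L.Kt) (hw : Commute y L.w) : Scl y ∨ Scl (L.z * y) := by
  obtain ⟨k, hk, b, rfl⟩ := L.mem_Kt hy
  set u := (L.x * L.x) ^ b with hu
  have hk' : L.w * k * L.w ∈ L.K₀ := by
    have := (Subgroup.mem_normalizer_iff.1 (L.K₀_norm L.wCH) k).1 hk
    rwa [L.w_inv] at this
  have e : k * u = L.w * k * L.w * u⁻¹ := by
    calc k * u = L.w * (k * u) * L.w := by rw [← hw.eq, mul_assoc, L.ww, mul_one]
      _ = L.w * k * (L.w * L.w) * u * L.w := by rw [L.ww, mul_one, mul_assoc L.w k u]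
      _ = L.w * k * L.w * u⁻¹ := by rw [hu, ← L.w_x_sq b]; simp only [mul_assoc]
  have huu : u * u ∈ L.K₀ := by
    have h : u * u = k⁻¹ * (L.w * k * L.w) := by
      calc u * u = k⁻¹ * (k * u) * u := by group
        _ = k⁻¹ * (L.w * k * L.w) := by rw [e]; group
    rw [h]
    exact mul_mem (inv_mem hk) hk'
  haveI : Fact (Nat.Prime 2) := ⟨Nat.prime_two⟩
  have hux : u ∈ zpowers L.x :=
    zpow_mem (mul_mem (mem_zpowers L.x) (mem_zpowers L.x)) b
  have huu1 : u * u = 1 := by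
    have h1 : orderOf (u * u) ∣ Nat.gcd (2 ^ L.n) (Nat.card L.K₀) :=
      Nat.dvd_gcd (L.x_order ▸ Nat.card_zpowers L.x ▸ Subgroup.orderOf_dvd_natCard _ (mul_mem hux hux))
        (Subgroup.orderOf_dvd_natCard _ huu)
    rwa [((Nat.coprime_two_left.2 L.K₀_odd).pow_left _).gcd_eq_one, Nat.dvd_one, orderOf_eq_one_iff] at h1
  have hu01 : u = 1 ∨ u = L.z := by
    obtain ⟨c, hc⟩ := mem_zpowers_iff.1 hux
    have h0 : ((2 ^ L.n : ℕ) : ℤ) ∣ c + c := by
      rw [← L.x_order, orderOf_dvd_iff_zpow_eq_one, _root_.zpow_add, hc, huu1]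
    have hn := L.hn
    rw [show L.n = L.n - 1 + 1 by omega, pow_succ', ← two_mul, Nat.cast_mul, Nat.cast_ofNat] at h0
    obtain ⟨d, rfl⟩ := (mul_dvd_mul_iff_left (by norm_num : (2 : ℤ) ≠ 0)).1 h0
    rw [_root_.zpow_mul, zpow_natCast, L.x_pow] at hc
    rw [← hc]
    rcases Int.even_or_odd d with ⟨m, rfl⟩ | ⟨m, rfl⟩
    · left; rw [_root_.zpow_add, ← (Commute.refl L.z).mul_zpow, L.zz, _root_.one_zpow]
    · right; rw [_root_.zpow_add, _root_.zpow_mul, zpow_two, L.zz, _root_.one_zpow, one_mul, zpow_one]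
  have hui : u⁻¹ = u := inv_eq_of_mul_eq_one_right huu1
  rw [hui] at e
  have hk2 : Scl k := L.scalar_of_commute hk (show k * L.w = L.w * k by
    conv_lhs => rw [mul_right_cancel e]
    simp only [mul_assoc]
    rw [L.ww, mul_one])
  rcases hu01 with h | h
  · left; rw [h, mul_one]; exact hk2
  · right
    rw [h, ← mul_assoc, ← (hk2.commute L.z).eq, mul_assoc, L.zz, mul_one]
    exact hk2

end Lin

end Cfsg.Agent.Invol.AbgOrder.Ell
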