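import Cfsg.Agent.Lib.Invol.AbgOrder.EllFix
import Cfsg.Agent.Lib.Grp.Coprime

/-!
# Elementary tools over a centralizer

Conjugate subgroups, fixed points of an involution in cosets of subgroups of odd order, elliptic lines and non-central
involutions.
-/

set_option autoImplicit false
set_option linter.unusedSectionVars false
set_option linter.style.haveILetI false

namespace Cfsg.Agent.Invol.AbgOrder.Ell

open Subgroup Matrix Cfsg.Agent.Classical

universe u v

section Group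

variable {G : Type u} [Group G]

/-- The conjugate `g Y g⁻¹`. -/
def cj (g : G) (Y : Subgroup G) : Subgroup G := Y.map (MulAut.conj g).toMonoidHom

theorem mem_cj {g : G} {Y : Subgroup G} {x : G} : x ∈ cj g Y ↔ g⁻¹ * x * g ∈ Y := by
  constructor
  · rintro ⟨y, hy, rfl⟩
    simpa [mul_assoc] using hy
  · exact fun h => ⟨_, h, by simp [mul_assoc]⟩

theorem conj_mem_cj {g : G} {Y : Subgroup G} {y : G} (hy : y ∈ Y) : g * y * g⁻¹ ∈ cj g Y := ⟨y, hy, rfl⟩

theorem cj_cj (g h : G) (Y : Subgroup G) : cj g (cj h Y) = cj (g * h) Y := by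
  ext x
  simp only [mem_cj, _root_.mul_inv_rev, mul_assoc]

theorem cj_one (Y : Subgroup G) : cj 1 Y = Y := by ext x; simp [mem_cj]

theorem cj_mono (g : G) {Y Y' : Subgroup G} (h : Y ≤ Y') : cj g Y ≤ cj g Y' := Subgroup.map_mono h

theorem card_cj (g : G) (Y : Subgroup G) : Nat.card (cj g Y) = Nat.card Y :=
  Subgroup.card_map_of_injective (MulAut.conj g).injective

theorem isPGroup_cj {p : ℕ} (g : G) {Y : Subgroup G} (h : IsPGroup p Y) : IsPGroup p (cj g Y) := h.map _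

theorem cj_inf (g : G) (Y Y' : Subgroup G) : cj g (Y ⊓ Y') = cj g Y ⊓ cj g Y' := by
  ext x
  simp only [mem_cj, Subgroup.mem_inf]

theorem cj_centralizer (g b : G) :
    cj g (Subgroup.centralizer ({b} : Set G)) = Subgroup.centralizer ({g * b * g⁻¹} : Set G) := by
  ext x
  rw [mem_cj, Subgroup.mem_centralizer_singleton_iff, Subgroup.mem_centralizer_singleton_iff]
  constructor <;> intro h
  · calc x * (g * b * g⁻¹) = g * (g⁻¹ * x * g * b) * g⁻¹ := by group
      _ = g * b * g⁻¹ * x := by rw [h]; group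
  · calc g⁻¹ * x * g * b = g⁻¹ * (x * (g * b * g⁻¹)) * g := by group
      _ = b * (g⁻¹ * x * g) := by rw [h]; group

theorem cj_le_iff {g : G} {Y Y' : Subgroup G} : cj g Y ≤ Y' ↔ Y ≤ cj g⁻¹ Y' :=
  ⟨fun h y hy => mem_cj.2 (by simpa using h (conj_mem_cj hy)), fun h x hx => by
    have := mem_cj.1 (h (mem_cj.1 hx))
    simpa [mul_assoc] using this⟩

theorem mem_normalizer_cj {g x : G} {Y : Subgroup G} (h : g⁻¹ * x * g ∈ normalizer (Y : Set G)) :
    x ∈ normalizer (cj g Y : Set G) := by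
  rw [Subgroup.mem_normalizer_iff] at h ⊢
  intro y
  rw [mem_cj, mem_cj, h]
  simp only [_root_.mul_inv_rev, inv_inv, mul_assoc, mul_inv_cancel_left]

/-- An odd element inverted by `b` gives a square root inverted by `b`. -/
theorem exists_half [Finite G] {b n : G} {N : Subgroup G} (hN : Odd (Nat.card N)) (hn : n ∈ N)
    (hinv : b * n * b⁻¹ = n⁻¹) : ∃ m ∈ N, m * m = n ∧ b * m * b⁻¹ = m⁻¹ := by
  obtain ⟨k, hk⟩ := hN
  have h1 : n ^ (2 * k + 1) = 1 := by
    rw [← hk]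
    exact congrArg Subtype.val (pow_card_eq_one' (x := (⟨n, hn⟩ : N)))
  refine ⟨n ^ (k + 1), pow_mem hn _, ?_, ?_⟩
  · rw [← pow_add, show k + 1 + (k + 1) = 2 * k + 1 + 1 by omega, pow_succ, h1, one_mul]
  · rw [← conj_pow, hinv, inv_pow]

/-- An involution fixes an element in a coset of a subgroup of odd order which it normalises. -/
theorem exists_fix [Finite G] {b c : G} (hb : b * b = 1) {N : Subgroup G} (hN : Odd (Nat.card N))
    (h : c⁻¹ * (b * c * b⁻¹) ∈ N) : ∃ m ∈ N, Commute b (c * m) := by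
  have hbi : b⁻¹ = b := inv_eq_of_mul_eq_one_right hb
  obtain ⟨m, hm, hmm, hbm⟩ := exists_half hN h (b := b) (by
    rw [_root_.mul_inv_rev, inv_inv, _root_.mul_inv_rev, _root_.mul_inv_rev, inv_inv, hbi]
    calc b * (c⁻¹ * (b * c * b)) * b = b * c⁻¹ * b * c * (b * b) := by group
      _ = b * (c⁻¹ * b) * c := by rw [hb, mul_one]; group)
  refine ⟨m, hm, ?_⟩
  show b * (c * m) = c * m * b
  have e : b * m = m⁻¹ * b := by rw [← hbm]; group
  calc b * (c * m) = c * (c⁻¹ * (b * c * b⁻¹)) * (b * m) := by group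
    _ = c * m * (m * m⁻¹) * b := by rw [← hmm, e]; group
    _ = c * m * b := by rw [mul_inv_cancel, mul_one]

/-- Involutions in the same coset of a normalised subgroup of odd order are conjugate by it. -/
theorem exists_conj_coset [Finite G] {b b' : G} (hb : b * b = 1) (hb' : b' * b' = 1) {N : Subgroup G}
    (hN : Odd (Nat.card N)) (h : b' * b ∈ N) : ∃ k ∈ N, k * b * k⁻¹ = b' := by
  have hbi : b⁻¹ = b := inv_eq_of_mul_eq_one_right hb
  have hbi' : b'⁻¹ = b' := inv_eq_of_mul_eq_one_right hb'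
  obtain ⟨m, hm, hmm, hbm⟩ := exists_half hN h (b := b) (by
    rw [_root_.mul_inv_rev, hbi, hbi', ← mul_assoc, mul_assoc (b * b'), hb, mul_one])
  refine ⟨m, hm, ?_⟩
  have e : b * m⁻¹ = m * b := by
    have := congrArg (·⁻¹) hbm
    simp only [_root_.mul_inv_rev, inv_inv] at this
    conv_rhs => rw [← this]
    group
  rw [mul_assoc, e, ← mul_assoc, hmm, mul_assoc, hb, mul_one]

end Group

namespace Gam

variable {X : Type u} [Group X] [Finite X] {F : Type v} [Field F] [Fintype F] {l : ℕ} (Γ : Gam X F l)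

local notation "SL₂" => Matrix.SpecialLinearGroup (Fin 2) F
local notation "GL₂" => GL (Fin 2) F
local notation "M₂" => Matrix (Fin 2) (Fin 2) F

/-- Every elliptic element is inverted by a non-central involution. -/
theorem exists_nc_inv {e : X} (he : Γ.Elt e) : ∃ x, Γ.NC x ∧ x * e * x⁻¹ = e⁻¹ := by
  classical
  obtain ⟨s, rfl, -, -, u, hu, hus, hns, -⟩ := Γ.elt_ι he
  have htu := tz_of_sq Γ.c.odd hu
  have hud : (u : M₂).det = 1 := u.2
  have hu0 : (u : M₂).det ≠ 0 := by rw [hud]; exact one_ne_zero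
  obtain ⟨k, hk, hkd⟩ := exists_anti Γ.two_ne htu hu0
  obtain ⟨a, ha⟩ := FiniteField.exists_nonsquare (F := F) (ringChar_ne Γ.c.odd)
  obtain ⟨α, β, hab⟩ := exists_norm Γ.c.odd hu0 (-a)
  set g : M₂ := (α • (1 : M₂) + β • (u : M₂)) * k with hg
  have hgd : g.det = a := by rw [hg, Matrix.det_mul, det_lin htu, hab, hkd]; ring
  have ha0 : a ≠ 0 := fun e => ha (e ▸ IsSquare.zero)
  have hgu : (u : M₂) * g = -(g * (u : M₂)) := by
    rw [hg]
    simp only [mul_add, add_mul, smul_mul_assoc, mul_smul_comm, one_mul, mul_assoc]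
    rw [hk, mul_neg, ← mul_assoc]
    simp only [smul_neg, neg_add]
  have htg : TZ g := tz_of_anti Γ.two_ne htu hu0 hgu
  let G0 : GL₂ := Matrix.GeneralLinearGroup.mkOfDetNeZero g (by rw [hgd]; exact ha0)
  obtain ⟨x, hx, hψ⟩ := Γ.exists_nc (g := G0) htg (by rw [show ((G0 : GL₂) : M₂).det = a from hgd]; exact ha)
  refine ⟨x, hx, ?_⟩
  rw [← map_inv]
  refine ((Γ.conj_nc hψ s).2 _).2 ?_
  obtain ⟨γ, δ, hγ⟩ := exists_lin (not_scalar_of_tz Γ.two_ne htu hu0)
    (by rw [← cmul, ← hus, cmul] : (s : M₂) * (u : M₂) = (u : M₂) * (s : M₂))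
  show ((s⁻¹ : SL₂) : M₂) * g = g * (s : M₂)
  have hinv : ((s⁻¹ : SL₂) : M₂) = γ • (1 : M₂) - δ • (u : M₂) := by
    rw [cinv, hγ, Matrix.adjugate_fin_two]
    ext i j
    fin_cases i <;> fin_cases j <;> simp [htu.eq] <;> ring
  rw [hinv, hγ, Matrix.sub_mul, Matrix.mul_add, smul_mul_assoc, smul_mul_assoc, mul_smul_comm, mul_smul_comm,
    hgu, one_mul, mul_one, smul_neg, sub_neg_eq_add]

/-- A non-central involution inverts a line whose normalizer contains a Sylow `l`-subgroup. -/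
theorem exists_sylow_inv {w : X} (hw : Γ.NC w) :
    ∃ (e : X) (P : Sylow l X), Γ.Inv w e ∧ (P : Subgroup X) ≤ normalizer (zpowers e : Set X) := by
  haveI := Fact.mk Γ.hl
  obtain ⟨P⟩ : Nonempty (Sylow l X) := inferInstance
  obtain ⟨e, -, he, hec⟩ := Γ.sylow_elt P
  obtain ⟨x, hx, hxe⟩ := Γ.exists_nc_inv he
  obtain ⟨r, hr⟩ := Γ.nc_conj hx hw
  refine ⟨r * e * r⁻¹, r • P, ⟨Γ.elt_conj he r, ?_⟩, fun a ha => mem_normalizer_of_commute ?_⟩
  · rw [← hr]
    calc r * x * r⁻¹ * (r * e * r⁻¹) * (r * x * r⁻¹)⁻¹ = r * (x * e * x⁻¹) * r⁻¹ := by group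
      _ = (r * e * r⁻¹)⁻¹ := by rw [hxe]; group
  · rw [Sylow.coe_subgroup_smul] at ha
    obtain ⟨y, hy, rfl⟩ := Subgroup.mem_smul_pointwise_iff_exists _ _ _ |>.1 ha
    rw [MulAut.smul_def, MulAut.conj_apply]
    exact (hec y hy).map (MulAut.conj r).toMonoidHom

/-- The elliptic elements of an `l`-group normalised by a non-central involution `b`. -/
theorem inv_elt {b : X} (hb : Γ.NC b) {Y : Subgroup X} (hY : IsPGroup l Y) (hbY : b ∈ normalizer (Y : Set X))
    {e₀ : X} (h₀ : e₀ ∈ Y) (he₀ : Γ.Elt e₀) :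
    ∃ e ∈ Y, Γ.Inv b e ∧ ∀ y ∈ Y, Commute y e := by
  obtain ⟨e, heY, he, hec⟩ := Γ.elt_central hY h₀ he₀.1 he₀.2.1
  refine ⟨e, heY, ⟨he, Γ.nc_inv hb he (Γ.elt_unique he (Γ.elt_conj he b) ?_)⟩, hec⟩
  exact (hec _ ((Subgroup.mem_normalizer_iff.1 hbY e).1 heY)).symm

end Gam

end Cfsg.Agent.Invol.AbgOrder.Ell
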