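import Cfsg.Agent.Lib.Invol.AbgOrder.EllLinCent
import Cfsg.Agent.Lib.Invol.AbgOrder.EllPre
import Cfsg.Agent.Lib.Grp.HomogeneousDPi
import Cfsg.Agent.S3282

/-!
# The subgroup of index two modulo scalars

Its involutions are conjugate and the centraliser of one is generated by an abelian subgroup and an inverting involution,
so the theorem of Brauer, Suzuki and Wall applies.
-/

set_option autoImplicit false
set_option linter.unusedSectionVars false
set_option linter.style.haveILetI false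

namespace Cfsg.Agent.Invol.AbgOrder.Ell

open Matrix Subgroup
open scoped Pointwise

local notation "M₃" l => Matrix (Fin 3) (Fin 3) (ZMod l)
local notation "GL₃" l => GL (Fin 3) (ZMod l)

section quot

variable {l : ℕ} [Fact l.Prime]

instance scalars_normal : (scalars (l := l)).Normal :=
  ⟨fun c hc a => by rw [← (Scl.commute hc a).eq, mul_inv_cancel_right]; exact hc⟩

/-- Matrices up to scalars. -/
abbrev PQ (l : ℕ) [Fact l.Prime] := (GL₃ l) ⧸ (scalars (l := l))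

/-- The projection. -/
def prj : (GL₃ l) →* PQ l := QuotientGroup.mk' _

theorem prj_eq_one {h : GL₃ l} : prj h = 1 ↔ Scl h := QuotientGroup.eq_one_iff h

theorem prj_eq {a b : GL₃ l} : prj a = prj b ↔ Scl (a⁻¹ * b) := by
  rw [← prj_eq_one, map_mul, map_inv, inv_mul_eq_one]

theorem prj_surj : Function.Surjective (prj (l := l)) := QuotientGroup.mk'_surjective _

end quot

namespace Lin

variable {l : ℕ} [Fact l.Prime] (L : Lin l)

/-- The odd part of the order. -/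
noncomputable def m : ℕ := Nat.card L.H / 2 ^ (L.n + 1)

theorem card_H : Nat.card L.H = 2 ^ (L.n + 1) * L.m := by
  rw [m, Nat.mul_div_cancel' (L.fac ▸ Nat.ordProj_dvd (Nat.card L.H) 2)]

theorem m_odd : Odd L.m := by
  rw [Nat.odd_iff, ← Nat.two_dvd_ne_zero]
  intro h
  refine Nat.prime_two.pow_dvd_iff_le_factorization Nat.card_pos.ne' |>.not.2
    (show ¬ L.n + 2 ≤ (Nat.card L.H).factorization 2 by rw [L.fac]; omega) ?_
  rw [L.card_H, pow_succ]
  exact mul_dvd_mul_left _ h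

/-- A `2`-element of `H` is conjugate into `S`. -/
theorem exists_conj_S {y : GL₃ l} (hy : y ∈ L.H) {k : ℕ} (h : y ^ 2 ^ k = 1) :
    ∃ a ∈ L.H, a * y * a⁻¹ ∈ L.S := by
  haveI : Fact (Nat.Prime 2) := ⟨Nat.prime_two⟩
  have hS : Grp.IsSylowIn 2 L.S L.H := ⟨L.S_le.trans inf_le_left, L.S_two, fun hd => by
    have h1 := Grp.card_mul_relIndex (L.S_le.trans inf_le_left : L.S ≤ L.H)
    rw [L.card_S, L.card_H, mul_right_inj' (by positivity)] at h1
    rw [h1] at hd
    exact L.m_odd.not_two_dvd_nat hd⟩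
  have hP : IsPGroup 2 (zpowers y) := IsPGroup.of_card_dvd_pow (n := k) (by
    rw [Nat.card_zpowers]; exact orderOf_dvd_of_pow_eq_one h)
  obtain ⟨a, ha, e⟩ := Grp.HomDPi.exists_conj_into (zpowers_le.2 hy) hP hS
  exact ⟨a, ha, e y (mem_zpowers y)⟩

/-- The determinant. -/
def dt : (GL₃ l) →* ZMod l where
  toFun h := (h : M₃ l).det
  map_one' := by rw [Units.val_one, Matrix.det_one]
  map_mul' a b := by rw [Units.val_mul, Matrix.det_mul]

theorem dt_conj (a y : GL₃ l) : dt (a * y * a⁻¹) = dt y := by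
  rw [map_mul, map_mul, mul_comm (dt a), mul_assoc, ← map_mul, mul_inv_cancel, map_one, mul_one]

theorem dt_blk {h : GL₃ l} (hh : Blk (h : M₃ l)) : dt h = (h : M₃ l) 0 0 * (blk (h : M₃ l)).det := by
  obtain ⟨h01, h02, h10, h20⟩ := hh
  show (h : M₃ l).det = _
  rw [Matrix.det_fin_three, h01, h02, h10, h20]
  simp [blk, Matrix.det_fin_two]
  ring

theorem dt_x : dt L.x = -1 := by
  obtain ⟨p, q, r, e, h, -⟩ := L.x_form
  rw [dt_blk L.x_blk, L.x00, one_mul, e, Matrix.det_fin_two_of, h]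

theorem dt_w : dt L.w = 1 := by
  rw [dt_blk L.w_blk, L.blk_w, L.w_eq]
  simp [Matrix.det_fin_two_of]

theorem dt_z : dt L.z = 1 := by
  rw [dt_blk L.z_blk, L.blk_z, L.z_eq]
  simp [Matrix.det_neg]

theorem dt_sq {s : GL₃ l} (hs : s ∈ L.S) : dt s * dt s = 1 := by
  have h : L.S ≤ MonoidHom.ker ((powMonoidHom 2).comp (dt (l := l))) := by
    refine sup_le (zpowers_le.2 ?_) (zpowers_le.2 ?_) <;>
      rw [MonoidHom.mem_ker, MonoidHom.comp_apply, powMonoidHom_apply]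
    · rw [L.dt_x]; norm_num
    · rw [L.dt_w]; norm_num
  have := MonoidHom.mem_ker.1 (h hs)
  rwa [MonoidHom.comp_apply, powMonoidHom_apply, sq] at this

theorem dt_m {h : GL₃ l} (hh : h ∈ L.H) : dt h ^ L.m = 1 ∨ dt h ^ L.m = -1 := by
  have h1 : (h ^ L.m) ^ 2 ^ (L.n + 1) = 1 := by
    rw [← pow_mul, mul_comm, ← L.card_H]
    exact congrArg Subtype.val (pow_card_eq_one' (x := (⟨h, hh⟩ : L.H)))
  obtain ⟨a, -, has⟩ := L.exists_conj_S (pow_mem hh L.m) h1
  have := L.dt_sq has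
  rw [dt_conj, map_pow] at this
  exact mul_self_eq_one_iff.1 this

/-- The subgroup of index two. -/
noncomputable def H₂ : Subgroup (GL₃ l) := L.H ⊓ MonoidHom.ker ((powMonoidHom L.m).comp (dt (l := l)))

theorem mem_H₂ {h : GL₃ l} : h ∈ L.H₂ ↔ h ∈ L.H ∧ dt h ^ L.m = 1 := by
  rw [H₂, Subgroup.mem_inf, MonoidHom.mem_ker, MonoidHom.comp_apply, powMonoidHom_apply]

theorem H₂_le : L.H₂ ≤ L.H := inf_le_left

theorem z_H₂ : L.z ∈ L.H₂ := L.mem_H₂.2 ⟨L.zH, by rw [L.dt_z, one_pow]⟩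

theorem w_H₂ : L.w ∈ L.H₂ := L.mem_H₂.2 ⟨L.wH, by rw [L.dt_w, one_pow]⟩

theorem xx_H₂ : L.x * L.x ∈ L.H₂ :=
  L.mem_H₂.2 ⟨mul_mem L.xH L.xH, by rw [map_mul, L.dt_x, neg_mul_neg, one_mul, one_pow]⟩

theorem x_not : L.x ∉ L.H₂ := fun h => L.neg_ne_one (by
  have := (L.mem_H₂.1 h).2
  rwa [L.dt_x, L.m_odd.neg_one_pow] at this)

theorem odd_H₂ {h : GL₃ l} (hh : h ∈ L.H) (ho : Odd (orderOf h)) : h ∈ L.H₂ := by
  refine L.mem_H₂.2 ⟨hh, (L.dt_m hh).resolve_right fun e => L.neg_ne_one ?_⟩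
  obtain ⟨k, hk⟩ := ho
  have h1 : (dt h ^ L.m) ^ orderOf h = 1 := by
    rw [← pow_mul, mul_comm, pow_mul, ← map_pow, pow_orderOf_eq_one, map_one, one_pow]
  rwa [e, Odd.neg_one_pow ⟨k, hk⟩] at h1

theorem K₀_H₂ : L.K₀ ≤ L.H₂ := fun _ hk =>
  L.odd_H₂ (L.K₀_le hk).1 (L.K₀_odd.of_dvd_nat (Subgroup.orderOf_dvd_natCard _ hk))

theorem Kt_H₂ : L.Kt ≤ L.H₂ := sup_le L.K₀_H₂ (zpowers_le.2 L.xx_H₂)

theorem mul_mem_H₂ {a b : GL₃ l} (ha : a ∈ L.H) (hb : b ∈ L.H) (ha' : a ∉ L.H₂) (hb' : b ∉ L.H₂) :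
    a * b ∈ L.H₂ := by
  have e : ∀ {h}, h ∈ L.H → h ∉ L.H₂ → dt h ^ L.m = -1 := fun {h} hh hn =>
    (L.dt_m hh).resolve_left fun e => hn (L.mem_H₂.2 ⟨hh, e⟩)
  exact L.mem_H₂.2 ⟨mul_mem ha hb, by rw [map_mul, mul_pow, e ha ha', e hb hb', neg_mul_neg, one_mul]⟩

/-- The decomposition of the centraliser of `z`. -/
theorem CH_eq : L.CH = L.K₀ ⊔ L.S := by
  haveI : Fact (Nat.Prime 2) := ⟨Nat.prime_two⟩
  refine (Subgroup.eq_of_le_of_card_ge (sup_le L.K₀_le L.S_le) ?_).symm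
  set N := L.K₀.subgroupOf L.CH with hN
  haveI : N.Normal := by rw [hN]; exact Subgroup.normal_subgroupOf_iff_le_normalizer L.K₀_le |>.2 L.K₀_norm
  have hq : IsPGroup 2 (↥L.CH ⧸ N) := fun q => by
    obtain ⟨h, rfl⟩ := QuotientGroup.mk_surjective q
    obtain ⟨j, hj⟩ := L.K₀_two h h.2
    exact ⟨j, by rw [← QuotientGroup.mk_pow, QuotientGroup.eq_one_iff]; exact Subgroup.mem_subgroupOf.2 hj⟩
  obtain ⟨e, he⟩ := IsPGroup.iff_card.1 hq
  have hc : Nat.card L.CH = 2 ^ e * Nat.card L.K₀ := by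
    rw [Subgroup.card_eq_card_quotient_mul_card_subgroup N, he, hN,
      Nat.card_congr (Subgroup.subgroupOfEquivOfLe L.K₀_le).toEquiv]
  have hen : e ≤ L.n + 1 := by
    rw [← L.fac]
    refine (Nat.prime_two.pow_dvd_iff_le_factorization Nat.card_pos.ne').1
      ((dvd_mul_right _ _).trans (hc ▸ Subgroup.card_dvd_of_le inf_le_left))
  have h := Grp.card_sup_mul_card_inf (H := L.S) (N := L.K₀) L.S_le_norm
  rw [inf_eq_bot_of_coprime (by rw [L.card_S]; exact (Nat.coprime_two_left.2 L.K₀_odd).pow_left _),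
    Subgroup.card_bot, mul_one, sup_comm, L.card_S] at h
  rw [h, hc]
  exact Nat.mul_le_mul_right _ (Nat.pow_le_pow_right two_pos hen)

theorem CH_cases {h : GL₃ l} (hh : h ∈ L.CH) (h2 : h ∈ L.H₂) : h ∈ L.Kt ∨ h * L.w ∈ L.Kt := by
  rw [L.CH_eq, sup_comm] at hh
  have h1 : h ∈ ((L.S ⊔ L.K₀ : Subgroup (GL₃ l)) : Set (GL₃ l)) := hh
  rw [Subgroup.coe_mul_of_left_le_normalizer_right _ _ L.S_le_norm] at h1
  obtain ⟨s, hs, k, hk, rfl⟩ := h1
  have hs2 : s ∈ L.H₂ := by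
    have := mul_mem h2 (inv_mem (L.K₀_H₂ hk))
    rwa [mul_inv_cancel_right] at this
  have hs' : s ∈ ((zpowers L.x ⊔ zpowers L.w : Subgroup (GL₃ l)) : Set (GL₃ l)) := hs
  rw [Subgroup.coe_mul_of_right_le_normalizer_left _ _ L.w_norm] at hs'
  obtain ⟨u, ⟨a, rfl⟩, v, ⟨b, rfl⟩, rfl⟩ := hs'
  -- an element of `⟨x⟩` in `H₂` is a power of `x²`
  have key : ∀ a : ℤ, L.x ^ a ∈ L.H₂ → L.x ^ a ∈ L.Kt := by
    intro a ha
    rcases Int.even_or_odd a with ⟨c, rfl⟩ | ⟨c, rfl⟩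
    · rw [_root_.zpow_add, ← (Commute.refl L.x).mul_zpow]
      exact le_sup_right (a := L.K₀) (zpow_mem (mem_zpowers _) c)
    · exfalso
      refine L.x_not ?_
      rw [_root_.zpow_add, _root_.zpow_mul, zpow_two, zpow_one] at ha
      have := mul_mem (inv_mem (zpow_mem L.xx_H₂ c)) ha
      rwa [inv_mul_cancel_left] at this
  have hkK : k ∈ L.Kt := le_sup_left (b := zpowers (L.x * L.x)) hk
  rcases Int.even_or_odd b with ⟨c, rfl⟩ | ⟨c, rfl⟩
  · left
    have e : L.w ^ (c + c) = 1 := by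
      rw [_root_.zpow_add, ← (Commute.refl L.w).mul_zpow, L.ww, _root_.one_zpow]
    simp only [e, mul_one] at hs2 ⊢
    exact mul_mem (key a hs2) hkK
  · right
    have e : L.w ^ (2 * c + 1) = L.w := by
      rw [_root_.zpow_add, _root_.zpow_mul, zpow_two, L.ww, _root_.one_zpow, one_mul, zpow_one]
    simp only [e] at hs2 ⊢
    have ha : L.x ^ a ∈ L.H₂ := by
      have := mul_mem hs2 L.w_H₂
      rwa [mul_assoc, L.ww, mul_one] at this
    have hk' : L.w * k * L.w ∈ L.K₀ := by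
      have := (Subgroup.mem_normalizer_iff.1 (L.K₀_norm L.wCH) k).1 hk
      rwa [L.w_inv] at this
    rw [show L.x ^ a * L.w * k * L.w = L.x ^ a * (L.w * k * L.w) by group]
    exact mul_mem (key a ha) (le_sup_left (b := zpowers (L.x * L.x)) hk')

/-- The involutions of `H` are conjugate to `z` by elements of the subgroup of index two. -/
theorem invol_conj {y : GL₃ l} (hy : y ∈ L.H) (hyy : y * y = 1) (hy1 : y ≠ 1) :
    ∃ a ∈ L.H₂, a * y * a⁻¹ = L.z := by
  obtain ⟨a, ha, has⟩ := L.exists_conj_S hy (k := 1) (by rw [pow_one, sq, hyy])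
  have hss : a * y * a⁻¹ * (a * y * a⁻¹) = 1 := by
    rw [show a * y * a⁻¹ * (a * y * a⁻¹) = a * (y * y) * a⁻¹ by group, hyy, mul_one, mul_inv_cancel]
  have hs1 : a * y * a⁻¹ ≠ 1 := fun e => hy1 (conj_eq_one_iff.1 e)
  -- in `H`
  obtain ⟨b, hb, hbz⟩ : ∃ b ∈ L.H, b * (a * y * a⁻¹) * b⁻¹ = L.z := by
    generalize a * y * a⁻¹ = s at has hss hs1
    have hgw : ∃ c ∈ L.H, c * L.w * c⁻¹ = L.z := by
      refine ⟨L.g, L.gH, ?_⟩
      rw [mul_inv_eq_iff_eq_mul]
      refine Units.ext ?_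
      rw [Units.val_mul, Units.val_mul, L.w_eq, L.z_eq]
      ext i j
      rw [Matrix.mul_diagonal, Matrix.diagonal_mul]
      fin_cases i <;> fin_cases j <;> simp [L.g00, L.g11, L.g02, L.g20, L.g12, L.g21]
    obtain ⟨c, hc, hcw⟩ := hgw
    obtain ⟨i, hi, α, β, -, ei⟩ := L.exists_i
    have hzw : i * L.w * i⁻¹ = L.z * L.w := by
      rw [mul_inv_eq_iff_eq_mul]
      refine Units.ext ?_
      rw [Units.val_mul, Units.val_mul, Units.val_mul, L.w_eq, L.z_eq, ei]
      ext u v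
      fin_cases u <;> fin_cases v <;> simp [Matrix.mul_apply, Fin.sum_univ_three]
    have hs' : s ∈ ((zpowers L.x ⊔ zpowers L.w : Subgroup (GL₃ l)) : Set (GL₃ l)) := has
    rw [Subgroup.coe_mul_of_right_le_normalizer_left _ _ L.w_norm] at hs'
    obtain ⟨u, ⟨p, rfl⟩, v, ⟨q, rfl⟩, rfl⟩ := hs'
    rcases Int.even_or_odd q with ⟨q', rfl⟩ | ⟨q', rfl⟩
    · have e : L.w ^ (q' + q') = 1 := by
        rw [_root_.zpow_add, ← (Commute.refl L.w).mul_zpow, L.ww, _root_.one_zpow]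
      simp only [e, mul_one] at hss hs1 ⊢
      refine ⟨1, one_mem _, ?_⟩
      rw [one_mul, inv_one, mul_one]
      have h0 : ((2 ^ L.n : ℕ) : ℤ) ∣ p + p := by
        rw [← L.x_order, orderOf_dvd_iff_zpow_eq_one, _root_.zpow_add, hss]
      have hn := L.hn
      rw [show L.n = L.n - 1 + 1 by omega, pow_succ', ← two_mul, Nat.cast_mul, Nat.cast_ofNat] at h0
      obtain ⟨d, rfl⟩ := (mul_dvd_mul_iff_left (by norm_num : (2 : ℤ) ≠ 0)).1 h0
      rw [_root_.zpow_mul, zpow_natCast, L.x_pow] at hs1 ⊢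
      rcases Int.even_or_odd d with ⟨d', rfl⟩ | ⟨d', rfl⟩
      · exact absurd (by rw [_root_.zpow_add, ← (Commute.refl L.z).mul_zpow, L.zz, _root_.one_zpow]) hs1
      · rw [_root_.zpow_add, _root_.zpow_mul, zpow_two, L.zz, _root_.one_zpow, one_mul, zpow_one]
    · have e : L.w ^ (2 * q' + 1) = L.w := by
        rw [_root_.zpow_add, _root_.zpow_mul, zpow_two, L.ww, _root_.one_zpow, one_mul, zpow_one]
      simp only [e] at hss hs1 ⊢
      have hwp : ∀ c : ℤ, L.w * L.x ^ c * L.w = L.x ^ (-c) * L.z ^ c := fun c => by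
        nth_rw 2 [← L.w_inv]
        rw [← conj_zpow, L.w_inv, L.x_inv, L.xz.inv_left.mul_zpow, _root_.inv_zpow, _root_.zpow_neg]
      have hzc : L.z ^ p = 1 := by
        have : L.x ^ p * (L.w * L.x ^ p * L.w) = 1 := by rw [← hss]; group
        rwa [hwp, ← mul_assoc, ← _root_.zpow_add, add_neg_cancel, zpow_zero, one_mul] at this
      obtain ⟨p', rfl⟩ : ∃ p', p = p' + p' := by
        rcases Int.even_or_odd p with h | ⟨d, rfl⟩
        · exact h
        · exfalso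
          rw [_root_.zpow_add, _root_.zpow_mul, zpow_two, L.zz, _root_.one_zpow, one_mul, zpow_one] at hzc
          exact L.z_ne hzc
      -- conjugate back by `x ^ p'`
      have h1 : L.x ^ (-p') * (L.x ^ (p' + p') * L.w) * L.x ^ p' = L.z ^ p' * L.w := by
        have h2 : L.w * L.x ^ p' = L.x ^ (-p') * L.z ^ p' * L.w := by
          rw [← hwp, mul_assoc, L.ww, mul_one]
        rw [mul_assoc, mul_assoc, h2, ← mul_assoc (L.x ^ (p' + p')), ← mul_assoc (L.x ^ (p' + p')),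
          ← _root_.zpow_add, ← mul_assoc, ← mul_assoc, ← _root_.zpow_add,
          show -p' + (p' + p' + -p') = 0 by ring, zpow_zero, one_mul]
      rcases Int.even_or_odd p' with ⟨d, hd⟩ | ⟨d, hd⟩
      · refine ⟨c * L.x ^ (-p'), mul_mem hc (zpow_mem L.xH _), ?_⟩
        rw [_root_.mul_inv_rev, _root_.zpow_neg, inv_inv]
        rw [_root_.zpow_neg] at h1
        rw [show c * (L.x ^ p')⁻¹ * (L.x ^ (p' + p') * L.w) * (L.x ^ p' * c⁻¹) =
          c * ((L.x ^ p')⁻¹ * (L.x ^ (p' + p') * L.w) * L.x ^ p') * c⁻¹ by group, h1, hd, _root_.zpow_add,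
          ← (Commute.refl L.z).mul_zpow, L.zz, _root_.one_zpow, one_mul, hcw]
      · refine ⟨c * i⁻¹ * L.x ^ (-p'), mul_mem (mul_mem hc (inv_mem hi)) (zpow_mem L.xH _), ?_⟩
        rw [_root_.mul_inv_rev, _root_.zpow_neg, inv_inv]
        rw [_root_.zpow_neg] at h1
        rw [show c * i⁻¹ * (L.x ^ p')⁻¹ * (L.x ^ (p' + p') * L.w) * (L.x ^ p' * (c * i⁻¹)⁻¹) =
          c * (i⁻¹ * ((L.x ^ p')⁻¹ * (L.x ^ (p' + p') * L.w) * L.x ^ p') * i) * c⁻¹ by group, h1, hd,
          _root_.zpow_add, _root_.zpow_mul, zpow_two, L.zz, _root_.one_zpow, one_mul, zpow_one, ← hzw,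
          show i⁻¹ * (i * L.w * i⁻¹) * i = L.w by group, hcw]
  have h3 : b * a * y * (b * a)⁻¹ = L.z := by rw [← hbz]; group
  by_cases h2 : b * a ∈ L.H₂
  · exact ⟨b * a, h2, h3⟩
  · refine ⟨L.x * (b * a), L.mul_mem_H₂ L.xH (mul_mem hb ha) L.x_not h2, ?_⟩
    rw [show L.x * (b * a) * y * (L.x * (b * a))⁻¹ = L.x * (b * a * y * (b * a)⁻¹) * L.x⁻¹ by group, h3, L.xz.eq,
      mul_inv_cancel_right]

/-- No scalar involution. -/
theorem scl_invol {y : GL₃ l} (hy : y ∈ L.H) (hs : Scl y) (hyy : y * y = 1) : y = 1 := by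
  by_contra h
  obtain ⟨a, -, e⟩ := L.invol_conj hy hyy h
  have h1 : y = L.z := by rw [← e, ← (hs.commute a).eq, mul_inv_cancel_right]
  obtain ⟨c, hc⟩ := hs
  rw [h1] at hc
  have h00 := congrFun (congrFun hc 0) 0
  have h11 := congrFun (congrFun hc 1) 1
  rw [L.z_eq] at h00 h11
  simp at h00 h11
  exact L.neg_ne_one (h11.trans h00.symm)

/-- The scalars of `H` have odd order. -/
theorem scalars_odd : Odd (Nat.card ↥(L.H ⊓ scalars)) := by
  haveI : Fact (Nat.Prime 2) := ⟨Nat.prime_two⟩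
  rw [Nat.odd_iff, ← Nat.two_dvd_ne_zero]
  intro h
  obtain ⟨⟨y, hy⟩, ho⟩ := exists_prime_orderOf_dvd_card' 2 h
  rw [Subgroup.orderOf_mk] at ho
  have := L.scl_invol hy.1 hy.2 (by rw [← sq, ← ho, pow_orderOf_eq_one])
  rw [this, orderOf_one] at ho
  norm_num at ho

/-- An involution commuting with an element up to scalars commutes with it. -/
theorem commute_of_scl {j a : GL₃ l} (hj : j ∈ L.H) (hjj : j * j = 1) (ha : a ∈ L.H)
    (h : Scl (a⁻¹ * (j * a * j⁻¹))) : Commute j a := by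
  have hji : j⁻¹ = j := inv_eq_of_mul_eq_one_right hjj
  set c := a⁻¹ * (j * a * j⁻¹) with hc
  have hcH : c ∈ L.H := mul_mem (inv_mem ha) (mul_mem (mul_mem hj ha) (inv_mem hj))
  have e : j * a * j⁻¹ = a * c := by rw [hc, mul_inv_cancel_left]
  have hcc : c * c = 1 := by
    have h1 : j * (a * c) * j⁻¹ = a := by
      rw [← e, hji]
      simp only [mul_assoc]
      rw [hjj, mul_one, ← mul_assoc, hjj, one_mul]
    rw [show j * (a * c) * j⁻¹ = (j * a * j⁻¹) * (j * c * j⁻¹) by group, e, ← (h.commute j).eq,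
      mul_inv_cancel_right, mul_assoc] at h1
    exact mul_eq_left.1 h1
  rw [L.scl_invol hcH h hcc, mul_one, mul_inv_eq_iff_eq_mul] at e
  exact e

/-- An element of `K₀⟨x²⟩` with scalar square. -/
theorem Kt_invol {y : GL₃ l} (hy : y ∈ L.Kt) (h : Scl (y * y)) : Scl y ∨ Scl (L.z * y) := by
  refine L.Kt_commute_w hy (L.commute_of_scl L.wH L.ww (L.Kt_le hy).1 ?_).symm
  rw [L.w_inv, show y⁻¹ * (L.w * y * L.w) = (y * y)⁻¹ * (y * (L.w * y * L.w)) by group]
  exact h.inv.mul (L.Kt_norm hy)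

/-- The group modulo scalars. -/
noncomputable def Gb : Subgroup (PQ l) := L.H₂.map prj

/-- The abelian part of the centraliser. -/
def Kb : Subgroup (PQ l) := L.Kt.map prj

theorem Kb_le : L.Kb ≤ L.Gb := Subgroup.map_mono L.Kt_H₂

theorem t_mem : prj L.z ∈ L.Kb := by
  refine ⟨L.z, le_sup_right (a := L.K₀) ?_, rfl⟩
  have hn := L.hn
  refine mem_zpowers_iff.2 ⟨((2 ^ (L.n - 2) : ℕ) : ℤ), ?_⟩
  rw [zpow_natCast, ← sq, ← pow_mul, ← pow_succ', show L.n - 2 + 1 = L.n - 1 by omega, L.x_pow]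

theorem prj_z_ne : prj L.z ≠ 1 := fun h => L.z_ne (L.scl_invol L.zH (prj_eq_one.1 h) L.zz)

theorem prj_tt : prj L.z * prj L.z = 1 := by rw [← map_mul, L.zz, map_one]

theorem prj_ss : prj L.w * prj L.w = 1 := by rw [← map_mul, L.ww, map_one]

/-- The centraliser of the involution. -/
theorem cent_t {g : PQ l} (hg : g ∈ L.Gb) (hc : Commute g (prj L.z)) :
    g ∈ L.Kb ∨ g * prj L.w ∈ L.Kb := by
  obtain ⟨h, hh, rfl⟩ := hg
  have hhz : Commute L.z h := L.commute_of_scl L.zH L.zz (L.H₂_le hh) (prj_eq_one.1 (by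
    rw [map_mul, map_mul, map_mul, map_inv, map_inv, ← hc.eq, mul_inv_cancel_right, inv_mul_cancel]))
  rcases L.CH_cases ⟨L.H₂_le hh, Subgroup.mem_centralizer_singleton_iff.2 hhz.symm.eq⟩ hh with h1 | h1
  · exact Or.inl ⟨h, h1, rfl⟩
  · exact Or.inr ⟨h * L.w, h1, map_mul _ _ _⟩

theorem Kb_comm_t {y : PQ l} (hy : y ∈ L.Kb) : Commute y (prj L.z) := by
  obtain ⟨k, hk, rfl⟩ := hy
  exact (show Commute k L.z from Subgroup.mem_centralizer_singleton_iff.1 (L.Kt_le hk).2).map prj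

theorem inverts {y : PQ l} (hy : y ∈ L.Kb) : prj L.w * y * (prj L.w)⁻¹ = y⁻¹ := by
  obtain ⟨k, hk, rfl⟩ := hy
  refine eq_inv_of_mul_eq_one_right ?_
  rw [← map_inv, L.w_inv, ← map_mul, ← map_mul, ← map_mul, prj_eq_one]
  exact L.Kt_norm hk

theorem Kb_fix {y : PQ l} (hy : y ∈ L.Kb) (h : Commute y (prj L.w)) : y = 1 ∨ y = prj L.z := by
  obtain ⟨k, hk, rfl⟩ := hy
  have hw : Commute L.w k := L.commute_of_scl L.wH L.ww (L.Kt_le hk).1 (prj_eq_one.1 (by
    rw [map_mul, map_mul, map_mul, map_inv, map_inv, ← h.eq, mul_inv_cancel_right, inv_mul_cancel]))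
  rcases L.Kt_commute_w hk hw.symm with h1 | h1
  · exact Or.inl (prj_eq_one.2 h1)
  · refine Or.inr ((prj_eq (a := L.z) (b := k)).2 ?_).symm
    rwa [L.z_inv]

/-- Trivial intersection. -/
theorem ti {g : PQ l} (hg : g ∈ L.Gb) (hgt : ¬ Commute g (prj L.z)) {y' : PQ l} (hy' : y' ∈ L.Kb)
    (hgy : g * y' * g⁻¹ ∈ L.Kb) : y' = 1 := by
  obtain ⟨h, hh, rfl⟩ := hg
  obtain ⟨k', hk', rfl⟩ := hy'
  obtain ⟨k, hk, ek⟩ := hgy
  by_contra hne
  apply hgt
  set z' := h * L.z * h⁻¹ with hz'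
  have hz'H₂ : z' ∈ L.H₂ := mul_mem (mul_mem hh L.z_H₂) (inv_mem hh)
  have hz'z' : z' * z' = 1 := by
    rw [hz', show h * L.z * h⁻¹ * (h * L.z * h⁻¹) = h * (L.z * L.z) * h⁻¹ by group, L.zz, mul_one, mul_inv_cancel]
  have hkH : k ∈ L.H := (L.Kt_le hk).1
  -- `z'` commutes with `k`
  have hkz' : Commute z' k := by
    refine L.commute_of_scl (L.H₂_le hz'H₂) hz'z' hkH (prj_eq_one.1 ?_)
    have hc : Commute (prj z') (prj k) := by
      rw [ek, hz', map_mul, map_mul, map_inv]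
      exact (L.Kb_comm_t ⟨k', hk', rfl⟩).symm.map (MulAut.conj (prj h))
    rw [map_mul, map_mul, map_mul, map_inv, map_inv, hc.eq, mul_inv_cancel_right, inv_mul_cancel]
  have hconj : ∀ c : GL₃ l, Scl c → z' = L.z * c → Commute (prj h) (prj L.z) := fun c hc e => by
    have h1 : prj h * prj L.z * (prj h)⁻¹ = prj L.z := by
      rw [← map_inv, ← map_mul, ← map_mul, ← hz', e, map_mul, prj_eq_one.2 hc, mul_one]
    exact mul_inv_eq_iff_eq_mul.1 h1
  obtain ⟨p, q, r, ex, hpq, hp, hq, hr⟩ := L.x_form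
  have hkB := (L.mem_CH.1 (L.Kt_le hk)).2
  have hbk : blk (k : M₃ l) * blk (L.x : M₃ l) = blk (L.x : M₃ l) * blk (k : M₃ l) := by
    rw [← blk_mul hkB, ← blk_mul L.x_blk, ← Units.val_mul, ← Units.val_mul, (L.Kt_x hk).eq]
  obtain ⟨α, β, hN⟩ := exists_lin L.x_nonscalar hbk
  rw [ex] at hN
  by_cases hβ : β = 0
  · -- the block of `k` is scalar, so the conjugate is `z`
    have hkw : Commute k L.w := blk_commute hkB L.w_blk (by
      rw [hN, hβ, zero_smul, add_zero]; exact (Commute.one_left _).smul_left α)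
    rcases L.Kt_commute_w hk hkw with h1 | h1
    · exfalso
      rw [prj_eq_one.2 h1] at ek
      exact hne (conj_eq_one_iff.1 ek.symm)
    · have et : prj k = prj L.z := ((prj_eq (a := L.z) (b := k)).2 (by rwa [L.z_inv])).symm
      have e2 : prj k' = (prj h)⁻¹ * prj L.z * prj h := by rw [← et, ek]; group
      rcases L.Kt_invol hk' (prj_eq_one.1 (by
        rw [map_mul, e2, show (prj h)⁻¹ * prj L.z * prj h * ((prj h)⁻¹ * prj L.z * prj h) =
          (prj h)⁻¹ * (prj L.z * prj L.z) * prj h by group, L.prj_tt, mul_one, inv_mul_cancel])) with h2 | h2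
      · exact absurd (prj_eq_one.2 h2) hne
      · have e3 : prj L.z = prj k' := (prj_eq (a := L.z) (b := k')).2 (by rwa [L.z_inv])
        rw [← e3] at e2
        show prj h * prj L.z = prj L.z * prj h
        nth_rw 1 [e2]
        group
  · obtain ⟨c, hc⟩ := L.Kt_norm hk
    have hcb := congrArg blk hc
    have hc0 := congrFun (congrFun hc 0) 0
    rw [(blk_scalar rfl).2.2, Units.val_mul, blk_mul hkB, Units.val_mul, Units.val_mul,
      blk_mul (L.w_blk.mul hkB), blk_mul L.w_blk, L.blk_w, w_conj, hN] at hcb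
    rw [Units.val_mul, Units.val_mul, Units.val_mul, mul00 hkB, mul00 (L.w_blk.mul hkB), mul00 L.w_blk, L.w_eq]
      at hc0
    set a := (k : M₃ l) 0 0 with ha
    have hcb0 := congrFun (congrFun hcb 0) 0
    simp [Matrix.mul_apply, Fin.sum_univ_two] at hcb0 hc0
    have ha0 : a ≠ 0 := fun e => by
      apply Matrix.GeneralLinearGroup.det_ne_zero k
      obtain ⟨k01, k02, k10, k20⟩ := hkB
      rw [Matrix.det_fin_three, k01, k02, k10, k20, ← ha, e]
      simp
    -- `a` is not an eigenvalue of the block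
    have hdet : (α + β * p - a) * (α + β * p - a) - β * q * (β * r) ≠ 0 := by
      intro h0
      have h1 : a = α + β * p := mul_left_cancel₀ (mul_ne_zero L.two_ne ha0) (by
        linear_combination h0 + hc0 - hcb0)
      rw [← h1, sub_self, zero_mul, zero_sub, neg_eq_zero] at h0
      simp [hβ, hq, hr] at h0
    -- hence `z'` fixes the first axis
    have hcol := congrArg (fun u : GL₃ l => (u : M₃ l)) hkz'.eq
    simp only [Units.val_mul] at hcol
    have c1 := congrFun (congrFun hcol 1) 0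
    have c2 := congrFun (congrFun hcol 2) 0
    obtain ⟨k01, k02, k10, k20⟩ := hkB
    have n11 : (k : M₃ l) 1 1 = α + β * p := by simpa [blk] using congrFun (congrFun hN 0) 0
    have n12 : (k : M₃ l) 1 2 = β * q := by simpa [blk] using congrFun (congrFun hN 0) 1
    have n21 : (k : M₃ l) 2 1 = β * r := by simpa [blk] using congrFun (congrFun hN 1) 0
    have n22 : (k : M₃ l) 2 2 = α + β * p := by simpa [blk] using congrFun (congrFun hN 1) 1
    simp [Matrix.mul_apply, Fin.sum_univ_three, k10, k20, n11, n12, n21, n22, ← ha] at c1 c2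
    have v1 : (z' : M₃ l) 1 0 = 0 := mul_left_cancel₀ hdet (by
      linear_combination -(α + β * p - a) * c1 + β * q * c2)
    have v2 : (z' : M₃ l) 2 0 = 0 := mul_left_cancel₀ hdet (by
      linear_combination -(α + β * p - a) * c2 + β * r * c1)
    have hz'z := L.commute_of_col (L.H₂_le hz'H₂) v1 v2
    rcases L.CH_cases ⟨L.H₂_le hz'H₂, Subgroup.mem_centralizer_singleton_iff.2 hz'z.eq⟩ hz'H₂ with h1 | h1
    · rcases L.Kt_invol h1 (by rw [hz'z']; exact Scl.one) with h2 | h2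
      · exfalso
        have h3 : h * L.z * h⁻¹ = 1 := L.scl_invol (L.H₂_le hz'H₂) h2 hz'z'
        exact L.z_ne (conj_eq_one_iff.1 h3)
      · exact hconj (L.z * z') h2 (by rw [← mul_assoc, L.zz, one_mul])
    · exfalso
      have hwk : Commute L.w k := by
        have e1 : Commute (z' * L.w) k := L.Kt_comm h1 hk
        have e2 := hkz'.mul_left e1
        rwa [← mul_assoc, hz'z', one_mul] at e2
      have := congrArg (fun u : GL₃ l => blk (u : M₃ l)) hwk.eq
      simp only [Units.val_mul] at this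
      rw [blk_mul L.w_blk, blk_mul ⟨k01, k02, k10, k20⟩, L.blk_w, hN] at this
      have h01 := congrFun (congrFun this 0) 1
      simp [Matrix.mul_apply, Fin.sum_univ_two] at h01
      have h02 : (2 : ZMod l) * (β * q) = 0 := by linear_combination h01
      simp [L.two_ne, hβ, hq] at h02

/-- An involution of the quotient lifts to one. -/
theorem exists_lift_invol {g : PQ l} (hg : g ∈ L.Gb) (hgg : g * g = 1) (hg1 : g ≠ 1) :
    ∃ j ∈ L.H₂, j * j = 1 ∧ j ≠ 1 ∧ prj j = g := by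
  obtain ⟨h, hh, rfl⟩ := hg
  set N := Nat.card ↥(L.H ⊓ scalars) with hN
  have hhh : h * h ∈ L.H ⊓ scalars :=
    ⟨mul_mem (L.H₂_le hh) (L.H₂_le hh), prj_eq_one.1 (by rw [map_mul, hgg])⟩
  have e : prj (h ^ N) = prj h := by
    obtain ⟨k, hk⟩ := L.scalars_odd
    rw [map_pow, hN, hk, pow_succ, pow_mul, sq, hgg, one_pow, one_mul]
  refine ⟨h ^ N, pow_mem hh _, ?_, fun e1 => hg1 (by rw [← e, e1, map_one]), e⟩
  rw [← pow_add, ← two_mul, pow_mul, sq]
  exact congrArg Subtype.val (pow_card_eq_one' (x := (⟨h * h, hhh⟩ : ↥(L.H ⊓ scalars))))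

theorem conj_t {g : PQ l} (hg : g ∈ L.Gb) (hgg : g * g = 1) (hg1 : g ≠ 1) :
    ∃ a ∈ L.Gb, a * g * a⁻¹ = prj L.z := by
  obtain ⟨j, hj, hjj, hj1, rfl⟩ := L.exists_lift_invol hg hgg hg1
  obtain ⟨a, ha, e⟩ := L.invol_conj (L.H₂_le hj) hjj hj1
  exact ⟨prj a, ⟨a, ha, rfl⟩, by rw [← map_inv, ← map_mul, ← map_mul, e]⟩

/-- The conclusion of the theorem of Brauer, Suzuki and Wall, inside the group of matrices up to scalars. -/
theorem bsw : ∃ Q D : Subgroup (PQ l), Q ≤ L.Gb ∧ D ≤ L.Gb ∧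
    2 * Nat.card L.Gb = Nat.card Q * (Nat.card Q + 1) * (Nat.card Q - 1) ∧
    (∀ x ∈ Q, x ≠ 1 → L.Gb ⊓ centralizer ({x} : Set (PQ l)) = Q) ∧
    (∀ a ∈ D, ∀ b ∈ D, a * b = b * a) ∧ 2 * Nat.card D + 1 = Nat.card Q ∧ Q ⊓ D = ⊥ ∧
    L.Gb ⊓ normalizer (Q : Set (PQ l)) = Q ⊔ D ∧
    ∀ X : Subgroup (PQ l), X ≤ D → X ≠ ⊥ → L.Gb ⊓ normalizer (X : Set (PQ l)) = L.Gb ⊓ normalizer (D : Set (PQ l)) ∧
      ∃ u ∈ L.Gb, u * u = 1 ∧ u ∉ D ∧ (∀ d ∈ D, u * d * u⁻¹ = d⁻¹) ∧
        L.Gb ⊓ normalizer (D : Set (PQ l)) = D ⊔ zpowers u := by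
  set G := L.Gb with hG
  have hzG : prj L.z ∈ G := ⟨L.z, L.z_H₂, rfl⟩
  have hwG : prj L.w ∈ G := ⟨L.w, L.w_H₂, rfl⟩
  set t : G := ⟨prj L.z, hzG⟩ with ht
  set s : G := ⟨prj L.w, hwG⟩ with hs
  set K : Subgroup G := L.Kb.subgroupOf G with hK
  have hwz : Commute (prj L.w) (prj L.z) := L.wz.map prj
  have hmem : ∀ {g : G}, g ∈ centralizer ({t} : Set G) ↔ Commute (g : PQ l) (prj L.z) := fun {g} =>
    ⟨fun h => congrArg Subtype.val (Subgroup.mem_centralizer_singleton_iff.1 h),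
      fun h => Subgroup.mem_centralizer_singleton_iff.2 (Subtype.ext h.eq)⟩
  have hord : ∀ {g : G}, (g : PQ l) * g = 1 → g ≠ 1 → orderOf g = 2 := fun {g} h h1 =>
    orderOf_eq_prime (by rw [sq]; exact Subtype.ext h) h1
  have hwne : prj L.w ≠ 1 := fun h => L.w_ne (L.scl_invol L.wH (prj_eq_one.1 h) L.ww)
  have hcomm : ∀ a ∈ L.Kb, ∀ b ∈ L.Kb, a * b = b * a := by
    rintro _ ⟨a, ha, rfl⟩ _ ⟨b, hb, rfl⟩
    rw [← map_mul, ← map_mul, (L.Kt_comm ha hb).eq]
  have hsK : prj L.w ∉ L.Kb := fun h => by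
    have h1 := L.Kb_fix h (Commute.refl _)
    rcases h1 with e | e
    · exact hwne e
    · have h2 : Scl (L.z⁻¹ * L.w) := (prj_eq (a := L.z) (b := L.w)).1 e.symm
      rw [L.z_inv] at h2
      have h3 := L.scl_invol (mul_mem L.zH L.wH) h2 (by
        rw [show L.z * L.w * (L.z * L.w) = L.z * (L.w * L.z) * L.w by group, L.wz.eq, ← mul_assoc, L.zz, one_mul,
          L.ww])
      have h4 : L.z = L.w := by rw [← L.w_inv]; exact eq_inv_of_mul_eq_one_left h3
      have := congrFun (congrFun (congrArg (fun u : GL₃ l => (u : M₃ l)) h4) 0) 0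
      simp only [L.z_eq, L.w_eq] at this
      simp at this
      exact L.neg_ne_one this.symm
  obtain ⟨Q, D, hcard, hcent, hDc, hDQ, hQD, hN, hX⟩ := Cfsg.Agent.S3282.result t
    (hord L.prj_tt fun h => L.prj_z_ne (congrArg Subtype.val h)) K
    ⟨⟨fun a b => Subtype.ext (Subtype.ext (hcomm _ a.2 _ b.2))⟩⟩
    (fun g hg => hmem.2 (L.Kb_comm_t (Subgroup.mem_subgroupOf.1 hg)))
    (Subgroup.mem_subgroupOf.2 L.t_mem) s (hord L.prj_ss fun h => hwne (congrArg Subtype.val h))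
    (hmem.2 hwz) (fun h => hsK (Subgroup.mem_subgroupOf.1 h))
    (le_antisymm (sup_le (fun g hg => hmem.2 (L.Kb_comm_t (Subgroup.mem_subgroupOf.1 hg)))
      (zpowers_le.2 (hmem.2 hwz))) fun g hg => by
        rcases L.cent_t g.2 (hmem.1 hg) with h | h
        · exact le_sup_left (b := zpowers s) (Subgroup.mem_subgroupOf.2 h)
        · have h2 : g * s ∈ K ⊔ zpowers s :=
            le_sup_left (b := zpowers s) (show g * s ∈ K from Subgroup.mem_subgroupOf.2 h)
          have h3 := mul_mem h2 (le_sup_right (a := K) (mem_zpowers s))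
          rwa [mul_assoc, show s * s = 1 from Subtype.ext L.prj_ss, mul_one] at h3)
    (le_antisymm (fun g hg => by
        rcases L.Kb_fix (Subgroup.mem_subgroupOf.1 hg.1)
          (congrArg Subtype.val (Subgroup.mem_centralizer_singleton_iff.1 hg.2)) with h | h
        · rw [show g = 1 from Subtype.ext h]; exact one_mem _
        · rw [show g = t from Subtype.ext h]; exact mem_zpowers t)
      (zpowers_le.2 ⟨Subgroup.mem_subgroupOf.2 L.t_mem,
        Subgroup.mem_centralizer_singleton_iff.2 (Subtype.ext hwz.symm.eq)⟩))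
    (fun g hg => Subtype.ext (L.inverts (Subgroup.mem_subgroupOf.1 hg)))
    (fun g hg => by
      rw [Subgroup.eq_bot_iff_forall]
      rintro _ ⟨h1, y, hy, rfl⟩
      have h1' : (g : PQ l) * (y : PQ l) * (g : PQ l)⁻¹ ∈ L.Kb := Subgroup.mem_subgroupOf.1 h1
      have := L.ti g.2 (fun h => hg (hmem.2 h)) (Subgroup.mem_subgroupOf.1 hy) h1'
      rw [show y = 1 from Subtype.ext this, map_one])
    (fun a b ha hb => by
      have key : ∀ {a : G}, orderOf a = 2 → IsConj a t := fun {a} ha => by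
        have haa : a * a = 1 := by rw [← sq, ← ha, pow_orderOf_eq_one]
        obtain ⟨c, hc, e⟩ := L.conj_t a.2 (congrArg Subtype.val haa) (fun h => by
          rw [show a = 1 from Subtype.ext h, orderOf_one] at ha; norm_num at ha)
        exact isConj_iff.2 ⟨⟨c, hc⟩, Subtype.ext e⟩
      exact (key ha).trans (key hb).symm)
  have hinj := G.subtype_injective
  have hmap : ∀ (S : Set (PQ l)) (T : Subgroup G), (∀ g : G, g ∈ T ↔ (g : PQ l) ∈ G ⊓ centralizer S) →
      G ⊓ centralizer S = T.map G.subtype := fun S T h => by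
    refine le_antisymm (fun g hg => ⟨⟨g, hg.1⟩, (h ⟨g, hg.1⟩).2 hg, rfl⟩) ?_
    rintro _ ⟨g, hg, rfl⟩
    exact (h g).1 hg
  have hnorm : ∀ (U : Subgroup G), G ⊓ normalizer ((U.map G.subtype : Subgroup (PQ l)) : Set (PQ l)) =
      (normalizer (U : Set G)).map G.subtype := fun U => by
    apply le_antisymm
    · intro g hg
      refine ⟨⟨g, hg.1⟩, mem_normalizer_fintype fun v hv => ?_, rfl⟩
      obtain ⟨v', hv', e⟩ := (Subgroup.mem_normalizer_iff.1 hg.2 v).1 ⟨v, hv, rfl⟩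
      rw [show (⟨g, hg.1⟩ : G) * v * (⟨g, hg.1⟩ : G)⁻¹ = v' from Subtype.ext e.symm]
      exact hv'
    · exact le_inf (Subgroup.map_subtype_le _) (Subgroup.le_normalizer_map _)
  refine ⟨Q.map G.subtype, D.map G.subtype, Subgroup.map_subtype_le _, Subgroup.map_subtype_le _, ?_, ?_, ?_, ?_, ?_,
    ?_, ?_⟩
  · rw [Subgroup.card_map_of_injective hinj]; exact hcard
  · rintro _ ⟨x, hx, rfl⟩ hx1
    rw [← hcent x hx (fun h => hx1 (by rw [h, map_one]))]
    refine hmap _ _ fun g => ?_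
    rw [Subgroup.mem_inf, Subgroup.mem_centralizer_singleton_iff, Subgroup.mem_centralizer_singleton_iff]
    exact ⟨fun h => ⟨g.2, congrArg Subtype.val h⟩, fun h => Subtype.ext h.2⟩
  · rintro _ ⟨a, ha, rfl⟩ _ ⟨b, hb, rfl⟩
    rw [← map_mul, ← map_mul]
    exact congrArg _ (congrArg Subtype.val (hDc.is_comm.comm (⟨a, ha⟩ : D) ⟨b, hb⟩))
  · rw [Subgroup.card_map_of_injective hinj, Subgroup.card_map_of_injective hinj]; exact hDQ
  · rw [← Subgroup.map_inf _ _ _ hinj, hQD, Subgroup.map_bot]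
  · rw [hnorm, hN, Subgroup.map_sup]
  · intro X hXD hX1
    have hXG : X ≤ G := hXD.trans (Subgroup.map_subtype_le _)
    have hX0 : (X.subgroupOf G).map G.subtype = X := Subgroup.map_subgroupOf_eq_of_le hXG
    obtain ⟨hNX, u, hu, huD, hinv, hND⟩ := hX (X.subgroupOf G) (fun g hg => by
      obtain ⟨d, hd, e⟩ := hXD (Subgroup.mem_subgroupOf.1 hg)
      rwa [show g = d from Subtype.ext e.symm]) (fun h => hX1 (by rw [← hX0, h, Subgroup.map_bot]))
    refine ⟨by rw [← hX0, hnorm, hnorm, hNX], u, u.2, ?_, ?_, ?_, ?_⟩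
    · have : u * u = 1 := by rw [← sq, ← hu, pow_orderOf_eq_one]
      exact congrArg Subtype.val this
    · rintro ⟨d, hd, e⟩
      exact huD (by rwa [show u = d from Subtype.ext e.symm])
    · rintro _ ⟨d, hd, rfl⟩
      exact congrArg Subtype.val (hinv d hd)
    · rw [hnorm, hND, Subgroup.map_sup, MonoidHom.map_zpowers]
      rfl

end Lin

end Cfsg.Agent.Invol.AbgOrder.Ell
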