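import Cfsg.Agent.Lib.Invol.AbgOrder.EllLinBorel

/-!
# An abelian subgroup inverted by `z`

It has a fixed line, invariant under its normaliser; with the dual statement this contradicts the two reducibility
lemmas.
-/

set_option autoImplicit false
set_option linter.unusedSectionVars false
set_option linter.style.haveILetI false

namespace Cfsg.Agent.Invol.AbgOrder.Ell

open Matrix Subgroup

local notation "M₃" l => Matrix (Fin 3) (Fin 3) (ZMod l)
local notation "GL₃" l => GL (Fin 3) (ZMod l)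

namespace Lin

variable {l : ℕ} [Fact l.Prime]

/-- An abelian subgroup inverted by `z`. -/
structure Tgt (L : Lin l) where
  P : Subgroup (GL₃ l)
  le : P ≤ L.H
  comm : ∀ u ∈ P, ∀ v ∈ P, Commute u v
  ne : P ≠ ⊥
  inv : ∀ u ∈ P, L.z * u * L.z = u⁻¹
  odd : Odd (Nat.card P)
  fix : ∀ u ∈ P, Commute u L.z → u = 1
  xxN : L.x * L.x ∈ normalizer (P : Set (GL₃ l))
  rN : L.x ∈ normalizer (P : Set (GL₃ l)) ∨ L.w * L.x ∈ normalizer (P : Set (GL₃ l))

namespace Tgt

variable {L : Lin l} (T : Tgt L)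

/-- The dual subgroup. -/
def dual : Tgt L.dual where
  P := T.P.map tinv
  le := Subgroup.map_mono T.le
  comm := by
    rintro _ ⟨u, hu, rfl⟩ _ ⟨v, hv, rfl⟩
    exact (T.comm u hu v hv).map tinv
  ne := fun h => T.ne ((Subgroup.map_eq_bot_iff_of_injective _ tinv_inj).1 h)
  inv := by
    rintro _ ⟨u, hu, rfl⟩
    show L.z * tinv u * L.z = _
    rw [← L.tinv_z, ← map_mul, ← map_mul, T.inv u hu, map_inv]
  odd := by rw [Subgroup.card_map_of_injective tinv_inj]; exact T.odd
  fix := by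
    rintro _ ⟨u, hu, rfl⟩ hc
    rw [T.fix u hu (tinv_inj (by
      rw [map_mul, map_mul, L.tinv_z]
      exact hc.eq)), map_one]
  xxN := Subgroup.le_normalizer_map tinv ⟨L.x * L.x, T.xxN, map_mul _ _ _⟩
  rN := by
    rcases T.rN with h | h
    · exact Or.inl (Subgroup.le_normalizer_map tinv ⟨L.x, h, rfl⟩)
    · refine Or.inr (Subgroup.le_normalizer_map tinv ⟨L.w * L.x, h, ?_⟩)
      show tinv (L.w * L.x) = L.w * tinv L.x
      rw [map_mul, L.tinv_w]

theorem mulVec_inv_apply {u : GL₃ l} {f : Fin 3 → ZMod l} {c : ZMod l} (h : (u : M₃ l) *ᵥ f = c • f) :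
    f = c • (((u⁻¹ : GL₃ l) : M₃ l) *ᵥ f) := by
  have := congrArg (fun v => ((u⁻¹ : GL₃ l) : M₃ l) *ᵥ v) h
  simp only [Matrix.mulVec_mulVec, Matrix.mulVec_smul, ← Units.val_mul, inv_mul_cancel, Units.val_one,
    Matrix.one_mulVec] at this
  exact this

theorem mulVec_x (v : Fin 3 → ZMod l) {p q r : ZMod l} (e : blk (L.x : M₃ l) = !![p, q; r, p]) :
    (L.x : M₃ l) *ᵥ v = ![v 0, p * v 1 + q * v 2, r * v 1 + p * v 2] := by
  obtain ⟨h01, h02, h10, h20⟩ := L.x_blk
  have e11 : (L.x : M₃ l) 1 1 = p := by simpa [blk] using congrFun (congrFun e 0) 0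
  have e12 : (L.x : M₃ l) 1 2 = q := by simpa [blk] using congrFun (congrFun e 0) 1
  have e21 : (L.x : M₃ l) 2 1 = r := by simpa [blk] using congrFun (congrFun e 1) 0
  have e22 : (L.x : M₃ l) 2 2 = p := by simpa [blk] using congrFun (congrFun e 1) 1
  ext i
  fin_cases i <;>
    simp [Matrix.mulVec, dotProduct, Fin.sum_univ_three, L.x00, h01, h02, h10, h20, e11, e12, e21, e22]

/-- A fixed line, invariant under `x`. -/
theorem fixed_line {p q r : ZMod l} (ex : blk (L.x : M₃ l) = !![p, q; r, p]) :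
    ∃ σ : ZMod l, σ * σ * r = q ∧ L.x ∈ normalizer (T.P : Set (GL₃ l)) ∧
      ∀ u ∈ T.P, (u : M₃ l) *ᵥ ![0, σ, 1] = ![0, σ, 1] := by
  obtain ⟨u₁, hu₁, hu₁1⟩ : ∃ u ∈ T.P, u ≠ 1 := by
    by_contra h
    push Not at h
    exact T.ne ((Subgroup.eq_bot_iff_forall _).2 h)
  have h2 := L.two_ne
  have hord : ∀ {u}, u ∈ T.P → Odd (orderOf u) := fun {u} hu =>
    T.odd.of_dvd_nat (Subgroup.orderOf_dvd_natCard _ hu)
  have one_of : ∀ {c : ZMod l} {k : ℕ}, Odd k → c * c = 1 → c ^ k = 1 → c = 1 := by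
    intro c k hk hcc hck
    obtain ⟨j, rfl⟩ := hk
    rwa [pow_succ, pow_mul, sq, hcc, one_pow, one_mul] at hck
  -- `u₁ - 1` is singular
  have hdet : (u₁ : M₃ l).det = 1 := by
    have h1 : dt u₁ = dt u₁⁻¹ := by
      rw [← T.inv u₁ hu₁, map_mul, map_mul, L.dt_z, one_mul, mul_one]
    refine one_of (hord hu₁) ?_ ?_
    · show dt u₁ * dt u₁ = 1
      nth_rw 2 [h1]
      rw [← map_mul, mul_inv_cancel, map_one]
    · show dt u₁ ^ orderOf u₁ = 1
      rw [← map_pow, pow_orderOf_eq_one, map_one]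
  have hsing : ((u₁ : M₃ l) - 1).det = 0 := by
    set d := ((u₁ : M₃ l) - 1).det
    have hzc : (L.z : M₃ l) * ((u₁ : M₃ l) - 1) * (L.z : M₃ l) =
        -(((u₁⁻¹ : GL₃ l) : M₃ l) * ((u₁ : M₃ l) - 1)) := by
      rw [Matrix.mul_sub, Matrix.sub_mul, mul_one, ← Units.val_mul, ← Units.val_mul, T.inv u₁ hu₁,
        ← Units.val_mul, L.zz, Matrix.mul_sub, mul_one, ← Units.val_mul, inv_mul_cancel, neg_sub]
    have hd := congrArg Matrix.det hzc
    have hz1 : (L.z : M₃ l).det = 1 := L.dt_z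
    have hi1 : ((u₁⁻¹ : GL₃ l) : M₃ l).det = 1 := by
      have := congrArg dt (inv_mul_cancel u₁)
      rw [map_mul, map_one, show dt u₁ = 1 from hdet, mul_one] at this
      exact this
    rw [Matrix.det_mul, Matrix.det_mul, hz1, Matrix.det_neg, Matrix.det_mul, hi1, Fintype.card_fin] at hd
    have h : (2 : ZMod l) * d = 0 := by linear_combination hd
    simpa [h2] using h
  obtain ⟨f, hf0, hf⟩ := Matrix.exists_mulVec_eq_zero_iff.2 hsing
  rw [Matrix.sub_mulVec, Matrix.one_mulVec, sub_eq_zero] at hf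
  have hzf : ∀ v : Fin 3 → ZMod l, (L.z : M₃ l) *ᵥ v = ![v 0, -v 1, -v 2] := fun v => by
    ext i
    rw [L.z_eq, Matrix.mulVec_diagonal]
    fin_cases i <;> simp
  -- fixed vectors of `u₁` have no first coordinate
  have h0 : ∀ v : Fin 3 → ZMod l, (u₁ : M₃ l) *ᵥ v = v → v 0 = 0 := by
    intro v hv
    by_contra hv0
    refine hu₁1 (T.fix u₁ hu₁ ?_)
    have hzv : (u₁ : M₃ l) *ᵥ ((L.z : M₃ l) *ᵥ v) = (L.z : M₃ l) *ᵥ v := by
      have h1 : L.z * u₁⁻¹ = u₁ * L.z := by
        rw [← T.inv u₁ hu₁]; simp only [← mul_assoc]; rw [L.zz, one_mul]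
      have h2 : ((u₁⁻¹ : GL₃ l) : M₃ l) *ᵥ v = v := by
        conv_lhs => rw [← hv]
        rw [Matrix.mulVec_mulVec, ← Units.val_mul, inv_mul_cancel, Units.val_one, Matrix.one_mulVec]
      rw [Matrix.mulVec_mulVec, ← Units.val_mul, ← h1, Units.val_mul, ← Matrix.mulVec_mulVec, h2]
    have hsum : (u₁ : M₃ l) *ᵥ ![2 * v 0, 0, 0] = ![2 * v 0, 0, 0] := by
      have e : (![2 * v 0, 0, 0] : Fin 3 → ZMod l) = v + (L.z : M₃ l) *ᵥ v := by
        rw [hzf]; ext i; fin_cases i <;> simp; ring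
      rw [e, Matrix.mulVec_add, hv, hzv]
    have e1 := congrFun hsum 1
    have e2 := congrFun hsum 2
    simp [Matrix.mulVec, dotProduct, Fin.sum_univ_three, h2, hv0] at e1 e2
    exact L.commute_of_col (T.le hu₁) e1 e2
  have hf' : f 0 = 0 := h0 f hf
  -- fixed vectors of `u₁` are multiples of `f`
  have hline : ∀ v : Fin 3 → ZMod l, (u₁ : M₃ l) *ᵥ v = v → ∃ c : ZMod l, v = c • f := by
    intro v hv
    have hv0 := h0 v hv
    have hcross : f 1 * v 2 - f 2 * v 1 = 0 := by
      by_contra hne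
      refine hu₁1 (T.fix u₁ hu₁ ?_)
      have ef := congrFun hf 0
      have ev := congrFun hv 0
      simp [Matrix.mulVec, dotProduct, Fin.sum_univ_three, hf', hv0] at ef ev
      refine L.commute_of_row (T.le hu₁) (mul_left_cancel₀ hne ?_) (mul_left_cancel₀ hne ?_)
      · linear_combination v 2 * ef - f 2 * ev
      · linear_combination -(v 1 * ef) + f 1 * ev
    by_cases hf2 : f 2 = 0
    · have hf1 : f 1 ≠ 0 := fun e => hf0 (by ext i; fin_cases i <;> simp [hf', e, hf2])
      rw [hf2, zero_mul, sub_zero, mul_eq_zero] at hcross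
      refine ⟨v 1 / f 1, ?_⟩
      ext i; fin_cases i <;> simp [hf', hv0, hf2, hcross.resolve_left hf1]; field_simp
    · refine ⟨v 2 / f 2, ?_⟩
      ext i; fin_cases i <;> simp [hf', hv0] <;> field_simp
      linear_combination -hcross
  have hzf' : (L.z : M₃ l) *ᵥ f = (-1 : ZMod l) • f := by
    rw [hzf]; ext i; fin_cases i <;> simp [hf']
  -- `f` is fixed by the whole group
  have hfix : ∀ u ∈ T.P, (u : M₃ l) *ᵥ f = f := by
    intro u hu
    obtain ⟨c, hc⟩ := hline ((u : M₃ l) *ᵥ f) (by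
      rw [Matrix.mulVec_mulVec, ← Units.val_mul, (T.comm u₁ hu₁ u hu).eq, Units.val_mul, ← Matrix.mulVec_mulVec, hf])
    have hi : ((u⁻¹ : GL₃ l) : M₃ l) *ᵥ f = c • f := by
      rw [← T.inv u hu, Units.val_mul, Units.val_mul, ← Matrix.mulVec_mulVec, hzf', Matrix.mulVec_smul,
        ← Matrix.mulVec_mulVec, hc, Matrix.mulVec_smul, hzf', smul_smul, smul_smul]
      congr 1; ring
    have hk : ∀ k : ℕ, ((u ^ k : GL₃ l) : M₃ l) *ᵥ f = c ^ k • f := by
      intro k
      induction k with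
      | zero => rw [pow_zero, pow_zero, Units.val_one, Matrix.one_mulVec, one_smul]
      | succ k ih => rw [pow_succ', Units.val_mul, ← Matrix.mulVec_mulVec, ih, Matrix.mulVec_smul, hc, smul_smul,
          pow_succ]
    have h1 := mulVec_inv_apply hc
    rw [hi, smul_smul] at h1
    have hcc : c * c = 1 := by
      by_contra hne
      refine hf0 ?_
      have : (1 - c * c) • f = 0 := by rw [sub_smul, one_smul, ← h1, sub_self]
      exact (smul_eq_zero.1 this).resolve_left (sub_ne_zero.2 (Ne.symm hne))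
    have hco := hk (orderOf u)
    rw [pow_orderOf_eq_one, Units.val_one, Matrix.one_mulVec] at hco
    have hc1 : c ^ orderOf u = 1 := by
      by_contra hne
      refine hf0 ?_
      have : (1 - c ^ orderOf u) • f = 0 := by rw [sub_smul, one_smul, ← hco, sub_self]
      exact (smul_eq_zero.1 this).resolve_left (sub_ne_zero.2 (Ne.symm hne))
    rw [one_of (hord hu) hcc hc1, one_smul] at hc
    exact hc
  -- elements of the normaliser fix the line
  have hnorm : ∀ k ∈ normalizer (T.P : Set (GL₃ l)), ∃ c : ZMod l, (k : M₃ l) *ᵥ f = c • f := by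
    intro k hk
    refine hline _ ?_
    have h := hfix (k⁻¹ * u₁ * k) ((Subgroup.mem_normalizer_iff''.1 hk u₁).1 hu₁)
    calc (u₁ : M₃ l) *ᵥ ((k : M₃ l) *ᵥ f)
        = ((k * (k⁻¹ * u₁ * k) : GL₃ l) : M₃ l) *ᵥ f := by
          rw [show k * (k⁻¹ * u₁ * k) = u₁ * k by group, Units.val_mul, Matrix.mulVec_mulVec]
      _ = _ := by rw [Units.val_mul, ← Matrix.mulVec_mulVec, h]
  obtain ⟨p', q', r', ex', hpq, hp, hq, hr⟩ := L.x_form
  have e := ex'.symm.trans ex
  obtain rfl : p' = p := by simpa using congrFun (congrFun e 0) 0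
  obtain rfl : q' = q := by simpa using congrFun (congrFun e 0) 1
  obtain rfl : r' = r := by simpa using congrFun (congrFun e 1) 0
  obtain ⟨c, hc⟩ := hnorm _ T.xxN
  rw [Units.val_mul, ← Matrix.mulVec_mulVec, mulVec_x f ex', mulVec_x _ ex'] at hc
  have c1 := congrFun hc 1
  have c2 := congrFun hc 2
  simp at c1 c2
  have hcross : (2 * p') * (q' * (f 2 * f 2) - r' * (f 1 * f 1)) = 0 := by
    linear_combination f 2 * c1 - f 1 * c2
  have hrel : q' * (f 2 * f 2) = r' * (f 1 * f 1) :=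
    sub_eq_zero.1 ((mul_eq_zero.1 hcross).resolve_left (mul_ne_zero h2 hp))
  have hf2 : f 2 ≠ 0 := fun e => by
    rw [e, zero_mul, mul_zero] at hrel
    have h1 : f 1 = 0 := by simpa [hr] using hrel.symm
    exact hf0 (by ext i; fin_cases i <;> simp [hf', h1, e])
  refine ⟨f 1 / f 2, by field_simp; linear_combination -hrel, ?_, ?_⟩
  · refine T.rN.resolve_right fun h => ?_
    obtain ⟨d, hd⟩ := hnorm _ h
    rw [Units.val_mul, ← Matrix.mulVec_mulVec, mulVec_x f ex', L.w_eq] at hd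
    have d1 := congrFun hd 1
    have d2 := congrFun hd 2
    simp [Matrix.mulVec_diagonal] at d1 d2
    have e1 : (2 * f 2) * (p' * f 1 + q' * f 2) = 0 := by
      linear_combination f 2 * d1 - f 1 * d2 + hrel
    have e2 : p' * f 1 + q' * f 2 = 0 := (mul_eq_zero.1 e1).resolve_left (mul_ne_zero h2 hf2)
    have e3 : (f 2 * f 2) * q' * (q' * r' - p' * p') = 0 := by
      linear_combination r' * (q' * f 2 - p' * f 1) * e2 - p' * p' * hrel
    have e4 : q' * r' - p' * p' = 0 := (mul_eq_zero.1 e3).resolve_left (mul_ne_zero (mul_ne_zero hf2 hf2) hq)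
    exact one_ne_zero (α := ZMod l) (by linear_combination hpq + e4)
  · intro u hu
    have e : (![0, f 1 / f 2, 1] : Fin 3 → ZMod l) = (f 2)⁻¹ • f := by
      ext i; fin_cases i <;> simp [hf', hf2]; field_simp
    rw [e, Matrix.mulVec_smul, hfix u hu]

include T in
/-- No such subgroup exists. -/
theorem false : False := by
  obtain ⟨p, q, r, ex, hpq, hp, hq, hr⟩ := L.x_form
  obtain ⟨σ, hσ, hxN, hfix⟩ := T.fixed_line ex
  have h2 := L.two_ne
  -- the block of `x⁻¹`
  have exi : blk ((L.x⁻¹ : GL₃ l) : M₃ l) = !![-p, q; r, -p] := by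
    have h1 : blk (L.x : M₃ l) * blk ((L.x⁻¹ : GL₃ l) : M₃ l) = 1 := by
      rw [← blk_mul L.x_blk, ← Units.val_mul, mul_inv_cancel, Units.val_one, blk_one]
    rw [← Matrix.inv_eq_right_inv h1, ex]
    refine Matrix.inv_eq_right_inv ?_
    ext i j
    fin_cases i <;> fin_cases j <;> simp [Matrix.mul_apply, Fin.sum_univ_two]
    · linear_combination -hpq
    · ring
    · ring
    · linear_combination -hpq
  have exd : blk (L.dual.x : M₃ l) = !![-p, r; q, -p] := by
    show blk (((L.x⁻¹ : GL₃ l) : M₃ l)ᵀ) = _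
    have e : ∀ a : M₃ l, blk aᵀ = (blk a)ᵀ := fun a => by
      ext i j; fin_cases i <;> fin_cases j <;> simp [blk]
    rw [e, exi]
    ext i j; fin_cases i <;> fin_cases j <;> simp
  obtain ⟨σ', hσ', -, hfix'⟩ := T.dual.fixed_line exd
  have hσ0 : σ ≠ 0 := fun e => hq (by rw [← hσ, e, zero_mul, zero_mul])
  have hss : σ' * σ = 1 ∨ σ' * σ = -1 := mul_self_eq_one_iff.1 (mul_left_cancel₀ (mul_ne_zero hq hr) (by
    linear_combination σ' * σ' * q * hσ + q * hσ'))
  set B : M₃ l := !![1, 0, 0; 0, σ, σ; 0, 1, -1] with hB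
  set Bi : M₃ l := !![1, 0, 0; 0, (2 * σ)⁻¹, 2⁻¹; 0, (2 * σ)⁻¹, -2⁻¹] with hBi
  have hBB : B * Bi = 1 := by
    rw [hB, hBi]; ext i j
    fin_cases i <;> fin_cases j <;> simp [Matrix.mul_apply, Fin.sum_univ_three] <;> field_simp <;> ring
  have hBiB : Bi * B = 1 := mul_eq_one_comm.1 hBB
  have hconj : ∀ a b : M₃ l, Bi * a * B * (Bi * b * B) = Bi * (a * b) * B := fun a b => by
    calc Bi * a * B * (Bi * b * B) = Bi * a * (B * Bi) * b * B := by simp only [mul_assoc]
      _ = Bi * (a * b) * B := by rw [hBB, mul_one]; simp only [mul_assoc]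
  have hback : ∀ a : M₃ l, a = B * (Bi * a * B) * Bi := fun a => by
    calc a = B * Bi * a * (B * Bi) := by rw [hBB, one_mul, mul_one]
      _ = _ := by simp only [mul_assoc]
  set lam := p + σ * r
  set mu := p - σ * r
  have hlm : lam * mu = -1 := by linear_combination hpq - r * hσ
  have hX : Bi * (L.x : M₃ l) * B = diagonal ![1, lam, mu] := by
    have h : (L.x : M₃ l) * B = B * diagonal ![1, lam, mu] := by
      obtain ⟨h01, h02, h10, h20⟩ := L.x_blk
      have e11 : (L.x : M₃ l) 1 1 = p := by simpa [blk] using congrFun (congrFun ex 0) 0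
      have e12 : (L.x : M₃ l) 1 2 = q := by simpa [blk] using congrFun (congrFun ex 0) 1
      have e21 : (L.x : M₃ l) 2 1 = r := by simpa [blk] using congrFun (congrFun ex 1) 0
      have e22 : (L.x : M₃ l) 2 2 = p := by simpa [blk] using congrFun (congrFun ex 1) 1
      rw [hB]
      ext i j
      rw [Matrix.mul_diagonal]
      fin_cases i <;> fin_cases j <;>
        simp [Matrix.mul_apply, Fin.sum_univ_three, L.x00, h01, h02, h10, h20, e11, e12, e21, e22, lam, mu] <;>
        first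
          | ring1
          | linear_combination -hσ
          | linear_combination hσ
    rw [mul_assoc, h, ← mul_assoc, hBiB, one_mul]
  have hZ : Bi * (L.z : M₃ l) * B = diagonal ![1, -1, -1] := by
    have h : (L.z : M₃ l) * B = B * diagonal ![1, -1, -1] := by
      rw [hB, L.z_eq]
      ext i j
      rw [Matrix.mul_diagonal, Matrix.diagonal_mul]
      fin_cases i <;> fin_cases j <;> simp
    rw [mul_assoc, h, ← mul_assoc, hBiB, one_mul]
  obtain ⟨u, hu, hu1⟩ : ∃ u ∈ T.P, u ≠ 1 := by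
    by_contra h
    push Not at h
    exact T.ne ((Subgroup.eq_bot_iff_forall _).2 h)
  set u' := L.x * u * L.x⁻¹ with hu'
  have hu'P : u' ∈ T.P := (Subgroup.mem_normalizer_iff.1 hxN u).1 hu
  set U := Bi * (u : M₃ l) * B with hU
  set U' := Bi * (u' : M₃ l) * B with hU'
  -- the relations
  have hinv : diagonal ![1, -1, -1] * U * diagonal ![1, -1, -1] * U = 1 := by
    rw [← hZ, hU, hconj, hconj, hconj, ← Units.val_mul, ← Units.val_mul, ← Units.val_mul, T.inv u hu,
      inv_mul_cancel, Units.val_one, mul_one, hBiB]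
  have hxu : U' * diagonal ![1, lam, mu] = diagonal ![1, lam, mu] * U := by
    rw [← hX, hU, hU', hconj, hconj, ← Units.val_mul, ← Units.val_mul, hu', inv_mul_cancel_right]
  have hcom : U * U' = U' * U := by
    rw [hU, hU', hconj, hconj, ← Units.val_mul, ← Units.val_mul, (T.comm u hu u' hu'P).eq]
  have hstab : ¬ (U 1 0 = 0 ∧ U 2 0 = 0) ∧ ¬ (U 0 1 = 0 ∧ U 0 2 = 0) := by
    have e : (u : M₃ l) = B * U * Bi := by rw [hU]; exact hback _
    refine ⟨fun h => hu1 (T.fix u hu (L.commute_of_col (T.le hu) ?_ ?_)),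
      fun h => hu1 (T.fix u hu (L.commute_of_row (T.le hu) ?_ ?_))⟩ <;>
      rw [e, hB, hBi] <;> simp [Matrix.mul_apply, Fin.sum_univ_three, Matrix.vecMul, dotProduct, h.1, h.2]
  have hcol : U 0 1 = 0 ∧ U 1 1 = 1 ∧ U 2 1 = 0 := by
    have h1 : U *ᵥ ![0, 1, 0] = ![0, 1, 0] := by
      have e1 : B *ᵥ ![0, 1, 0] = ![0, σ, 1] := by
        rw [hB]; ext i; fin_cases i <;> simp [Matrix.mulVec, dotProduct, Fin.sum_univ_three]
      rw [hU, ← Matrix.mulVec_mulVec, e1, ← Matrix.mulVec_mulVec, hfix u hu, ← e1, Matrix.mulVec_mulVec, hBiB,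
        Matrix.one_mulVec]
    have a := congrFun h1 0
    have b := congrFun h1 1
    have c := congrFun h1 2
    simp [Matrix.mulVec, dotProduct, Fin.sum_univ_three] at a b c
    exact ⟨a, b, c⟩
  have hphi : ![0, σ', 1] ᵥ* (u : M₃ l) = ![0, σ', 1] := by
    have h := hfix' (tinv u) ⟨u, hu, rfl⟩
    rw [coe_tinv, Matrix.mulVec_transpose] at h
    conv_lhs => rw [← h]
    rw [Matrix.vecMul_vecMul, ← Units.val_mul, inv_mul_cancel, Units.val_one, Matrix.vecMul_one]
  have hrow : ∀ v : Fin 3 → ZMod l, v = ![0, σ', 1] ᵥ* B → v ᵥ* U = v := fun v hv => by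
    rw [hv, hU, Matrix.vecMul_vecMul, show B * (Bi * (u : M₃ l) * B) = (u : M₃ l) * B by
      rw [← mul_assoc, ← mul_assoc, hBB, one_mul], ← Matrix.vecMul_vecMul, hphi]
  have r00 : ∀ i j, ((diagonal ![1, -1, -1] * U * diagonal ![1, -1, -1] * U : M₃ l)) i j = (1 : M₃ l) i j := fun i j => by
    rw [hinv]
  have x00 : ∀ i j, U' i j * (![1, lam, mu] : Fin 3 → ZMod l) j = (![1, lam, mu] : Fin 3 → ZMod l) i * U i j :=
    fun i j => by
      have := congrFun (congrFun hxu i) j
      rwa [Matrix.mul_diagonal, Matrix.diagonal_mul] at this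
  obtain ⟨hc0, hc1, hc2⟩ := hcol
  have hlam0 : lam ≠ 0 := fun e => by rw [e, zero_mul] at hlm; exact one_ne_zero (neg_eq_zero.1 hlm.symm)
  have hmu0 : mu ≠ 0 := fun e => by rw [e, mul_zero] at hlm; exact one_ne_zero (neg_eq_zero.1 hlm.symm)
  rcases hss with hs | hs
  · have h1 := hrow ![0, 2, 0] (by
      rw [hB]; ext i; fin_cases i <;> simp [Matrix.vecMul, dotProduct, Fin.sum_univ_three, hs]; norm_num)
    have a := congrFun h1 0
    have c := congrFun h1 2
    simp [Matrix.vecMul, dotProduct, Fin.sum_univ_three, h2] at a c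
    have u00 := x00 0 0
    have u02 := x00 0 2
    have u20 := x00 2 0
    have u01 := x00 0 1
    have k := congrFun (congrFun hcom 0) 0
    simp [Matrix.mul_apply, Fin.sum_univ_three, hc0, a, hlam0] at u00 u02 u20 u01 k
    have hb : U 0 2 ≠ 0 := fun e => hstab.2 ⟨hc0, e⟩
    have hc : U 2 0 ≠ 0 := fun e => hstab.1 ⟨a, e⟩
    rw [u20, u00] at k
    have h3 : U 0 2 * U 2 0 * (mu * mu - 1) = 0 := by linear_combination mu * k + U 2 0 * u02
    have h4 : mu * mu = 1 := sub_eq_zero.1 ((mul_eq_zero.1 h3).resolve_left (mul_ne_zero hb hc))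
    have h5 : (2 : ZMod l) * p = 0 := by linear_combination mu * hlm - lam * h4
    exact hp ((mul_eq_zero.1 h5).resolve_left h2)
  · have h1 := hrow ![0, 0, -2] (by
      rw [hB]; ext i; fin_cases i <;> simp [Matrix.vecMul, dotProduct, Fin.sum_univ_three, hs]; norm_num)
    have a := congrFun h1 0
    have b := congrFun h1 1
    have c := congrFun h1 2
    simp [Matrix.vecMul, dotProduct, Fin.sum_univ_three, h2] at a b c
    have z00 := r00 0 0
    have z02 := r00 0 2
    simp [Matrix.mul_apply, Fin.sum_univ_three, hc0, a, c] at z00 z02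
    have hβ : U 0 2 ≠ 0 := fun e => hstab.2 ⟨hc0, e⟩
    have hα : U 1 0 ≠ 0 := fun e => hstab.1 ⟨e, a⟩
    have ha : U 0 0 = 1 := by
      have : U 0 2 * (U 0 0 - 1) = 0 := by linear_combination z02
      exact sub_eq_zero.1 ((mul_eq_zero.1 this).resolve_left hβ)
    have u10 := x00 1 0
    have u02 := x00 0 2
    have u11 := x00 1 1
    have u12 := x00 1 2
    have u22 := x00 2 2
    have k := congrFun (congrFun hcom 1) 2
    simp [Matrix.mul_apply, Fin.sum_univ_three, hc1, c, hlam0, hmu0] at u10 u02 u11 u12 u22 k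
    rw [u10, u11, u22] at k
    have h3 : (2 : ZMod l) * (U 1 0 * U 0 2) = 0 := by
      linear_combination mu * k - U 1 0 * u02 + U 1 0 * U 0 2 * hlm
    exact mul_ne_zero hα hβ ((mul_eq_zero.1 h3).resolve_left h2)

end Tgt

end Lin

end Cfsg.Agent.Invol.AbgOrder.Ell
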