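import Mathlib
import Cfsg.Agent.Lib.Classical.DicksonFacts
import Cfsg.Agent.Lib.Classical.DicksonGeneration

/-!
# Subgroups of odd order of `SL(2, q)`

Such a subgroup is commutative or has a common eigenvector.
-/

set_option autoImplicit false
set_option linter.unusedSectionVars false
set_option linter.style.haveILetI false

namespace Cfsg.Agent.Invol.AbgOrder.Ell

open Matrix Cfsg.Agent.Grp.SL2 Cfsg.Agent.PSL2Spec Cfsg.Agent.Dickson

universe v

variable {F : Type v} [Field F] [Fintype F]

local notation "SL₂" => Matrix.SpecialLinearGroup (Fin 2) F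
local notation "M₂" => Matrix (Fin 2) (Fin 2) F
local notation "PSL₂" => Matrix.ProjectiveSpecialLinearGroup (Fin 2) F

/-- A subgroup of odd order is commutative or has a common eigenvector. -/
theorem odd_sub (hodd : Odd (Fintype.card F)) {K : Subgroup SL₂} (hK : Odd (Nat.card K)) :
    (∀ x ∈ K, ∀ y ∈ K, Commute x y) ∨
      ∃ v : Fin 2 → F, v ≠ 0 ∧ ∀ x ∈ K, ∃ c : F, (x : M₂) *ᵥ v = c • v := by
  obtain ⟨p, hp⟩ := CharP.exists F
  obtain ⟨n, hpp, hn⟩ := FiniteField.card F p
  haveI : Fact p.Prime := ⟨hpp⟩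
  have hp2 : p ≠ 2 := by
    rintro rfl
    rw [hn, Nat.odd_pow_iff n.ne_zero] at hodd
    exact absurd hodd (by decide)
  set H : Subgroup PSL₂ := K.map proj with hH
  have hHodd : Odd (Nat.card H) := hK.of_dvd_nat (K.card_map_dvd _)
  have hmem : ∀ x ∈ K, proj x ∈ H := fun x hx => Subgroup.mem_map_of_mem _ hx
  have hev : ∀ {d : ℕ}, Nat.card H = 2 * d → False := fun {d} h =>
    Nat.not_even_iff_odd.2 hHodd (h ▸ even_two_mul d)
  cases Dickson.dickson p H with
  | trivial h =>
    refine Or.inl fun x hx y _ => ?_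
    have := hmem x hx
    rw [h, Subgroup.mem_bot, proj_one_iff] at this
    exact this.commute y
  | cyclic a ha ha1 hap h =>
    refine Or.inl fun x hx y hy => ?_
    have key : ∀ z ∈ K, Commute z (lift a) := fun z hz => by
      refine mem_tor_iff.1 ?_
      rw [proj_lift]
      exact h (hmem z hz)
    exact commute_trans (lift_not_scalar ha1) (key x hx) (key y hy).symm
  | dihedral a ha ha1 hap hidx h iso =>
    have h1 := ((tor a).subgroupOf H).index_mul_card
    rw [hidx] at h1
    exact (hev h1.symm).elim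
  | borel a ha ha1 hap h =>
    refine Or.inr ?_
    have hns := lift_not_scalar ha1
    have htr : tr (lift a) ^ 2 = 4 := (pow_eq_one_iff p hns).1 (by rw [proj_lift]; exact hap)
    obtain ⟨P, hP, hPa⟩ := Dickson.exists_frame hns htr
    refine ⟨P *ᵥ ![1, 0], fun h0 => ?_, fun x hx => ?_⟩
    · have h1 := congrArg (fun w => P⁻¹ *ᵥ w) h0
      simp only [Matrix.mulVec_mulVec, Matrix.nonsing_inv_mul _ hP, Matrix.one_mulVec, Matrix.mulVec_zero] at h1
      simpa using congrFun h1 0
    · obtain ⟨x', rfl⟩ := Grp.SL2.conjHom_surjective P hP x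
      have hn := h (hmem _ hx)
      have hcom : Commute (Grp.SL2.conjHom P hP x' * lift a * (Grp.SL2.conjHom P hP x')⁻¹) (lift a) := by
        refine conj_mem_tor_iff.1 ?_
        rw [proj_lift]
        refine (Subgroup.mem_normalizer_iff.1 hn a).1 ?_
        have hself := mem_tor_iff.2 (Commute.refl (lift a))
        rwa [proj_lift] at hself
      have hup : Commute (Grp.SL2.conjHom P hP (x' * up 1 * x'⁻¹)) (Grp.SL2.conjHom P hP (up (1 : F))) := by
        rw [map_mul, map_mul, map_inv]
        rcases hPa with e | e <;> rw [e] at hcom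
        · exact hcom
        · simpa using hcom.neg_left.neg_right
      have hlow := lower_entry (Commute.of_map (f := Grp.SL2.conjHom P hP) (Grp.SL2.conjHom_injective P hP) hup)
      refine ⟨(x' : M₂) 0 0, ?_⟩
      rw [Grp.SL2.conjHom_coe, Matrix.mulVec_mulVec, Matrix.mul_assoc, Matrix.nonsing_inv_mul _ hP, Matrix.mul_one,
        ← Matrix.mulVec_mulVec, ← Matrix.mulVec_smul]
      congr 1
      funext i
      fin_cases i <;> simp [Matrix.mulVec, dotProduct, Fin.sum_univ_two, hlow]
  | alt4 hc iso _ => exact (hev (d := 6) hc).elim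
  | perm4 hc iso _ => exact (hev (d := 12) hc).elim
  | alt5 hc iso _ => exact (hev (d := 30) hc).elim
  | subfield h =>
    exfalso
    obtain ⟨L, hL, hLi, m, h3, hm, hiso⟩ := SubfieldType.nonempty h
    have hm0 : m ≠ 0 := fun h0 => by
      rw [h0, pow_zero] at hm
      have := Fintype.one_lt_card (α := F)
      omega
    have hLodd : Odd (Fintype.card L) := by
      rw [← hm, Nat.odd_pow_iff hm0] at hodd
      exact hodd
    have hL2 : (2 : L) ≠ 0 := fun e => by
      obtain ⟨r, hr⟩ := CharP.exists L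
      obtain ⟨k, hrp, hk⟩ := FiniteField.card L r
      have hd : r ∣ 2 := (CharP.cast_eq_zero_iff L r 2).1 (by exact_mod_cast e)
      rw [hk, (Nat.prime_dvd_prime_iff_eq hrp Nat.prime_two).1 hd, Nat.odd_pow_iff k.ne_zero] at hLodd
      exact absurd hLodd (by decide)
    obtain ⟨d, hd⟩ : 2 ∣ Nat.card H := by
      rcases hiso with ⟨⟨i⟩⟩ | ⟨⟨i⟩⟩
      · rw [Nat.card_congr i.toEquiv]
        exact Gen.even_card_psl hL2
      · rw [Nat.card_congr i.toEquiv]
        exact (Gen.even_card_psl hL2).trans
          (Subgroup.card_dvd_of_injective _ Matrix.ProjectiveSpecialLinearGroup.toPGL_injective)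
    exact hev hd

end Cfsg.Agent.Invol.AbgOrder.Ell
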