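import Cfsg.Agent.Lib.Invol.AbgOrder.EllGamma
import Cfsg.Agent.Lib.Invol.AbgOrder.EllOdd

/-!
# Centralisers of involutions and of elliptic lines, invariant `l`-subgroups
-/

set_option autoImplicit false
set_option linter.unusedSectionVars false
set_option linter.style.haveILetI false

namespace Cfsg.Agent.Invol.AbgOrder.Ell

open Matrix Subgroup Cfsg.Agent.Classical

universe u v w

/-- A finite group mapped to a commutative group with cyclic `2`-subgroups in the kernel has a normal subgroup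
of odd order and `2`-power index. -/
theorem exists_odd_compl {G : Type u} [Group G] [Finite G] {A : Type w} [Group A] [Finite A]
    (hA : ∀ a b : A, Commute a b) (f : G →* A)
    (h : ∀ P : Subgroup G, IsPGroup 2 P → P ≤ f.ker → IsCyclic P) :
    ∃ K : Subgroup G, K.Normal ∧ Odd (Nat.card K) ∧ ∀ x : G, ∃ j : ℕ, x ^ 2 ^ j ∈ K := by
  haveI : Fact (Nat.Prime 2) := ⟨Nat.prime_two⟩
  obtain ⟨a, m, hm, ham⟩ := Nat.exists_eq_pow_mul_and_not_dvd (Nat.card_pos (α := A)).ne' 2 (by norm_num)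
  let M : Subgroup G :=
    { carrier := {x | f x ^ m = 1}
      one_mem' := by simp
      mul_mem' := fun {x y} hx hy => by
        show f (x * y) ^ m = 1
        rw [map_mul, (hA _ _).mul_pow, hx, hy, one_mul]
      inv_mem' := fun {x} hx => by
        show f x⁻¹ ^ m = 1
        rw [map_inv, inv_pow, hx, inv_one] }
  haveI hMn : M.Normal := ⟨fun x hx g => by
    show f (g * x * g⁻¹) ^ m = 1
    rw [map_mul, map_mul, map_inv, (hA (f g) (f x)).eq, mul_inv_cancel_right]
    exact hx⟩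
  have hMtwo : ∀ x : G, x ^ 2 ^ a ∈ M := fun x => by
    show f (x ^ 2 ^ a) ^ m = 1
    rw [map_pow, ← pow_mul, ← ham, pow_card_eq_one']
  obtain ⟨P⟩ : Nonempty (Sylow 2 M) := inferInstance
  have hPker : (P : Subgroup M).map M.subtype ≤ f.ker := by
    rintro _ ⟨x, hx, rfl⟩
    obtain ⟨k, hk⟩ := P.isPGroup' ⟨x, hx⟩
    have h2 : f (x : G) ^ 2 ^ k = 1 := by
      rw [← map_pow, ← Subgroup.coe_pow,
        show x ^ 2 ^ k = 1 from congrArg Subtype.val hk, OneMemClass.coe_one, map_one]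
    have h3 : f (x : G) ^ m = 1 := x.2
    have h4 : f (x : G) ^ Nat.gcd (2 ^ k) m = 1 := pow_gcd_eq_one.2 ⟨h2, h3⟩
    rwa [((Nat.prime_two.coprime_iff_not_dvd.2 hm).pow_left k).gcd_eq_one, pow_one] at h4
  have hcyc : IsCyclic (P : Subgroup M) := by
    haveI := h _ (P.isPGroup'.map M.subtype) hPker
    exact isCyclic_of_surjective _
      ((P : Subgroup M).equivMapOfInjective M.subtype M.subtype_injective).symm.surjective
  obtain ⟨K, hKodd, hKmem⟩ : ∃ K : Subgroup M, Odd (Nat.card K) ∧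
      ∀ x : M, Odd (orderOf x) → x ∈ K := by
    rcases Nat.even_or_odd (Nat.card M) with hev | hod
    · have hmin : (Nat.card M).minFac = 2 := (Nat.minFac_eq_two_iff _).2 (even_iff_two_dvd.1 hev)
      have hnc := IsCyclic.normalizer_le_centralizer hmin hcyc
      refine ⟨(MonoidHom.transferSylow P hnc).ker,
        Nat.odd_iff.2 (Nat.two_dvd_ne_zero.1 (MonoidHom.not_dvd_card_ker_transferSylow P hnc)), fun x hx => ?_⟩
      rw [MonoidHom.mem_ker, ← orderOf_eq_one_iff]
      obtain ⟨j, hj⟩ := IsPGroup.iff_orderOf.1 P.isPGroup' (MonoidHom.transferSylow P hnc x)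
      rcases Nat.eq_zero_or_pos j with rfl | hj0
      · exact hj
      · exact absurd (dvd_trans (hj ▸ dvd_pow_self 2 hj0.ne') (orderOf_map_dvd _ x)) hx.not_two_dvd_nat
    · exact ⟨⊤, by rwa [Subgroup.card_top], fun x _ => Subgroup.mem_top x⟩
  have hiff : ∀ x : M, x ∈ K ↔ Odd (orderOf x) := fun x =>
    ⟨fun hx => hKodd.of_dvd_nat (by rw [← Subgroup.orderOf_mk x hx]; exact orderOf_dvd_natCard _), hKmem x⟩
  refine ⟨K.map M.subtype, ⟨?_⟩, by rwa [Subgroup.card_subtype], fun x => ?_⟩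
  · rintro _ ⟨y, hy, rfl⟩ g
    refine ⟨⟨g * (y : G) * g⁻¹, hMn.conj_mem _ y.2 g⟩, (hiff _).2 ?_, rfl⟩
    rw [← Subgroup.orderOf_coe]
    show Odd (orderOf (MulAut.conj g (y : G)))
    rw [MulEquiv.orderOf_eq, Subgroup.orderOf_coe]
    exact (hiff y).1 hy
  · set y : M := ⟨x ^ 2 ^ a, hMtwo x⟩
    obtain ⟨k, r, hr, hkr⟩ := Nat.exists_eq_pow_mul_and_not_dvd (orderOf_pos y).ne' 2 (by norm_num)
    refine ⟨a + k, y ^ 2 ^ k, (hiff _).2 ?_, ?_⟩
    · rw [orderOf_pow_of_dvd (by positivity) ⟨r, hkr⟩, hkr, Nat.mul_div_cancel_left _ (by positivity)]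
      exact Nat.odd_iff.2 (Nat.two_dvd_ne_zero.1 hr)
    · show ((y ^ 2 ^ k : M) : G) = _
      rw [Subgroup.coe_pow, pow_add, pow_mul]

namespace Gam

variable {X : Type u} [Group X] [Finite X] {F : Type v} [Field F] [Fintype F] {l : ℕ} (Γ : Gam X F l)

local notation "SL₂" => Matrix.SpecialLinearGroup (Fin 2) F
local notation "GL₂" => GL (Fin 2) F
local notation "M₂" => Matrix (Fin 2) (Fin 2) F

/-- The centraliser of a matrix in `SL(2)`. -/
def T₁ (g : M₂) : Subgroup SL₂ where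
  carrier := {t | (t : M₂) * g = g * (t : M₂)}
  one_mem' := by
    show ((1 : SL₂) : M₂) * g = g * ((1 : SL₂) : M₂)
    rw [Matrix.SpecialLinearGroup.coe_one, one_mul, mul_one]
  mul_mem' := fun {a b} ha hb => by
    show ((a * b : SL₂) : M₂) * g = g * ((a * b : SL₂) : M₂)
    rw [cmul]
    exact ((show Commute (a : M₂) g from ha).mul_left hb).eq
  inv_mem' := fun {a} ha => by
    show ((a⁻¹ : SL₂) : M₂) * g = g * ((a⁻¹ : SL₂) : M₂)
    have e : ((a⁻¹ : SL₂) : M₂) * (a : M₂) = 1 := by rw [← cmul, inv_mul_cancel]; rfl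
    have e' : (a : M₂) * ((a⁻¹ : SL₂) : M₂) = 1 := by rw [← cmul, mul_inv_cancel]; rfl
    calc ((a⁻¹ : SL₂) : M₂) * g = ((a⁻¹ : SL₂) : M₂) * g * ((a : M₂) * ((a⁻¹ : SL₂) : M₂)) := by rw [e', mul_one]
      _ = ((a⁻¹ : SL₂) : M₂) * (g * (a : M₂)) * ((a⁻¹ : SL₂) : M₂) := by simp only [mul_assoc]
      _ = ((a⁻¹ : SL₂) : M₂) * (a : M₂) * (g * ((a⁻¹ : SL₂) : M₂)) := by
        rw [← show (a : M₂) * g = g * (a : M₂) from ha]; simp only [mul_assoc]
      _ = _ := by rw [e, one_mul]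

include Γ in
theorem not_dvd_T₁ {g : M₂} (h : TZ g) (hd : ¬ IsSquare g.det) : ¬ l ∣ Nat.card (T₁ g) := fun hdvd => by
  haveI := Fact.mk Γ.hl
  obtain ⟨t, ht⟩ := exists_prime_orderOf_dvd_card' l hdvd
  refine not_dvd_tT Γ.hl Γ.hl2 Γ.hlt Γ.c.odd ?_
  rw [← ht, ← Subgroup.orderOf_coe]
  exact orderOf_dvd_of_pow_eq_one (pow_tT Γ.c.odd h hd t.2)

include Γ in
/-- The automorphism of a matrix commuting with `g` has exponent `tT`. -/
theorem inn_pow_tT {g : M₂} (h : TZ g) (hd : ¬ IsSquare g.det) {A : GL₂} (hA : (A : M₂) * g = g * (A : M₂)) :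
    inn A ^ tT (Fintype.card F) = 1 := by
  have hodd := Γ.c.odd
  have hd0 : g.det ≠ 0 := fun e => hd (e ▸ IsSquare.zero)
  have hq1 := Nat.odd_iff.1 hodd
  have hk := (FiniteField.pow_dichotomy (ringChar_ne hodd) hd0).resolve_left fun e =>
    hd ((FiniteField.isSquare_iff (ringChar_ne hodd) hd0).2 e)
  obtain ⟨α, β, e⟩ := exists_lin (not_scalar_of_tz Γ.two_ne h hd0) hA
  have hq := pow_card h hodd α β
  rw [← e, neg_pow, hk] at hq
  have scal : ∀ (n : ℕ) (c : F), (A : M₂) ^ n = c • 1 → inn A ^ n = 1 := fun n c hc => by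
    rw [← map_pow, inn_smul (g := 1) (a := c) (by rw [Units.val_pow_eq_pow_val, hc, Units.val_one]), map_one]
  unfold tT
  split
  · rename_i h4
    refine scal _ 1 ?_
    rw [Odd.neg_one_pow (Nat.odd_iff.2 (by omega)), show (-1 : F) * -1 = 1 by ring, mul_one, ← e] at hq
    refine (Units.isUnit A).mul_right_cancel ?_
    rw [← pow_succ, Nat.sub_add_cancel Fintype.card_pos, hq, one_smul, one_mul]
  · refine scal _ (α ^ 2 + β ^ 2 * g.det) ?_
    rw [Even.neg_one_pow (Nat.even_iff.2 (by omega)), one_mul, mul_neg_one, neg_smul] at hq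
    rw [pow_succ, hq, e]
    simp only [add_mul, mul_add, smul_mul_assoc, mul_smul_comm, one_mul, mul_one, neg_mul, mul_neg, h.mul_self,
      smul_smul]
    module

/-- An element commuting with the axis of `w` fixes `w`, and its odd power lies in the four group. -/
theorem lin_commute {w r : X} {g : GL₂} (hg : Γ.c.ψ w = inn g) (htz : TZ (g : M₂))
    (hd : ¬ IsSquare (g : M₂).det) {A : GL₂} (hA : Γ.c.ψ r = inn A) (hAg : (A : M₂) * (g : M₂) = (g : M₂) * (A : M₂)) :
    Commute r w ∧ ∃ m : ℕ, r ^ (2 * m + 1) = 1 ∨ r ^ (2 * m + 1) = Γ.c.z ∨ r ^ (2 * m + 1) = w ∨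
      r ^ (2 * m + 1) = Γ.c.z * w := by
  have hq := Nat.odd_iff.1 Γ.c.odd
  obtain ⟨m, hm⟩ : ∃ m, tT (Fintype.card F) = 2 * (2 * m + 1) := by
    refine ⟨tT (Fintype.card F) / 4, ?_⟩
    unfold tT; split <;> omega
  have hpow := Γ.inn_pow_tT htz hd hAg
  rw [hm, mul_comm, pow_mul] at hpow
  set B := A ^ (2 * m + 1) with hB
  rw [← map_pow, ← hB, sq, ← map_mul] at hpow
  obtain ⟨b, -, hb⟩ := exists_smul_of_inn (g := B * B) (h := 1) (by rw [hpow, map_one])
  rw [Units.val_mul, Units.val_one] at hb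
  have hBg : (B : M₂) * (g : M₂) = (g : M₂) * (B : M₂) := by
    rw [hB, Units.val_pow_eq_pow_val]
    exact (Commute.pow_left (show Commute (A : M₂) (g : M₂) from hAg) _).eq
  have hgs := not_scalar_of_tz Γ.two_ne htz g.det_ne_zero
  obtain ⟨α, β, e⟩ := exists_lin hgs hBg
  have hαβ : α * β = 0 := by
    by_contra hne
    refine hgs ((2 * (α * β))⁻¹ * (b - α ^ 2 + β ^ 2 * (g : M₂).det)) ?_
    have h1 : (2 * (α * β)) • (g : M₂) = (b - α ^ 2 + β ^ 2 * (g : M₂).det) • 1 := by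
      rw [e] at hb
      simp only [add_mul, mul_add, smul_mul_assoc, mul_smul_comm, one_mul, mul_one, htz.mul_self, smul_smul] at hb
      rw [add_smul, sub_smul, ← hb]
      module
    rw [mul_smul, ← h1, smul_smul, inv_mul_cancel₀ (mul_ne_zero Γ.two_ne hne), one_smul]
  have hψ : Γ.c.ψ (r ^ (2 * m + 1)) = inn B := by rw [map_pow, hA, ← map_pow]
  have hfour : r ^ (2 * m + 1) = 1 ∨ r ^ (2 * m + 1) = Γ.c.z ∨ r ^ (2 * m + 1) = w ∨
      r ^ (2 * m + 1) = Γ.c.z * w := by
    rcases mul_eq_zero.1 hαβ with h0 | h0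
    · rw [h0, zero_smul, zero_add] at e
      have : Γ.c.ψ (r ^ (2 * m + 1) * w⁻¹) = 1 := by
        rw [map_mul, map_inv, hψ, hg, inn_smul e, mul_inv_cancel]
      rcases Γ.ker_cases this with h | h <;> rw [mul_inv_eq_iff_eq_mul] at h
      · exact Or.inr (Or.inr (Or.inl (by rw [h, one_mul])))
      · exact Or.inr (Or.inr (Or.inr h))
    · rw [h0, zero_smul, add_zero] at e
      have : Γ.c.ψ (r ^ (2 * m + 1)) = 1 := by
        rw [hψ, inn_smul (g := 1) (by rw [e, Units.val_one]), map_one]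
      rcases Γ.ker_cases this with h | h
      · exact Or.inl h
      · exact Or.inr (Or.inl h)
  refine ⟨?_, m, hfour⟩
  have hodd : Commute (r ^ (2 * m + 1)) w := by
    rcases hfour with h | h | h | h <;> rw [h]
    · exact Commute.one_left w
    · exact (show Commute w Γ.c.z from Γ.c.z_comm w).symm
    · exact (show Commute w Γ.c.z from Γ.c.z_comm w).symm.mul_left (Commute.refl w)
  have hsq : Commute (r * r) w := by
    have h1 : Γ.c.ψ (r * w * r⁻¹ * w⁻¹) = 1 := by
      rw [map_mul, map_mul, map_mul, map_inv, map_inv, hA, hg, ← map_mul, ← map_inv, ← map_mul, ← map_inv,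
        ← map_mul, show A * g = g * A from Units.ext (by rw [Units.val_mul, Units.val_mul, hAg])]
      rw [mul_inv_cancel_right, mul_inv_cancel, map_one]
    rcases Γ.ker_cases h1 with h | h <;> rw [mul_inv_eq_iff_eq_mul, mul_inv_eq_iff_eq_mul] at h
    · rw [one_mul] at h
      exact (show Commute r w from h).mul_left h
    · show r * r * w = w * (r * r)
      calc r * r * w = r * (r * w) := mul_assoc _ _ _
        _ = r * Γ.c.z * (w * r) := by rw [h]; simp only [mul_assoc]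
        _ = Γ.c.z * (r * w) * r := by rw [Γ.c.z_comm]; simp only [mul_assoc]
        _ = _ := by rw [h]; simp only [← mul_assoc, Γ.c.z_sq, one_mul]
  rw [show r = r ^ (2 * m + 1) * ((r * r) ^ m)⁻¹ by rw [← sq, ← pow_mul, pow_succ', mul_inv_cancel_right]]
  exact hodd.mul_left (hsq.pow_left m).inv_left

/-- The elements of `2`-power order centralising a non-central involution. -/
theorem two_cen {w x : X} (hw : Γ.NC w) {j : ℕ} (hx : x ^ 2 ^ j = 1) (h : Commute x w) :
    x = 1 ∨ x = Γ.c.z ∨ x = w ∨ x = Γ.c.z * w := by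
  obtain ⟨g, hg, htz, hd⟩ := Γ.nc_rep hw
  obtain ⟨A, hA⟩ := mem_range_inn.2 (Γ.fld_two hx)
  obtain ⟨a, -, ha⟩ := exists_smul_of_inn (g := A * g) (h := g * A) (by
    rw [map_mul, map_mul, hA, ← hg, ← map_mul, ← map_mul, h.eq])
  rw [Units.val_mul, Units.val_mul] at ha
  have ha2 : a * a = 1 := by
    have e := congrArg Matrix.det ha
    rw [Matrix.det_smul, Fintype.card_fin, Matrix.det_mul, Matrix.det_mul] at e
    refine mul_right_cancel₀ (mul_ne_zero g.det_ne_zero A.det_ne_zero) ?_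
    linear_combination -e
  rcases mul_self_eq_one_iff.1 ha2 with rfl | rfl
  · rw [one_smul] at ha
    obtain ⟨-, m, hm⟩ := Γ.lin_commute hg htz hd hA.symm ha
    have key : ∀ y : X, x ^ (2 * m + 1) = y → y * y = 1 → x = 1 ∨ x = y := fun y hy hyy => by
      obtain ⟨i, hi⟩ : ∃ i : ℕ, (2 * m + 1) * i ≡ 1 [MOD 2 ^ j] := by
        rcases Nat.eq_zero_or_pos j with rfl | hj
        · exact ⟨0, by simp [Nat.modEq_one]⟩
        · obtain ⟨i, hi⟩ := Nat.exists_mul_mod_eq_one_of_coprime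
            ((Nat.coprime_two_right.2 ⟨m, rfl⟩).pow_right j) (Nat.one_lt_two_pow hj.ne')
          exact ⟨i, by rw [Nat.ModEq, hi.2, Nat.mod_eq_of_lt (Nat.one_lt_two_pow hj.ne')]⟩
      have hxy : y ^ i = x := by
        rw [← hy, ← pow_mul]
        conv_rhs => rw [← pow_one x]
        exact pow_eq_pow_iff_modEq.2 (hi.of_dvd (orderOf_dvd_of_pow_eq_one hx))
      rcases Nat.even_or_odd i with ⟨b, rfl⟩ | ⟨b, rfl⟩
      · left; rw [← hxy, ← two_mul, pow_mul, sq, hyy, one_pow]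
      · right; rw [← hxy, pow_succ, pow_mul, sq, hyy, one_pow, one_mul]
    rcases hm with h' | h' | h' | h'
    · exact Or.inl ((key 1 h' (mul_one 1)).elim id id)
    · exact (key _ h' Γ.c.z_sq).imp id Or.inl
    · exact (key _ h' hw.1).imp id fun e => Or.inr (Or.inl e)
    · exact (key _ h' (Γ.nc_z_mul hw).1).imp id fun e => Or.inr (Or.inr e)
  · exfalso
    rw [neg_smul, one_smul] at ha
    obtain ⟨t, ht⟩ := exists_anti_sl Γ.c.odd htz g.det_ne_zero
    have hcomm : Commute ((Γ.c.ι t)⁻¹ * x) w := by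
      refine (Γ.lin_commute hg htz hd (A := (Matrix.SpecialLinearGroup.toGL t)⁻¹ * A) ?_ ?_).1
      · rw [map_mul, map_mul, map_inv, map_inv, Γ.c.ψ_ι, inn_toGL, hA]
      · set T : GL₂ := Matrix.SpecialLinearGroup.toGL t
        rw [Units.val_mul]
        refine (Units.isUnit T).mul_left_cancel ?_
        have hT : (T : M₂) = (t : M₂) := rfl
        calc (T : M₂) * (((T⁻¹ : GL₂) : M₂) * (A : M₂) * (g : M₂)) = (A : M₂) * (g : M₂) := by
              simp only [← Matrix.mul_assoc, Units.mul_inv, Matrix.one_mul]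
          _ = -((g : M₂) * (T : M₂)) * (((T⁻¹ : GL₂) : M₂) * (A : M₂)) := by
              rw [ha, Matrix.neg_mul, Matrix.mul_assoc, ← Matrix.mul_assoc (T : M₂), Units.mul_inv, Matrix.one_mul]
          _ = _ := by rw [hT, ht, neg_neg, Matrix.mul_assoc]
    have h1 : Γ.c.z * w = w := by
      rw [← Γ.anti_flip hg ht]
      calc Γ.c.ι t * w * (Γ.c.ι t)⁻¹ = x * (((Γ.c.ι t)⁻¹ * x)⁻¹ * w * ((Γ.c.ι t)⁻¹ * x)) * x⁻¹ := by group
        _ = x * w * x⁻¹ := by
          rw [show ((Γ.c.ι t)⁻¹ * x)⁻¹ * w * ((Γ.c.ι t)⁻¹ * x) = w by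
            rw [mul_assoc, ← hcomm.eq, inv_mul_cancel_left]]
        _ = w := by rw [h.eq, mul_inv_cancel_right]
    exact Γ.c.z_ne (mul_eq_right.1 h1)

/-- The `2`-subgroups centralising an elliptic element are cyclic. -/
theorem cyclic_two {e : X} (he : Γ.Elt e) {P : Subgroup X} (hP : IsPGroup 2 P)
    (hPe : ∀ x ∈ P, Commute x e) : IsCyclic P := by
  haveI : Fact (Nat.Prime 2) := ⟨Nat.prime_two⟩
  obtain ⟨s, rfl, hs1, hs, u, hu, hus, hns, hsemi⟩ := Γ.elt_ι he
  have htu := tz_of_sq Γ.c.odd hu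
  have hu1 : (u : M₂).det ≠ 0 := by rw [u.2]; exact one_ne_zero
  have hrep : ∀ x ∈ P, ∃ A : GL₂, Γ.c.ψ x = inn A ∧ (A : M₂) * (u : M₂) = (u : M₂) * (A : M₂) := by
    intro x hx
    obtain ⟨j, hj⟩ := hP ⟨x, hx⟩
    obtain ⟨A, hA⟩ := mem_range_inn.2 (Γ.fld_two (x := x) (j := j) (congrArg Subtype.val hj))
    refine ⟨A, hA.symm, commute_of_commute hns ((Γ.conj_nc hA.symm s).1.1 (hPe x hx).eq.symm).symm ?_⟩
    rw [← cmul, hus, cmul]
  have hPcomm : ∀ x ∈ P, ∀ y ∈ P, Γ.c.ψ x * Γ.c.ψ y = Γ.c.ψ y * Γ.c.ψ x := fun x hx y hy => by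
    obtain ⟨A, hA, hAu⟩ := hrep x hx
    obtain ⟨B, hB, hBu⟩ := hrep y hy
    rw [hA, hB, ← map_mul, ← map_mul]
    refine congrArg _ (Units.ext ?_)
    rw [Units.val_mul, Units.val_mul]
    exact commute_of_commute (not_scalar_of_tz Γ.two_ne htu hu1) hAu hBu
  set Q := P.map Γ.c.ψ with hQ
  have hQcyc : IsCyclic Q := by
    refine Grp.isCyclic_of_one_invol (hP.map _) ?_ ?_
    · rintro ⟨_, x, hx, rfl⟩ ⟨_, y, hy, rfl⟩
      exact Subtype.ext (hPcomm x hx y hy)
    · have key : ∀ q : Q, q ≠ 1 → q * q = 1 → (q : MulAut SL₂) = inn (Matrix.SpecialLinearGroup.toGL u) := by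
        rintro ⟨_, x, hx, rfl⟩ hq1 hqq
        obtain ⟨A, hA, hAu⟩ := hrep x hx
        have hsq : inn (A * A) = 1 := by rw [map_mul, ← hA]; exact congrArg Subtype.val hqq
        obtain ⟨b, -, hb⟩ := exists_smul_of_inn (g := A * A) (h := 1) (by rw [hsq, map_one])
        rw [Units.val_mul, Units.val_one] at hb
        obtain ⟨α, β, e⟩ := exists_lin (not_scalar_of_tz Γ.two_ne htu hu1) hAu
        have hne : Γ.c.ψ x ≠ 1 := fun h => hq1 (Subtype.ext h)
        have hαβ : α * β = 0 := by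
          by_contra hab
          refine not_scalar_of_tz Γ.two_ne htu hu1
            ((2 * (α * β))⁻¹ * (b - α ^ 2 + β ^ 2 * (u : M₂).det)) ?_
          have h1 : (2 * (α * β)) • (u : M₂) = (b - α ^ 2 + β ^ 2 * (u : M₂).det) • 1 := by
            rw [e] at hb
            simp only [add_mul, mul_add, smul_mul_assoc, mul_smul_comm, one_mul, mul_one, htu.mul_self,
              smul_smul] at hb
            rw [add_smul, sub_smul, ← hb]
            module
          rw [mul_smul, ← h1, smul_smul, inv_mul_cancel₀ (mul_ne_zero Γ.two_ne hab), one_smul]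
        show Γ.c.ψ x = _
        rcases mul_eq_zero.1 hαβ with h0 | h0
        · rw [h0, zero_smul, zero_add] at e
          rw [hA]
          exact inn_smul e
        · rw [h0, zero_smul, add_zero] at e
          exact absurd (by rw [hA, inn_smul (g := 1) (by rw [e, Units.val_one]), map_one]) hne
      exact fun x y hx hy hxx hyy => Subtype.ext ((key x hx hxx).trans (key y hy hyy).symm)
  have hcomm : ∀ x y : P, Commute x y := by
    let f : P →* Q := Γ.c.ψ.subgroupMap P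
    haveI : IsCyclic Q := hQcyc
    have hker : f.ker ≤ center P := fun x hx => Subgroup.mem_center_iff.2 fun y => Subtype.ext (by
      have h1 : Γ.c.ψ (x : X) = 1 := congrArg Subtype.val (MonoidHom.mem_ker.1 hx)
      show (y : X) * (x : X) = (x : X) * (y : X)
      rcases Γ.ker_cases h1 with h | h <;> rw [h]
      · rw [one_mul, mul_one]
      · exact Γ.c.z_comm _)
    exact fun x y => (MonoidHom.isMulCommutative_of_isCyclic_of_ker_le_center f hker).is_comm.comm x y
  refine Grp.isCyclic_of_one_invol hP hcomm ?_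
  have key : ∀ x : P, x ≠ 1 → x * x = 1 → (x : X) = Γ.c.z := fun x hx hxx => by
    by_contra hz
    exact Γ.nc_not_commute ⟨congrArg Subtype.val hxx, fun h => hx (Subtype.ext h), hz⟩ he (hPe x x.2)
  exact fun x y hx hy hxx hyy => Subtype.ext ((key x hx hxx).trans (key y hy hyy).symm)

/-- The normaliser of an elliptic line has a normal `2`-complement. -/
theorem exists_compl {e : X} (he : Γ.Elt e) :
    ∃ K : Subgroup X, K ≤ normalizer (zpowers e : Set X) ∧ normalizer (zpowers e : Set X) ≤ normalizer (K : Set X) ∧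
      Odd (Nat.card K) ∧ ∀ x ∈ normalizer (zpowers e : Set X), ∃ j : ℕ, x ^ 2 ^ j ∈ K := by
  set N := normalizer (zpowers e : Set X) with hN
  have hcom : ∀ a b : MulAut (zpowers e), Commute a b := fun a b => MulEquiv.ext fun y => by
    show a (b y) = b (a y)
    obtain ⟨g, hg⟩ := IsCyclic.exists_generator (α := zpowers e)
    obtain ⟨i, hi⟩ := Subgroup.mem_zpowers_iff.1 (hg (a g))
    obtain ⟨k, hk⟩ := Subgroup.mem_zpowers_iff.1 (hg (b g))
    obtain ⟨n, rfl⟩ := Subgroup.mem_zpowers_iff.1 (hg y)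
    simp only [map_zpow]
    congr 1
    rw [← hi, ← hk, map_zpow, map_zpow, ← hi, ← hk, ← _root_.zpow_mul, ← _root_.zpow_mul, mul_comm]
  obtain ⟨K, hKn, hKodd, hKtwo⟩ := exists_odd_compl hcom (normalizerMonoidHom (zpowers e)) fun P hP hPk => by
    haveI := Γ.cyclic_two he (P := P.map N.subtype) (hP.map _) (by
      rintro _ ⟨x, hx, rfl⟩
      have h1 := hPk hx
      rw [normalizerMonoidHom_ker] at h1
      exact (Subgroup.mem_centralizer_iff.1 (Subgroup.mem_subgroupOf.1 h1) e (mem_zpowers e)).symm)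
    exact isCyclic_of_surjective _ (P.equivMapOfInjective N.subtype N.subtype_injective).symm.surjective
  refine ⟨K.map N.subtype, map_subtype_le K, fun x hx => ?_, by rwa [Subgroup.card_subtype], fun x hx => ?_⟩
  · rw [Subgroup.mem_normalizer_iff]
    intro y
    constructor
    · rintro ⟨k, hk, rfl⟩
      exact ⟨⟨x, hx⟩ * k * (⟨x, hx⟩ : N)⁻¹, hKn.conj_mem k hk _, rfl⟩
    · rintro ⟨k, hk, hk'⟩
      refine ⟨(⟨x, hx⟩ : N)⁻¹ * k * ⟨x, hx⟩, by simpa using hKn.conj_mem k hk (⟨x, hx⟩ : N)⁻¹, ?_⟩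
      show x⁻¹ * (k : X) * x = y
      rw [show (k : X) = x * y * x⁻¹ from hk']
      group
  · obtain ⟨j, hj⟩ := hKtwo ⟨x, hx⟩
    exact ⟨j, _, hj, by simp⟩

end Gam

end Cfsg.Agent.Invol.AbgOrder.Ell
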