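import Cfsg.Agent.Lib.Invol.AbgOrder.EllFrame
import Cfsg.Agent.Lib.Grp.Frattini

/-!
# Local tools for the four-group

Eigen elements outside an invariant subgroup, normal odd subgroups with all the elements of odd order, the four-group.
-/

set_option autoImplicit false
set_option linter.unusedSectionVars false
set_option linter.style.haveILetI false

namespace Cfsg.Agent.Invol.AbgOrder.Ell

open Subgroup
open scoped commutatorElement

universe u v

section generic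

variable {G : Type u} [Group G] [Finite G]

theorem exists_inv_out {E D : Subgroup G} {c : G} (hc : c * c = 1) (hE : Odd (Nat.card E))
    (hcE : c ∈ normalizer (E : Set G)) (h : ¬ E ≤ D) :
    ∃ k ∈ E, k ∉ D ∧ (Commute k c ∨ c * k * c⁻¹ = k⁻¹) := by
  obtain ⟨x, hxE, hxD⟩ := SetLike.not_le_iff_exists.1 h
  set u := x⁻¹ * (c * x * c⁻¹) with hu
  have huE : u ∈ E := E.mul_mem (E.inv_mem hxE) ((Subgroup.mem_normalizer_iff.1 hcE x).1 hxE)
  by_cases huD : u ∈ D
  · obtain ⟨m, hm, hmc⟩ := exists_fix hc (N := E ⊓ D) (hE.of_dvd_nat (Subgroup.card_dvd_of_le inf_le_left))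
      (c := x) ⟨huE, huD⟩
    refine ⟨x * m, E.mul_mem hxE hm.1, fun hD => hxD ?_, Or.inl hmc.symm⟩
    have := D.mul_mem hD (D.inv_mem hm.2)
    rwa [mul_inv_cancel_right] at this
  · refine ⟨u, huE, huD, Or.inr ?_⟩
    rw [hu, show c * (x⁻¹ * (c * x * c⁻¹)) * c⁻¹ = c * x⁻¹ * c⁻¹ * (c * c * x * (c * c)⁻¹) by group, hc]
    group

/-- An element outside in a centraliser of a four-group element, fixed or inverted by the others. -/
theorem exists_eigen {l : ℕ} [Fact l.Prime] (hl : l ≠ 2) {z w : G} (hz : z * z = 1) (hw : w * w = 1)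
    (hzw : z * w = w * z) {E D : Subgroup G} (hE : IsPGroup l E) (hzE : z ∈ normalizer (E : Set G))
    (hwE : w ∈ normalizer (E : Set G)) (h : ¬ E ≤ D) :
    ∃ k ∈ E, k ∉ D ∧ ((Commute k z ∧ Commute k w) ∨ (Commute k z ∧ w * k * w⁻¹ = k⁻¹) ∨
      (Commute k w ∧ z * k * z⁻¹ = k⁻¹) ∨ (Commute k (z * w) ∧ z * k * z⁻¹ = k⁻¹)) := by
  obtain ⟨x, hxE, hxD⟩ := SetLike.not_le_iff_exists.1 h
  obtain ⟨b, a, a', hb, ha, ha', eb, ea, ea', rfl⟩ := HallFour.decomposition_subgroup hl hE hz hw hzw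
    (fun u hu => (Subgroup.mem_normalizer_iff.1 hzE u).1 hu) (fun u hu => (Subgroup.mem_normalizer_iff.1 hwE u).1 hu)
    hxE
  have hodd : Odd (Nat.card E) := HallFour.odd_card_of_isPGroup hl hE
  have sub : ∀ {b c : G}, b ∈ normalizer (E : Set G) → c * c = 1 → Commute c b → c ∈ normalizer (E : Set G) →
      ∀ {x : G}, x ∈ E → x * b = b * x → x ∉ D →
      ∃ k ∈ E, k ∉ D ∧ Commute k b ∧ (Commute k c ∨ c * k * c⁻¹ = k⁻¹) := by
    intro b c _ hc hcb hcE x hx hxb hxD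
    obtain ⟨k, hk, hkD, h⟩ := exists_inv_out hc (E := E ⊓ centralizer ({b} : Set G)) (D := D)
      (hodd.of_dvd_nat (Subgroup.card_dvd_of_le inf_le_left)) (mem_normalizer_inf hcE (mem_normalizer_centralizer hcb))
      (fun h' => hxD (h' (⟨hx, Subgroup.mem_centralizer_singleton_iff.2 hxb⟩ : x ∈ E ⊓ centralizer ({b} : Set G))))
    exact ⟨k, hk.1, hkD, Subgroup.mem_centralizer_singleton_iff.1 hk.2, h⟩
  by_cases hbD : b ∈ D
  · by_cases haD : a ∈ D
    · have ha'D : a' ∉ D := fun h' => hxD (D.mul_mem (D.mul_mem hbD haD) h')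
      obtain ⟨k, hk, hkD, h1, h2 | h2⟩ := sub hwE hz hzw hzE ha' ea' ha'D
      · exact ⟨k, hk, hkD, Or.inl ⟨h2, h1⟩⟩
      · exact ⟨k, hk, hkD, Or.inr (Or.inr (Or.inl ⟨h1, h2⟩))⟩
    · obtain ⟨k, hk, hkD, h1, h2 | h2⟩ := sub hzE hw hzw.symm hwE ha ea haD
      · exact ⟨k, hk, hkD, Or.inl ⟨h1, h2⟩⟩
      · exact ⟨k, hk, hkD, Or.inr (Or.inl ⟨h1, h2⟩)⟩
  · obtain ⟨k, hk, hkD, h1, h2 | h2⟩ :=
      sub (mul_mem hzE hwE) hz ((Commute.refl z).mul_right hzw) hzE hb eb hbD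
    · refine ⟨k, hk, hkD, Or.inl ⟨h2, ?_⟩⟩
      have := h2.mul_right h1
      rwa [← mul_assoc, hz, one_mul] at this
    · exact ⟨k, hk, hkD, Or.inr (Or.inr (Or.inr ⟨h1, h2⟩))⟩

/-- A normal odd subgroup containing all elements of odd order is preserved. -/
theorem mem_normalizer_oddPart {H J : Subgroup G} (hJH : J ≤ H) (hJ : Odd (Nat.card J))
    (hall : ∀ x ∈ H, Odd (orderOf x) → x ∈ J) {g : G} (hg : g ∈ normalizer (H : Set G)) :
    g ∈ normalizer (J : Set G) := by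
  refine mem_normalizer_fintype fun x hx => hall _ ((Subgroup.mem_normalizer_iff.1 hg x).1 (hJH hx)) ?_
  exact hJ.of_dvd_nat (by
    rw [show orderOf (g * x * g⁻¹) = orderOf x from orderOf_injective (MulAut.conj g).toMonoidHom
      (MulAut.conj g).injective x]
    exact Subgroup.orderOf_dvd_natCard _ hx)

/-- An isolated involution and a normal odd subgroup of its centralizer with all elements of odd order. -/
theorem exists_compl_iso {H K : Subgroup G} {i : G} (hiH : i ∈ H) (hi : i * i = 1) (hi1 : i ≠ 1)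
    (hiso : ∀ h ∈ H, Commute i (h * i * h⁻¹) → h * i * h⁻¹ = i) (hK : K ≤ H ⊓ centralizer ({i} : Set G))
    (hKn : H ⊓ centralizer ({i} : Set G) ≤ normalizer (K : Set G)) (hKodd : Odd (Nat.card K))
    (hKall : ∀ x ∈ H ⊓ centralizer ({i} : Set G), Odd (orderOf x) → x ∈ K) :
    ∃ J : Subgroup G, J ≤ H ∧ H ≤ normalizer (J : Set G) ∧ Odd (Nat.card J) ∧
      ∀ x ∈ H, Odd (orderOf x) → x ∈ J := by
  have hz' : Cfsg.IsIsolatedInvolution (⟨i, hiH⟩ : H) :=
    ⟨by rw [Subgroup.orderOf_mk]; exact orderOf_eq_prime (by rw [sq, hi]) hi1, fun g hg =>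
      Subtype.ext (hiso g g.2 (congrArg Subtype.val hg.eq))⟩
  set OH := (Cfsg.pPrimeCore 2 H).map H.subtype with hOH
  have hOHH : OH ≤ H := Subgroup.map_subtype_le _
  have hOodd : Odd (Nat.card OH) := by rw [hOH, Subgroup.card_subtype]; exact odd_oddCore
  have hnorm : H ≤ normalizer (OH : Set G) := fun g hg => by
    haveI := Grp.pPrimeCore_isNormal (p := 2) (G := H)
    refine mem_normalizer_fintype ?_
    rintro _ ⟨y, hy, rfl⟩
    exact ⟨⟨g, hg⟩ * y * (⟨g, hg⟩ : H)⁻¹, (inferInstance : (Cfsg.pPrimeCore 2 H).Normal).conj_mem _ hy _, rfl⟩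
  have hfac : ∀ g ∈ H, ∃ k ∈ OH, ∃ c ∈ H ⊓ centralizer ({i} : Set G), g = k * c := fun g hg => by
    obtain ⟨k, -, -, hk, hc⟩ := isolated_exists_factor hz' ⟨g, hg⟩
    refine ⟨k, ⟨k, hk, rfl⟩, (k⁻¹ * ⟨g, hg⟩ : H), ⟨(k⁻¹ * ⟨g, hg⟩ : H).2, ?_⟩, by
      rw [Subgroup.coe_mul, InvMemClass.coe_inv, mul_inv_cancel_left]⟩
    exact Subgroup.mem_centralizer_singleton_iff.2
      (congrArg Subtype.val (Subgroup.mem_centralizer_singleton_iff.1 hc))
  set J := OH ⊔ K with hJ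
  have hJn : H ≤ normalizer (J : Set G) := fun g hg => by
    obtain ⟨k, hk, c, hc, rfl⟩ := hfac g hg
    exact mul_mem (Subgroup.le_normalizer (le_sup_left (b := K) hk)) (mem_normalizer_sup (hnorm hc.1) (hKn hc))
  refine ⟨J, sup_le hOHH (hK.trans inf_le_left), hJn, ?_, fun x hx hodd => ?_⟩
  · rw [hJ, sup_comm]
    exact (hKodd.mul hOodd).of_dvd_nat (Grp.card_sup_dvd_mul ((hK.trans inf_le_left).trans hnorm))
  obtain ⟨k, hk, c, hc, rfl⟩ := hfac x hx
  have hpow : ∀ n : ℕ, (k * c) ^ n * (c ^ n)⁻¹ ∈ OH := by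
    intro n
    induction n with
    | zero => simp
    | succ n ih =>
      rw [show (k * c) ^ (n + 1) * (c ^ (n + 1))⁻¹ =
        (k * c) ^ n * (c ^ n)⁻¹ * (c ^ n * k * (c ^ n)⁻¹) by rw [pow_succ, pow_succ]; group]
      exact OH.mul_mem ih ((Subgroup.mem_normalizer_iff.1 (hnorm (pow_mem hc.1 n)) k).1 hk)
  obtain ⟨j, m, hm, hjm⟩ := Nat.exists_eq_two_pow_mul_odd (orderOf_pos c).ne'
  have hcK : c ^ 2 ^ j ∈ K := hKall _ (pow_mem hc _) (by
    rw [orderOf_pow' c (pow_ne_zero _ two_ne_zero), hjm, Nat.gcd_mul_right_left,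
      Nat.mul_div_cancel_left _ (pow_pos two_pos j)]
    exact hm)
  have h2 : (k * c) ^ 2 ^ j ∈ J := by
    have := J.mul_mem (le_sup_left (b := K) (hpow (2 ^ j))) (le_sup_right (a := OH) hcK)
    rwa [inv_mul_cancel_right] at this
  obtain ⟨r, hr⟩ := exists_pow_eq_self_of_coprime ((Nat.coprime_two_left.2 hodd).pow_left j)
  exact hr ▸ pow_mem h2 r

end generic

namespace Sett

variable {G : Type u} [Group G] [Finite G] {X : Type u} [Group X] [Finite X] {F : Type v} [Field F] [Fintype F]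
  {l : ℕ} {Γ : Gam X F l} {St : Sett G Γ}

namespace Four

variable (V : St.Four)

theorem zw_sq : St.z * V.w * (St.z * V.w) = 1 := by
  rw [mul_assoc, ← mul_assoc V.w, V.comm.eq, mul_assoc St.z V.w, V.sq, mul_one, St.z_sq]

theorem zw_ne : St.z * V.w ≠ 1 := fun h => V.nez (by
  calc V.w = St.z * (St.z * V.w) := by rw [← mul_assoc, St.z_sq, one_mul]
    _ = St.z := by rw [h, mul_one])

theorem zw_nez : St.z * V.w ≠ St.z := fun h => V.ne (mul_eq_left.1 h)

theorem zw_mem : St.z * V.w ∈ St.C := mul_mem St.z_mem V.mem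

theorem zw_new : St.z * V.w ≠ V.w := fun h => St.z_ne (mul_eq_right.1 h)

/-- The four-group. -/
def W : Subgroup G where
  carrier := {x | x = 1 ∨ x = St.z ∨ x = V.w ∨ x = St.z * V.w}
  one_mem' := Or.inl rfl
  mul_mem' := fun {x y} hx hy => by
    have h1 : ∀ a : G, V.w * (St.z * a) = St.z * (V.w * a) := fun a => by rw [← mul_assoc, V.comm.eq, mul_assoc]
    have h2 : ∀ a : G, St.z * (St.z * a) = a := fun a => by rw [← mul_assoc, St.z_sq, one_mul]
    have h3 : ∀ a : G, V.w * (V.w * a) = a := fun a => by rw [← mul_assoc, V.sq, one_mul]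
    rcases hx with rfl | rfl | rfl | rfl <;> rcases hy with rfl | rfl | rfl | rfl <;>
      simp [mul_assoc, h1, h2, V.comm.eq, St.z_sq, V.sq]
  inv_mem' := fun {x} hx => by
    rcases hx with rfl | rfl | rfl | rfl
    · exact Or.inl inv_one
    · exact Or.inr (Or.inl St.z_inv)
    · exact Or.inr (Or.inr (Or.inl V.inv))
    · exact Or.inr (Or.inr (Or.inr (inv_eq_of_mul_eq_one_right V.zw_sq)))

theorem mem_W {x : G} : x ∈ V.W ↔ x = 1 ∨ x = St.z ∨ x = V.w ∨ x = St.z * V.w := Iff.rfl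

theorem z_mem_W : St.z ∈ V.W := Or.inr (Or.inl rfl)

theorem w_mem_W : V.w ∈ V.W := Or.inr (Or.inr (Or.inl rfl))

theorem W_l : IsPGroup 2 V.W := fun ⟨x, hx⟩ => ⟨1, Subtype.ext (by
  show x ^ 2 ^ 1 = 1
  rw [pow_one, _root_.sq]
  rcases hx with e | e | e | e <;> subst e
  exacts [one_mul 1, St.z_sq, V.sq, V.zw_sq])⟩

theorem W_le {H : Subgroup G} (hz : St.z ∈ H) (hw : V.w ∈ H) : V.W ≤ H := fun x hx => by
  rcases hx with rfl | rfl | rfl | rfl
  exacts [one_mem _, hz, hw, mul_mem hz hw]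

/-- A subgroup of odd order: normalised by the four-group and avoiding it. -/
theorem odd_of_avoid {M : Subgroup G} (hzM : St.z ∈ normalizer (M : Set G)) (hwM : V.w ∈ normalizer (M : Set G))
    (hz : St.z ∉ M) (hw : V.w ∉ M) (hzw : St.z * V.w ∉ M) : Odd (Nat.card M) := by
  haveI : Fact (Nat.Prime 2) := ⟨Nat.prime_two⟩
  rw [← Nat.not_even_iff_odd, even_iff_two_dvd]
  intro h2
  have hWn : V.W ≤ normalizer (M : Set G) := V.W_le hzM hwM
  obtain ⟨S, hSle, hWS, hS, hcard⟩ := HallFour.exists_full_ge (K := M ⊔ V.W) le_sup_right V.W_l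
  have hSn : S ≤ normalizer (M : Set G) := hSle.trans (sup_le Subgroup.le_normalizer hWn)
  have hne : S ⊓ M ≠ ⊥ := fun e => by
    have h := Grp.card_sup_mul_card_inf (H := S) (N := M) hSn
    rw [e, Subgroup.card_bot, mul_one] at h
    have hle := (Nat.factorization_le_iff_dvd Nat.card_pos.ne' Nat.card_pos.ne').2
      (Subgroup.card_dvd_of_le (sup_le hSle le_sup_left : S ⊔ M ≤ M ⊔ V.W)) 2
    rw [h, Nat.factorization_mul Nat.card_pos.ne' Nat.card_pos.ne', Finsupp.add_apply, hcard,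
      Nat.prime_two.factorization_pow, Finsupp.single_eq_same] at hle
    have := Nat.prime_two.factorization_pos_of_dvd Nat.card_pos.ne' h2
    omega
  haveI : (M.subgroupOf S).Normal := Subgroup.normal_subgroupOf_of_le_normalizer hSn
  have hne' : M.subgroupOf S ≠ ⊥ := fun e => hne (by
    rw [inf_comm, ← Subgroup.subgroupOf_map_subtype, e, Subgroup.map_bot])
  haveI : Group.IsNilpotent S := hS.isNilpotent
  obtain ⟨⟨x, hxS⟩, hx, hx1⟩ :=
    (bot_or_exists_ne_one _).resolve_left (Grp.inf_center_ne_bot (M.subgroupOf S) hne')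
  obtain ⟨k, hk⟩ := hS ⟨x, hxS⟩
  have hxc : ∀ a, a ∈ V.W → Commute x a := fun a ha =>
    (show Commute a x from congrArg Subtype.val (Subgroup.mem_center_iff.1 hx.2 ⟨a, hWS ha⟩)).symm
  have hxM : x ∈ M := hx.1
  rcases St.two_cen V.mem V.sq V.ne V.nez (x := x) (j := k) (congrArg Subtype.val hk)
    (hxc _ V.z_mem_W) (hxc _ V.w_mem_W) with rfl | rfl | rfl | rfl
  exacts [hx1 (Subtype.ext rfl), hz hxM, hw hxM, hzw hxM]

end Four

namespace Lay

variable {V : St.Four} {A A₀ : Subgroup G} (L : Lay V A A₀)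
include L

theorem mem_normalizer_fixer {c : St.C} (hA : (c : G) ∈ normalizer (A : Set G))
    (hA₀ : (c : G) ∈ normalizer (A₀ : Set G))
    (hw : St.φ c * V.img * (St.φ c)⁻¹ = V.img ∨ St.φ c * V.img * (St.φ c)⁻¹ = Γ.c.z * V.img) :
    (c : G) ∈ normalizer (L.fixer : Set G) := by
  refine mem_normalizer_fintype fun h hh => ⟨mul_mem (mul_mem hA hh.1) (inv_mem hA), fun a ha => ?_⟩
  have ha' : (c : G)⁻¹ * a * c ∈ A := (Subgroup.mem_normalizer_iff''.1 hA a).1 ha
  rw [show (c : G) * h * (c : G)⁻¹ * a * ((c : G) * h * (c : G)⁻¹)⁻¹ =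
    (c : G) * (h * ((c : G)⁻¹ * a * c) * h⁻¹) * (c : G)⁻¹ by group, L.f_conj hA hA₀ hw (L.conj_mem hh.1 ha'),
    hh.2 _ ha', ← L.f_conj hA hA₀ hw ha']
  congr 1
  group

theorem z_fixer : St.z ∈ L.fixer := ⟨L.zA, fun _ ha => L.f_z ha⟩

theorem w_normalizer_fixer : V.w ∈ normalizer (L.fixer : Set G) :=
  L.mem_normalizer_fixer (c := ⟨V.w, V.mem⟩) L.wA L.wA₀ (Or.inl (mul_inv_cancel_right _ _))

end Lay

end Sett

end Cfsg.Agent.Invol.AbgOrder.Ell
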