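import Cfsg.Agent.Lib.Invol.AbgOrder.EllLocal

/-!
# Maximal invariant `l`-subgroups

`Om Q`: `Q` is a maximal invariant `l`-subgroup containing `[C(zw), z]` and not conjugate to `P` under the
centraliser of the four-group; `glue`: no invariant subgroup of odd order joins two of them over a maximal meet.
-/

set_option autoImplicit false
set_option linter.unusedSectionVars false
set_option linter.style.haveILetI false

namespace Cfsg.Agent.Invol.AbgOrder.Ell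

open Subgroup Matrix Cfsg.Agent.Classical
open scoped commutatorElement Pointwise

universe u v

namespace Sett

variable {G : Type u} [Group G] [Finite G] {X : Type u} [Group X] [Finite X] {F : Type v} [Field F] [Fintype F]
  {l : ℕ} {Γ : Gam X F l} {St : Sett G Γ}

namespace Frame

variable (Φ : Frame St)

/-- The commutators with `z` of a centralizer in `N₀`. -/
def R (b : G) : Subgroup G := cm St.z (Φ.N₀ ⊓ Subgroup.centralizer ({b} : Set G))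

/-- An invariant `l`-subgroup. -/
def VInv (Q : Subgroup G) : Prop :=
  IsPGroup l Q ∧ St.z ∈ normalizer (Q : Set G) ∧ Φ.V.w ∈ normalizer (Q : Set G)

/-- The candidates. -/
def Om (Q : Subgroup G) : Prop :=
  Φ.VInv Q ∧ (∀ Q', Φ.VInv Q' → Q ≤ Q' → Q = Q') ∧ Φ.R (St.z * Φ.V.w) ≤ Q ∧
    ∀ e ∈ St.C, Commute e Φ.V.w → cj e Φ.P ≠ Q

theorem zN₀ : St.z ∈ normalizer (Φ.N₀ : Set G) := cm_stable Φ.zU (Commute.refl _)

theorem N₀_odd : Odd (Nat.card Φ.N₀) := odd_pgroup Φ.N₀_l St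

theorem R_le_N₀ {b : G} (hb : Commute St.z b) : Φ.R b ≤ Φ.N₀ :=
  (cm_le (mem_normalizer_inf Φ.zN₀ (mem_normalizer_centralizer hb))).trans inf_le_left

theorem R_le_cent {b : G} (hb : Commute St.z b) : Φ.R b ≤ Subgroup.centralizer ({b} : Set G) :=
  (cm_le (mem_normalizer_inf Φ.zN₀ (mem_normalizer_centralizer hb))).trans inf_le_right

theorem R_le_P {b : G} (hb : Commute St.z b) : Φ.R b ≤ Φ.P := (Φ.R_le_N₀ hb).trans Φ.N₀_le_P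

theorem cm_R {b : G} (hb : Commute St.z b) : cm St.z (Φ.R b) = Φ.R b :=
  cm_cm St.z_sq (mem_normalizer_inf Φ.zN₀ (mem_normalizer_centralizer hb))
    (Φ.N₀_odd.of_dvd_nat (Subgroup.card_dvd_of_le inf_le_left))

theorem R_eq {b : G} (hb : Commute St.z b) : cm St.z (Φ.P ⊓ Subgroup.centralizer ({b} : Set G)) = Φ.R b := by
  have hn : St.z ∈ normalizer ((Φ.P ⊓ Subgroup.centralizer ({b} : Set G) : Subgroup G) : Set G) :=
    mem_normalizer_inf Φ.zP (mem_normalizer_centralizer hb)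
  refine le_antisymm ?_ (cm_mono (inf_le_inf_right _ Φ.N₀_le_P))
  rw [← cm_cm St.z_sq hn (Φ.P_odd.of_dvd_nat (Subgroup.card_dvd_of_le inf_le_left))]
  exact cm_mono (le_inf ((cm_mono inf_le_left).trans Φ.cm_P.le) ((cm_le hn).trans inf_le_right))

theorem comm_zw : Commute St.z (St.z * Φ.V.w) := (Commute.refl _).mul_right Φ.V.comm.symm

theorem comm_w_zw : Commute Φ.V.w (St.z * Φ.V.w) := Φ.V.comm.mul_right (Commute.refl _)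

theorem zR : St.z ∈ normalizer (Φ.R (St.z * Φ.V.w) : Set G) :=
  cm_stable (mem_normalizer_inf Φ.zN₀ (mem_normalizer_centralizer Φ.comm_zw)) (Commute.refl _)

theorem wR : Φ.V.w ∈ normalizer (Φ.R (St.z * Φ.V.w) : Set G) :=
  cm_stable (mem_normalizer_inf Φ.wM (mem_normalizer_centralizer Φ.comm_w_zw)) Φ.V.comm

theorem PC_eq_T : Φ.P ⊓ St.C = Φ.T := by
  haveI := Fact.mk Γ.hl
  exact (Φ.T_sylow.eq_of_le (le_inf le_sup_right Φ.T_le_C) inf_le_right (Φ.P_l.to_le inf_le_left)).symm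

theorem PO_le_U : Φ.P ⊓ St.O ≤ Φ.U := by
  haveI := Fact.mk Γ.hl
  refine le_trans (Eq.ge ?_) (inf_le_left : Φ.U ⊓ St.C ≤ Φ.U)
  refine Subgroup.eq_of_le_of_card_ge (le_inf (inf_le_left.trans le_sup_left) Φ.good.2.2.1) ?_
  rw [St.eq_pow_fac (Φ.P_l.to_le inf_le_left), St.eq_pow_fac (Φ.U_l.to_le inf_le_left), Φ.good.2.2.2]
  exact Nat.pow_le_pow_right Γ.hl.pos (fac_le inf_le_right)

theorem P_le_NU : Φ.P ≤ normalizer (Φ.U : Set G) := sup_le Subgroup.le_normalizer (Φ.hT.1.trans inf_le_left)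

variable {Φ}

theorem vinv_P : Φ.VInv Φ.P := ⟨Φ.P_l, Φ.zP, Φ.wP⟩

variable (hell : St.EllAt Φ.V.w Φ.U)
include hell

theorem ell_zw : St.EllAt (St.z * Φ.V.w) Φ.N₀ :=
  ell_of_mem hell (Φ.M.mul_mem Φ.zM Φ.wM) Φ.V.zw_mem Φ.V.zw_sq Φ.V.zw_ne Φ.V.zw_nez

theorem ell_R : St.EllAt (St.z * Φ.V.w) (Φ.R (St.z * Φ.V.w)) := by
  obtain ⟨g, hg1, hg2⟩ := St.exists_pair Φ.V.mem Φ.V.sq Φ.V.ne Φ.V.nez Φ.V.zw_sq Φ.V.zw_ne St.z_sq St.z_ne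
    Φ.V.zw_nez.symm Φ.comm_zw.symm
  have h := (St.ellAt_conj g).2 (St.ellAt_inf (ell_zw hell))
  rw [hg1] at h
  obtain ⟨y, hy, he, -⟩ := St.exists_cm_elt Φ.V.mem Φ.V.sq Φ.V.ne Φ.V.nez
    (isPGroup_cj g (Φ.N₀_l.to_le inf_le_left))
    (mem_normalizer_cj (by
      rw [show g⁻¹ * Φ.V.w * g = St.z by rw [← hg2]; group]
      exact mem_normalizer_inf Φ.zN₀ (mem_normalizer_centralizer Φ.comm_zw))) h
  refine (St.ellAt_conj g).1 ?_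
  rw [hg1]
  exact St.ellAt_z.2 ⟨y, by rw [R, cj_cm, hg2]; exact hy, he⟩

theorem card_R : Nat.card (Φ.R Φ.V.w) = Nat.card (Φ.R (St.z * Φ.V.w)) := by
  obtain ⟨c, hcM, hcC, hc⟩ := St.nc_conj Φ.cov_M Φ.V.mem Φ.V.zw_mem Φ.V.sq Φ.V.ne Φ.V.nez Φ.V.zw_sq Φ.V.zw_ne
    Φ.V.zw_nez (Subgroup.le_normalizer Φ.wM) (Or.inr ⟨Φ.wM, Φ.M.mul_mem Φ.zM Φ.wM⟩)
  have e : cj c (Φ.R Φ.V.w) = Φ.R (St.z * Φ.V.w) := by
    rw [R, cj_cm, (St.mem_C.1 hcC).eq, mul_inv_cancel_right, cj_inf, cj_eq_of_mem hcM, cj_centralizer, hc, R]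
  rw [← e, card_cj]

theorem om_cj {n : G} (hn : n * St.z * n⁻¹ = Φ.V.w ∨ n * St.z * n⁻¹ = St.z * Φ.V.w)
    (h1 : n⁻¹ * St.z * n ∈ normalizer (Φ.P : Set G)) (h2 : n⁻¹ * Φ.V.w * n ∈ normalizer (Φ.P : Set G))
    (hR : Φ.R (St.z * Φ.V.w) ≤ cj n Φ.P) : Φ.Om (cj n Φ.P) := by
  refine ⟨⟨isPGroup_cj n Φ.P_l, mem_normalizer_cj h1, mem_normalizer_cj h2⟩, fun Q' hQ' hle => ?_, hR,
    fun e heC hew h => ?_⟩
  · have := Φ.P_max (isPGroup_cj n⁻¹ hQ'.1) (cj_le_iff.1 hle)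
    refine le_antisymm hle ?_
    rw [this, cj_cj, mul_inv_cancel, cj_one]
  · set b := n * St.z * n⁻¹ with hb
    have hbz : b ≠ St.z := by
      rcases hn with h | h <;> rw [h]
      exacts [Φ.V.nez, Φ.V.zw_nez]
    have heb : Commute e b := by
      rcases hn with h | h <;> rw [h]
      exacts [hew, (St.mem_C.1 heC).mul_right hew]
    have hbC : Commute St.z b := by
      rcases hn with h | h <;> rw [h]
      exacts [Φ.V.comm.symm, Φ.comm_zw]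
    have hm : e⁻¹ * n ∈ normalizer (Φ.P : Set G) :=
      mem_normalizer_of_cj (by rw [← cj_cj, ← h, cj_cj, inv_mul_cancel, cj_one])
    have e1 : e⁻¹ * n * St.z * (e⁻¹ * n)⁻¹ = b := by
      rw [show e⁻¹ * n * St.z * (e⁻¹ * n)⁻¹ = e⁻¹ * b * e by rw [hb]; group, mul_assoc, ← heb.eq, inv_mul_cancel_left]
    refine hbz (e1 ▸ key hell Φ.P_l Φ.zP Φ.cm_P hm ?_)
    rw [e1]
    exact hbC

theorem exists_Om : ∃ Q, Φ.Om Q := by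
  obtain ⟨h, hh1, hh2⟩ := St.exists_pair Φ.V.mem Φ.V.sq Φ.V.ne Φ.V.nez Φ.V.zw_sq Φ.V.zw_ne St.z_sq St.z_ne
    Φ.V.zw_nez.symm Φ.comm_zw.symm
  set Y := cj h (Φ.R (St.z * Φ.V.w)) with hY
  have hYC : Y ≤ St.C := by
    refine (cj_mono h (Φ.R_le_cent Φ.comm_zw)).trans ?_
    rw [cj_centralizer, hh1]
  have hwY : Φ.V.w ∈ normalizer (Y : Set G) := mem_normalizer_cj (by
    rw [show h⁻¹ * Φ.V.w * h = St.z by rw [← hh2]; group]; exact Φ.zR)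
  obtain ⟨T₁, hT₁, -, hconj⟩ := St.exists_inv_sylow St.cov_top Φ.V.mem Φ.V.sq Φ.V.ne Φ.V.nez
    (mem_normalizer_fintype fun _ _ => mem_top _)
  have htop : (⊤ : Subgroup G) ⊓ St.C = St.C := top_inf_eq _
  rw [htop] at hconj
  obtain ⟨c₁, -, hc₁C, hc₁w, hc₁Y, -⟩ :=
    hconj Y hYC ((isPGroup_cj h (Φ.N₀_l.to_le (Φ.R_le_N₀ Φ.comm_zw)))) hwY
  obtain ⟨c₀, -, hc₀C, hc₀w, -, hc₀T⟩ := hconj Φ.T Φ.T_le_C Φ.hT.2.1 Φ.wT
  have e := hc₀T Φ.T Φ.T_sylow rfl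
  set c := c₀⁻¹ * c₁ with hc
  have hcw : Commute c Φ.V.w := hc₀w.inv_left.mul_left hc₁w
  have hcC : c ∈ St.C := mul_mem (inv_mem hc₀C) hc₁C
  have hcY : cj c Y ≤ Φ.T := by
    rw [hc, ← cj_cj]
    calc cj c₀⁻¹ (cj c₁ Y) ≤ cj c₀⁻¹ T₁ := cj_mono _ hc₁Y
      _ = Φ.T := by rw [← e, cj_cj, inv_mul_cancel, cj_one]
  have hz : (c * h)⁻¹ * St.z * (c * h) = St.z * Φ.V.w := by
    rw [show (c * h)⁻¹ * St.z * (c * h) = h⁻¹ * (c⁻¹ * (St.z * c)) * h by group,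
      ← (St.mem_C.1 hcC).eq, inv_mul_cancel_left]
    conv_lhs => rw [← hh1]
    group
  have hw : (c * h)⁻¹ * Φ.V.w * (c * h) = St.z := by
    rw [show (c * h)⁻¹ * Φ.V.w * (c * h) = h⁻¹ * (c⁻¹ * (Φ.V.w * c)) * h by group, ← hcw.eq,
      inv_mul_cancel_left, ← hh2]
    group
  refine ⟨cj (c * h)⁻¹ Φ.P, om_cj hell (Or.inr (by rw [inv_inv, hz])) ?_ ?_ ?_⟩
  · have e1 : c * h * St.z * (c * h)⁻¹ = Φ.V.w := by
      rw [show c * h * St.z * (c * h)⁻¹ = c * (h * St.z * h⁻¹) * c⁻¹ by group, hh2, hcw.eq, mul_inv_cancel_right]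
    rw [inv_inv, e1]
    exact Φ.wP
  · have e2 : c * h * Φ.V.w * (c * h)⁻¹ = St.z * Φ.V.w := by
      have hh3 : h * Φ.V.w * h⁻¹ = Φ.V.w * St.z := by
        calc h * Φ.V.w * h⁻¹ = (h * St.z * h⁻¹) * (h * (St.z * Φ.V.w) * h⁻¹) := by
              rw [show (h * St.z * h⁻¹) * (h * (St.z * Φ.V.w) * h⁻¹) = h * (St.z * St.z * Φ.V.w) * h⁻¹ by group,
                St.z_sq, one_mul]
          _ = _ := by rw [hh1, hh2]
      rw [show c * h * Φ.V.w * (c * h)⁻¹ = c * (h * Φ.V.w * h⁻¹) * c⁻¹ by group, hh3, Φ.V.comm.eq,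
        ((St.mem_C.1 hcC).mul_right hcw).eq, mul_inv_cancel_right]
    rw [inv_inv, e2]
    exact mul_mem Φ.zP Φ.wP
  · exact (cj_le_iff (g := c * h)).1 (by rw [← cj_cj]; exact hcY.trans le_sup_right)

omit hell in
theorem no_bigger {Q D : Subgroup G} (hmax : ∀ Q', Φ.Om Q' → Nat.card ↥(Φ.P ⊓ Q') ≤ Nat.card D) (hQ : Φ.Om Q)
    {d : G} (hdC : d ∈ St.C) (hdw : Commute d Φ.V.w) (hR : Φ.R (St.z * Φ.V.w) ≤ cj d Φ.P) :
    Nat.card ↥(cj d Φ.P ⊓ Q) ≤ Nat.card D := by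
  obtain ⟨⟨hQl, hzQ, hwQ⟩, hQmax, hQR, hQne⟩ := hQ
  have hdzw : Commute d (St.z * Φ.V.w) := (St.mem_C.1 hdC).mul_right hdw
  have hRd : cj d⁻¹ (Φ.R (St.z * Φ.V.w)) = Φ.R (St.z * Φ.V.w) := by
    refine Subgroup.eq_of_le_of_card_ge ?_ (card_cj _ _).ge
    have h1 : cj d⁻¹ (Φ.R (St.z * Φ.V.w)) ≤ Φ.P ⊓ Subgroup.centralizer ({St.z * Φ.V.w} : Set G) := by
      refine le_inf ?_ ?_
      · refine (cj_mono d⁻¹ hR).trans ?_
        rw [cj_cj, inv_mul_cancel, cj_one]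
      · refine (cj_mono d⁻¹ (Φ.R_le_cent Φ.comm_zw)).trans ?_
        rw [cj_centralizer, hdzw.inv_left.eq, mul_inv_cancel_right]
    have h2 := cm_mono (z := St.z) h1
    have e : ∀ Y : Subgroup G, cm St.z (cj d⁻¹ Y) = cj d⁻¹ (cm St.z Y) := fun Y => by
      rw [cj_cm, (St.mem_C.1 hdC).inv_left.eq, mul_inv_cancel_right]
    rwa [Φ.R_eq Φ.comm_zw, e, Φ.cm_R Φ.comm_zw] at h2
  have hn : ∀ {b : G}, Commute d b → b ∈ normalizer (Q : Set G) → b ∈ normalizer (cj d⁻¹ Q : Set G) :=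
    fun {b} h hb => mem_normalizer_cj (by
      rwa [inv_inv, h.eq, mul_inv_cancel_right])
  have hQ' : Φ.Om (cj d⁻¹ Q) := by
    refine ⟨⟨isPGroup_cj _ hQl, hn (St.mem_C.1 hdC) hzQ, hn hdw hwQ⟩, fun Q₁ hQ₁ hle => ?_, ?_, fun e heC hew h => ?_⟩
    · have hle' : Q ≤ cj d Q₁ := by
        calc Q = cj d (cj d⁻¹ Q) := by rw [cj_cj, mul_inv_cancel, cj_one]
          _ ≤ cj d Q₁ := cj_mono d hle
      have hn' : ∀ {b : G}, Commute d b → b ∈ normalizer (Q₁ : Set G) → b ∈ normalizer (cj d Q₁ : Set G) :=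
        fun {b} h hb => mem_normalizer_cj (by rwa [mul_assoc, ← h.eq, inv_mul_cancel_left])
      rw [hQmax _ ⟨isPGroup_cj _ hQ₁.1, hn' (St.mem_C.1 hdC) hQ₁.2.1, hn' hdw hQ₁.2.2⟩ hle', cj_cj, inv_mul_cancel,
        cj_one]
    · calc Φ.R (St.z * Φ.V.w) = cj d⁻¹ (Φ.R (St.z * Φ.V.w)) := hRd.symm
        _ ≤ cj d⁻¹ Q := cj_mono _ hQR
    · refine hQne (d * e) (mul_mem hdC heC) (hdw.mul_left hew) ?_
      rw [← cj_cj, h, cj_cj, mul_inv_cancel, cj_one]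
  refine le_of_eq_of_le ?_ (hmax _ hQ')
  rw [← card_cj d⁻¹, cj_inf, cj_cj, inv_mul_cancel, cj_one]

omit hell in
theorem glue {D Q : Subgroup G} (hmax : ∀ Q', Φ.Om Q' → Nat.card ↥(Φ.P ⊓ Q') ≤ Nat.card D)
    (hR : Φ.R (St.z * Φ.V.w) ≤ D) (hDP : D ≤ Φ.P) (hQ : Φ.Om Q) (hDQ : D ≤ Q) {J : Subgroup G}
    (hJ : Odd (Nat.card J)) (hzJ : St.z ∈ normalizer (J : Set G)) (hwJ : Φ.V.w ∈ normalizer (J : Set G))
    (hDJ : D ≤ J) {k k' : G} (hk : k ∈ J) (hkP : k ∈ Φ.P) (hkD : k ∉ D) (hk' : k' ∈ J) (hkQ : k' ∈ Q)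
    (hkD' : k' ∉ D) : False := by
  haveI := Fact.mk Γ.hl
  haveI : Fact (Nat.Prime 2) := ⟨Nat.prime_two⟩
  set W := Φ.V.W with hW
  have hWJ : W ≤ normalizer (J : Set G) := Φ.V.W_le hzJ hwJ
  have hcop : (Nat.card W).Coprime (Nat.card J) := by
    obtain ⟨a, ha⟩ := IsPGroup.iff_card.1 Φ.V.W_l
    rw [ha]
    exact (Nat.coprime_two_left.2 hJ).pow_left a
  haveI : Group.IsNilpotent W := Φ.V.W_l.isNilpotent
  have hsolv : Group.IsSolvable W ∨ Group.IsSolvable J := Or.inl inferInstance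
  have hWn : ∀ {Q₀ : Subgroup G}, St.z ∈ normalizer (Q₀ : Set G) → Φ.V.w ∈ normalizer (Q₀ : Set G) →
      W ≤ normalizer ((J ⊓ Q₀ : Subgroup G) : Set G) := fun h1 h2 =>
    Φ.V.W_le (mem_normalizer_inf hzJ h1) (mem_normalizer_inf hwJ h2)
  obtain ⟨J₁, hJ₁, hWJ₁, hPJ₁⟩ := Grp.exists_invariant_sylow_ge W J hWJ hcop hsolv (U := J ⊓ Φ.P) inf_le_left
    (Φ.P_l.to_le inf_le_right) (hWn Φ.zP Φ.wP)
  obtain ⟨J₂, hJ₂, hWJ₂, hQJ₂⟩ := Grp.exists_invariant_sylow_ge W J hWJ hcop hsolv (U := J ⊓ Q) inf_le_left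
    (hQ.1.1.to_le inf_le_right) (hWn hQ.1.2.1 hQ.1.2.2)
  obtain ⟨j, hj, hjeq⟩ := Grp.invariant_sylow_conj W J hWJ hcop hsolv hJ₂ hJ₁ hWJ₂ hWJ₁
  have hjz : Commute j St.z := (Subgroup.mem_centralizer_iff.1 hj.2 _ Φ.V.z_mem_W).symm
  have hjw : Commute j Φ.V.w := (Subgroup.mem_centralizer_iff.1 hj.2 _ Φ.V.w_mem_W).symm
  obtain ⟨P', ⟨hP', hJP'⟩, hP'max⟩ := Set.exists_max_image {Q' : Subgroup G | Φ.VInv Q' ∧ J₁ ≤ Q'}
    (fun Q' => Nat.card Q') (Set.toFinite _) ⟨J₁, ⟨hJ₁.2.1, hWJ₁ Φ.V.z_mem_W, hWJ₁ Φ.V.w_mem_W⟩, le_rfl⟩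
  have hDJ₁ : D ≤ J₁ := (le_inf hDJ hDP).trans hPJ₁
  by_cases hcl : ∃ e ∈ St.C, Commute e Φ.V.w ∧ cj e Φ.P = P'
  · obtain ⟨e, heC, hew, he⟩ := hcl
    have hdC : j⁻¹ * e ∈ St.C := mul_mem (inv_mem (St.mem_C.2 hjz)) heC
    have hle : J ⊓ Q ≤ cj (j⁻¹ * e) Φ.P := by
      rw [← cj_cj, he]
      refine le_trans hQJ₂ (le_trans (Eq.le ?_) (cj_mono j⁻¹ hJP'))
      rw [← hjeq, ← Grp.map_conj_eq_smul]
      show J₂ = cj j⁻¹ (cj j J₂)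
      rw [cj_cj, inv_mul_cancel, cj_one]
    have h := no_bigger hmax hQ hdC (hjw.inv_left.mul_left hew) ((hR.trans (le_inf hDJ hDQ)).trans hle)
    have hlt : D < J ⊓ Q := lt_of_le_of_ne (le_inf hDJ hDQ) fun e' => hkD' (e'.symm ▸ ⟨hk', hkQ⟩ : k' ∈ D)
    have h2 : Nat.card D < Nat.card ↥(J ⊓ Q) :=
      lt_of_le_of_ne (Subgroup.card_le_of_le hlt.le) fun e' => hlt.ne (Subgroup.eq_of_le_of_card_ge hlt.le e'.ge)
    have h3 : Nat.card ↥(J ⊓ Q) ≤ Nat.card ↥(cj (j⁻¹ * e) Φ.P ⊓ Q) :=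
      Subgroup.card_le_of_le (le_inf hle inf_le_right)
    omega
  · push Not at hcl
    have hOm : Φ.Om P' := ⟨hP', fun Q' hQ' hle =>
      Subgroup.eq_of_le_of_card_ge hle (hP'max Q' ⟨hQ', hJP'.trans hle⟩), (hR.trans hDJ₁).trans hJP', hcl⟩
    have h := hmax P' hOm
    have hlt : D < J ⊓ Φ.P := lt_of_le_of_ne (le_inf hDJ hDP) fun e' => hkD (e'.symm ▸ ⟨hk, hkP⟩ : k ∈ D)
    have h2 : Nat.card D < Nat.card ↥(J ⊓ Φ.P) :=
      lt_of_le_of_ne (Subgroup.card_le_of_le hlt.le) fun e' => hlt.ne (Subgroup.eq_of_le_of_card_ge hlt.le e'.ge)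
    have h3 : Nat.card ↥(J ⊓ Φ.P) ≤ Nat.card ↥(Φ.P ⊓ P') :=
      Subgroup.card_le_of_le (le_inf inf_le_right (hPJ₁.trans hJP'))
    omega

end Frame

/-- A minimal invariant section of the signalizer elliptic at `w`. -/
structure UA (Φ : Frame St) where
  A : Subgroup G
  A₀ : Subgroup G
  le : A₀ ≤ A
  le_U : A ≤ Φ.U
  comm : ⁅A, Φ.U⁆ ≤ A₀
  pow : ∀ a ∈ A, a ^ l ∈ A₀
  norm : normalizer (Φ.U : Set G) ⊓ St.C ≤ normalizer (A : Set G)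
  norm₀ : normalizer (Φ.U : Set G) ⊓ St.C ≤ normalizer (A₀ : Set G)
  Unorm : Φ.U ≤ normalizer (A : Set G)
  Unorm₀ : Φ.U ≤ normalizer (A₀ : Set G)
  ell : St.EllAt Φ.V.w A
  nell : ¬ St.EllAt Φ.V.w A₀

theorem Frame.exists_UA (Φ : Frame St) (hell : St.EllAt Φ.V.w Φ.U) : Nonempty (UA Φ) := by
  haveI := Fact.mk Γ.hl
  obtain ⟨A, A₀, hAU, h0, hA, hA0, hcomm, hpow, hn, hn₀⟩ := exists_layer Φ.U_l
    (H := normalizer (Φ.U : Set G) ⊓ St.C) inf_le_left (St.EllAt Φ.V.w) hell (not_ellAt_bot _)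
  exact ⟨⟨A, A₀, h0, hAU, hcomm, hpow, le_sup_right.trans hn, le_sup_right.trans hn₀, le_sup_left.trans hn,
    le_sup_left.trans hn₀, hA, hA0⟩⟩

namespace UA

variable {Φ : Frame St} (Λ : UA Φ)

theorem P_le : Φ.P ≤ normalizer (Λ.A : Set G) := sup_le Λ.Unorm (Φ.hT.1.trans Λ.norm)

theorem P_le₀ : Φ.P ≤ normalizer (Λ.A₀ : Set G) := sup_le Λ.Unorm₀ (Φ.hT.1.trans Λ.norm₀)

theorem A_le_P : Λ.A ≤ Φ.P := Λ.le_U.trans le_sup_left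

/-- Ellipticity at the other involutions. -/
theorem ell_b {b : G} (hbU : b ∈ normalizer (Φ.U : Set G)) (hbC : b ∈ St.C) (hb : b * b = 1) (hb1 : b ≠ 1)
    (hbz : b ≠ St.z) : St.EllAt b Λ.A ∧ ¬ St.EllAt b Λ.A₀ := by
  obtain ⟨c, hcU, hcC, hc⟩ := St.nc_conj Φ.good.2.1 Φ.V.mem hbC Φ.V.sq Φ.V.ne Φ.V.nez hb hb1 hbz
    (Subgroup.le_normalizer Φ.wU) (Or.inr ⟨Φ.wU, hbU⟩)
  refine ⟨?_, fun h => Λ.nell ((St.ellAt_conj c).1 ?_)⟩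
  · have := (St.ellAt_conj c).2 Λ.ell
    rwa [cj_eq_of_mem (Λ.norm ⟨hcU, hcC⟩), hc] at this
  · rwa [cj_eq_of_mem (Λ.norm₀ ⟨hcU, hcC⟩), hc]

theorem lay {Vb : St.Four} (hb : Vb.w ∈ normalizer (Φ.U : Set G)) {g : G} (hgz : g * St.z * g⁻¹ = Vb.w)
    (hgb : g * Vb.w * g⁻¹ = St.z) : Lay Vb (cj g Λ.A) (cj g Λ.A₀) where
  le := cj_mono g Λ.le
  pgrp := isPGroup_cj g (Φ.U_l.to_le Λ.le_U)
  comm := by
    rw [cj, ← Subgroup.map_commutator]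
    exact Subgroup.map_mono ((Subgroup.commutator_mono le_rfl Λ.le_U).trans Λ.comm)
  pow := by
    rintro _ ⟨a, ha, rfl⟩
    rw [← map_pow]
    exact ⟨a ^ l, Λ.pow a ha, rfl⟩
  zA := mem_normalizer_cj (by
    rw [← hgb, show g⁻¹ * (g * Vb.w * g⁻¹) * g = Vb.w by group]; exact Λ.norm ⟨hb, Vb.mem⟩)
  wA := mem_normalizer_cj (by
    rw [← hgz, show g⁻¹ * (g * St.z * g⁻¹) * g = St.z by group]; exact Λ.norm ⟨Φ.zU, St.z_mem⟩)
  zA₀ := mem_normalizer_cj (by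
    rw [← hgb, show g⁻¹ * (g * Vb.w * g⁻¹) * g = Vb.w by group]; exact Λ.norm₀ ⟨hb, Vb.mem⟩)
  wA₀ := mem_normalizer_cj (by
    rw [← hgz, show g⁻¹ * (g * St.z * g⁻¹) * g = St.z by group]; exact Λ.norm₀ ⟨Φ.zU, St.z_mem⟩)
  ell := by
    have := (St.ellAt_conj g).2 (Λ.ell_b hb Vb.mem Vb.sq Vb.ne Vb.nez).1
    rwa [hgb] at this
  nell := fun h => (Λ.ell_b hb Vb.mem Vb.sq Vb.ne Vb.nez).2 ((St.ellAt_conj g).1 (by rwa [hgb]))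

/-- No element elliptic at `z` of the normalizer of `U` fixes the functional at `b`. -/
theorem l1 {Vb : St.Four} (hb : Vb.w ∈ normalizer (Φ.U : Set G)) {g : G} (hgz : g * St.z * g⁻¹ = Vb.w)
    (hgb : g * Vb.w * g⁻¹ = St.z) {y : St.C} (hy : (y : G) ∈ normalizer (Φ.U : Set G)) (he : Γ.Elt (St.φ y))
    (hfix : g * (y : G) * g⁻¹ ∈ (Λ.lay hb hgz hgb).fixer) : False := by
  have hgg : g * g ∈ St.C := St.mem_C.2 (by
    show g * g * St.z = St.z * (g * g)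
    calc g * g * St.z = g * (g * St.z * g⁻¹) * g⁻¹ * (g * g) := by group
      _ = St.z * (g * g) := by rw [hgz]; exact congrArg (· * (g * g)) hgb)
  set H := normalizer (Φ.U : Set G) ⊓ St.C with hH
  have e : g⁻¹ * ((⟨g * g, hgg⟩ * y * (⟨g * g, hgg⟩ : St.C)⁻¹ : St.C) : G) * g = g * (y : G) * g⁻¹ := by
    simp only [Subgroup.coe_mul, InvMemClass.coe_inv]; group
  refine (Λ.lay hb hgz hgb).l1 (C₀ := cj g H) (fun x hx => mem_normalizer_cj (Λ.norm (mem_cj.1 hx)))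
    (fun x hx => mem_normalizer_cj (Λ.norm₀ (mem_cj.1 hx))) ?_ ?_ hgz hgb ?_
    (y := ⟨g * g, hgg⟩ * y * (⟨g * g, hgg⟩ : St.C)⁻¹) ?_ (by rw [map_mul, map_mul, map_inv]; exact Γ.elt_conj he _)
    ?_
  · exact hgb ▸ conj_mem_cj (show Vb.w ∈ H from ⟨hb, Vb.mem⟩)
  · exact hgz ▸ conj_mem_cj (show St.z ∈ H from ⟨Φ.zU, St.z_mem⟩)
  · rw [cj_cj]; exact St.cov_cj hgg (St.cov_inf Φ.good.2.1)
  · rw [mem_cj, e]; exact conj_mem_cj ⟨hy, y.2⟩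
  · intro a ha
    rw [e]
    exact hfix.2 a ha

end UA

end Sett

end Cfsg.Agent.Invol.AbgOrder.Ell
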