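import Cfsg.Agent.Lib.Invol.AbgOrder.EllMax

/-!
# The normalizer of a maximal meet

The cases where it acts trivially on the four-group, or moves only `w`.
-/

set_option autoImplicit false
set_option linter.unusedSectionVars false
set_option linter.style.haveILetI false

namespace Cfsg.Agent.Invol.AbgOrder.Ell

open Subgroup Matrix Cfsg.Agent.Classical
open scoped commutatorElement

universe u v

namespace Sett

variable {G : Type u} [Group G] [Finite G] {X : Type u} [Group X] [Finite X] {F : Type v} [Field F] [Fintype F]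
  {l : ℕ} {Γ : Gam X F l} {St : Sett G Γ}

/-- A maximal meet of `P` with a candidate. -/
structure Meet (Φ : Frame St) where
  Q : Subgroup G
  om : Φ.Om Q
  max : ∀ Q', Φ.Om Q' → Nat.card ↥(Φ.P ⊓ Q') ≤ Nat.card ↥(Φ.P ⊓ Q)

namespace Frame

theorem exists_meet {Φ : Frame St} (hell : St.EllAt Φ.V.w Φ.U) : Nonempty (Meet Φ) := by
  obtain ⟨Q, hQ, hmax⟩ := Set.exists_max_image {Q | Φ.Om Q} (fun Q' => Nat.card ↥(Φ.P ⊓ Q')) (Set.toFinite _)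
    (exists_Om hell)
  exact ⟨⟨Q, hQ, hmax⟩⟩

end Frame

namespace Meet

variable {Φ : Frame St} (μ : Meet Φ)

/-- The meet. -/
def D : Subgroup G := Φ.P ⊓ μ.Q

theorem D_le_P : μ.D ≤ Φ.P := inf_le_left

theorem D_le_Q : μ.D ≤ μ.Q := inf_le_right

theorem D_l : IsPGroup l μ.D := Φ.P_l.to_le inf_le_left

theorem zD : St.z ∈ normalizer (μ.D : Set G) := mem_normalizer_inf Φ.zP μ.om.1.2.1

theorem wD : Φ.V.w ∈ normalizer (μ.D : Set G) := mem_normalizer_inf Φ.wP μ.om.1.2.2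

theorem R_le : Φ.R (St.z * Φ.V.w) ≤ μ.D := le_inf (Φ.R_le_P Φ.comm_zw) μ.om.2.2.1

theorem ne_P : Φ.P ≠ μ.Q := fun e => μ.om.2.2.2 1 (one_mem _) (Commute.one_left _) (by rw [cj_one, e])

theorem exists_out : (∃ k ∈ normalizer (μ.D : Set G), k ∈ Φ.P ∧ k ∉ μ.D) ∧
    ∃ k ∈ normalizer (μ.D : Set G), k ∈ μ.Q ∧ k ∉ μ.D := by
  haveI := Fact.mk Γ.hl
  have key : ∀ {R : Subgroup G}, IsPGroup l R → μ.D ≤ R → μ.D ≠ R →
      ∃ k ∈ normalizer (μ.D : Set G), k ∈ R ∧ k ∉ μ.D := fun hR hle hne => by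
    obtain ⟨x, ⟨h1, h2⟩, h3⟩ := SetLike.exists_of_lt (M22Ord.lt_normalizer_inf hR hle hne)
    exact ⟨x, h1, h2, h3⟩
  refine ⟨key Φ.P_l μ.D_le_P fun e => μ.ne_P (Φ.P_max μ.om.1.1 (inf_eq_left.1 e)),
    key μ.om.1.1 μ.D_le_Q fun e => μ.ne_P ?_⟩
  exact (μ.om.2.1 Φ.P Frame.vinv_P (inf_eq_right.1 e)).symm

/-- The contradiction: two elements outside joined by an invariant subgroup of odd order. -/
theorem glue' {Q' : Subgroup G} (hQ' : Φ.Om Q') (hDQ : μ.D ≤ Q') {J : Subgroup G} (hJ : Odd (Nat.card J))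
    (hzJ : St.z ∈ normalizer (J : Set G)) (hwJ : Φ.V.w ∈ normalizer (J : Set G)) (hDJ : μ.D ≤ J) {k k' : G}
    (hk : k ∈ J) (hkP : k ∈ Φ.P) (hkD : k ∉ μ.D) (hk' : k' ∈ J) (hkQ : k' ∈ Q') (hkD' : k' ∉ μ.D) : False :=
  Frame.glue μ.max μ.R_le μ.D_le_P hQ' hDQ hJ hzJ hwJ hDJ hk hkP hkD hk' hkQ hkD'

/-- The normalizer of the meet centralises the four-group. -/
theorem case_trivial (h : ∀ x ∈ normalizer (μ.D : Set G), x ∈ normalizer (Φ.V.W : Set G) →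
    Commute x St.z ∧ Commute x Φ.V.w) : False := by
  haveI : Fact (Nat.Prime 2) := ⟨Nat.prime_two⟩
  set H := normalizer (μ.D : Set G) with hH
  have hWH : Φ.V.W ≤ H := Φ.V.W_le μ.zD μ.wD
  obtain ⟨S, hSH, hWS, hS, hcard⟩ := HallFour.exists_full_ge hWH Φ.V.W_l
  have hSW : Φ.V.W = S := by
    by_contra hne
    obtain ⟨x, ⟨hxn, hxS⟩, hxW⟩ := SetLike.exists_of_lt (M22Ord.lt_normalizer_inf hS hWS hne)
    obtain ⟨hxz, hxw⟩ := h x (hSH hxS) hxn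
    obtain ⟨k, hk⟩ := hS ⟨x, hxS⟩
    exact hxW (Φ.V.mem_W.2 (St.two_cen Φ.V.mem Φ.V.sq Φ.V.ne Φ.V.nez (congrArg Subtype.val hk) hxz hxw))
  let S' : Sylow 2 H := Sylow.ofCard (Φ.V.W.subgroupOf H) (by
    rw [Nat.card_congr (Subgroup.subgroupOfEquivOfLe hWH).toEquiv, hSW, hcard])
  have hS' : normalizer ((S' : Subgroup H) : Set H) ≤ centralizer ((S' : Subgroup H) : Set H) := by
    intro x hx
    have hxn : (x : G) ∈ normalizer (Φ.V.W : Set G) := mem_normalizer_fintype fun y hy =>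
      Subgroup.mem_subgroupOf.1 ((Subgroup.mem_normalizer_iff.1 hx ⟨y, hWH hy⟩).1 (Subgroup.mem_subgroupOf.2 hy))
    obtain ⟨hxz, hxw⟩ := h x x.2 hxn
    refine Subgroup.mem_centralizer_iff.2 fun y hy => Subtype.ext ?_
    show (y : G) * x = x * y
    rcases Φ.V.mem_W.1 (Subgroup.mem_subgroupOf.1 hy) with e | e | e | e <;> rw [e]
    exacts [(Commute.one_left _).eq, hxz.symm.eq, hxw.symm.eq, (hxz.mul_right hxw).symm.eq]
  set L := (MonoidHom.transferSylow S' hS').ker with hL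
  have hLn : L.Normal := inferInstance
  have hLodd : Odd (Nat.card L) := by
    rw [← Nat.not_even_iff_odd, even_iff_two_dvd]
    exact MonoidHom.not_dvd_card_ker_transferSylow S' hS'
  have hLidx : L.index = Nat.card S' := (MonoidHom.ker_transferSylow_isComplement' S' hS').symm.index_eq_card
  obtain ⟨a, ha⟩ := IsPGroup.iff_card.1 S'.isPGroup'
  set J := L.map H.subtype with hJdef
  have hJH : J ≤ H := Subgroup.map_subtype_le _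
  have hJodd : Odd (Nat.card J) := by rw [hJdef, Subgroup.card_subtype]; exact hLodd
  have hall : ∀ x ∈ H, Odd (orderOf x) → x ∈ J := fun x hx hodd => by
    haveI := hLn
    have h1 : (⟨x, hx⟩ : H) ^ 2 ^ a ∈ L := by rw [← ha, ← hLidx]; exact Subgroup.pow_index_mem L _
    obtain ⟨r, hr⟩ := exists_pow_eq_self_of_coprime
      ((Nat.coprime_two_left.2 (show Odd (orderOf (⟨x, hx⟩ : H)) by rwa [Subgroup.orderOf_mk])).pow_left a)
    exact ⟨⟨x, hx⟩, hr ▸ pow_mem h1 r, rfl⟩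
  obtain ⟨⟨k, hkH, hkP, hkD⟩, k', hkH', hkQ, hkD'⟩ := μ.exists_out
  refine μ.glue' μ.om μ.D_le_Q hJodd (mem_normalizer_oddPart hJH hJodd hall (Subgroup.le_normalizer μ.zD))
    (mem_normalizer_oddPart hJH hJodd hall (Subgroup.le_normalizer μ.wD))
    (fun x hx => hall x (Subgroup.le_normalizer hx) (odd_of_l (Γ := Γ) μ.D_l hx))
    (hall k hkH (odd_of_l (Γ := Γ) Φ.P_l hkP)) hkP hkD (hall k' hkH' (odd_of_l (Γ := Γ) μ.om.1.1 hkQ)) hkQ hkD'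

/-- The normalizer fixes `z` and interchanges `w` and `zw`. -/
theorem case_C (hell : St.EllAt Φ.V.w Φ.U) {h : G} (hH : h ∈ normalizer (μ.D : Set G))
    (hz : h * St.z * h⁻¹ = St.z) (hw : h * Φ.V.w * h⁻¹ = St.z * Φ.V.w) : False := by
  haveI := Fact.mk Γ.hl
  set H := normalizer (μ.D : Set G) with hHdef
  have hzw : h * (St.z * Φ.V.w) * h⁻¹ = Φ.V.w := by
    rw [show h * (St.z * Φ.V.w) * h⁻¹ = h * St.z * h⁻¹ * (h * Φ.V.w * h⁻¹) by group, hz, hw, ← mul_assoc, St.z_sq,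
      one_mul]
  -- `[C_D(w), z]` is all of `[C_{N₀}(w), z]`
  have hRw : Φ.R Φ.V.w ≤ μ.D := by
    have e : cm St.z (μ.D ⊓ Subgroup.centralizer ({Φ.V.w} : Set G)) = cj h (Φ.R (St.z * Φ.V.w)) := by
      have e0 : Φ.R (St.z * Φ.V.w) = cm St.z (μ.D ⊓ Subgroup.centralizer ({St.z * Φ.V.w} : Set G)) :=
        le_antisymm ((Φ.cm_R Φ.comm_zw).ge.trans (cm_mono (le_inf μ.R_le (Φ.R_le_cent Φ.comm_zw))))
          ((cm_mono (inf_le_inf_right _ μ.D_le_P)).trans (Φ.R_eq Φ.comm_zw).le)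
      rw [e0, cj_cm, cj_inf, cj_eq_of_mem hH, cj_centralizer, hzw, hz]
    have hle : cm St.z (μ.D ⊓ Subgroup.centralizer ({Φ.V.w} : Set G)) ≤ Φ.R Φ.V.w :=
      (cm_mono (inf_le_inf_right _ μ.D_le_P)).trans (Φ.R_eq Φ.V.comm.symm).le
    have heq := Subgroup.eq_of_le_of_card_ge hle (by rw [e, card_cj, Frame.card_R hell])
    rw [← heq]
    exact (cm_le (mem_normalizer_inf μ.zD (mem_normalizer_centralizer Φ.V.comm.symm))).trans inf_le_left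
  have hN₀D : Φ.N₀ ≤ μ.D := by
    refine (Eq.ge (cm_gen Γ.hl2 St.z_sq Φ.V.sq Φ.V.comm.symm.eq Φ.N₀_l Φ.zN₀ Φ.wM Φ.cm_N₀)).trans ?_
    exact sup_le hRw μ.R_le
  have hcm := Φ.cm_eq hN₀D μ.D_le_P
  -- `z` is isolated in `H`
  have hzH : St.z ∈ H := μ.zD
  have hz' : Cfsg.IsIsolatedInvolution (⟨St.z, hzH⟩ : H) :=
    ⟨by rw [Subgroup.orderOf_mk]; exact orderOf_eq_prime (by rw [sq, St.z_sq]) St.z_ne, fun g hg =>
      Subtype.ext (Frame.key hell μ.D_l μ.zD hcm g.2 (congrArg Subtype.val hg.eq))⟩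
  set OH := (Cfsg.pPrimeCore 2 H).map H.subtype with hOH
  have hOodd : Odd (Nat.card OH) := by rw [hOH, Subgroup.card_subtype]; exact odd_oddCore
  have hnorm : H ≤ normalizer (OH : Set G) := fun g hg => by
    haveI := Grp.pPrimeCore_isNormal (p := 2) (G := H)
    refine mem_normalizer_fintype ?_
    rintro _ ⟨y, hy, rfl⟩
    exact ⟨⟨g, hg⟩ * y * (⟨g, hg⟩ : H)⁻¹, (inferInstance : (Cfsg.pPrimeCore 2 H).Normal).conj_mem _ hy _, rfl⟩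
  obtain ⟨⟨k, hkH, hkP, hkD⟩, k₁, hkH₁, hkQ₁, hkD₁⟩ := μ.exists_out
  set Q₁ := H ⊓ μ.Q with hQ₁
  have hcomQ : cm St.z Q₁ ≤ OH := cm_le_of_comKer fun q hq => by
    refine ⟨hnorm hq.1, ⟨_, inv_mem (isolated_commutator_mem hz' (⟨q, hq.1⟩⁻¹ : H)), ?_⟩⟩
    show (St.z * q⁻¹ * St.z⁻¹ * q⁻¹⁻¹)⁻¹ = q⁻¹ * (St.z * q * St.z⁻¹)
    group
  have hzQ₁ : St.z ∈ normalizer (Q₁ : Set G) := mem_normalizer_inf (Subgroup.le_normalizer μ.zD) μ.om.1.2.1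
  have hwQ₁ : Φ.V.w ∈ normalizer (Q₁ : Set G) := mem_normalizer_inf (Subgroup.le_normalizer μ.wD) μ.om.1.2.2
  by_cases hQD : cm St.z Q₁ ≤ μ.D
  · have hQ₁odd : Odd (Nat.card Q₁) := odd_pgroup (μ.om.1.1.to_le inf_le_right) St
    have hDQ₁ : μ.D ≤ Q₁ := le_inf Subgroup.le_normalizer μ.D_le_Q
    have hcmQ : cm St.z Q₁ = Φ.N₀ := le_antisymm
      ((cm_cm St.z_sq hzQ₁ hQ₁odd).ge.trans ((cm_mono hQD).trans hcm.le)) (hcm.ge.trans (cm_mono hDQ₁))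
    have hQM : Q₁ ≤ Φ.M := by rw [Frame.M, ← hcmQ]; exact cm_normal
    -- a Sylow subgroup of `M ⊓ C`
    have hTM : Grp.IsSylowIn l Φ.T (Φ.M ⊓ St.C) := ⟨le_inf Φ.T_le_M Φ.T_le_C, Φ.hT.2.1, fun hd =>
      Φ.T_sylow.2.2 (hd.trans (Dvd.intro _ (Subgroup.relIndex_mul_relIndex Φ.T (Φ.M ⊓ St.C) St.C
        (le_inf Φ.T_le_M Φ.T_le_C) inf_le_right)))⟩
    obtain ⟨T₁, -, -, hconj⟩ := St.exists_inv_sylow Φ.cov_M Φ.V.mem Φ.V.sq Φ.V.ne Φ.V.nez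
      (Subgroup.le_normalizer Φ.wM)
    obtain ⟨c₁, hc₁M, hc₁C, hc₁w, hc₁Y, -⟩ := hconj (Q₁ ⊓ St.C) (inf_le_inf_right _ hQM)
      (μ.om.1.1.to_le (inf_le_left.trans inf_le_right))
      (mem_normalizer_inf hwQ₁ (Subgroup.le_normalizer Φ.V.mem))
    obtain ⟨c₀, hc₀M, hc₀C, hc₀w, -, hc₀T⟩ := hconj Φ.T hTM.1 Φ.hT.2.1 Φ.wT
    have e := hc₀T Φ.T hTM rfl
    set c := c₀⁻¹ * c₁ with hc
    have hcM : c ∈ Φ.M := Φ.M.mul_mem (Φ.M.inv_mem hc₀M) hc₁M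
    have hcY : cj c (Q₁ ⊓ St.C) ≤ Φ.T := by
      rw [hc, ← cj_cj]
      calc cj c₀⁻¹ (cj c₁ (Q₁ ⊓ St.C)) ≤ cj c₀⁻¹ T₁ := cj_mono _ hc₁Y
        _ = Φ.T := by rw [← e, cj_cj, inv_mul_cancel, cj_one]
    have hQ₁P : Q₁ ≤ cj c⁻¹ Φ.P := fun x hx => by
      rw [mem_cj, inv_inv]
      obtain ⟨m, hm, hxm⟩ := cm_split St.z_sq hzQ₁ hQ₁odd hx
      have h1 : c * (x * m) * c⁻¹ ∈ Φ.T := hcY (conj_mem_cj
        ⟨Q₁.mul_mem hx (cm_le hzQ₁ hm), St.mem_C.2 hxm.symm⟩)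
      have h2 : c * m⁻¹ * c⁻¹ ∈ Φ.N₀ := (Subgroup.mem_normalizer_iff.1 hcM _).1 (inv_mem (hcmQ ▸ hm))
      rw [show c * x * c⁻¹ = c * (x * m) * c⁻¹ * (c * m⁻¹ * c⁻¹) by group]
      exact Φ.P.mul_mem ((le_sup_right : Φ.T ≤ Φ.P) h1) (Φ.N₀_le_P h2)
    have hcC : c ∈ St.C := mul_mem (inv_mem hc₀C) hc₁C
    have hh := Frame.no_bigger μ.max μ.om (d := c⁻¹) (inv_mem hcC) (hc₀w.inv_left.mul_left hc₁w).inv_left
      ((μ.R_le.trans hDQ₁).trans hQ₁P)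
    have hlt : μ.D < Q₁ := lt_of_le_of_ne hDQ₁ fun e' => hkD₁ (e'.symm ▸ ⟨hkH₁, hkQ₁⟩ : k₁ ∈ μ.D)
    have h2 : Nat.card μ.D < Nat.card Q₁ :=
      lt_of_le_of_ne (Subgroup.card_le_of_le hlt.le) fun e' => hlt.ne (Subgroup.eq_of_le_of_card_ge hlt.le e'.ge)
    have h3 := Subgroup.card_le_of_le (show Q₁ ≤ cj c⁻¹ Φ.P ⊓ μ.Q from le_inf hQ₁P inf_le_right)
    have h4 : Nat.card μ.D = Nat.card ↥(Φ.P ⊓ μ.Q) := rfl
    omega
  · obtain ⟨k', hk', hkD'⟩ := SetLike.not_le_iff_exists.1 hQD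
    have hPH : H ⊓ Φ.P ≤ normalizer (OH : Set G) := inf_le_left.trans hnorm
    have hJodd : Odd (Nat.card ↥(OH ⊔ (H ⊓ Φ.P))) := by
      rw [sup_comm]
      exact ((Φ.P_odd.of_dvd_nat (Subgroup.card_dvd_of_le inf_le_right)).mul hOodd).of_dvd_nat
        (Grp.card_sup_dvd_mul hPH)
    refine μ.glue' μ.om μ.D_le_Q hJodd
      (mem_normalizer_sup (hnorm μ.zD) (mem_normalizer_inf (Subgroup.le_normalizer μ.zD) Φ.zP))
      (mem_normalizer_sup (hnorm μ.wD) (mem_normalizer_inf (Subgroup.le_normalizer μ.wD) Φ.wP))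
      ((le_inf Subgroup.le_normalizer μ.D_le_P).trans le_sup_right)
      (le_sup_right (a := OH) ⟨hkH, hkP⟩) hkP hkD (le_sup_left (b := H ⊓ Φ.P) (hcomQ hk'))
      ((cm_le hzQ₁).trans inf_le_right hk') hkD'

end Meet

end Sett

end Cfsg.Agent.Invol.AbgOrder.Ell
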