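import Cfsg.Agent.Lib.Invol.AbgOrder.EllFix

/-!
# An element of order `l` moves an invariant subgroup of odd order prime to `l`

Except an elliptic element in the case `q % 4 = 3`: a root group in the case `q % 4 = 1`, a subgroup of the elliptic
torus of prime order dividing `(q ± 1) / (q₀ ± 1)` for an element with field part.
-/

set_option autoImplicit false
set_option linter.unusedSectionVars false
set_option linter.style.haveILetI false

namespace Cfsg.Agent.Invol.AbgOrder.Ell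

open Matrix Subgroup Cfsg.Agent.Classical

universe u v

/-- The arithmetic: a prime different from `l` dividing `(x ^ l - 1) / (x - 1)`. -/
theorem exists_prim {l q₀ : ℕ} (hl : l.Prime) (hl2 : l ≠ 2) (h3 : 3 ≤ q₀) {x : ℤ}
    (hx : x = (q₀ : ℤ) ∨ x = -(q₀ : ℤ)) (hlx : (l : ℤ) ∣ x ^ l - 1) :
    ∃ s : ℕ, s.Prime ∧ s ≠ 2 ∧ s ≠ l ∧ (s : ℤ) ∣ x ^ l - 1 ∧ ¬ (s : ℤ) ∣ x - 1 := by
  haveI := Fact.mk hl
  have hl3 : 3 ≤ l := by have := hl.two_le; omega
  have hlx1 : (l : ℤ) ∣ x - 1 := by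
    have h : (x : ZMod l) ^ l = x := ZMod.pow_card _
    rw [← ZMod.intCast_zmod_eq_zero_iff_dvd] at hlx ⊢
    push_cast at hlx ⊢
    rwa [h] at hlx
  set R := ∑ i ∈ Finset.range l, x ^ i with hR
  have hgeo : R * (x - 1) = x ^ l - 1 := geom_sum_mul x l
  have hcong : ∀ d : ℤ, d ∣ x - 1 → d ∣ R - l := by
    intro d hd
    have : R - l = ∑ i ∈ Finset.range l, (x ^ i - 1) := by
      rw [Finset.sum_sub_distrib, Finset.sum_const, Finset.card_range, nsmul_eq_mul, mul_one]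
    rw [this]
    exact Finset.dvd_sum fun i _ => hd.trans (sub_one_dvd_pow_sub_one x i)
  -- `R` is divisible by `l` only once
  have hl2R : ¬ (l : ℤ) * l ∣ R := by
    obtain ⟨k, hk⟩ := hlx1
    have hp : ∀ i : ℕ, ((l : ℤ) * l) ∣ x ^ i - (1 + i * (l * k)) := by
      intro i
      induction i with
      | zero => simp
      | succ i ih =>
        have e : x ^ (i + 1) - (1 + ((i + 1 : ℕ) : ℤ) * (l * k)) =
            x * (x ^ i - (1 + i * (l * k))) + (l * l) * (i * k * k) := by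
          have hx' : x = 1 + l * k := by linarith
          rw [pow_succ]
          push_cast
          rw [hx']
          ring
        rw [e]
        exact dvd_add (ih.mul_left x) (dvd_mul_right _ _)
    intro hd
    have h1 : ((l : ℤ) * l) ∣ R - ∑ i ∈ Finset.range l, (1 + (i : ℤ) * (l * k)) := by
      rw [hR, ← Finset.sum_sub_distrib]
      exact Finset.dvd_sum fun i _ => hp i
    have h2 : (∑ i ∈ Finset.range l, (1 + (i : ℤ) * (l * k))) =
        l + (l * k) * ((∑ i ∈ Finset.range l, i : ℕ) : ℤ) := by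
      rw [Finset.sum_add_distrib, Finset.sum_const, Finset.card_range, nsmul_eq_mul, mul_one, ← Finset.sum_mul]
      push_cast
      ring
    have h3 : l ∣ ∑ i ∈ Finset.range l, i :=
      ((Nat.coprime_primes hl Nat.prime_two).2 hl2).dvd_of_dvd_mul_right
        (Finset.sum_range_id_mul_two l ▸ dvd_mul_right _ _)
    obtain ⟨c, hc⟩ := h3
    have h4 : ((l : ℤ) * l) ∣ (l : ℤ) := by
      have h5 := dvd_sub hd h1
      rw [sub_sub_cancel, h2, hc, show ((l * c : ℕ) : ℤ) = (l : ℤ) * c by push_cast; ring,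
        show (l : ℤ) * k * ((l : ℤ) * c) = (l : ℤ) * l * (k * c) by ring] at h5
      exact (dvd_add_left (dvd_mul_right _ _)).1 h5
    have h6 : l * l ∣ l := Int.natCast_dvd_natCast.1 (by exact_mod_cast h4)
    have := Nat.le_of_dvd hl.pos h6
    nlinarith
  -- `R` is large
  have hbig : l < R.natAbs := by
    by_contra hle
    have h1 : (x ^ l - 1).natAbs ≤ l * (q₀ + 1) := by
      rw [← hgeo, Int.natAbs_mul]
      exact Nat.mul_le_mul (by omega) (by rcases hx with rfl | rfl <;> omega)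
    have h2 : q₀ ^ l ≤ (x ^ l - 1).natAbs + 1 := by
      have : (x ^ l).natAbs = q₀ ^ l := by
        rw [Int.natAbs_pow]; rcases hx with rfl | rfl <;> simp
      omega
    have h3' : q₀ * (3 * l) ≤ q₀ ^ l := by
      obtain ⟨d, rfl⟩ : ∃ d, l = d + 1 := ⟨l - 1, by omega⟩
      rw [pow_succ']
      have h4 : ∀ c, 2 ≤ c → 3 * (c + 1) ≤ 3 ^ c := fun c hc => by
        induction c, hc using Nat.le_induction with
        | base => norm_num
        | succ e he ih => rw [pow_succ]; omega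
      exact Nat.mul_le_mul_left _ ((h4 d (by omega)).trans (Nat.pow_le_pow_left h3 d))
    nlinarith
  obtain ⟨s, hs, hsR, hsl⟩ : ∃ s : ℕ, s.Prime ∧ s ∣ R.natAbs ∧ s ≠ l := by
    by_contra hne
    push Not at hne
    obtain ⟨s, hs, hsR⟩ := Nat.exists_prime_and_dvd (n := R.natAbs) (by omega)
    obtain ⟨c, hc⟩ := hsR
    rw [hne s hs ⟨c, hc⟩] at hc
    have hc1 : 1 < c := by
      rcases Nat.eq_zero_or_pos c with h | h
      · rw [h, mul_zero] at hc; omega
      · rcases Nat.lt_or_ge 1 c with h' | h'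
        · exact h'
        · have : c = 1 := by omega
          rw [this, mul_one] at hc
          omega
    obtain ⟨t, ht, htc⟩ := Nat.exists_prime_and_dvd (n := c) (by omega)
    have htl : t = l := hne t ht (hc ▸ htc.mul_left l)
    exact hl2R (Int.dvd_natAbs.1 (by rw [hc]; exact_mod_cast Nat.mul_dvd_mul_left l (htl ▸ htc)))
  have hsR' : (s : ℤ) ∣ R := Int.natCast_dvd.2 hsR
  have hsx : ¬ (s : ℤ) ∣ x - 1 := fun h => by
    have h1 := dvd_sub hsR' (hcong _ h)
    rw [sub_sub_cancel] at h1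
    exact hsl ((Nat.prime_dvd_prime_iff_eq hs hl).1 (Int.natCast_dvd_natCast.1 h1))
  refine ⟨s, hs, ?_, hsl, hgeo ▸ hsR'.mul_right _, hsx⟩
  rintro rfl
  refine hsx ?_
  have hxo : (2 : ℤ) ∣ x ^ l - 1 := hgeo ▸ hsR'.mul_right _
  have : Odd (x ^ l) := by
    obtain ⟨c, hc⟩ := hxo
    exact ⟨c, by linarith⟩
  obtain ⟨c, hc⟩ := (Int.odd_pow' hl.ne_zero).1 this
  exact ⟨c, by push_cast; linarith⟩

namespace Gam

variable {X : Type u} [Group X] [Finite X] {F : Type v} [Field F] [Fintype F] {l : ℕ} (Γ : Gam X F l)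

local notation "SL₂" => Matrix.SpecialLinearGroup (Fin 2) F
local notation "GL₂" => GL (Fin 2) F
local notation "M₂" => Matrix (Fin 2) (Fin 2) F

/-- An elliptic element in the case `q % 4 ≠ 3` moves a root group which it normalises. -/
theorem move_split (h4 : Fintype.card F % 4 ≠ 3) {x : X} (hx : Γ.Elt x) :
    ∃ Y : Subgroup X, Odd (Nat.card Y) ∧ ¬ l ∣ Nat.card Y ∧ (∀ y ∈ Y, x * y * x⁻¹ ∈ Y) ∧
      ∃ y ∈ Y, ¬ Commute x y := by
  classical
  obtain ⟨s, rfl, hs1, hs, u, hu, hus, hns, -⟩ := Γ.elt_ι hx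
  have htu := tz_of_sq Γ.c.odd hu
  have hud : (u : M₂).det = 1 := u.2
  have hnu := not_scalar_of_tz Γ.two_ne htu (by rw [hud]; exact one_ne_zero)
  obtain ⟨i, hi⟩ : IsSquare (-1 : F) := by
    rw [FiniteField.isSquare_neg_one_iff]
    exact h4
  obtain ⟨h, huh, hhd⟩ := exists_anti Γ.two_ne htu (by rw [hud]; exact one_ne_zero)
  have huu : (u : M₂) * (u : M₂) = (-1 : F) • (1 : M₂) := by rw [htu.mul_self, hud]
  set n₀ : M₂ := ((u : M₂) - i • 1) * h with hn₀
  have hun : (u : M₂) * n₀ = (-i) • n₀ := by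
    rw [hn₀, ← mul_assoc, ← smul_mul_assoc]
    congr 1
    rw [mul_sub, mul_smul_comm, mul_one, huu, smul_sub, smul_smul, hi]
    module
  have hnu' : n₀ * (u : M₂) = i • n₀ := by
    have e : ((u : M₂) - i • 1) * (u : M₂) = (-i) • ((u : M₂) - i • 1) := by
      rw [sub_mul, smul_mul_assoc, one_mul, huu, smul_sub, smul_smul, hi]
      module
    rw [hn₀, mul_assoc, show h * (u : M₂) = -((u : M₂) * h) by rw [huh, neg_neg], mul_neg, ← mul_assoc, e,
      smul_mul_assoc, neg_smul, neg_neg]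
  have hh0 : h.det ≠ 0 := by rw [hhd]; exact neg_ne_zero.2 one_ne_zero
  have hn0 : n₀ ≠ 0 := fun e => hnu i (by
    have h1 := congrArg (· * h⁻¹) e
    simp only [hn₀, Matrix.mul_assoc, Matrix.mul_nonsing_inv _ (isUnit_iff_ne_zero.2 hh0), Matrix.mul_one,
      Matrix.zero_mul] at h1
    exact sub_eq_zero.1 h1)
  have hi0 : i ≠ 0 := fun e => by rw [e, mul_zero] at hi; exact neg_ne_zero.2 one_ne_zero hi
  have hdetn : n₀.det = 0 := by
    have e : ((u : M₂) - i • 1).det = 0 := by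
      rw [sub_eq_neg_add, ← neg_smul]
      have := det_lin htu (-i) 1
      rw [one_smul, hud] at this
      rw [this]
      linear_combination -hi
    rw [hn₀, Matrix.det_mul, e, zero_mul]
  have htr0 : TZ n₀ := by
    have hcay : n₀ * n₀ = (n₀ 0 0 + n₀ 1 1) • n₀ := by
      have hdet := hdetn
      rw [Matrix.det_fin_two] at hdet
      ext a b
      fin_cases a <;> fin_cases b <;> simp [Matrix.mul_apply, Fin.sum_univ_two] <;>
        first
          | linear_combination -hdet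
          | ring
    have e1 : n₀ * (u : M₂) * n₀ = n₀ * ((u : M₂) * n₀) := mul_assoc _ _ _
    rw [hnu', hun, smul_mul_assoc, mul_smul_comm, hcay, smul_smul, smul_smul] at e1
    have e2 : i * (n₀ 0 0 + n₀ 1 1) = -i * (n₀ 0 0 + n₀ 1 1) := smul_left_injective F hn0 e1
    exact (mul_eq_zero.1 (show ((2 : F) * i) * (n₀ 0 0 + n₀ 1 1) = 0 by linear_combination e2)).resolve_left
      (mul_ne_zero Γ.two_ne hi0)
  have hsq : n₀ * n₀ = 0 := by rw [htr0.mul_self, hdetn, neg_zero, zero_smul]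
  let f : Multiplicative F →* SL₂ :=
    { toFun := fun a => ⟨(1 : F) • (1 : M₂) + (Multiplicative.toAdd a) • n₀, by
        rw [det_lin htr0, hdetn]; ring⟩
      map_one' := Subtype.ext (by simp)
      map_mul' := fun a b => Subtype.ext (by
        show (1 : F) • (1 : M₂) + Multiplicative.toAdd (a * b) • n₀ = ((1 : F) • (1 : M₂) + (Multiplicative.toAdd a) • n₀) * ((1 : F) • (1 : M₂) + (Multiplicative.toAdd b) • n₀)
        simp only [toAdd_mul, add_mul, mul_add, smul_mul_assoc, mul_smul_comm, one_mul, mul_one, hsq, smul_zero,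
          one_smul, add_smul, add_zero]
        abel) }
  obtain ⟨p, hp⟩ := CharP.exists F
  obtain ⟨n, hpp, hn⟩ := FiniteField.card F p
  have hcard : Nat.card (f.range.map Γ.c.ι) ∣ Fintype.card F := by
    refine (Subgroup.card_map_dvd _ _).trans ((Subgroup.card_range_dvd f).trans ?_)
    rw [Nat.card_congr Multiplicative.toAdd, Nat.card_eq_fintype_card]
  have hsu : (s : M₂) * (u : M₂) = (u : M₂) * (s : M₂) := by
    have e := congrArg Subtype.val hus
    rw [cmul, cmul] at e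
    exact e.symm
  obtain ⟨α, β, hab⟩ := exists_lin hnu hsu
  have hc : (s : M₂) * n₀ = (α - i * β) • n₀ := by
    rw [hab, add_mul, smul_mul_assoc, one_mul, smul_mul_assoc, hun, smul_smul, ← add_smul]
    congr 1
    ring
  have hc' : n₀ * (s : M₂) = (α + i * β) • n₀ := by
    rw [hab, mul_add, mul_smul_comm, mul_one, mul_smul_comm, hnu', smul_smul, ← add_smul]
    congr 1
    ring
  have hdet : (α + i * β) * (α - i * β) = 1 := by
    have := s.2
    rw [hab, det_lin htu, hud] at this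
    linear_combination this + β ^ 2 * hi
  refine ⟨f.range.map Γ.c.ι, Γ.c.odd.of_dvd_nat hcard, fun hd => ?_, ?_, ?_⟩
  · exact ne_char Γ.hl Γ.hl2 Γ.hlt hpp n.pos hn
      ((Nat.prime_dvd_prime_iff_eq Γ.hl hpp).1 (Γ.hl.dvd_of_dvd_pow (hn ▸ hd.trans hcard)))
  · rintro _ ⟨_, ⟨a, rfl⟩, rfl⟩
    refine ⟨f (Multiplicative.ofAdd ((α - i * β) * (α - i * β) * Multiplicative.toAdd a)), ⟨_, rfl⟩, ?_⟩
    rw [← map_inv, ← map_mul, ← map_mul]
    refine congrArg _ (eq_mul_inv_of_mul_eq (Subtype.ext ?_))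
    rw [cmul, cmul]
    show ((1 : F) • (1 : M₂) + ((α - i * β) * (α - i * β) * Multiplicative.toAdd a) • n₀) * (s : M₂) =
      (s : M₂) * ((1 : F) • (1 : M₂) + (Multiplicative.toAdd a) • n₀)
    rw [add_mul, mul_add, smul_mul_assoc, one_mul, mul_smul_comm, mul_one, smul_mul_assoc, mul_smul_comm, hc, hc',
      smul_smul, smul_smul]
    congr 2
    linear_combination ((α - i * β) * Multiplicative.toAdd a) * hdet
  · refine ⟨Γ.c.ι (f (Multiplicative.ofAdd 1)), ⟨_, ⟨_, rfl⟩, rfl⟩, fun hcom => ?_⟩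
    have h1 : s * f (Multiplicative.ofAdd 1) = f (Multiplicative.ofAdd 1) * s :=
      Γ.c.ι_inj (by rw [map_mul, map_mul]; exact hcom.eq)
    have h2 := congrArg Subtype.val h1
    rw [cmul, cmul] at h2
    change (s : M₂) * ((1 : F) • (1 : M₂) + (1 : F) • n₀) = ((1 : F) • (1 : M₂) + (1 : F) • n₀) * (s : M₂) at h2
    rw [one_smul, one_smul, mul_add, add_mul, mul_one, one_mul, hc, hc', add_right_inj] at h2
    have h3 := smul_left_injective F hn0 h2
    have hi0 : i ≠ 0 := fun e => by rw [e, mul_zero] at hi; exact neg_ne_zero.2 one_ne_zero hi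
    have hβ : β = 0 := (mul_eq_zero.1 (show ((2 : F) * i) * β = 0 by linear_combination -h3)).resolve_left
      (mul_ne_zero Γ.two_ne hi0)
    exact hns α (by rw [hab, hβ, zero_smul, add_zero])

/-- An element of order `l` outside the normal subgroup moves a torus element. -/
theorem move_field {x : X} (hx : x ^ l = 1) (hxN : x ∉ Γ.c.N) :
    ∃ Y : Subgroup X, Odd (Nat.card Y) ∧ ¬ l ∣ Nat.card Y ∧ (∀ y ∈ Y, x * y * x⁻¹ ∈ Y) ∧
      ∃ y ∈ Y, ¬ Commute x y := by
  classical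
  haveI := Fact.mk Γ.hl
  set σ := fld (Γ.c.ψ x) with hσ
  have hσl : σ ^ l = 1 := by rw [hσ, ← map_pow, ← map_pow, hx, map_one, map_one]
  have hσ1 : σ ≠ 1 := fun h => by
    obtain ⟨A, hA⟩ := mem_range_inn.2 h
    have h2 : x ^ 2 ∈ Γ.c.N := Γ.mem_N_of_square (M := A * A) (by rw [map_pow, map_mul, hA, sq])
      (by rw [Units.val_mul, Matrix.det_mul]; exact ⟨_, rfl⟩)
    obtain ⟨k, hk⟩ := Γ.hl.odd_of_ne_two Γ.hl2
    refine hxN ?_
    rw [show x = (x ^ 2) ^ (k + 1) by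
      rw [← pow_mul, show 2 * (k + 1) = l + 1 by omega, pow_succ, hx, one_mul]]
    exact pow_mem h2 _
  obtain ⟨p, hp⟩ := CharP.exists F
  obtain ⟨n, hpp, hn⟩ := FiniteField.card F p
  haveI : Fact p.Prime := ⟨hpp⟩
  obtain ⟨j, hjn, hj⟩ := ringAut_exists_pow σ hn
  have hit : ∀ (i : ℕ) y, (σ ^ i) y = y ^ p ^ (i * j) := by
    intro i
    induction i with
    | zero => intro y; simp
    | succ i ih =>
      intro y
      rw [pow_succ', show (σ * σ ^ i) y = σ ((σ ^ i) y) from rfl, ih, map_pow, hj, ← pow_mul, ← pow_add, add_comm,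
        Nat.succ_mul]
  have hnl : (n : ℕ) ∣ l * j := by
    obtain ⟨g, hg⟩ := IsCyclic.exists_ofOrder_eq_natCard (α := Fˣ)
    have h1 : Nat.card Fˣ = p ^ (n : ℕ) - 1 := by rw [Nat.card_units, Nat.card_eq_fintype_card, hn]
    have h3 : g ^ p ^ (l * j) = g := Units.ext (by
      rw [Units.val_pow_eq_pow_val, ← hit, hσl]; rfl)
    have h4 : p ^ (n : ℕ) - 1 ∣ p ^ (l * j) - 1 := by
      rw [← h1, ← hg]
      refine orderOf_dvd_of_pow_eq_one ?_
      rw [← mul_left_inj g, ← pow_succ, Nat.sub_add_cancel (Nat.one_le_pow _ _ hpp.pos), h3, one_mul]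
    have h5 := Nat.gcd_eq_left h4
    rw [Nat.pow_sub_one_gcd_pow_sub_one] at h5
    have h6 : p ^ Nat.gcd (n : ℕ) (l * j) = p ^ (n : ℕ) := by
      have := Nat.one_le_pow (Nat.gcd (n : ℕ) (l * j)) p hpp.pos
      have := Nat.one_le_pow (n : ℕ) p hpp.pos
      omega
    exact Nat.gcd_eq_left_iff_dvd.1 (Nat.pow_right_injective hpp.two_le h6)
  have hnj : ¬ (n : ℕ) ∣ j := fun hd => hσ1 (RingEquiv.ext fun y => by
    obtain ⟨i, hi⟩ := hd
    rw [hj, hi, pow_mul, ← hn]
    exact FiniteField.pow_card_pow i y)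
  set e := Nat.gcd j n with he
  have hnle : (n : ℕ) = l * e := by
    have h1 : (n : ℕ) ∣ l * e := by
      rw [he, ← Nat.gcd_mul_left]
      exact Nat.dvd_gcd hnl (dvd_mul_left _ _)
    obtain ⟨c, hc⟩ : e ∣ n := Nat.gcd_dvd_right j n
    have he0 : 0 < e := Nat.gcd_pos_of_pos_right _ n.pos
    have hcl : c ∣ l := by
      refine Nat.dvd_of_mul_dvd_mul_left he0 ?_
      rw [← hc, mul_comm e]; exact h1
    rcases (Nat.dvd_prime Γ.hl).1 hcl with rfl | rfl
    · exact absurd (by rw [hc, mul_one]; exact Nat.gcd_dvd_left j n) hnj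
    · rw [hc, mul_comm]
  set q₀ := p ^ e with hq₀
  have hq : Fintype.card F = q₀ ^ l := by rw [hn, hnle, hq₀, ← pow_mul, mul_comm]
  have hqodd := Nat.odd_iff.1 Γ.c.odd
  have hl1 := Γ.hl.one_lt
  have hq₀odd : Odd q₀ := by
    have h := Γ.c.odd
    rwa [hq, Nat.odd_pow_iff Γ.hl.ne_zero] at h
  have hq₀3 : 3 ≤ q₀ := by
    have h1 : q₀ ≠ 1 := fun h => by
      have := Fintype.one_lt_card (α := F)
      rw [hq, h, one_pow] at this
      exact lt_irrefl _ this
    obtain ⟨c, hc⟩ := hq₀odd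
    omega
  obtain ⟨y, hy, hyE⟩ : ∃ y : ℤ, (y = (q₀ : ℤ) ∨ y = -(q₀ : ℤ)) ∧
      ((tE (Fintype.card F) : ℤ) = y ^ l - 1 ∨ (tE (Fintype.card F) : ℤ) = -(y ^ l - 1)) := by
    by_cases h4 : Fintype.card F % 4 = 3
    · refine ⟨-(q₀ : ℤ), Or.inr rfl, Or.inr ?_⟩
      rw [tE, if_pos h4, (Γ.hl.odd_of_ne_two Γ.hl2).neg_pow, hq]
      push_cast
      ring
    · refine ⟨(q₀ : ℤ), Or.inl rfl, Or.inl ?_⟩
      rw [tE, if_neg h4, hq, Nat.cast_sub (Nat.one_le_pow _ _ (by omega))]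
      push_cast
      ring
  have hdiv : ∀ d : ℕ, d ∣ tE (Fintype.card F) ↔ (d : ℤ) ∣ y ^ l - 1 := fun d => by
    rw [← Int.natCast_dvd_natCast]
    rcases hyE with h | h <;> rw [h]
    exact dvd_neg
  obtain ⟨r, hr, hr2, hrl, hrE, hry⟩ := exists_prim Γ.hl Γ.hl2 hq₀3 hy ((hdiv l).1 Γ.hlt)
  let Γ' : Gam X F r := ⟨Γ.c, hr, hr2, (hdiv r).2 hrE, Γ.w₀, Γ.w₀_sq, Γ.w₀_ne, Γ.w₀_nez⟩
  obtain ⟨P, hP⟩ := (IsPGroup.of_card_dvd_pow (n := 1) (by
    rw [Nat.card_zpowers, pow_one]; exact orderOf_dvd_of_pow_eq_one hx) : IsPGroup l (zpowers x)).exists_le_sylow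
  obtain ⟨a, -, ha, hac⟩ := Γ.sylow_elt P
  have hxa : Commute x a := hac x (hP (mem_zpowers x))
  obtain ⟨s, rfl, hs1, hs, u, hu, hus, hns, hsemi⟩ := Γ.elt_ι ha
  obtain ⟨t, ht, ht1, htu⟩ := Γ'.exists_order_l hu
  have htu' := not_scalar_of_tz Γ.two_ne (tz_of_sq Γ.c.odd hu) (by rw [u.2]; exact one_ne_zero)
  have hts : (t : M₂) * (s : M₂) = (s : M₂) * (t : M₂) :=
    commute_of_commute htu' (by rw [← cmul, htu, cmul]) (by rw [← cmul, ← hus, cmul])
  have he' : Γ'.Elt (Γ.c.ι t) := ⟨Γ.mem_N.2 ⟨t, rfl⟩, fun h => ht1 (Γ.c.ι_inj (h.trans (map_one _).symm)),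
    by rw [← map_pow, ht, map_one]⟩
  have hψs : Γ.c.ψ x s = s := Γ.c.ι_inj (by rw [← Γ.c.conj_ι, hxa.eq, mul_inv_cancel_right])
  have hmem : x * Γ.c.ι t * x⁻¹ ∈ zpowers (Γ.c.ι t) := by
    refine Γ'.elt_unique he' (Γ'.elt_conj he' x) ?_
    rw [Γ.c.conj_ι]
    refine (show Commute t (Γ.c.ψ x t) from ?_).map Γ.c.ι
    have h1 : Commute (Γ.c.ψ x t) (Γ.c.ψ x s) :=
      (show Commute t s from Subtype.ext (by rw [cmul, cmul]; exact hts)).map (Γ.c.ψ x)
    rw [hψs] at h1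
    exact Subtype.ext (by rw [cmul, cmul]; exact commute_of_commute hns hts (congrArg Subtype.val h1.eq))
  have hord : Nat.card (zpowers (Γ.c.ι t)) = r := by
    haveI := Fact.mk hr
    rw [Nat.card_zpowers]
    exact orderOf_eq_prime he'.2.2 he'.2.1
  refine ⟨zpowers (Γ.c.ι t), by rw [hord]; exact hr.odd_of_ne_two hr2,
    by rw [hord]; exact fun h => hrl ((Nat.prime_dvd_prime_iff_eq Γ.hl hr).1 h).symm, ?_,
    Γ.c.ι t, mem_zpowers _, fun hcom => ?_⟩
  · intro b hb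
    obtain ⟨i, rfl⟩ := Subgroup.mem_zpowers_iff.1 hb
    rw [← conj_zpow]
    exact zpow_mem hmem i
  -- otherwise the trace would be fixed by the field automorphism
  have hψt : Γ.c.ψ x t = t := Γ.c.ι_inj (by rw [← Γ.c.conj_ι, hcom.eq, mul_inv_cancel_right])
  have hfix : str t ^ p ^ j = str t := by
    rw [← hj]
    obtain ⟨g, hg⟩ := exists_eq (Γ.c.ψ x)
    have e := trace_smi g σ t
    rw [hσ, ← hg, hψt, Matrix.trace_fin_two] at e
    exact e.symm
  have hper : ∀ k, str t ^ p ^ k = (fun y : F => y ^ p)^[k] (str t) := fun k => by rw [pow_iterate]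
  have hq₀fix : str t ^ q₀ = str t := by
    have h1 : Function.IsPeriodicPt (fun y : F => y ^ p) j (str t) := (hper j).symm.trans hfix
    have h2 : Function.IsPeriodicPt (fun y : F => y ^ p) n (str t) := (hper n).symm.trans (by
      rw [← hn]; exact FiniteField.pow_card _)
    rw [hq₀, hper]
    exact h1.gcd h2
  obtain ⟨-, -, -, u', hu', hu't, hns', hsemi'⟩ := (Γ'.elt_ι he').choose_spec
  have ht4 : str t * str t ≠ 4 := fun e4 => by
    have h1 := orderOf_dvd_of_pow_eq_one (pow_eq_one_of_trace (p := p) Γ.two_ne e4)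
    haveI := Fact.mk hr
    rw [orderOf_eq_prime ht ht1] at h1
    rcases (Nat.Prime.dvd_mul hr).1 h1 with h | h
    · exact hr2 ((Nat.prime_dvd_prime_iff_eq hr Nat.prime_two).1 h)
    · exact ne_char hr hr2 ((hdiv r).2 hrE) hpp n.pos hn ((Nat.prime_dvd_prime_iff_eq hr hpp).1 h)
  have hrq : (r : ℤ) ∣ (q₀ : ℤ) - 1 ∨ (r : ℤ) ∣ (q₀ : ℤ) + 1 := by
    haveI := Fact.mk hr
    rcases eq_or_inv ((Commute.pow_self t q₀).eq) (by rw [hq₀, str_pow_frob, ← hq₀, hq₀fix]) ht4 with e' | e'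
    · left
      have h1 : t ^ (q₀ - 1) = 1 := mul_left_cancel (a := t)
        (by rw [← pow_succ', Nat.sub_add_cancel (by omega), e', mul_one])
      have h2 := Int.natCast_dvd_natCast.2 (orderOf_dvd_of_pow_eq_one h1)
      rw [orderOf_eq_prime ht ht1, Nat.cast_sub (by omega), Nat.cast_one] at h2
      exact h2
    · right
      have h1 : t ^ (q₀ + 1) = 1 := by rw [pow_succ, e', inv_mul_cancel]
      have h2 := Int.natCast_dvd_natCast.2 (orderOf_dvd_of_pow_eq_one h1)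
      rw [orderOf_eq_prime ht ht1] at h2
      push_cast at h2
      exact h2
  have hry' : (r : ℤ) ∣ y + 1 := by
    rcases hy with rfl | rfl <;> rcases hrq with h | h
    · exact absurd h hry
    · exact h
    · rw [show -(q₀ : ℤ) + 1 = -((q₀ : ℤ) - 1) by ring]; exact h.neg_right
    · exact absurd (by rw [show -(q₀ : ℤ) - 1 = -((q₀ : ℤ) + 1) by ring]; exact h.neg_right) hry
  have h1 : y + 1 ∣ y ^ l + 1 := by
    have := sub_dvd_pow_sub_pow y (-1) l
    rwa [sub_neg_eq_add, (Γ.hl.odd_of_ne_two Γ.hl2).neg_one_pow, sub_neg_eq_add] at this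
  have h2 := dvd_sub (hry'.trans h1) hrE
  rw [show y ^ l + 1 - (y ^ l - 1) = 2 by ring] at h2
  exact hr2 ((Nat.prime_dvd_prime_iff_eq hr Nat.prime_two).1 (Int.natCast_dvd_natCast.1 h2))

/-- An element of order `l` which is not elliptic in the case `q % 4 = 3` moves such a subgroup. -/
theorem move {x : X} (hx : x ^ l = 1) (hx1 : x ≠ 1) (h : x ∉ Γ.c.N ∨ Fintype.card F % 4 ≠ 3) :
    ∃ Y : Subgroup X, Odd (Nat.card Y) ∧ ¬ l ∣ Nat.card Y ∧ (∀ y ∈ Y, x * y * x⁻¹ ∈ Y) ∧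
      ∃ y ∈ Y, ¬ Commute x y := by
  by_cases hN : x ∈ Γ.c.N
  · exact Γ.move_split (h.resolve_left (not_not_intro hN)) ⟨hN, hx1, hx⟩
  · exact Γ.move_field hx hN

end Gam

end Cfsg.Agent.Invol.AbgOrder.Ell
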