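import Cfsg.Agent.Lib.Invol.AbgOrder.EllPhi

/-!
# The normalizer of the meet moving `z`, and the conclusion

No signalizer of full order is elliptic at an involution `w ≠ z` of the centralizer.
-/

set_option autoImplicit false
set_option linter.unusedSectionVars false
set_option linter.style.haveILetI false

namespace Cfsg.Agent.Invol.AbgOrder.Ell

open Subgroup Matrix Cfsg.Agent.Classical
open scoped commutatorElement

universe u v

theorem orderOf_conj' {G : Type*} [Group G] (g x : G) : orderOf (g * x * g⁻¹) = orderOf x :=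
  orderOf_injective (MulAut.conj g).toMonoidHom (MulAut.conj g).injective x

theorem commute_conj {G : Type*} [Group G] {g a b : G} (h : Commute a b) :
    Commute (g * a * g⁻¹) (g * b * g⁻¹) := h.map (MulAut.conj g).toMonoidHom

theorem conj_mem_iff {G : Type*} [Group G] {g : G} {D : Subgroup G} (hg : g ∈ normalizer (D : Set G)) {k : G}
    (hk : k ∉ D) : g * k * g⁻¹ ∉ D := fun h => hk ((Subgroup.mem_normalizer_iff.1 hg k).2 h)

namespace Sett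

variable {G : Type u} [Group G] [Finite G] {X : Type u} [Group X] [Finite X] {F : Type v} [Field F] [Fintype F]
  {l : ℕ} {Γ : Gam X F l} {St : Sett G Γ}

namespace Meet

variable {Φ : Frame St} (μ : Meet Φ)

theorem D_le_NU : μ.D ≤ normalizer (Φ.U : Set G) := μ.D_le_P.trans Φ.P_le_NU

/-- An elliptic element of the meet inverted by `w` whose commutators with the `zw`-part avoid being elliptic. -/
theorem no_elt (Λ : UA Φ) {y : St.C} (hy : (y : G) ∈ μ.D) (he : Γ.Elt (St.φ y))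
    (hinv : Φ.V.w * (y : G) * Φ.V.w⁻¹ = (y : G)⁻¹) {B : Subgroup G} (hBA : B ≤ Λ.A)
    (hzB : St.z ∈ normalizer (B : Set G)) (hwB : Φ.V.w ∈ normalizer (B : Set G))
    (hnell : ¬ St.EllAt Φ.V.w B)
    (hB : ∀ c ∈ Λ.A, Commute c (St.z * Φ.V.w) → ⁅(y : G), c⁻¹ * (St.z * c * St.z⁻¹)⁆ ∈ B) : False := by
  obtain ⟨g, hgz, hgw⟩ := Φ.V.exists_swap
  have hgw' : g⁻¹ * St.z * g = Φ.V.w := by rw [← hgw]; group
  have hgz' : g⁻¹ * Φ.V.w * g = St.z := by rw [← hgz]; group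
  have hyU := μ.D_le_NU hy
  set L := Λ.lay (Vb := Φ.V) Φ.wU hgz hgw with hL
  refine Λ.l1 Φ.wU hgz hgw hyU he (L.mem_fixer_of_sq ?_ ?_)
  · rw [orderOf_conj']; exact odd_of_l (Γ := Γ) μ.D_l hy
  set t := g * (y : G) * g⁻¹ with ht
  have htA : t ∈ normalizer (cj g Λ.A : Set G) := mem_normalizer_cj (by
    rw [ht, show g⁻¹ * (g * (y : G) * g⁻¹) * g = y by group]; exact Λ.norm ⟨hyU, y.2⟩)
  have htA₀ : t ∈ normalizer (cj g Λ.A₀ : Set G) := mem_normalizer_cj (by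
    rw [ht, show g⁻¹ * (g * (y : G) * g⁻¹) * g = y by group]; exact Λ.norm₀ ⟨hyU, y.2⟩)
  refine L.f_sq (Or.inl rfl) htA htA₀ ?_ ?_ fun c hc hcc => ?_
  · rw [← hgz, ht]
    exact commute_conj (St.mem_C.1 y.2)
  · rw [ht, ← hgw, show g * Φ.V.w * g⁻¹ * (g * (y : G) * g⁻¹) * (g * Φ.V.w * g⁻¹)⁻¹ =
      g * (Φ.V.w * y * Φ.V.w⁻¹) * g⁻¹ by group, hinv]
    group
  have hc' := mem_cj.1 hc
  set c₀ := g⁻¹ * c * g with hc₀
  have hc₀c : Commute c₀ (St.z * Φ.V.w) := by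
    have := hcc.map (MulAut.conj g⁻¹).toMonoidHom
    simp only [MulEquiv.coe_toMonoidHom, MulAut.conj_apply, inv_inv] at this
    rw [show g⁻¹ * (St.z * Φ.V.w) * g = (g⁻¹ * St.z * g) * (g⁻¹ * Φ.V.w * g) by group, hgw', hgz', Φ.V.comm.eq] at this
    exact this
  set d₀ := c₀⁻¹ * (St.z * c₀ * St.z⁻¹) with hd₀
  set d := c⁻¹ * (St.z * c * St.z⁻¹) with hd
  have hdd : d = g * d₀ * g⁻¹ := by rw [hd, hd₀, Φ.V.conj_eq hc₀c, hc₀, ← hgw']; group
  have hzc := (Subgroup.mem_normalizer_iff.1 L.zA c).1 hc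
  have hdA : d ∈ cj g Λ.A := (cj g Λ.A).mul_mem (inv_mem hc) hzc
  have hfd : Φ.V.f (cj g Λ.A) (cj g Λ.A₀) d = 1 := by
    rw [hd, L.f_mul ((cj g Λ.A).inv_mem hc) hzc, L.f_inv hc, L.f_z hc, inv_mul_cancel]
  have htd : ⁅t, d⁆ ∈ cj g B := by
    rw [show ⁅t, d⁆ = g * ⁅(y : G), d₀⁆ * g⁻¹ by rw [hdd, ht, commutatorElement_def, commutatorElement_def]; group]
    exact conj_mem_cj (hB c₀ hc' hc₀c)
  rw [show t * d * t⁻¹ = ⁅t, d⁆ * d by rw [commutatorElement_def, inv_mul_cancel_right],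
    L.f_mul (cj_mono g hBA htd) hdA, hfd, mul_one]
  refine L.f_zero (cj_mono g hBA) (mem_normalizer_cj (by rw [hgw']; exact hwB))
    (mem_normalizer_cj (by rw [hgz']; exact hzB)) (fun h => hnell ?_) htd
  refine (St.ellAt_conj g).1 ?_
  rwa [hgw]

/-- Moved to `w`: the meet is not elliptic at `z`. -/
theorem not_ell_z (hell : St.EllAt Φ.V.w Φ.U) {n : G} (hn : n ∈ normalizer (μ.D : Set G))
    (hnz : n * St.z * n⁻¹ = Φ.V.w) : ¬ St.EllAt St.z μ.D := fun h => by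
  obtain ⟨Λ⟩ := Φ.exists_UA hell
  obtain ⟨y, hy, he, hinv⟩ := St.exists_cm_elt Φ.V.mem Φ.V.sq Φ.V.ne Φ.V.nez μ.D_l μ.wD h
  have hyD : (y : G) ∈ μ.D := cm_le μ.wD hy
  refine μ.no_elt Λ hyD he hinv (B := Λ.A ⊓ cm Φ.V.w μ.D) inf_le_left
    (mem_normalizer_inf (Λ.norm ⟨Φ.zU, St.z_mem⟩) (cm_stable μ.zD Φ.V.comm.symm))
    (mem_normalizer_inf (Λ.norm ⟨Φ.wU, Φ.V.mem⟩) (cm_stable μ.wD (Commute.refl _))) ?_ fun c hc hcc => ?_
  · intro hB
    have hle : cm Φ.V.w μ.D ≤ cj n Φ.N₀ := by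
      rw [← hnz]
      conv_lhs => rw [← cj_eq_of_mem hn]
      rw [← cj_cm]
      exact cj_mono n ((cm_mono μ.D_le_P).trans Φ.cm_P.le)
    have h2 := St.ellAt_mono (inf_le_right.trans hle) hB
    rw [← hnz] at h2
    exact Φ.not_ell_z ((St.ellAt_conj n).1 h2)
  · have hdA : c⁻¹ * (St.z * c * St.z⁻¹) ∈ Λ.A :=
      Λ.A.mul_mem (Λ.A.inv_mem hc) ((Subgroup.mem_normalizer_iff.1 (Λ.norm ⟨Φ.zU, St.z_mem⟩) c).1 hc)
    have hdD : c⁻¹ * (St.z * c * St.z⁻¹) ∈ μ.D := μ.R_le (by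
      rw [← Φ.R_eq Φ.comm_zw]
      exact cm_mem ⟨Λ.A_le_P hc, Subgroup.mem_centralizer_singleton_iff.2 hcc.eq⟩)
    rw [commutatorElement_def]
    refine ⟨Λ.A.mul_mem ((Subgroup.mem_normalizer_iff.1 (Λ.norm ⟨μ.D_le_NU hyD, y.2⟩) _).1 hdA) (inv_mem hdA), ?_⟩
    rw [mul_assoc (y : G), mul_assoc (y : G)]
    exact mul_mem hy ((Subgroup.mem_normalizer_iff.1 (cm_normal hdD) _).1 (inv_mem hy))

/-- The normalizer moves `z` to `w`. -/
theorem case_B1 (hell : St.EllAt Φ.V.w Φ.U) {n : G} (hn : n ∈ normalizer (μ.D : Set G))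
    (hnz : n * St.z * n⁻¹ = Φ.V.w) (hnw : n * Φ.V.w * n⁻¹ = St.z ∨ n * Φ.V.w * n⁻¹ = St.z * Φ.V.w) : False := by
  have hnz' := μ.not_ell_z hell hn hnz
  have hnw' : n * Φ.V.w * n⁻¹ = St.z := by
    refine hnw.resolve_right fun e => hnz' ((St.ellAt_conj n).1 ?_)
    rw [cj_eq_of_mem hn, hnz]
    refine (St.ellAt_conj n).1 ?_
    rw [cj_eq_of_mem hn, e]
    exact μ.ell_D hell
  have hnzw : n * (St.z * Φ.V.w) * n⁻¹ = St.z * Φ.V.w := by
    rw [show n * (St.z * Φ.V.w) * n⁻¹ = n * St.z * n⁻¹ * (n * Φ.V.w * n⁻¹) by group, hnz, hnw', Φ.V.comm.eq]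
  obtain ⟨Λ⟩ := Φ.exists_UA hell
  obtain ⟨p⟩ := μ.exists_phi hell
  have hA : ¬ Λ.A ≤ μ.D := fun hle => hnz' (by
    have := (St.ellAt_conj n).2 (St.ellAt_mono hle Λ.ell)
    rwa [cj_eq_of_mem hn, hnw'] at this)
  obtain ⟨k, hkA, hkH, hkD, hc⟩ := μ.exists_k Λ hA
  have hkp : k ∈ p.H := by
    rcases hc with h | h | h
    exacts [p.fix_V Λ hkA hkH h.1 h.2, p.fix_z Λ hkA hkH h.1 h.2, p.fix_w Λ hkA hkH h.1 h.2 hnz']
  obtain ⟨J, hJH, hJodd, hJall⟩ := p.exists_J hell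
  have hnp : n ∈ normalizer (p.H : Set G) := p.norm_H hn hnzw (Or.inr hnz)
  have hkodd : Odd (orderOf k) := odd_of_l (Γ := Γ) (Φ.U_l.to_le Λ.le_U) hkA
  have hQ : Φ.Om (cj n Φ.P) := by
    refine Frame.om_cj hell (Or.inl hnz) ?_ ?_ ?_
    · rw [show n⁻¹ * St.z * n = Φ.V.w by rw [← hnw']; group]; exact Φ.wP
    · rw [show n⁻¹ * Φ.V.w * n = St.z by rw [← hnz]; group]; exact Φ.zP
    · exact μ.R_le.trans ((cj_eq_of_mem hn).ge.trans (cj_mono n μ.D_le_P))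
  exact μ.glue' hQ ((cj_eq_of_mem hn).ge.trans (cj_mono n μ.D_le_P)) hJodd
    (mem_normalizer_oddPart hJH hJodd hJall p.z_norm) (mem_normalizer_oddPart hJH hJodd hJall p.w_norm)
    (fun d hd => hJall d (p.D_le hd) (odd_of_l (Γ := Γ) μ.D_l hd)) (hJall k hkp hkodd) (Λ.A_le_P hkA) hkD
    (hJall _ ((Subgroup.mem_normalizer_iff.1 hnp k).1 hkp) (by rw [orderOf_conj']; exact hkodd))
    (conj_mem_cj (Λ.A_le_P hkA)) (conj_mem_iff hn hkD)

/-- The normalizer interchanges `z` and `zw`. -/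
theorem case_B2 (hell : St.EllAt Φ.V.w Φ.U) {s : G} (hs : s ∈ normalizer (μ.D : Set G))
    (hsz : s * St.z * s⁻¹ = St.z * Φ.V.w) (hsw : s * Φ.V.w * s⁻¹ = Φ.V.w) : False := by
  have hszw : s * (St.z * Φ.V.w) * s⁻¹ = St.z := by
    rw [show s * (St.z * Φ.V.w) * s⁻¹ = s * St.z * s⁻¹ * (s * Φ.V.w * s⁻¹) by group, hsz, hsw, mul_assoc, Φ.V.sq,
      mul_one]
  have hsz' : s⁻¹ * St.z * s = St.z * Φ.V.w := by
    calc s⁻¹ * St.z * s = s⁻¹ * (s * (St.z * Φ.V.w) * s⁻¹) * s := by rw [hszw]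
      _ = _ := by group
  have hsw' : s⁻¹ * Φ.V.w * s = Φ.V.w := by
    calc s⁻¹ * Φ.V.w * s = s⁻¹ * (s * Φ.V.w * s⁻¹) * s := by rw [hsw]
      _ = _ := by group
  have hsD := cj_eq_of_mem hs
  obtain ⟨Λ⟩ := Φ.exists_UA hell
  -- an elliptic element at `z`
  set R' := cj s (Φ.R (St.z * Φ.V.w)) with hR'
  have hR'D : R' ≤ μ.D := (cj_mono s μ.R_le).trans hsD.le
  have hellR' : St.EllAt St.z R' := by
    have := (St.ellAt_conj s).2 (Frame.ell_R hell)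
    rwa [hszw] at this
  have hwR' : Φ.V.w ∈ normalizer (R' : Set G) := mem_normalizer_cj (by rw [hsw']; exact Φ.wR)
  obtain ⟨y, hy, he, hinv⟩ := St.exists_cm_elt Φ.V.mem Φ.V.sq Φ.V.ne Φ.V.nez (μ.D_l.to_le hR'D) hwR' hellR'
  have hyR : (y : G) ∈ R' := cm_le hwR' hy
  have hyD : (y : G) ∈ μ.D := hR'D hyR
  set N₁ := cm (St.z * Φ.V.w) μ.D with hN₁
  have hN₁eq : N₁ = cj s (cm St.z μ.D) := by rw [cj_cm, hsz, hsD]
  have hyN₁ : (y : G) ∈ N₁ := by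
    rw [hN₁eq]
    exact cj_mono s ((Φ.cm_R Φ.comm_zw).ge.trans (cm_mono μ.R_le)) hyR
  have hN₁n : ¬ St.EllAt (St.z * Φ.V.w) N₁ := by
    rw [hN₁eq, ← hsz, St.ellAt_conj]
    exact fun h => Φ.not_ell_z (St.ellAt_mono ((cm_mono μ.D_le_P).trans Φ.cm_P.le) h)
  -- the section is not in the meet
  have hA : ¬ Λ.A ≤ μ.D := fun hle => by
    let Vb : St.Four := ⟨St.z * Φ.V.w, Φ.V.zw_mem, Φ.V.zw_sq, Φ.V.zw_ne, Φ.V.zw_nez⟩
    have hbU : Vb.w ∈ normalizer (Φ.U : Set G) := mul_mem Φ.zU Φ.wU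
    obtain ⟨g, hgz, hgb⟩ := Vb.exists_swap
    have hgb' : g⁻¹ * St.z * g = Vb.w := by rw [← hgb]; group
    have hgz' : g⁻¹ * Vb.w * g = St.z := by rw [← hgz]; group
    have hyU := μ.D_le_NU hyD
    refine Λ.l1 hbU hgz hgb hyU he ((Λ.lay hbU hgz hgb).mem_fixer_of_zero
      (mem_normalizer_cj (by
        rw [show g⁻¹ * (g * (y : G) * g⁻¹) * g = y by group]; exact Λ.norm ⟨hyU, y.2⟩)) fun a ha => ?_)
    have ha' := mem_cj.1 ha
    refine (Λ.lay hbU hgz hgb).f_zero (B := cj g (Λ.A ⊓ N₁)) (cj_mono g inf_le_left)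
      (mem_normalizer_cj (by
        rw [hgb']
        exact mem_normalizer_inf (Λ.norm ⟨hbU, Vb.mem⟩) (cm_stable (mul_mem μ.zD μ.wD) (Commute.refl _))))
      (mem_normalizer_cj (by
        rw [hgz']
        exact mem_normalizer_inf (Λ.norm ⟨Φ.zU, St.z_mem⟩) (cm_stable μ.zD Φ.comm_zw)))
      (fun h => hN₁n (St.ellAt_mono inf_le_right ((St.ellAt_conj g).1 (by rw [hgb]; exact h)))) ?_
    rw [show ⁅g * (y : G) * g⁻¹, a⁆ = g * ⁅(y : G), g⁻¹ * a * g⁆ * g⁻¹ by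
      rw [commutatorElement_def, commutatorElement_def]; group]
    refine conj_mem_cj ?_
    rw [commutatorElement_def]
    refine ⟨Λ.A.mul_mem ((Subgroup.mem_normalizer_iff.1 (Λ.norm ⟨hyU, y.2⟩) _).1 ha') (inv_mem ha'), ?_⟩
    rw [mul_assoc (y : G), mul_assoc (y : G)]
    exact N₁.mul_mem hyN₁ ((Subgroup.mem_normalizer_iff.1 (cm_normal (hle ha')) _).1 (N₁.inv_mem hyN₁))
  -- the meet is elliptic at `w`
  have hellw : St.EllAt Φ.V.w μ.D := by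
    by_contra hn
    refine μ.no_elt Λ hyD he hinv (B := Λ.A ⊓ μ.D) inf_le_left
      (mem_normalizer_inf (Λ.norm ⟨Φ.zU, St.z_mem⟩) μ.zD) (mem_normalizer_inf (Λ.norm ⟨Φ.wU, Φ.V.mem⟩) μ.wD)
      (fun h => hn (St.ellAt_mono inf_le_right h)) fun c hc hcc => ?_
    have hd : c⁻¹ * (St.z * c * St.z⁻¹) ∈ Λ.A ⊓ μ.D :=
      ⟨Λ.A.mul_mem (Λ.A.inv_mem hc) ((Subgroup.mem_normalizer_iff.1 (Λ.norm ⟨Φ.zU, St.z_mem⟩) c).1 hc), μ.R_le (by
        rw [← Φ.R_eq Φ.comm_zw]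
        exact cm_mem ⟨Λ.A_le_P hc, Subgroup.mem_centralizer_singleton_iff.2 hcc.eq⟩)⟩
    rw [commutatorElement_def]
    exact mul_mem ((Subgroup.mem_normalizer_iff.1 (mem_normalizer_inf (Λ.norm ⟨μ.D_le_NU hyD, y.2⟩)
      (Subgroup.le_normalizer hyD)) _).1 hd) (inv_mem hd)
  have hQ : Φ.Om (cj s Φ.P) := by
    refine Frame.om_cj hell (Or.inr hsz) ?_ ?_ (μ.R_le.trans (hsD.ge.trans (cj_mono s μ.D_le_P)))
    · rw [hsz']; exact mul_mem Φ.zP Φ.wP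
    · rw [hsw']; exact Φ.wP
  have hDQ : μ.D ≤ cj s Φ.P := hsD.ge.trans (cj_mono s μ.D_le_P)
  obtain ⟨k, hkA, hkH, hkD, hc⟩ := μ.exists_k Λ hA
  have hkodd : Odd (orderOf k) := odd_of_l (Γ := Γ) (Φ.U_l.to_le Λ.le_U) hkA
  have hkodd' : Odd (orderOf (s * k * s⁻¹)) := by rw [orderOf_conj']; exact hkodd
  by_cases hkw : Commute k Φ.V.w
  · -- the centralizer of `w`
    set H₂ := normalizer (μ.D : Set G) ⊓ Subgroup.centralizer ({Φ.V.w} : Set G) with hH₂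
    obtain ⟨g, -, hgw⟩ := Φ.V.exists_swap
    have hell' := (St.ellAt_conj g).2 hellw
    rw [hgw] at hell'
    obtain ⟨K, hK, -, hKodd, hKall⟩ := St.exists_compl_ell (isPGroup_cj g μ.D_l) hell' (H := cj g H₂)
      ((cj_mono g inf_le_right).trans (by rw [cj_centralizer, hgw]))
      (fun x hx => mem_normalizer_cj (mem_cj.1 hx).1)
    set K₀ := cj g⁻¹ K with hK₀
    have hK₀H : K₀ ≤ H₂ := by
      refine (cj_mono _ hK).trans ?_
      rw [cj_cj, inv_mul_cancel, cj_one]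
    have hK₀odd : Odd (Nat.card K₀) := by rw [card_cj]; exact hKodd
    have hall : ∀ x ∈ H₂, Odd (orderOf x) → x ∈ K₀ := fun x hx hodd => by
      rw [mem_cj, inv_inv]
      exact hKall _ (conj_mem_cj hx) (by rwa [orderOf_conj'])
    have hnK : ∀ {b : G}, b ∈ normalizer (μ.D : Set G) → Commute b Φ.V.w → b ∈ normalizer (K₀ : Set G) :=
      fun hb hbw => mem_normalizer_oddPart hK₀H hK₀odd hall
        (mem_normalizer_inf (Subgroup.le_normalizer hb) (mem_normalizer_centralizer hbw))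
    have hJodd : Odd (Nat.card ↥(μ.D ⊔ K₀)) := by
      rw [sup_comm]
      exact (hK₀odd.mul (odd_pgroup μ.D_l St)).of_dvd_nat (Grp.card_sup_dvd_mul (hK₀H.trans inf_le_left))
    refine μ.glue' hQ hDQ hJodd (mem_normalizer_sup μ.zD (hnK μ.zD Φ.V.comm.symm))
      (mem_normalizer_sup μ.wD (hnK μ.wD (Commute.refl _))) le_sup_left
      (le_sup_right (a := μ.D) (hall k ⟨hkH, Subgroup.mem_centralizer_singleton_iff.2 hkw.eq⟩ hkodd))
      (Λ.A_le_P hkA) hkD (le_sup_right (a := μ.D) (hall (s * k * s⁻¹) ⟨(normalizer (μ.D : Set G)).mul_mem ((normalizer (μ.D : Set G)).mul_mem hs hkH) ((normalizer (μ.D : Set G)).inv_mem hs), ?_⟩ hkodd'))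
      (conj_mem_cj (Λ.A_le_P hkA)) (conj_mem_iff hs hkD)
    refine Subgroup.mem_centralizer_singleton_iff.2 ?_
    conv_lhs => rw [← hsw]
    conv_rhs => rw [← hsw]
    exact (commute_conj hkw).eq
  · obtain ⟨hkz, hkinv⟩ : Commute k St.z ∧ Φ.V.w * k * Φ.V.w⁻¹ = k⁻¹ := by
      rcases hc with h | h | h
      exacts [absurd h.2 hkw, h, absurd h.1 hkw]
    obtain ⟨p⟩ := μ.exists_phi hell
    set Hz := cj s p.H with hHz
    have hkp : k ∈ p.H := p.fix_z Λ hkA hkH hkz hkinv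
    have hkC : k ∈ St.C := St.mem_C.2 hkz
    have hkO : k ∈ St.O := Φ.good.2.2.1 ⟨Λ.le_U hkA, hkC⟩
    have hk' : s⁻¹ * k * s ∈ normalizer (μ.D : Set G) := mul_mem (mul_mem (inv_mem hs) hkH) hs
    have hkz' : k ∈ Hz := by
      rw [hHz, mem_cj, p.mem_H]
      refine ⟨hk', p.mem_N hk', fun a ha => ?_⟩
      have hcC : p.h * s⁻¹ ∈ St.C := St.mem_C.2 (by
        show p.h * s⁻¹ * St.z = St.z * (p.h * s⁻¹)
        calc p.h * s⁻¹ * St.z = p.h * (s⁻¹ * St.z * s) * p.h⁻¹ * (p.h * s⁻¹) := by group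
          _ = St.z * (p.h * s⁻¹) := by rw [hsz', p.hzw])
      have ho : p.h * (s⁻¹ * k * s) * p.h⁻¹ ∈ St.O := by
        rw [show p.h * (s⁻¹ * k * s) * p.h⁻¹ = p.h * s⁻¹ * k * (p.h * s⁻¹)⁻¹ by group]
        exact St.O_conj hcC hkO
      obtain ⟨hC, h1⟩ := St.mem_O.1 ho
      rw [p.L.f_conj (h := ⟨_, hC⟩) (p.mem_N hk') (p.mem_N₀ hk') (Or.inl (by rw [h1, one_mul, inv_one, mul_one])) ha,
        h1, one_mul, inv_one, mul_one]
    set J := p.H ⊓ Hz with hJ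
    have hnz : ∀ {b : G}, s⁻¹ * b * s ∈ normalizer (p.H : Set G) → b ∈ normalizer (p.H : Set G) →
        b ∈ normalizer (J : Set G) := fun h1 h2 => mem_normalizer_inf h2 (mem_normalizer_cj h1)
    have hzJ : St.z ∈ normalizer (J : Set G) := hnz (by rw [hsz']; exact mul_mem p.z_norm p.w_norm) p.z_norm
    have hwJ : Φ.V.w ∈ normalizer (J : Set G) := hnz (by rw [hsw']; exact p.w_norm) p.w_norm
    have hJodd : Odd (Nat.card J) := Φ.V.odd_of_avoid hzJ hwJ (fun h => p.z_not h.1) (fun h => p.w_not h.1)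
      (fun h => p.z_not (by
        have := mem_cj.1 h.2
        rwa [show s⁻¹ * (St.z * Φ.V.w) * s = St.z by rw [← hsz]; group] at this))
    -- `s` preserves the pair
    have hss : s * s ∈ normalizer (p.H : Set G) := by
      refine p.norm_H (mul_mem hs hs) ?_ (Or.inl ?_)
      · rw [show s * s * (St.z * Φ.V.w) * (s * s)⁻¹ = s * (s * (St.z * Φ.V.w) * s⁻¹) * s⁻¹ by group, hszw, hsz]
      · rw [show s * s * St.z * (s * s)⁻¹ = s * (s * St.z * s⁻¹) * s⁻¹ by group, hsz, hszw]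
    have hsk : s * k * s⁻¹ ∈ J := by
      refine ⟨?_, conj_mem_cj hkp⟩
      have := mem_cj.1 hkz'
      have h2 := (Subgroup.mem_normalizer_iff.1 hss _).1 this
      rwa [show s * s * (s⁻¹ * k * s) * (s * s)⁻¹ = s * k * s⁻¹ by group] at h2
    exact μ.glue' hQ hDQ hJodd hzJ hwJ (le_inf p.D_le (hsD.ge.trans (cj_mono s p.D_le))) ⟨hkp, hkz'⟩
      (Λ.A_le_P hkA) hkD hsk (conj_mem_cj (Λ.A_le_P hkA)) (conj_mem_iff hs hkD)

end Meet

namespace Frame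

/-- A signalizer of full order is not elliptic at `w`. -/
theorem not_ell (Φ : Frame St) : ¬ St.EllAt Φ.V.w Φ.U := fun hell => by
  obtain ⟨μ⟩ := exists_meet hell
  refine μ.case_trivial fun x hx hxW => ?_
  have hmem : ∀ a ∈ Φ.V.W, a ≠ 1 → x * a * x⁻¹ = St.z ∨ x * a * x⁻¹ = Φ.V.w ∨ x * a * x⁻¹ = St.z * Φ.V.w := by
    intro a ha ha1
    exact (Φ.V.mem_W.1 ((Subgroup.mem_normalizer_iff.1 hxW a).1 ha)).resolve_left (conj_ne_one ha1)
  have hinj : ∀ {a b : G}, x * a * x⁻¹ = x * b * x⁻¹ → a = b := fun h => mul_left_cancel (mul_right_cancel h)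
  have com : ∀ {a : G}, x * a * x⁻¹ = a → Commute x a := fun h => mul_inv_eq_iff_eq_mul.1 h
  rcases hmem _ Φ.V.z_mem_W St.z_ne with hz | hz | hz <;> rcases hmem _ Φ.V.w_mem_W Φ.V.ne with hw | hw | hw
  · exact absurd (hinj (hz.trans hw.symm)) Φ.V.nez.symm
  · exact ⟨com hz, com hw⟩
  · exact (μ.case_C hell hx hz hw).elim
  · exact (μ.case_B1 hell hx hz (Or.inl hw)).elim
  · exact absurd (hinj (hz.trans hw.symm)) Φ.V.nez.symm
  · exact (μ.case_B1 hell hx hz (Or.inr hw)).elim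
  · -- the three-cycle
    have hzw : x * (St.z * Φ.V.w) * x⁻¹ = Φ.V.w := by
      rw [show x * (St.z * Φ.V.w) * x⁻¹ = x * St.z * x⁻¹ * (x * Φ.V.w * x⁻¹) by group, hz, hw, mul_assoc,
        Φ.V.comm.eq, ← mul_assoc, St.z_sq, one_mul]
    refine (μ.case_B1 hell (mul_mem hx hx) ?_ (Or.inr ?_)).elim
    · rw [show x * x * St.z * (x * x)⁻¹ = x * (x * St.z * x⁻¹) * x⁻¹ by group, hz, hzw]
    · rw [show x * x * Φ.V.w * (x * x)⁻¹ = x * (x * Φ.V.w * x⁻¹) * x⁻¹ by group, hw, hz]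
  · exact (μ.case_B2 hell hx hz hw).elim
  · exact absurd (hinj (hz.trans hw.symm)) Φ.V.nez.symm

end Frame

end Sett

end Cfsg.Agent.Invol.AbgOrder.Ell
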