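import Cfsg.Agent.Lib.Invol.AbgOrder.EllOneSyl
import Cfsg.Agent.Lib.Invol.AbgOrder.EllComm
import Cfsg.Agent.Lib.Invol.AbgOrder.EllFrame

/-!
# The exceptional configuration: an elementary abelian group of order `l^3`

Inside the odd part of the centraliser of the line, a minimal invariant subgroup outside `C` is generated by two lines,
one inverted by each of `w`, `z w`, and they commute.
-/

set_option autoImplicit false
set_option linter.unusedSectionVars false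
set_option linter.style.haveILetI false

namespace Cfsg.Agent.Invol.AbgOrder.Ell

open Subgroup Matrix Cfsg.Agent.Classical
open scoped commutatorElement

universe u v

theorem mul_self_inv {G : Type*} [Group G] {a : G} (h : a * a = 1) : a⁻¹ = a := inv_eq_of_mul_eq_one_right h

namespace Sett

namespace Core

variable {G : Type u} [Group G] [Finite G] {X : Type u} [Group X] [Finite X] {F : Type v} [Field F] [Fintype F]
  {l : ℕ} {Γ : Gam X F l} {St : Sett G Γ} (c : Core St)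

/-- The four-group of `z` and `w`. -/
def V : St.Four := ⟨c.w, c.wC, c.ww, c.w_ne, c.w_nez⟩

/-- The four-group with the other involution. -/
def V' : St.Four := ⟨St.z * c.w, c.V.zw_mem, c.V.zw_sq, c.V.zw_ne, c.V.zw_nez⟩

/-- The element of order four. -/
def i : G := c.x ^ 2 ^ (c.n - 2)

/-- The Sylow `2`-subgroup. -/
def S : Subgroup G := zpowers c.x ⊔ zpowers c.w

/-- The centraliser of the line. -/
def Ca : Subgroup G := centralizer ({c.a} : Set G)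

theorem w_inv : c.w⁻¹ = c.w := mul_self_inv c.ww

theorem xz : Commute c.x St.z := St.mem_C.1 c.xC

theorem wz : Commute c.w St.z := St.mem_C.1 c.wC

theorem az : Commute c.a St.z := St.mem_C.1 c.aC

theorem ii : c.i * c.i = St.z := by
  have := c.hn
  rw [i, ← pow_add, ← two_mul, ← pow_succ', show c.n - 2 + 1 = c.n - 1 by omega, c.x_pow]

theorem iz : Commute c.i St.z := c.xz.pow_left _

theorem ia : Commute c.i c.a := c.xa.pow_left _

theorem wiw : c.w * c.i * c.w = c.i⁻¹ := by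
  have := c.hn
  rw [i]
  nth_rw 2 [← c.w_inv]
  rw [← conj_pow, c.w_inv, c.x_inv, c.xz.inv_left.mul_pow, inv_pow, show c.n - 2 = c.n - 3 + 1 by omega,
    pow_succ' 2, pow_mul St.z, sq St.z, St.z_sq, one_pow, mul_one]

theorem iwi : c.i * c.w * c.i⁻¹ = St.z * c.w := by
  have h : c.w * c.i⁻¹ = c.i * c.w := by
    rw [← c.wiw, ← mul_assoc, ← mul_assoc, c.ww, one_mul]
  rw [mul_assoc, h, ← mul_assoc, c.ii]

theorem x_pow_two : c.x ^ 2 ^ c.n = 1 := by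
  have := c.hn
  rw [show c.n = c.n - 1 + 1 by omega, pow_succ, pow_mul, c.x_pow, sq, St.z_sq]

theorem w_norm : zpowers c.w ≤ normalizer (zpowers c.x : Set G) :=
  zpowers_le.2 (mem_normalizer_fintype fun y hy => by
    obtain ⟨k, rfl⟩ := mem_zpowers_iff.1 hy
    rw [← conj_zpow, c.w_inv, c.x_inv]
    exact zpow_mem (mul_mem (inv_mem (mem_zpowers _)) (c.x_pow ▸ pow_mem (mem_zpowers _) _)) k)

theorem S_two : IsPGroup 2 c.S := by
  haveI : Fact (Nat.Prime 2) := ⟨Nat.prime_two⟩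
  refine IsPGroup.to_sup_of_normal_left' (IsPGroup.of_card_dvd_pow (n := c.n) ?_)
    (IsPGroup.of_card (n := 1) ?_) c.w_norm
  · rw [Nat.card_zpowers]; exact orderOf_dvd_of_pow_eq_one c.x_pow_two
  · rw [Nat.card_zpowers, orderOf_eq_prime (by rw [sq, c.ww]) c.w_ne, pow_one]

theorem S_le {H : Subgroup G} (hx : c.x ∈ H) (hw : c.w ∈ H) : c.S ≤ H :=
  sup_le (zpowers_le.2 hx) (zpowers_le.2 hw)

theorem x_S : c.x ∈ c.S := le_sup_left (b := zpowers c.w) (mem_zpowers c.x)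

theorem w_S : c.w ∈ c.S := le_sup_right (a := zpowers c.x) (mem_zpowers c.w)

theorem z_S : St.z ∈ c.S := c.x_pow ▸ pow_mem c.x_S _

theorem i_S : c.i ∈ c.S := pow_mem c.x_S _

theorem S_C : c.S ≤ St.C := c.S_le c.xC c.wC

theorem a_ne : c.a ≠ 1 := fun h => c.ell.2.1 (by
  rw [show (⟨c.a, c.aC⟩ : St.C) = 1 from Subtype.ext h, map_one])

theorem a_l : IsPGroup l (zpowers c.a) := by
  haveI := Fact.mk Γ.hl
  exact IsPGroup.of_card (n := 1) (by rw [Nat.card_zpowers, orderOf_eq_prime c.al c.a_ne, pow_one])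

theorem S_norm_a : c.S ≤ normalizer (zpowers c.a : Set G) := by
  refine c.S_le (mem_normalizer_fintype fun y hy => ?_) (mem_normalizer_fintype fun y hy => ?_)
  · obtain ⟨k, rfl⟩ := mem_zpowers_iff.1 hy
    rw [← conj_zpow, c.xa.eq, mul_inv_cancel_right]
    exact zpow_mem (mem_zpowers _) k
  · obtain ⟨k, rfl⟩ := mem_zpowers_iff.1 hy
    rw [← conj_zpow, c.w_inv, c.wa]
    exact zpow_mem (inv_mem (mem_zpowers _)) k

theorem S_norm_Ca : c.S ≤ normalizer (c.Ca : Set G) := fun s hs => mem_normalizer_fintype fun y hy => by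
  have hy' := Subgroup.mem_centralizer_singleton_iff.1 hy
  refine Subgroup.mem_centralizer_singleton_iff.2 ?_
  obtain ⟨k, hk⟩ := mem_zpowers_iff.1 ((Subgroup.mem_normalizer_iff''.1 (c.S_norm_a hs) c.a).1 (mem_zpowers c.a))
  have e : Commute y (s⁻¹ * c.a * s) := hk ▸ (show Commute y c.a from hy').zpow_right k
  calc s * y * s⁻¹ * c.a = s * (y * (s⁻¹ * c.a * s)) * s⁻¹ := by group
    _ = c.a * (s * y * s⁻¹) := by rw [e.eq]; group

theorem z_Ca : St.z ∈ c.Ca := Subgroup.mem_centralizer_singleton_iff.2 c.az.symm.eq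

theorem i_Ca : c.i ∈ c.Ca := Subgroup.mem_centralizer_singleton_iff.2 c.ia.eq

theorem x₁_Ca : c.x₁ ∈ c.Ca := Subgroup.mem_centralizer_singleton_iff.2 c.x₁_a.eq

/-- The odd part of the centraliser of the line, and an invariant Sylow subgroup of it. -/
theorem exists_R : ∃ J R : Subgroup G, J ≤ c.Ca ∧ Odd (Nat.card J) ∧ (∀ y ∈ c.Ca, Odd (orderOf y) → y ∈ J) ∧
    c.S ≤ normalizer (J : Set G) ∧ Grp.IsSylowIn l R J ∧ c.S ≤ normalizer (R : Set G) ∧ c.a ∈ R ∧ ¬ R ≤ St.C := by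
  classical
  haveI := Fact.mk Γ.hl
  have hiso : ∀ h ∈ c.Ca, Commute St.z (h * St.z * h⁻¹) → h * St.z * h⁻¹ = St.z := by
    intro h hh hc
    by_contra hne
    refine Γ.nc_not_commute (St.nc (b := ⟨_, St.mem_C.2 hc.symm⟩) (sq_conj St.z_sq) (conj_ne_one St.z_ne) hne)
      c.ell ?_
    refine (show Commute (⟨_, St.mem_C.2 hc.symm⟩ : St.C) ⟨c.a, c.aC⟩ from Subtype.ext ?_).map St.φ
    exact Subgroup.mem_centralizer_singleton_iff.1 (mul_mem (mul_mem hh c.z_Ca) (inv_mem hh))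
  obtain ⟨K, hKH, hHK, hKodd, hKall⟩ := exists_compl_ell St c.a_l
    (St.ellAt_z.2 ⟨⟨c.a, c.aC⟩, mem_zpowers c.a, c.ell⟩) (H := c.Ca ⊓ St.C) inf_le_right
    (fun y hy => mem_normalizer_fintype fun b hb => by
      obtain ⟨k, rfl⟩ := mem_zpowers_iff.1 hb
      have hc : Commute y c.a := Subgroup.mem_centralizer_singleton_iff.1 hy.1
      rw [← conj_zpow, hc.eq, mul_inv_cancel_right]
      exact zpow_mem (mem_zpowers _) k)
  obtain ⟨J, hJ, hJn, hJodd, hJall⟩ :=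
    exists_compl_iso c.z_Ca St.z_sq St.z_ne hiso hKH hHK hKodd hKall
  have hSJ : c.S ≤ normalizer (J : Set G) := fun s hs =>
    mem_normalizer_oddPart hJ hJodd hJall (c.S_norm_Ca hs)
  haveI := c.S_two.isNilpotent
  have hcop : (Nat.card c.S).Coprime (Nat.card J) := by
    haveI : Fact (Nat.Prime 2) := ⟨Nat.prime_two⟩
    obtain ⟨k, hk⟩ := IsPGroup.iff_card.1 c.S_two
    rw [hk]
    exact (Nat.coprime_two_left.2 hJodd).pow_left _
  obtain ⟨R, hR, hSR⟩ := Grp.exists_invariant_sylow c.S J hSJ hcop (Or.inl inferInstance) l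
  have haJ : c.a ∈ J := hJall _ (Subgroup.mem_centralizer_singleton_iff.2 rfl)
    (odd_of_l (Γ := Γ) c.a_l (mem_zpowers _))
  have hRn : R ≤ normalizer (zpowers c.a : Set G) := fun y hy => mem_normalizer_fintype fun b hb => by
    obtain ⟨k, rfl⟩ := mem_zpowers_iff.1 hb
    have hc : Commute y c.a := Subgroup.mem_centralizer_singleton_iff.1 (hJ (hR.1 hy))
    rw [← conj_zpow, hc.eq, mul_inv_cancel_right]
    exact zpow_mem (mem_zpowers _) k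
  have haR : c.a ∈ R := by
    have heq := hR.eq_of_le (le_sup_right (a := zpowers c.a)) (sup_le (zpowers_le.2 haJ) hR.1)
      (c.a_l.to_sup_of_normal_left' hR.2.1 hRn)
    rw [heq]
    exact le_sup_left (b := R) (mem_zpowers c.a)
  refine ⟨J, R, hJ, hJodd, hJall, hSJ, hR, hSR, haR, fun hRC => ?_⟩
  -- an invariant Sylow subgroup containing the inverted element
  obtain ⟨k, hk⟩ := c.x₁_l
  have hx₁l : IsPGroup l (zpowers c.x₁) := IsPGroup.of_card_dvd_pow (n := k) (by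
    rw [Nat.card_zpowers]; exact orderOf_dvd_of_pow_eq_one hk)
  have hx₁J : c.x₁ ∈ J := hJall _ c.x₁_Ca (odd_of_l (Γ := Γ) hx₁l (mem_zpowers _))
  have hzx : zpowers St.z ≤ normalizer (zpowers c.x₁ : Set G) := zpowers_le.2 (mem_normalizer_fintype fun y hy => by
    obtain ⟨j, rfl⟩ := mem_zpowers_iff.1 hy
    rw [← conj_zpow, c.x₁_inv]
    exact zpow_mem (inv_mem (mem_zpowers _)) j)
  have hzS : zpowers St.z ≤ c.S := zpowers_le.2 c.z_S
  have hcop' : (Nat.card (zpowers St.z)).Coprime (Nat.card J) := by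
    rw [Nat.card_zpowers, orderOf_eq_prime (by rw [sq, St.z_sq]) St.z_ne]
    exact Nat.coprime_two_left.2 hJodd
  obtain ⟨R', hR', hzR', hxR'⟩ := Grp.exists_invariant_sylow_ge (zpowers St.z) J (hzS.trans hSJ) hcop'
    (Or.inl inferInstance) (zpowers_le.2 hx₁J) hx₁l hzx
  obtain ⟨d, hd, hdR⟩ := Grp.invariant_sylow_conj (zpowers St.z) J (hzS.trans hSJ) hcop' (Or.inl inferInstance)
    hR hR' (hzS.trans hSR) hzR'
  have hdC : d ∈ St.C := St.mem_C.2 (Subgroup.mem_centralizer_iff.1 hd.2 St.z (mem_zpowers _)).symm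
  have hxC : c.x₁ ∈ St.C := by
    have h1 := hxR' (mem_zpowers c.x₁)
    rw [← hdR, ← Grp.map_conj_eq_smul R d] at h1
    obtain ⟨y, hy, e⟩ := h1
    rw [← e]
    exact mul_mem (mul_mem hdC (hRC hy)) (inv_mem hdC)
  apply c.x₁_ne
  have h2 := c.x₁_inv
  rw [(St.mem_C.1 hxC).symm.eq, mul_inv_cancel_right] at h2
  obtain ⟨j, hj⟩ := odd_of_l (Γ := Γ) hx₁l (mem_zpowers c.x₁)
  have h3 : c.x₁ * c.x₁ = 1 := by nth_rw 1 [h2]; exact inv_mul_cancel c.x₁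
  have h4 := pow_orderOf_eq_one c.x₁
  rwa [hj, pow_succ, pow_mul, sq, h3, one_pow, one_mul] at h4

include c in
/-- The line inverted by `z` in the centraliser of a second involution is unique in an `l`-group. -/
theorem unique_line (V : St.Four) {Y : Subgroup G} (hY : IsPGroup l Y) {y y' : G} (hy : y ∈ Y) (hy' : y' ∈ Y)
    (hw : Commute y V.w) (hw' : Commute y' V.w) (hl : y ^ l = 1) (hl' : y' ^ l = 1)
    (hz : St.z * y * St.z⁻¹ = y⁻¹) (hz' : St.z * y' * St.z⁻¹ = y'⁻¹) (hy1 : y ≠ 1) : y' ∈ zpowers y := by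
  classical
  rcases eq_or_ne y' 1 with rfl | hy'1
  · exact one_mem _
  obtain ⟨h, hh, hh'⟩ := V.exists_swap
  set Y' := cj h Y with hY'
  have hYl : IsPGroup l Y' := isPGroup_cj h hY
  have key : ∀ {u : G}, u ∈ Y → Commute u V.w → u ^ l = 1 → St.z * u * St.z⁻¹ = u⁻¹ → u ≠ 1 →
      ∃ d : St.C, (d : G) = h * u * h⁻¹ ∧ Γ.Elt (St.φ d) := by
    intro u hu huw hul huz hu1
    have hC : h * u * h⁻¹ ∈ St.C := St.mem_C.2 (by rw [← hh']; exact huw.map (MulAut.conj h))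
    refine ⟨⟨_, hC⟩, rfl, Γ.elt_of_inverted (b := St.φ ⟨V.w, V.mem⟩) (fun e => hu1 (conj_eq_one_iff.1
      (congrArg Subtype.val (St.inj_of_coprime (St.cop_l hYl c.noO) (c := ⟨_, hC⟩) (d := 1) (conj_mem_cj hu)
        (one_mem _) (by rw [e, map_one]))))) ?_ ?_⟩
    · rw [← map_pow, show (⟨_, hC⟩ : St.C) ^ l = 1 from Subtype.ext (by
        rw [SubmonoidClass.coe_pow, conj_pow, hul, mul_one, mul_inv_cancel]; rfl), map_one]
    · rw [← map_inv, ← map_inv, ← map_mul, ← map_mul]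
      congr 1
      refine Subtype.ext ?_
      show V.w * (h * u * h⁻¹) * V.w⁻¹ = (h * u * h⁻¹)⁻¹
      rw [← hh, show h * St.z * h⁻¹ * (h * u * h⁻¹) * (h * St.z * h⁻¹)⁻¹ = h * (St.z * u * St.z⁻¹) * h⁻¹ by group, huz]
      group
  obtain ⟨d, hd, he⟩ := key hy hw hl hz hy1
  obtain ⟨d', hd', he'⟩ := key hy' hw' hl' hz' hy'1
  have hdY : (d : G) ∈ Y' := hd ▸ conj_mem_cj hy
  have hdY' : (d' : G) ∈ Y' := hd' ▸ conj_mem_cj hy'
  obtain ⟨k, hk⟩ := mem_zpowers_iff.1 (Γ.elt_line (St.img_isPGroup hYl) (St.mem_img.2 ⟨d, hdY, rfl⟩) he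
    (St.mem_img.2 ⟨d', hdY', rfl⟩) he')
  have heq : d ^ k = d' := St.inj_of_coprime (St.cop_l hYl c.noO) (by rw [SubgroupClass.coe_zpow]; exact zpow_mem hdY k)
    hdY' (by rw [map_zpow, hk])
  refine mem_zpowers_iff.2 ⟨k, ?_⟩
  have e := congrArg Subtype.val heq
  rw [SubgroupClass.coe_zpow, hd, hd', conj_zpow] at e
  exact mul_left_cancel (mul_right_cancel e)

/-- The two further lines. -/
structure Plane where
  J : Subgroup G
  R : Subgroup G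
  hJ : J ≤ c.Ca
  hJodd : Odd (Nat.card J)
  hJall : ∀ y ∈ c.Ca, Odd (orderOf y) → y ∈ J
  hSJ : c.S ≤ normalizer (J : Set G)
  hR : Grp.IsSylowIn l R J
  hSR : c.S ≤ normalizer (R : Set G)
  haR : c.a ∈ R
  a₁ : G
  a₂ : G
  a₁R : a₁ ∈ R
  a₂R : a₂ ∈ R
  a₁l : a₁ ^ l = 1
  a₂l : a₂ ^ l = 1
  a₁ne : a₁ ≠ 1
  a₂ne : a₂ ≠ 1
  z₁ : St.z * a₁ * St.z⁻¹ = a₁⁻¹
  z₂ : St.z * a₂ * St.z⁻¹ = a₂⁻¹
  w₁ : Commute a₁ c.w
  w₂ : Commute a₂ (St.z * c.w)
  comm : Commute a₁ a₂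
  S_norm : c.S ≤ normalizer ((zpowers a₁ ⊔ zpowers a₂ : Subgroup G) : Set G)

/-- The two lines exist. -/
theorem exists_plane : Nonempty c.Plane := by
  classical
  haveI := Fact.mk Γ.hl
  obtain ⟨J, R, hJ, hJodd, hJall, hSJ, hR, hSR, haR, hRC⟩ := c.exists_R
  obtain ⟨E₀, ⟨hE₀R, hSE₀, hE₀C⟩, hmin⟩ := Set.exists_min_image
    {E : Subgroup G | E ≤ R ∧ c.S ≤ normalizer (E : Set G) ∧ ¬ E ≤ St.C} (fun E => Nat.card E) (Set.toFinite _)
    ⟨R, le_rfl, hSR, hRC⟩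
  have hE₀l : IsPGroup l E₀ := hR.2.1.to_le hE₀R
  obtain ⟨A, A₀, hAE, hA₀A, hAC, hA₀C, hcomm, hpow, hnA, hnA₀⟩ :=
    exists_layer hE₀l hSE₀ (fun B => ¬ B ≤ St.C) hE₀C (fun h => h bot_le)
  have hAE' : A = E₀ := Subgroup.eq_of_le_of_card_ge hAE (hmin A ⟨hAE.trans hE₀R, le_sup_right.trans hnA, hAC⟩)
  subst hAE'
  push Not at hA₀C
  set E := A
  have hEodd : Odd (Nat.card E) := odd_pgroup hE₀l St
  have hzE : St.z ∈ normalizer (E : Set G) := hSE₀ c.z_S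
  have hwE : c.w ∈ normalizer (E : Set G) := hSE₀ c.w_S
  have hodd : ∀ {u : G}, u ∈ E → Odd (orderOf u) := fun hu => odd_of_l (Γ := Γ) hE₀l hu
  have hfixz : ∀ {u : G}, u ∈ St.C → St.z * u * St.z⁻¹ = u := fun {u} hu => by
    rw [(St.mem_C.1 hu).symm.eq, mul_inv_cancel_right]
  have hinv1 : ∀ {u : G}, u ∈ E → u ∈ St.C → St.z * u * St.z⁻¹ = u⁻¹ → u = 1 := fun {u} hu huC h => by
    rw [hfixz huC] at h
    have h2 : u ^ 2 = 1 := by
      rw [sq]; nth_rw 1 [h]; exact inv_mul_cancel u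
    have h3 := Nat.dvd_gcd (orderOf_dvd_of_pow_eq_one h2) (dvd_refl (orderOf u))
    rw [(Nat.coprime_two_left.2 (hodd hu)).gcd_eq_one, Nat.dvd_one, orderOf_eq_one_iff] at h3
    exact h3
  -- `E` is its own commutator with `z`
  have hcm : cm St.z E = E := by
    refine Subgroup.eq_of_le_of_card_ge (cm_le hzE) (hmin _ ⟨(cm_le hzE).trans hE₀R, fun s hs =>
      cm_stable (hSE₀ hs) (St.mem_C.1 (c.S_C hs)), fun h => hE₀C fun u hu => ?_⟩)
    obtain ⟨m, hm, hc⟩ := cm_split St.z_sq hzE hEodd hu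
    have := mul_mem (St.mem_C.2 hc.symm) (inv_mem (h hm))
    rwa [mul_inv_cancel_right] at this
  -- commutators lie in `C`
  have hcC : ∀ {u v : G}, u ∈ E → v ∈ E → u * v * u⁻¹ * v⁻¹ ∈ St.C := fun {u v} hu hv =>
    hA₀C (hcomm (Subgroup.commutator_mem_commutator hu hv))
  have hgen : ∀ {u v : G}, u ∈ E → v ∈ E → u ∈ St.C → Commute u v := by
    intro u v hu hv huC
    have hcent : E ≤ E ⊓ centralizer ({u} : Set G) := by
      refine hcm.ge.trans ((Subgroup.closure_le _).2 ?_)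
      rintro _ ⟨b, hb, rfl⟩
      set q := b⁻¹ * (St.z * b * St.z⁻¹) with hq
      have hqE : q ∈ E := mul_mem (inv_mem hb) ((Subgroup.mem_normalizer_iff.1 hzE b).1 hb)
      refine ⟨hqE, Subgroup.mem_centralizer_singleton_iff.2 ?_⟩
      have hqi : St.z * q * St.z⁻¹ = q⁻¹ := by
        rw [hq, show St.z * (b⁻¹ * (St.z * b * St.z⁻¹)) * St.z⁻¹ =
          St.z * b⁻¹ * St.z⁻¹ * ((St.z * St.z) * b * (St.z * St.z)⁻¹) by group, St.z_sq]
        group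
      have h1 : St.z * (u * q * u⁻¹ * q⁻¹) * St.z⁻¹ = u * q * u⁻¹ * q⁻¹ := hfixz (hcC hu hqE)
      rw [show St.z * (u * q * u⁻¹ * q⁻¹) * St.z⁻¹ = (St.z * u * St.z⁻¹) * (St.z * q * St.z⁻¹) *
        (St.z * u * St.z⁻¹)⁻¹ * (St.z * q * St.z⁻¹)⁻¹ by group, hfixz huC, hqi, inv_inv] at h1
      have h2 : Commute (q ^ 2) u⁻¹ := by
        show q ^ 2 * u⁻¹ = u⁻¹ * q ^ 2
        rw [sq]
        calc q * q * u⁻¹ = q * (u⁻¹ * (u * q * u⁻¹ * q⁻¹)) * q := by group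
          _ = q * (u⁻¹ * (u * q⁻¹ * u⁻¹ * q)) * q := by rw [← h1]
          _ = u⁻¹ * (q * q) := by group
      obtain ⟨m, hm⟩ := exists_pow_eq_self_of_coprime (Nat.coprime_two_left.2 (hodd hqE))
      have h3 := h2.pow_left m
      rw [hm] at h3
      exact (Commute.inv_right_iff.1 h3).eq
    exact (Subgroup.mem_centralizer_singleton_iff.1 (hcent hv).2).symm
  -- inverted elements have order `l`
  have hordl : ∀ {u : G}, u ∈ E → St.z * u * St.z⁻¹ = u⁻¹ → u ^ l = 1 := fun {u} hu h =>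
    hinv1 (pow_mem hu l) (hA₀C (hpow u hu)) (by rw [← conj_pow, h, inv_pow])
  have hsub : ∀ (W : St.Four) {B : Subgroup G}, B ≤ E ⊓ centralizer ({W.w} : Set G) → ∀ y ∈ cm St.z B,
      y ∈ E ∧ Commute y W.w := by
    intro W B hB y hy
    have h : cm St.z B ≤ E ⊓ centralizer ({W.w} : Set G) := by
      refine (Subgroup.closure_le _).2 ?_
      rintro _ ⟨b, hb, rfl⟩
      obtain ⟨hbE, hbw⟩ := hB hb
      show b⁻¹ * (St.z * b * St.z⁻¹) ∈ E ⊓ centralizer ({W.w} : Set G)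
      refine ⟨E.mul_mem (E.inv_mem hbE) ((Subgroup.mem_normalizer_iff.1 hzE b).1 hbE),
        Subgroup.mem_centralizer_singleton_iff.2 ?_⟩
      have h1 : Commute b W.w := Subgroup.mem_centralizer_singleton_iff.1 hbw
      exact (h1.inv_left.mul_left ((W.comm.symm.mul_left h1).mul_left W.comm.symm.inv_left)).eq
    exact ⟨(h hy).1, Subgroup.mem_centralizer_singleton_iff.1 (h hy).2⟩
  have hlines : ∀ W : St.Four, ∃ a' ∈ E, St.z * a' * St.z⁻¹ = a'⁻¹ ∧ Commute a' W.w ∧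
      cm St.z (E ⊓ centralizer ({W.w} : Set G)) ≤ zpowers a' := by
    intro W
    by_cases h : ∃ b ∈ E ⊓ centralizer ({W.w} : Set G), b⁻¹ * (St.z * b * St.z⁻¹) ≠ 1
    · obtain ⟨b, hb, hne⟩ := h
      have hgenz : ∀ b' ∈ E ⊓ centralizer ({W.w} : Set G),
          St.z * (b'⁻¹ * (St.z * b' * St.z⁻¹)) * St.z⁻¹ = (b'⁻¹ * (St.z * b' * St.z⁻¹))⁻¹ := fun b' _ => by
        rw [show St.z * (b'⁻¹ * (St.z * b' * St.z⁻¹)) * St.z⁻¹ =
          St.z * b'⁻¹ * St.z⁻¹ * ((St.z * St.z) * b' * (St.z * St.z)⁻¹) by group, St.z_sq]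
        group
      obtain ⟨h1, h2⟩ := hsub W le_rfl _ (cm_mem (z := St.z) hb)
      refine ⟨_, h1, hgenz b hb, h2, (Subgroup.closure_le _).2 ?_⟩
      rintro _ ⟨b', hb', rfl⟩
      obtain ⟨h1', h2'⟩ := hsub W le_rfl _ (cm_mem (z := St.z) hb')
      exact c.unique_line W hE₀l h1 h1' h2 h2' (hordl h1 (hgenz b hb)) (hordl h1' (hgenz b' hb')) (hgenz b hb)
        (hgenz b' hb') hne
    · push Not at h
      refine ⟨1, one_mem _, by simp, Commute.one_left _, (Subgroup.closure_le _).2 ?_⟩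
      rintro _ ⟨b, hb, rfl⟩
      rw [h b hb]
      exact one_mem _
  obtain ⟨b₁, hb₁, hbz₁, hbw₁, hL₁⟩ := hlines c.V
  obtain ⟨b₂, hb₂, hbz₂, hbw₂, hL₂⟩ := hlines c.V'
  have hEgen : E ≤ zpowers b₁ ⊔ zpowers b₂ := by
    refine (cm_gen Γ.hl2 St.z_sq c.ww c.wz.symm.eq hE₀l hzE hwE hcm).ge.trans (sup_le ?_ ?_)
    · exact hL₁.trans le_sup_left
    · exact hL₂.trans le_sup_right
  -- `i` exchanges the two lines
  have hiconj : ∀ {u : G}, u ∈ E → St.z * u * St.z⁻¹ = u⁻¹ → c.i * u * c.i⁻¹ ∈ E ∧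
      St.z * (c.i * u * c.i⁻¹) * St.z⁻¹ = (c.i * u * c.i⁻¹)⁻¹ := fun {u} hu h =>
    ⟨(Subgroup.mem_normalizer_iff.1 (hSE₀ c.i_S) u).1 hu, by
      calc St.z * (c.i * u * c.i⁻¹) * St.z⁻¹ = (St.z * c.i) * u * (St.z * c.i)⁻¹ := by group
        _ = (c.i * St.z) * u * (c.i * St.z)⁻¹ := by rw [c.iz.eq]
        _ = (c.i * u * c.i⁻¹)⁻¹ := by
          rw [show c.i * St.z * u * (c.i * St.z)⁻¹ = c.i * (St.z * u * St.z⁻¹) * c.i⁻¹ by group, h]; group⟩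
  have hiw : ∀ {u : G}, Commute u c.w → Commute (c.i * u * c.i⁻¹) (St.z * c.w) := fun {u} h => by
    rw [← c.iwi]; exact h.map (MulAut.conj c.i)
  have hiw' : ∀ {u : G}, Commute u (St.z * c.w) → Commute (c.i * u * c.i⁻¹) c.w := fun {u} h => by
    have e : c.i * (St.z * c.w) * c.i⁻¹ = c.w := by
      rw [← c.iwi, show c.i * (c.i * c.w * c.i⁻¹) * c.i⁻¹ = (c.i * c.i) * c.w * (c.i * c.i)⁻¹ by group, c.ii,
        ← c.wz.eq, mul_inv_cancel_right]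
    rw [← e]; exact h.map (MulAut.conj c.i)
  obtain ⟨a₁, ha₁, ha₁1, hz₁, hw₁⟩ : ∃ a₁ ∈ E, a₁ ≠ 1 ∧ St.z * a₁ * St.z⁻¹ = a₁⁻¹ ∧ Commute a₁ c.w := by
    by_cases h1 : b₁ = 1
    · have h2 : b₂ ≠ 1 := fun h2 => hE₀C fun u hu => by
        have := hEgen hu
        rw [h1, h2, Subgroup.zpowers_one_eq_bot, bot_sup_eq, Subgroup.mem_bot] at this
        rw [this]; exact one_mem _
      obtain ⟨h3, h4⟩ := hiconj hb₂ hbz₂
      exact ⟨_, h3, fun e => h2 (conj_eq_one_iff.1 e), h4, hiw' hbw₂⟩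
    · exact ⟨b₁, hb₁, h1, hbz₁, hbw₁⟩
  obtain ⟨a₂, ha₂def⟩ : ∃ a₂, a₂ = c.i * a₁ * c.i⁻¹ := ⟨_, rfl⟩
  obtain ⟨ha₂, hz₂⟩ : a₂ ∈ E ∧ St.z * a₂ * St.z⁻¹ = a₂⁻¹ := by rw [ha₂def]; exact hiconj ha₁ hz₁
  have hw₂ : Commute a₂ (St.z * c.w) := by rw [ha₂def]; exact hiw hw₁
  have ha₂1 : a₂ ≠ 1 := fun e => ha₁1 (conj_eq_one_iff.1 (ha₂def ▸ e))
  have hal₁ := hordl ha₁ hz₁
  have hal₂ := hordl ha₂ hz₂
  have hEeq : E = zpowers a₁ ⊔ zpowers a₂ := by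
    refine le_antisymm (hEgen.trans (sup_le_sup (zpowers_le.2 ?_) (zpowers_le.2 ?_)))
      (sup_le (zpowers_le.2 ha₁) (zpowers_le.2 ha₂))
    · exact c.unique_line c.V hE₀l ha₁ hb₁ hw₁ hbw₁ hal₁ (hordl hb₁ hbz₁) hz₁ hbz₁ ha₁1
    · exact c.unique_line c.V' hE₀l ha₂ hb₂ hw₂ hbw₂ hal₂ (hordl hb₂ hbz₂) hz₂ hbz₂ ha₂1
  -- commutators
  set cb : G → G → G := fun u v => u * v * u⁻¹ * v⁻¹ with hcb
  have hcz : ∀ {u v y}, u ∈ E → v ∈ E → y ∈ E → Commute (cb u v) y := fun {u v y} hu hv hy =>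
    hgen (mul_mem (mul_mem (mul_mem hu hv) (inv_mem hu)) (inv_mem hv)) hy (hcC hu hv)
  have hmulr : ∀ {u v v'}, u ∈ E → v ∈ E → v' ∈ E → cb u (v * v') = cb u v * cb u v' := fun {u v v'} hu hv hv' => by
    calc cb u (v * v') = cb u v * (v * cb u v' * v⁻¹) := by simp only [hcb]; group
      _ = cb u v * cb u v' := by rw [← (hcz hu hv' hv).eq, mul_inv_cancel_right]
  have hanti : ∀ u v, cb u v = (cb v u)⁻¹ := fun u v => by simp only [hcb]; group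
  have hmull : ∀ {u u' v}, u ∈ E → u' ∈ E → v ∈ E → cb (u * u') v = cb u v * cb u' v := fun {u u' v} hu hu' hv => by
    rw [hanti, hmulr hv hu hu', _root_.mul_inv_rev, ← hanti, ← hanti]
    exact ((hcz hu' hv (mul_mem (mul_mem (mul_mem hu hv) (inv_mem hu)) (inv_mem hv))).eq)
  have hzp : ∀ {u v : G}, u ∈ E → v ∈ E → ∀ k : ℤ, cb u (v ^ k) = cb u v ^ k := fun {u v} hu hv k => by
    let f : E →* G :=
      { toFun := fun y => cb u y
        map_one' := by simp [hcb]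
        map_mul' := fun y y' => hmulr hu y.2 y'.2 }
    exact map_zpow f ⟨v, hv⟩ k
  have hself : ∀ u, cb u u = 1 := fun u => by simp [hcb]
  have hcen : ∀ {u d}, u ∈ E → d ∈ E → d ∈ St.C → cb u d = 1 := fun {u d} hu hd hdC => by
    simp only [hcb]
    rw [← (hgen hd hu hdC).eq, mul_inv_cancel_right, mul_inv_cancel]
  set c₀ := cb a₁ a₂ with hc₀
  -- `c₀` is a power of `a`
  have hca₀ : c₀ ∈ zpowers c.a := by
    have hcC₀ : c₀ ∈ St.C := hcC ha₁ ha₂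
    have hcR : c₀ ∈ R := mul_mem (mul_mem (mul_mem (hE₀R ha₁) (hE₀R ha₂)) (inv_mem (hE₀R ha₁))) (inv_mem (hE₀R ha₂))
    by_cases h1 : c₀ = 1
    · rw [h1]; exact one_mem _
    have hl0 : c₀ ^ l = 1 := by
      rw [← zpow_natCast, ← hzp ha₁ ha₂, zpow_natCast, hal₂, hcen ha₁ (one_mem _) (one_mem _)]
    have hw0 : c.w * c₀ * c.w⁻¹ = c₀⁻¹ := by
      have e1 : c.w * a₁ * c.w⁻¹ = a₁ := by rw [hw₁.symm.eq, mul_inv_cancel_right]
      have e2 : c.w * a₂ * c.w⁻¹ = a₂⁻¹ := by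
        have h : c.w * a₂ * c.w⁻¹ = St.z * ((St.z * c.w) * a₂ * (St.z * c.w)⁻¹) * St.z⁻¹ := by
          rw [show St.z * ((St.z * c.w) * a₂ * (St.z * c.w)⁻¹) * St.z⁻¹ =
            (St.z * St.z) * c.w * a₂ * c.w⁻¹ * (St.z * St.z)⁻¹ by group, St.z_sq]
          group
        rw [h, hw₂.symm.eq, mul_inv_cancel_right, hz₂]
      have e : c.w * cb a₁ a₂ * c.w⁻¹ = cb (c.w * a₁ * c.w⁻¹) (c.w * a₂ * c.w⁻¹) := by simp only [hcb]; group
      rw [hc₀, e, e1, e2, ← _root_.zpow_neg_one a₂, hzp ha₁ ha₂, _root_.zpow_neg_one]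
    have hRl : IsPGroup l R := hR.2.1
    have helt : Γ.Elt (St.φ ⟨c₀, hcC₀⟩) := by
      refine Γ.elt_of_inverted (b := St.φ ⟨c.w, c.wC⟩) (fun e => h1 (congrArg Subtype.val
        (St.inj_of_coprime (St.cop_l hRl c.noO) (c := ⟨c₀, hcC₀⟩) (d := 1) hcR (one_mem _) (by rw [e, map_one])))) ?_ ?_
      · rw [← map_pow, show (⟨c₀, hcC₀⟩ : St.C) ^ l = 1 from Subtype.ext (by rw [SubmonoidClass.coe_pow]; exact hl0),
          map_one]
      · rw [← map_inv, ← map_inv, ← map_mul, ← map_mul]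
        congr 1
        exact Subtype.ext hw0
    obtain ⟨k, hk⟩ := mem_zpowers_iff.1 (Γ.elt_line (St.img_isPGroup hRl) (St.mem_img.2 ⟨⟨c.a, c.aC⟩, haR, rfl⟩)
      c.ell (St.mem_img.2 ⟨⟨c₀, hcC₀⟩, hcR, rfl⟩) helt)
    have heq := St.inj_of_coprime (St.cop_l hRl c.noO) (c := (⟨c.a, c.aC⟩ : St.C) ^ k) (d := ⟨c₀, hcC₀⟩)
      (by rw [SubgroupClass.coe_zpow]; exact zpow_mem haR k) hcR (by rw [map_zpow, hk])
    exact mem_zpowers_iff.2 ⟨k, by simpa using congrArg Subtype.val heq⟩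
  -- decomposition
  have hdec : ∀ v ∈ E, ∃ k m : ℤ, ∃ d ∈ E, d ∈ St.C ∧ v = a₁ ^ k * a₂ ^ m * d := by
    intro v hv
    let P : Subgroup G :=
      { carrier := {v | ∃ k m : ℤ, ∃ d ∈ E, d ∈ St.C ∧ v = a₁ ^ k * a₂ ^ m * d}
        one_mem' := ⟨0, 0, 1, one_mem _, one_mem _, by simp⟩
        mul_mem' := by
          rintro _ _ ⟨k, m, d, hd, hdC, rfl⟩ ⟨k', m', d', hd', hd'C, rfl⟩
          refine ⟨k + k', m + m', cb (a₂ ^ m) (a₁ ^ k') * (d * d'), ?_, ?_, ?_⟩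
          · exact mul_mem (mul_mem (mul_mem (mul_mem (zpow_mem ha₂ m) (zpow_mem ha₁ k'))
              (inv_mem (zpow_mem ha₂ m))) (inv_mem (zpow_mem ha₁ k'))) (mul_mem hd hd')
          · exact mul_mem (hcC (zpow_mem ha₂ m) (zpow_mem ha₁ k')) (mul_mem hdC hd'C)
          · calc a₁ ^ k * a₂ ^ m * d * (a₁ ^ k' * a₂ ^ m' * d')
                = a₁ ^ k * a₂ ^ m * (d * (a₁ ^ k' * a₂ ^ m')) * d' := by group
              _ = a₁ ^ k * a₂ ^ m * ((a₁ ^ k' * a₂ ^ m') * d) * d' := by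
                rw [(hgen hd (mul_mem (zpow_mem ha₁ k') (zpow_mem ha₂ m')) hdC).eq]
              _ = a₁ ^ k * (cb (a₂ ^ m) (a₁ ^ k') * (a₁ ^ k' * a₂ ^ m)) * a₂ ^ m' * (d * d') := by
                simp only [hcb]; group
              _ = a₁ ^ k * ((a₁ ^ k' * a₂ ^ m) * cb (a₂ ^ m) (a₁ ^ k')) * a₂ ^ m' * (d * d') := by
                rw [(hcz (zpow_mem ha₂ m) (zpow_mem ha₁ k') (mul_mem (zpow_mem ha₁ k') (zpow_mem ha₂ m))).eq]
              _ = a₁ ^ k * (a₁ ^ k' * a₂ ^ m) * (cb (a₂ ^ m) (a₁ ^ k') * a₂ ^ m') * (d * d') := by group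
              _ = a₁ ^ (k + k') * a₂ ^ (m + m') * (cb (a₂ ^ m) (a₁ ^ k') * (d * d')) := by
                rw [(hcz (zpow_mem ha₂ m) (zpow_mem ha₁ k') (zpow_mem ha₂ m')).eq]; group
        inv_mem' := by
          rintro _ ⟨k, m, d, hd, hdC, rfl⟩
          refine ⟨-k, -m, cb (a₂ ^ (-m)) (a₁ ^ (-k)) * d⁻¹, ?_, ?_, ?_⟩
          · exact mul_mem (mul_mem (mul_mem (mul_mem (zpow_mem ha₂ _) (zpow_mem ha₁ _))
              (inv_mem (zpow_mem ha₂ _))) (inv_mem (zpow_mem ha₁ _))) (inv_mem hd)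
          · exact mul_mem (hcC (zpow_mem ha₂ _) (zpow_mem ha₁ _)) (inv_mem hdC)
          · calc (a₁ ^ k * a₂ ^ m * d)⁻¹ = d⁻¹ * (a₂ ^ (-m) * a₁ ^ (-k)) := by group
              _ = (a₂ ^ (-m) * a₁ ^ (-k)) * d⁻¹ :=
                (hgen (inv_mem hd) (mul_mem (zpow_mem ha₂ _) (zpow_mem ha₁ _)) (inv_mem hdC)).eq
              _ = cb (a₂ ^ (-m)) (a₁ ^ (-k)) * (a₁ ^ (-k) * a₂ ^ (-m)) * d⁻¹ := by simp only [hcb]; group
              _ = a₁ ^ (-k) * a₂ ^ (-m) * (cb (a₂ ^ (-m)) (a₁ ^ (-k)) * d⁻¹) := by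
                rw [(hcz (zpow_mem ha₂ _) (zpow_mem ha₁ _) (mul_mem (zpow_mem ha₁ _) (zpow_mem ha₂ _))).eq,
                  mul_assoc] }
    have hle : zpowers a₁ ⊔ zpowers a₂ ≤ P :=
      sup_le (zpowers_le.2 ⟨1, 0, 1, one_mem _, one_mem _, by simp⟩)
        (zpowers_le.2 ⟨0, 1, 1, one_mem _, one_mem _, by simp⟩)
    exact hle (hEeq.le hv)
  -- the element `w x` inverts `a`, so fixes no nontrivial commutator
  set q := c.w * c.x with hq
  have hqq : q * q = St.z := by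
    rw [hq, ← mul_assoc, c.x_inv, mul_assoc, c.xz.symm.eq, inv_mul_cancel_left]
  have hqz : Commute q St.z := c.wz.mul_left c.xz
  have hqE : ∀ {u}, u ∈ E → q * u * q⁻¹ ∈ E := fun {u} hu =>
    (Subgroup.mem_normalizer_iff.1 (hSE₀ (mul_mem c.w_S c.x_S)) u).1 hu
  have hqa : q * c₀ * q⁻¹ = c₀⁻¹ := by
    obtain ⟨k, hk⟩ := mem_zpowers_iff.1 hca₀
    rw [← hk, ← conj_zpow, show q * c.a * q⁻¹ = c.w * (c.x * c.a * c.x⁻¹) * c.w⁻¹ by rw [hq]; group, c.xa.eq,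
      mul_inv_cancel_right, c.w_inv, c.wa, _root_.inv_zpow]
  have hpair : ∀ {u v}, u ∈ E → v ∈ E → q * cb u v * q⁻¹ = (cb u v)⁻¹ := by
    intro u v hu hv
    obtain ⟨k, m, d, hd, hdC, rfl⟩ := hdec u hu
    obtain ⟨k', m', d', hd', hd'C, rfl⟩ := hdec v hv
    have e : ∃ j : ℤ, cb (a₁ ^ k * a₂ ^ m * d) (a₁ ^ k' * a₂ ^ m' * d') = c₀ ^ j := by
      refine ⟨k * m' - m * k', ?_⟩
      have p1 : ∀ (y : G), y ∈ E → cb y (a₁ ^ k' * a₂ ^ m' * d') = cb y a₁ ^ k' * cb y a₂ ^ m' := fun y hy => by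
        rw [hmulr hy (mul_mem (zpow_mem ha₁ _) (zpow_mem ha₂ _)) hd', hcen hy hd' hd'C, mul_one,
          hmulr hy (zpow_mem ha₁ _) (zpow_mem ha₂ _), hzp hy ha₁, hzp hy ha₂]
      rw [hmull (mul_mem (zpow_mem ha₁ _) (zpow_mem ha₂ _)) hd hv, hanti d, hcen hv hd hdC, inv_one, mul_one,
        hmull (zpow_mem ha₁ _) (zpow_mem ha₂ _) hv, p1 _ (zpow_mem ha₁ _), p1 _ (zpow_mem ha₂ _),
        hanti (a₁ ^ k) a₁, hanti (a₁ ^ k) a₂, hanti (a₂ ^ m) a₁, hanti (a₂ ^ m) a₂, hzp ha₁ ha₁, hzp ha₂ ha₁,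
        hzp ha₁ ha₂, hzp ha₂ ha₂, hself, hself, hanti a₂ a₁, ← hc₀]
      simp only [_root_.one_zpow, inv_one, one_mul, mul_one, _root_.inv_zpow, inv_inv, ← _root_.zpow_mul,
        ← _root_.zpow_neg, ← _root_.zpow_add]
      congr 1
      ring
    obtain ⟨j, hj⟩ := e
    rw [hj, ← conj_zpow, hqa, _root_.inv_zpow]
  have hone : ∀ {u}, u ∈ E → (∀ y ∈ E, cb y (St.z * u * St.z⁻¹) = (cb y u)⁻¹) →
      cb u (q * u * q⁻¹) = 1 := by
    intro u hu hz'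
    set v := q * u * q⁻¹
    have hv : v ∈ E := hqE hu
    have h1 : q * cb u v * q⁻¹ = cb u v := by
      have e : q * cb u v * q⁻¹ = cb v (q * v * q⁻¹) := by simp only [hcb, v]; group
      rw [e, show q * v * q⁻¹ = St.z * u * St.z⁻¹ by
        show q * (q * u * q⁻¹) * q⁻¹ = St.z * u * St.z⁻¹
        rw [← hqq]; group, hz' v hv, ← hanti]
    rw [hpair hu hv] at h1
    have h2 : (cb u v) ^ 2 = 1 := by rw [sq]; nth_rw 1 [← h1]; exact inv_mul_cancel _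
    have hmem : cb u v ∈ E := mul_mem (mul_mem (mul_mem hu hv) (inv_mem hu)) (inv_mem hv)
    have h3 := Nat.dvd_gcd (orderOf_dvd_of_pow_eq_one h2) (dvd_refl (orderOf (cb u v)))
    rw [(Nat.coprime_two_left.2 (hodd hmem)).gcd_eq_one, Nat.dvd_one, orderOf_eq_one_iff] at h3
    exact h3
  have hzinv : ∀ {u}, u ∈ E → St.z * u * St.z⁻¹ = u⁻¹ → ∀ y ∈ E, cb y (St.z * u * St.z⁻¹) = (cb y u)⁻¹ :=
    fun {u} hu h y hy => by rw [h, ← _root_.zpow_neg_one, hzp hy hu, _root_.zpow_neg_one]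
  have hc1 : c₀ = 1 := by
    by_contra hne
    have hoc : orderOf c₀ = l := by
      refine orderOf_eq_prime ?_ hne
      rw [← zpow_natCast, ← hzp ha₁ ha₂, zpow_natCast, hal₂, hcen ha₁ (one_mem _) (one_mem _)]
    obtain ⟨p, r, d, hd, hdC, hθ⟩ := hdec _ (hqE ha₁)
    have h1 := hone ha₁ (hzinv ha₁ hz₁)
    rw [hθ, hmulr ha₁ (mul_mem (zpow_mem ha₁ _) (zpow_mem ha₂ _)) hd, hcen ha₁ hd hdC, mul_one,
      hmulr ha₁ (zpow_mem ha₁ _) (zpow_mem ha₂ _), hzp ha₁ ha₁, hzp ha₁ ha₂, hself, _root_.one_zpow, one_mul,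
      ← hc₀] at h1
    have hr : a₂ ^ r = 1 := by
      have h := orderOf_dvd_iff_zpow_eq_one.2 h1
      rw [hoc] at h
      exact orderOf_dvd_iff_zpow_eq_one.1 (dvd_trans (Int.natCast_dvd_natCast.2 (orderOf_dvd_of_pow_eq_one hal₂)) h)
    rw [hr, mul_one] at hθ
    have hqi : q * c.i * q⁻¹ = c.i⁻¹ := by
      rw [hq, show c.w * c.x * c.i * (c.w * c.x)⁻¹ = c.w * (c.x * c.i * c.x⁻¹) * c.w⁻¹ by group]
      rw [show c.x * c.i * c.x⁻¹ = c.i by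
        rw [(show Commute c.x c.i from (Commute.refl c.x).pow_right _).eq, mul_inv_cancel_right], c.w_inv, c.wiw]
    have hii : c.i⁻¹ = St.z * c.i := by
      refine inv_eq_of_mul_eq_one_right ?_
      rw [← mul_assoc, c.iz.eq, mul_assoc, c.ii, St.z_sq]
    set d' := c.i⁻¹ * d * c.i with hd'
    have hd'E : d' ∈ E := (Subgroup.mem_normalizer_iff''.1 (hSE₀ c.i_S) d).1 hd
    have hd'C : d' ∈ St.C := mul_mem (mul_mem (inv_mem (c.S_C c.i_S)) hdC) (c.S_C c.i_S)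
    have hθ₂ : q * a₂ * q⁻¹ = a₂ ^ (-p) * d' := by
      have h2 : c.i⁻¹ * a₁ * c.i = a₂⁻¹ := by
        rw [← hz₂, ha₂def]
        calc c.i⁻¹ * a₁ * c.i = c.i⁻¹ * a₁ * c.i⁻¹⁻¹ := by rw [inv_inv]
          _ = (St.z * c.i) * a₁ * (St.z * c.i)⁻¹ := by rw [hii]
          _ = St.z * (c.i * a₁ * c.i⁻¹) * St.z⁻¹ := by group
      calc q * a₂ * q⁻¹ = (q * c.i * q⁻¹) * (q * a₁ * q⁻¹) * (q * c.i * q⁻¹)⁻¹ := by rw [ha₂def]; group
        _ = (c.i⁻¹ * a₁ * c.i⁻¹⁻¹) ^ p * d' := by rw [hqi, hθ, hd', conj_zpow]; group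
        _ = a₂ ^ (-p) * d' := by rw [inv_inv, h2, _root_.inv_zpow, _root_.zpow_neg]
    have hu : a₁ * a₂ ∈ E := mul_mem ha₁ ha₂
    have h3 := hone hu (fun y hy => by
      rw [show St.z * (a₁ * a₂) * St.z⁻¹ = (St.z * a₁ * St.z⁻¹) * (St.z * a₂ * St.z⁻¹) by group,
        hmulr hy ((Subgroup.mem_normalizer_iff.1 hzE _).1 ha₁) ((Subgroup.mem_normalizer_iff.1 hzE _).1 ha₂),
        hzinv ha₁ hz₁ y hy, hzinv ha₂ hz₂ y hy, hmulr hy ha₁ ha₂, _root_.mul_inv_rev (cb y a₁) (cb y a₂)]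
      exact ((hcz hy ha₁ (mul_mem (mul_mem (mul_mem hy ha₂) (inv_mem hy)) (inv_mem ha₂))).inv_inv).eq)
    have hθu : q * (a₁ * a₂) * q⁻¹ = a₁ ^ p * a₂ ^ (-p) * (d * d') := by
      calc q * (a₁ * a₂) * q⁻¹ = (q * a₁ * q⁻¹) * (q * a₂ * q⁻¹) := by group
        _ = a₁ ^ p * (d * a₂ ^ (-p)) * d' := by rw [hθ, hθ₂]; group
        _ = _ := by rw [(hgen hd (zpow_mem ha₂ _) hdC).eq]; group
    rw [hθu, hmulr hu (mul_mem (zpow_mem ha₁ _) (zpow_mem ha₂ _)) (mul_mem hd hd'E),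
      hcen hu (mul_mem hd hd'E) (mul_mem hdC hd'C), mul_one,
      hmulr hu (zpow_mem ha₁ _) (zpow_mem ha₂ _), hzp hu ha₁, hzp hu ha₂, hmull ha₁ ha₂ ha₁, hmull ha₁ ha₂ ha₂,
      hself, hself, one_mul, mul_one, hanti a₂ a₁, ← hc₀, _root_.inv_zpow, ← _root_.zpow_neg,
      ← _root_.zpow_add] at h3
    have hp : a₁ ^ p = 1 := by
      have h := orderOf_dvd_iff_zpow_eq_one.2 h3
      rw [hoc, show -p + -p = -(2 * p) by ring, Int.dvd_neg] at h
      have hl2 : ¬ (l : ℤ) ∣ 2 := fun h' => Γ.hl2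
        ((Nat.prime_dvd_prime_iff_eq Γ.hl Nat.prime_two).1 (by exact_mod_cast h'))
      exact orderOf_dvd_iff_zpow_eq_one.1 (dvd_trans (Int.natCast_dvd_natCast.2 (orderOf_dvd_of_pow_eq_one hal₁))
        (((Nat.prime_iff_prime_int.1 Γ.hl).dvd_or_dvd h).resolve_left hl2))
    rw [hp, one_mul] at hθ
    apply ha₁1
    have hqC : q ∈ St.C := c.S_C (mul_mem c.w_S c.x_S)
    have : a₁ ∈ St.C := by
      rw [show a₁ = q⁻¹ * (q * a₁ * q⁻¹) * q by group, hθ]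
      exact mul_mem (mul_mem (inv_mem hqC) hdC) hqC
    exact hinv1 ha₁ this hz₁
  refine ⟨⟨J, R, hJ, hJodd, hJall, hSJ, hR, hSR, haR, a₁, a₂, hE₀R ha₁, hE₀R ha₂, hal₁, hal₂, ha₁1, ha₂1, hz₁,
    hz₂, hw₁, hw₂, ?_, hEeq ▸ hSE₀⟩⟩
  rw [hc₀] at hc1
  simp only [hcb] at hc1
  exact mul_inv_eq_iff_eq_mul.1 (mul_inv_eq_one.1 hc1)

end Core

end Sett

end Cfsg.Agent.Invol.AbgOrder.Ell
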