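import Cfsg.Agent.Lib.Invol.AbgOrder.EllOneElem

/-!
# The exceptional configuration: an element exchanging two of the three lines

A conjugate of `z` to `w` can be adjusted to map the line inverted by `z` in the centraliser of `w` to the central
one and back.
-/

set_option autoImplicit false
set_option linter.unusedSectionVars false
set_option linter.style.haveILetI false

namespace Cfsg.Agent.Invol.AbgOrder.Ell

open Subgroup Matrix Cfsg.Agent.Classical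
open scoped Pointwise

universe u v

namespace Sett

namespace Core

variable {G : Type u} [Group G] [Finite G] {X : Type u} [Group X] [Finite X] {F : Type v} [Field F] [Fintype F]
  {l : ℕ} {Γ : Gam X F l} {St : Sett G Γ} {c : Core St}

namespace Plane

variable (P : c.Plane)

/-- The elementary abelian group. -/
def A : Subgroup G := zpowers c.a ⊔ (zpowers P.a₁ ⊔ zpowers P.a₂)

theorem a_A : c.a ∈ P.A := le_sup_left (b := zpowers P.a₁ ⊔ zpowers P.a₂) (mem_zpowers c.a)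

theorem a₁_A : P.a₁ ∈ P.A :=
  le_sup_right (a := zpowers c.a) (le_sup_left (b := zpowers P.a₂) (mem_zpowers P.a₁))

theorem a₂_A : P.a₂ ∈ P.A :=
  le_sup_right (a := zpowers c.a) (le_sup_right (a := zpowers P.a₁) (mem_zpowers P.a₂))

theorem ca₁ : Commute c.a P.a₁ :=
  (show Commute P.a₁ c.a from Subgroup.mem_centralizer_singleton_iff.1 (P.hJ (P.hR.1 P.a₁R))).symm

theorem ca₂ : Commute c.a P.a₂ :=
  (show Commute P.a₂ c.a from Subgroup.mem_centralizer_singleton_iff.1 (P.hJ (P.hR.1 P.a₂R))).symm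

theorem A_R : P.A ≤ P.R :=
  sup_le (zpowers_le.2 P.haR) (sup_le (zpowers_le.2 P.a₁R) (zpowers_le.2 P.a₂R))

theorem S_A : c.S ≤ normalizer (P.A : Set G) := fun _ hs =>
  mem_normalizer_sup (c.S_norm_a hs) (P.S_norm hs)

theorem A_comm {u v : G} (hu : u ∈ P.A) (hv : v ∈ P.A) : Commute u v := by
  have h : P.A ≤ centralizer (P.A : Set G) := by
    have key : ∀ b ∈ ({c.a, P.a₁, P.a₂} : Set G), P.A ≤ centralizer ({b} : Set G) := by
      intro b hb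
      refine sup_le (zpowers_le.2 ?_) (sup_le (zpowers_le.2 ?_) (zpowers_le.2 ?_)) <;>
        refine Subgroup.mem_centralizer_singleton_iff.2 ?_ <;> rcases hb with rfl | rfl | rfl
      exacts [rfl, P.ca₁.eq, P.ca₂.eq, P.ca₁.symm.eq, rfl, P.comm.eq, P.ca₂.symm.eq, P.comm.symm.eq, rfl]
    rw [Subgroup.le_centralizer_iff]
    refine sup_le (zpowers_le.2 ?_) (sup_le (zpowers_le.2 ?_) (zpowers_le.2 ?_)) <;>
      refine Subgroup.mem_centralizer_iff.2 fun y hy => ?_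
    · exact Subgroup.mem_centralizer_singleton_iff.1 (key c.a (Or.inl rfl) hy)
    · exact Subgroup.mem_centralizer_singleton_iff.1 (key P.a₁ (Or.inr (Or.inl rfl)) hy)
    · exact Subgroup.mem_centralizer_singleton_iff.1 (key P.a₂ (Or.inr (Or.inr rfl)) hy)
  exact Subgroup.mem_centralizer_iff.1 (h hv) u hu

/-- An element exchanging the first two lines. -/
theorem exists_g : ∃ g : G, g ∈ normalizer (P.A : Set G) ∧ g * c.a * g⁻¹ ∈ zpowers P.a₁ ∧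
    g * P.a₁ * g⁻¹ ∈ zpowers c.a ∧ g * P.a₂ * g⁻¹ ∈ zpowers P.a₂ := by
  classical
  haveI := Fact.mk Γ.hl
  obtain ⟨g₀, hg₀, hg₀'⟩ := c.V.exists_swap
  have hg₀' : g₀ * c.w * g₀⁻¹ = St.z := hg₀'
  have hg₀ : g₀ * St.z * g₀⁻¹ = c.w := hg₀
  -- the image of the first line inverted by `z` in `C(w)` is elliptic, inverted by `w`
  set b₀ := g₀ * P.a₁ * g₀⁻¹ with hb₀
  have hb₀C : b₀ ∈ St.C := St.mem_C.2 (by rw [← hg₀']; exact P.w₁.map (MulAut.conj g₀))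
  have hb₀l : b₀ ^ l = 1 := by rw [hb₀, conj_pow, P.a₁l, mul_one, mul_inv_cancel]
  have hb₀1 : b₀ ≠ 1 := fun e => P.a₁ne (conj_eq_one_iff.1 e)
  have hb₀w : c.w * b₀ * c.w⁻¹ = b₀⁻¹ := by
    rw [← hg₀, hb₀, show g₀ * St.z * g₀⁻¹ * (g₀ * P.a₁ * g₀⁻¹) * (g₀ * St.z * g₀⁻¹)⁻¹ =
      g₀ * (St.z * P.a₁ * St.z⁻¹) * g₀⁻¹ by group, P.z₁]
    group
  have hb₀p : IsPGroup l (zpowers b₀) := IsPGroup.of_card_dvd_pow (n := 1) (by
    rw [Nat.card_zpowers, pow_one]; exact orderOf_dvd_of_pow_eq_one hb₀l)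
  set bX := St.φ ⟨c.w, c.wC⟩ with hbX
  have hNC : Γ.NC bX := St.nc (b := ⟨c.w, c.wC⟩) c.ww c.w_ne c.w_nez
  have hinv₀ : Γ.Inv bX (St.φ ⟨b₀, hb₀C⟩) := by
    have hw0 : bX * St.φ ⟨b₀, hb₀C⟩ * bX⁻¹ = (St.φ ⟨b₀, hb₀C⟩)⁻¹ := by
      rw [hbX, ← map_inv, ← map_inv, ← map_mul, ← map_mul]
      congr 1
      exact Subtype.ext hb₀w
    refine ⟨Γ.elt_of_inverted (fun e => hb₀1 (congrArg Subtype.val (St.inj_of_coprime (St.cop_l hb₀p c.noO)
      (c := ⟨b₀, hb₀C⟩) (d := 1) (mem_zpowers b₀) (one_mem _) (by rw [e, map_one])))) ?_ hw0, hw0⟩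
    rw [← map_pow, show (⟨b₀, hb₀C⟩ : St.C) ^ l = 1 from Subtype.ext (by rw [SubmonoidClass.coe_pow]; exact hb₀l),
      map_one]
  have hinva : Γ.Inv bX (St.φ ⟨c.a, c.aC⟩) := ⟨c.ell, by
    rw [hbX, ← map_inv, ← map_inv, ← map_mul, ← map_mul]
    congr 1
    refine Subtype.ext ?_
    show c.w * c.a * c.w⁻¹ = c.a⁻¹
    rw [c.w_inv, c.wa]⟩
  obtain ⟨gm, hgm, htz, hd⟩ := Γ.nc_rep hNC
  obtain ⟨t, ht, hte⟩ := Γ.trans_inv hgm htz hd hinv₀ hinva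
  obtain ⟨d₀, -, hd₀⟩ := St.cov_top (Γ.c.ι t)
  obtain ⟨d, -, hdw, hdφ⟩ := St.exists_fix_lift (H := ⊤) (b := ⟨c.w, c.wC⟩) (c := d₀) c.ww
    (mem_normalizer_fintype fun y _ => mem_top _) (mem_top _)
    (by rw [hd₀]; exact ((Γ.conj_nc hgm t).1.2 ht).symm)
  have hdw : Commute (d : G) c.w := (show Commute c.w (d : G) from hdw).symm
  have hdz : Commute (d : G) St.z := St.mem_C.1 d.2
  set g₁ := (d : G) * g₀ with hg₁def
  have hg₁ : g₁ * St.z * g₁⁻¹ = c.w := by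
    rw [hg₁def, show (d : G) * g₀ * St.z * ((d : G) * g₀)⁻¹ = (d : G) * (g₀ * St.z * g₀⁻¹) * (d : G)⁻¹ by group, hg₀,
      hdw.eq, mul_inv_cancel_right]
  have hg₁' : g₁ * c.w * g₁⁻¹ = St.z := by
    rw [hg₁def, show (d : G) * g₀ * c.w * ((d : G) * g₀)⁻¹ = (d : G) * (g₀ * c.w * g₀⁻¹) * (d : G)⁻¹ by group, hg₀',
      hdz.eq, mul_inv_cancel_right]
  -- correct by an element of the kernel
  set b₁ := g₁ * P.a₁ * g₁⁻¹ with hb₁
  have hb₁eq : b₁ = (d : G) * b₀ * (d : G)⁻¹ := by rw [hb₁, hb₀, hg₁def]; group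
  have hb₁C : b₁ ∈ St.C := hb₁eq ▸ mul_mem (mul_mem d.2 hb₀C) (inv_mem d.2)
  have hb₁φ : St.φ ⟨b₁, hb₁C⟩ ∈ zpowers (St.φ ⟨c.a, c.aC⟩) := by
    rw [show (⟨b₁, hb₁C⟩ : St.C) = d * ⟨b₀, hb₀C⟩ * d⁻¹ from Subtype.ext hb₁eq, map_mul, map_mul, map_inv, hdφ, hd₀]
    exact hte
  set J' := zpowers c.a ⊔ St.O with hJ'
  have haO : zpowers c.a ≤ normalizer (St.O : Set G) := zpowers_le.2 (mem_normalizer_fintype fun y hy =>
    St.O_conj c.aC hy)
  have hb₁J : b₁ ∈ J' := by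
    obtain ⟨k, hk⟩ := mem_zpowers_iff.1 hb₁φ
    have h1 := St.sub_mem_O (c := (⟨c.a, c.aC⟩ : St.C) ^ k) (d := ⟨b₁, hb₁C⟩) (by rw [map_zpow, hk])
    rw [SubgroupClass.coe_zpow] at h1
    have := mul_mem (le_sup_left (b := St.O) (zpow_mem (mem_zpowers c.a) k)) (le_sup_right (a := zpowers c.a) h1)
    rwa [mul_inv_cancel_left] at this
  have hJ'card : Nat.card J' ∣ l * Nat.card St.O := by
    refine (Grp.card_sup_dvd_mul (H := zpowers c.a) (N := St.O) haO).trans ?_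
    rw [Nat.card_zpowers, orderOf_eq_prime c.al c.a_ne]
  have hJ'odd : Odd (Nat.card J') := ((Γ.hl.odd_of_ne_two Γ.hl2).mul St.O_odd).of_dvd_nat hJ'card
  have hsyl : ∀ {b : G}, b ∈ J' → b ^ l = 1 → b ≠ 1 → Grp.IsSylowIn l (zpowers b) J' := fun {b} hb hbl hb1 => by
    have ho := orderOf_eq_prime hbl hb1
    refine ⟨zpowers_le.2 hb, IsPGroup.of_card (n := 1) (by rw [Nat.card_zpowers, ho, pow_one]), fun hd => ?_⟩
    have h1 := Grp.card_mul_relIndex (zpowers_le.2 hb : zpowers b ≤ J')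
    rw [Nat.card_zpowers, ho] at h1
    have h2 : l * l ∣ l * Nat.card St.O := (mul_dvd_mul_left l hd).trans (h1 ▸ hJ'card)
    exact (Γ.hl.factorization_pos_of_dvd Nat.card_pos.ne' (Nat.dvd_of_mul_dvd_mul_left Γ.hl.pos h2)).ne' c.noO
  have hb₁1 : b₁ ≠ 1 := fun e => P.a₁ne (conj_eq_one_iff.1 e)
  have hb₁l : b₁ ^ l = 1 := by rw [hb₁, conj_pow, P.a₁l, mul_one, mul_inv_cancel]
  set W := c.V.W with hW
  haveI : Fact (Nat.Prime 2) := ⟨Nat.prime_two⟩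
  haveI := c.V.W_l.isNilpotent
  have hcopW : ∀ {M : Subgroup G}, Odd (Nat.card M) → (Nat.card W).Coprime (Nat.card M) := fun {M} hM => by
    obtain ⟨k, hk⟩ := IsPGroup.iff_card.1 c.V.W_l
    rw [hk]
    exact (Nat.coprime_two_left.2 hM).pow_left _
  have hWS : W ≤ c.S := c.V.W_le c.z_S c.w_S
  have hWC : W ≤ St.C := hWS.trans c.S_C
  have hWJ' : W ≤ normalizer (J' : Set G) := fun s hs =>
    mem_normalizer_sup (c.S_norm_a (hWS hs)) (mem_normalizer_fintype fun y hy => St.O_conj (hWC hs) hy)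
  have hWb₁ : W ≤ normalizer (zpowers b₁ : Set G) := c.V.W_le
    (mem_normalizer_fintype fun y hy => by
      obtain ⟨k, rfl⟩ := mem_zpowers_iff.1 hy
      rw [← conj_zpow, ← (St.mem_C.1 hb₁C).eq, mul_inv_cancel_right]
      exact zpow_mem (mem_zpowers _) k)
    (mem_normalizer_fintype fun y hy => by
      obtain ⟨k, rfl⟩ := mem_zpowers_iff.1 hy
      rw [← conj_zpow, show c.V.w = c.w from rfl, hb₁, ← hg₁,
        show g₁ * St.z * g₁⁻¹ * (g₁ * P.a₁ * g₁⁻¹) * (g₁ * St.z * g₁⁻¹)⁻¹ = g₁ * (St.z * P.a₁ * St.z⁻¹) * g₁⁻¹ by group,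
        P.z₁, ← conj_inv]
      exact zpow_mem (inv_mem (mem_zpowers _)) k)
  have hWa : W ≤ normalizer (zpowers c.a : Set G) := hWS.trans c.S_norm_a
  obtain ⟨e, he, heq⟩ := Grp.invariant_sylow_conj W J' hWJ' (hcopW hJ'odd) (Or.inl inferInstance)
    (hsyl hb₁J hb₁l hb₁1) (hsyl (le_sup_left (b := St.O) (mem_zpowers c.a)) c.al c.a_ne) hWb₁ hWa
  have hez : Commute e St.z := (Subgroup.mem_centralizer_iff.1 he.2 St.z c.V.z_mem_W).symm
  have hew : Commute e c.w := (Subgroup.mem_centralizer_iff.1 he.2 c.w c.V.w_mem_W).symm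
  set g₂ := e * g₁ with hg₂def
  have hg₂ : g₂ * St.z * g₂⁻¹ = c.w := by
    rw [hg₂def, show e * g₁ * St.z * (e * g₁)⁻¹ = e * (g₁ * St.z * g₁⁻¹) * e⁻¹ by group, hg₁, hew.eq,
      mul_inv_cancel_right]
  have hg₂' : g₂ * c.w * g₂⁻¹ = St.z := by
    rw [hg₂def, show e * g₁ * c.w * (e * g₁)⁻¹ = e * (g₁ * c.w * g₁⁻¹) * e⁻¹ by group, hg₁', hez.eq,
      mul_inv_cancel_right]
  have hg₂a₁ : g₂ * P.a₁ * g₂⁻¹ ∈ zpowers c.a := by
    rw [← heq, show g₂ * P.a₁ * g₂⁻¹ = e * b₁ * e⁻¹ by rw [hg₂def, hb₁]; group]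
    exact Subgroup.smul_mem_pointwise_smul b₁ (MulAut.conj e) (zpowers b₁) (mem_zpowers b₁)
  -- move the other two lines into the invariant Sylow subgroup
  set Y := (zpowers c.a ⊔ zpowers P.a₂) with hY
  have hYl : IsPGroup l Y := P.hR.2.1.to_le (sup_le (zpowers_le.2 P.haR) (zpowers_le.2 P.a₂R))
  set Y2 := cj g₂ Y with hY2
  have hY2J : Y2 ≤ P.J := by
    rintro _ ⟨y, hy, rfl⟩
    refine P.hJall _ (Subgroup.mem_centralizer_singleton_iff.2 ?_) (odd_of_l (Γ := Γ) (isPGroup_cj g₂ hYl)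
      (conj_mem_cj hy))
    have hyA : y ∈ P.A := sup_le (zpowers_le.2 P.a_A) (zpowers_le.2 P.a₂_A) hy
    have h1 : Commute (g₂ * y * g₂⁻¹) (g₂ * P.a₁ * g₂⁻¹) := (P.A_comm hyA P.a₁_A).map (MulAut.conj g₂)
    obtain ⟨k, hk⟩ := mem_zpowers_iff.1 hg₂a₁
    have hm : c.a ∈ zpowers (g₂ * P.a₁ * g₂⁻¹) := by
      have hle : zpowers c.a ≤ zpowers (g₂ * P.a₁ * g₂⁻¹) := by
        refine (Subgroup.eq_of_le_of_card_ge (zpowers_le.2 hg₂a₁) ?_).ge
        rw [Nat.card_zpowers, Nat.card_zpowers, orderOf_eq_prime c.al c.a_ne,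
          orderOf_eq_prime (by rw [conj_pow, P.a₁l, mul_one, mul_inv_cancel]) (fun e => P.a₁ne (conj_eq_one_iff.1 e))]
      exact hle (mem_zpowers _)
    obtain ⟨m, hm'⟩ := mem_zpowers_iff.1 hm
    show g₂ * y * g₂⁻¹ * c.a = c.a * (g₂ * y * g₂⁻¹)
    exact (hm' ▸ h1.zpow_right m : Commute (g₂ * y * g₂⁻¹) c.a).eq
  have hnY : ∀ s : G, s = St.z ∨ s = c.w → s ∈ normalizer (Y : Set G) := by
    intro s hs
    refine mem_normalizer_sup (c.S_norm_a ?_) (mem_normalizer_fintype fun y hy => ?_)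
    · rcases hs with rfl | rfl
      exacts [c.z_S, c.w_S]
    · obtain ⟨k, rfl⟩ := mem_zpowers_iff.1 hy
      have e : s * P.a₂ * s⁻¹ = P.a₂⁻¹ := by
        rcases hs with rfl | rfl
        · exact P.z₂
        · have h : c.w * P.a₂ * c.w⁻¹ = St.z * ((St.z * c.w) * P.a₂ * (St.z * c.w)⁻¹) * St.z⁻¹ := by
            rw [show St.z * ((St.z * c.w) * P.a₂ * (St.z * c.w)⁻¹) * St.z⁻¹ =
              (St.z * St.z) * c.w * P.a₂ * c.w⁻¹ * (St.z * St.z)⁻¹ by group, St.z_sq]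
            group
          rw [h, P.w₂.symm.eq, mul_inv_cancel_right, P.z₂]
      rw [← conj_zpow, e]
      exact zpow_mem (inv_mem (mem_zpowers _)) k
  have hWY2 : W ≤ normalizer (Y2 : Set G) := c.V.W_le
    (mem_normalizer_cj (by
      rw [← hg₂', show g₂⁻¹ * (g₂ * c.w * g₂⁻¹) * g₂ = c.w by group]
      exact hnY c.w (Or.inr rfl)))
    (mem_normalizer_cj (by
      rw [show c.V.w = c.w from rfl, ← hg₂, show g₂⁻¹ * (g₂ * St.z * g₂⁻¹) * g₂ = St.z by group]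
      exact hnY _ (Or.inl rfl)))
  have hWJ : W ≤ normalizer (P.J : Set G) := hWS.trans P.hSJ
  obtain ⟨R', hR', hWR', hYR'⟩ := Grp.exists_invariant_sylow_ge W P.J hWJ (hcopW P.hJodd) (Or.inl inferInstance)
    hY2J (isPGroup_cj g₂ hYl) hWY2
  obtain ⟨f, hf, hfeq⟩ := Grp.invariant_sylow_conj W P.J hWJ (hcopW P.hJodd) (Or.inl inferInstance)
    hR' P.hR hWR' (hWS.trans P.hSR)
  have hfz : Commute f St.z := (Subgroup.mem_centralizer_iff.1 hf.2 St.z c.V.z_mem_W).symm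
  have hfw : Commute f c.w := (Subgroup.mem_centralizer_iff.1 hf.2 c.w c.V.w_mem_W).symm
  have hfa : Commute f c.a := Subgroup.mem_centralizer_singleton_iff.1 (P.hJ hf.1)
  set g := f * g₂ with hgdef
  have hg : g * St.z * g⁻¹ = c.w := by
    rw [hgdef, show f * g₂ * St.z * (f * g₂)⁻¹ = f * (g₂ * St.z * g₂⁻¹) * f⁻¹ by group, hg₂, hfw.eq,
      mul_inv_cancel_right]
  have hg' : g * c.w * g⁻¹ = St.z := by
    rw [hgdef, show f * g₂ * c.w * (f * g₂)⁻¹ = f * (g₂ * c.w * g₂⁻¹) * f⁻¹ by group, hg₂', hfz.eq,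
      mul_inv_cancel_right]
  have hga₁ : g * P.a₁ * g⁻¹ ∈ zpowers c.a := by
    obtain ⟨k, hk⟩ := mem_zpowers_iff.1 hg₂a₁
    rw [hgdef, show f * g₂ * P.a₁ * (f * g₂)⁻¹ = f * (g₂ * P.a₁ * g₂⁻¹) * f⁻¹ by group, ← hk,
      (hfa.zpow_right k).eq, mul_inv_cancel_right]
    exact zpow_mem (mem_zpowers _) k
  have hin : ∀ {y}, y ∈ Y → g * y * g⁻¹ ∈ P.R := fun {y} hy => by
    rw [← hfeq, show g * y * g⁻¹ = f * (g₂ * y * g₂⁻¹) * f⁻¹ by rw [hgdef]; group]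
    exact Subgroup.smul_mem_pointwise_smul _ (MulAut.conj f) R' (hYR' (conj_mem_cj hy))
  have hga : g * c.a * g⁻¹ ∈ zpowers P.a₁ := by
    refine c.unique_line c.V P.hR.2.1 P.a₁R (hin (le_sup_left (b := zpowers P.a₂) (mem_zpowers c.a))) P.w₁ ?_ P.a₁l
      (by rw [conj_pow, c.al, mul_one, mul_inv_cancel]) P.z₁ ?_ P.a₁ne
    · show Commute (g * c.a * g⁻¹) c.w
      rw [← hg]; exact c.az.map (MulAut.conj g)
    · rw [← hg', show g * c.w * g⁻¹ * (g * c.a * g⁻¹) * (g * c.w * g⁻¹)⁻¹ = g * (c.w * c.a * c.w⁻¹) * g⁻¹ by group,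
        c.w_inv, c.wa]
      group
  have hga₂ : g * P.a₂ * g⁻¹ ∈ zpowers P.a₂ := by
    have hw2 : c.w * P.a₂ * c.w⁻¹ = P.a₂⁻¹ := by
      calc c.w * P.a₂ * c.w⁻¹ = St.z⁻¹ * ((St.z * c.w) * P.a₂ * (St.z * c.w)⁻¹) * St.z := by group
        _ = St.z * P.a₂ * St.z⁻¹ := by rw [P.w₂.symm.eq, mul_inv_cancel_right, St.z_inv]
        _ = P.a₂⁻¹ := P.z₂
    refine c.unique_line c.V' P.hR.2.1 P.a₂R (hin (le_sup_right (a := zpowers c.a) (mem_zpowers P.a₂))) P.w₂ ?_ P.a₂l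
      (by rw [conj_pow, P.a₂l, mul_one, mul_inv_cancel]) P.z₂ ?_ P.a₂ne
    · show Commute (g * P.a₂ * g⁻¹) (St.z * c.w)
      have h : g * (St.z * c.w) * g⁻¹ = St.z * c.w := by
        rw [show g * (St.z * c.w) * g⁻¹ = (g * St.z * g⁻¹) * (g * c.w * g⁻¹) by group, hg, hg', c.wz.eq]
      rw [← h]; exact P.w₂.map (MulAut.conj g)
    · rw [← hg', show g * c.w * g⁻¹ * (g * P.a₂ * g⁻¹) * (g * c.w * g⁻¹)⁻¹ = g * (c.w * P.a₂ * c.w⁻¹) * g⁻¹ by group,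
        hw2]
      group
  refine ⟨g, mem_normalizer_fintype fun y hy => ?_, hga, hga₁, hga₂⟩
  have hle : cj g P.A ≤ P.A := by
    rw [A, cj, Subgroup.map_sup, Subgroup.map_sup, MonoidHom.map_zpowers, MonoidHom.map_zpowers, MonoidHom.map_zpowers]
    refine sup_le (zpowers_le.2 ?_) (sup_le (zpowers_le.2 ?_) (zpowers_le.2 ?_))
    · exact zpowers_le.2 P.a₁_A hga
    · exact zpowers_le.2 P.a_A hga₁
    · exact zpowers_le.2 P.a₂_A hga₂
  exact hle (conj_mem_cj hy)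

end Plane

end Core

end Sett

end Cfsg.Agent.Invol.AbgOrder.Ell
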