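import Cfsg.Agent.Lib.Invol.AbgOrder.EllLayer
import Cfsg.Agent.Lib.Invol.AbgOrder.EllComm

/-!
# Elements fixing the functional of a layer

`f_sq`: an element commuting with `w` and inverted by `z` whose conjugation kills the commutators of `z` with the
`zw`-part has a square fixing the functional.
-/

set_option autoImplicit false
set_option linter.unusedSectionVars false
set_option linter.style.haveILetI false

namespace Cfsg.Agent.Invol.AbgOrder.Ell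

open Subgroup Matrix Cfsg.Agent.Classical
open scoped commutatorElement

universe u v

namespace Gam

variable {X : Type u} [Group X] [Finite X] {F : Type v} [Field F] [Fintype F] {l : ℕ} (Γ : Gam X F l)

/-- An `l`-group has at most one elliptic line. -/
theorem elt_line {Y : Subgroup X} (hY : IsPGroup l Y) {e e' : X} (he : e ∈ Y) (hE : Γ.Elt e) (he' : e' ∈ Y)
    (hE' : Γ.Elt e') : e' ∈ zpowers e := by
  obtain ⟨c, -, hc, hcc⟩ := Γ.elt_central hY he hE.1 hE.2.1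
  obtain ⟨i, hi⟩ := mem_zpowers_iff.1 (Γ.elt_unique hc hE (hcc e he).symm)
  obtain ⟨i', hi'⟩ := mem_zpowers_iff.1 (Γ.elt_unique hc hE' (hcc e' he').symm)
  exact Γ.elt_unique hE hE' (by rw [← hi, ← hi']; exact Commute.zpow_zpow_self c i i')

end Gam

namespace Sett

variable {G : Type u} [Group G] [Finite G] {X : Type u} [Group X] [Finite X] {F : Type v} [Field F] [Fintype F]
  {l : ℕ} {Γ : Gam X F l} {St : Sett G Γ}

theorem not_ellAt_bot (b : G) : ¬ St.EllAt b ⊥ := by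
  rintro ⟨g, -, x, hx, he⟩
  obtain ⟨h, hh, rfl⟩ := St.mem_img.1 hx
  rw [mem_cj, Subgroup.mem_bot] at hh
  have h1 : h = 1 := Subtype.ext (by
    calc (h : G) = g * (g⁻¹ * (h : G) * g) * g⁻¹ := by group
      _ = 1 := by rw [hh, mul_one, mul_inv_cancel])
  exact he.2.1 (by rw [h1, map_one])

/-- An odd normal subgroup of a subgroup of the centralizer normalising an elliptic `l`-group. -/
theorem exists_compl_ell (St : Sett G Γ) {Y H : Subgroup G} (hY : IsPGroup l Y) (hell : St.EllAt St.z Y)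
    (hH : H ≤ St.C) (hHY : H ≤ normalizer (Y : Set G)) :
    ∃ K : Subgroup G, K ≤ H ∧ H ≤ normalizer (K : Set G) ∧ Odd (Nat.card K) ∧
      ∀ x ∈ H, Odd (orderOf x) → x ∈ K := by
  obtain ⟨y, hy, he⟩ := St.ellAt_z.1 hell
  have hline : ∀ {c : St.C}, (c : G) ∈ normalizer (Y : Set G) → St.φ c ∈ normalizer (zpowers (St.φ y) : Set X) :=
    fun {c} hc => mem_normalizer_fintype fun a ha => by
      obtain ⟨i, rfl⟩ := mem_zpowers_iff.1 ha
      rw [← conj_zpow]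
      refine zpow_mem (Γ.elt_line (St.img_isPGroup hY) (St.mem_img.2 ⟨y, hy, rfl⟩) he ?_ (Γ.elt_conj he _)) i
      exact St.mem_img.2 ⟨c * y * c⁻¹, (Subgroup.mem_normalizer_iff.1 hc _).1 hy, by rw [map_mul, map_mul, map_inv]⟩
  obtain ⟨K, -, hNK, hKodd, hKtwo⟩ := Γ.exists_compl he
  refine ⟨(K.comap St.φ).map St.C.subtype ⊓ H, inf_le_right, fun h hh => ?_, St.pre_odd hKodd, fun x hx hox => ?_⟩
  · refine mem_normalizer_inf (mem_normalizer_fintype ?_) (Subgroup.le_normalizer hh)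
    rintro _ ⟨k, hk, rfl⟩
    refine ⟨⟨h, hH hh⟩ * k * (⟨h, hH hh⟩ : St.C)⁻¹, ?_, rfl⟩
    rw [SetLike.mem_coe, Subgroup.mem_comap, map_mul, map_mul, map_inv]
    exact (Subgroup.mem_normalizer_iff.1 (hNK (hline (hHY hh))) _).1 hk
  · obtain ⟨j, hj⟩ := hKtwo _ (hline (c := ⟨x, hH hx⟩) (hHY hx))
    have hodd : Odd (orderOf (St.φ ⟨x, hH hx⟩)) := hox.of_dvd_nat ((orderOf_map_dvd St.φ _).trans ?_)
    · exact ⟨⟨⟨x, hH hx⟩, (St.mem_of_two_pow hodd hj : St.φ ⟨x, hH hx⟩ ∈ K), rfl⟩, hx⟩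
    rw [← Subgroup.orderOf_coe]

/-- A layer inside an elliptic `l`-group. -/
theorem exists_lay (V : St.Four) {N H : Subgroup G} (hN : IsPGroup l N) (hH : H ≤ normalizer (N : Set G))
    (hzH : St.z ∈ normalizer (N : Set G)) (hwH : V.w ∈ normalizer (N : Set G)) (hell : St.EllAt St.z N) :
    ∃ A A₀ : Subgroup G, Lay V A A₀ ∧ A ≤ N ∧ ⁅A, N⁆ ≤ A₀ ∧ N ≤ normalizer (A : Set G) ∧
      N ≤ normalizer (A₀ : Set G) ∧ H ≤ normalizer (A : Set G) ∧ H ≤ normalizer (A₀ : Set G) := by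
  haveI := Fact.mk Γ.hl
  obtain ⟨A, A₀, hAN, h0, hA, hA0, hcomm, hpow, hJA, hJA0⟩ :=
    exists_layer hN (H := H ⊔ zpowers St.z ⊔ zpowers V.w)
      (sup_le (sup_le hH (zpowers_le.2 hzH)) (zpowers_le.2 hwH)) (St.EllAt St.z) hell (not_ellAt_bot _)
  have hz' : St.z ∈ N ⊔ (H ⊔ zpowers St.z ⊔ zpowers V.w) :=
    le_sup_right (a := N) (le_sup_left (b := zpowers V.w) (le_sup_right (a := H) (mem_zpowers _)))
  have hw' : V.w ∈ N ⊔ (H ⊔ zpowers St.z ⊔ zpowers V.w) :=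
    le_sup_right (a := N) (le_sup_right (a := H ⊔ zpowers St.z) (mem_zpowers _))
  have hle : H ≤ N ⊔ (H ⊔ zpowers St.z ⊔ zpowers V.w) := (le_sup_left.trans le_sup_left).trans le_sup_right
  exact ⟨A, A₀, ⟨h0, hN.to_le hAN, (Subgroup.commutator_mono le_rfl hAN).trans hcomm, hpow, hJA hz', hJA hw',
    hJA0 hz', hJA0 hw', hA, hA0⟩, hAN, hcomm, le_sup_left.trans hJA, le_sup_left.trans hJA0, hle.trans hJA,
    hle.trans hJA0⟩

namespace Lay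

variable {V : St.Four} {A A₀ : Subgroup G} (L : Lay V A A₀)
include L

theorem conj_mem {t a : G} (ht : t ∈ normalizer (A : Set G)) (ha : a ∈ A) : t * a * t⁻¹ ∈ A :=
  (Subgroup.mem_normalizer_iff.1 ht a).1 ha

theorem f_zpow_sq {a : G} (ha : a ∈ A) (h : V.f A A₀ a * V.f A A₀ a = 1) : V.f A A₀ a = 1 := by
  have h2 : orderOf (V.f A A₀ a) ∣ Nat.gcd 2 l :=
    Nat.dvd_gcd (orderOf_dvd_of_pow_eq_one (by rw [sq, h])) (orderOf_dvd_of_pow_eq_one (L.f_pow ha))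
  rwa [((Nat.coprime_primes Nat.prime_two Γ.hl).2 Γ.hl2.symm).gcd_eq_one, Nat.dvd_one, orderOf_eq_one_iff] at h2

/-- The two involutions inverting the functional. -/
theorem other_inv {b : G} (hb : b = V.w ∨ b = St.z * V.w) :
    b * b = 1 ∧ Commute b St.z ∧ b ∈ normalizer (A : Set G) ∧
      ∀ a ∈ A, V.f A A₀ (b * a * b⁻¹) = (V.f A A₀ a)⁻¹ := by
  rcases hb with rfl | rfl
  · exact ⟨V.sq, V.comm, L.wA, fun a ha => L.f_w ha⟩
  · refine ⟨?_, (Commute.refl St.z).mul_left V.comm, mul_mem L.zA L.wA, fun a ha => ?_⟩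
    · rw [mul_assoc, ← mul_assoc V.w, V.comm.eq, mul_assoc St.z V.w, V.sq, mul_one, St.z_sq]
    · rw [show St.z * V.w * a * (St.z * V.w)⁻¹ = St.z * (V.w * a * V.w⁻¹) * St.z⁻¹ by group,
        L.f_z (L.conj_mem L.wA ha), L.f_w ha]

/-- Elements centralised by `w` or `zw` modulo `A₀`. -/
theorem f_bfix {b : G} (hb : b = V.w ∨ b = St.z * V.w) {a : G} (ha : a ∈ A) (h : a⁻¹ * (b * a * b⁻¹) ∈ A₀) :
    V.f A A₀ a = 1 := by
  obtain ⟨-, -, hbA, hbf⟩ := L.other_inv hb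
  refine L.f_zpow_sq ha ?_
  have e := L.f_A₀ h
  rw [L.f_mul (A.inv_mem ha) (L.conj_mem hbA ha), L.f_inv ha, hbf a ha, ← _root_.mul_inv_rev, inv_eq_one] at e
  exact e

/-- The elements of the normalizer fixing the functional. -/
def fixer : Subgroup G where
  carrier := {h | h ∈ normalizer (A : Set G) ∧ ∀ a ∈ A, V.f A A₀ (h * a * h⁻¹) = V.f A A₀ a}
  one_mem' := ⟨one_mem _, fun a _ => by rw [one_mul, inv_one, mul_one]⟩
  mul_mem' := fun {x x'} hx hx' => ⟨mul_mem hx.1 hx'.1, fun a ha => by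
    rw [show x * x' * a * (x * x')⁻¹ = x * (x' * a * x'⁻¹) * x⁻¹ by group,
      hx.2 _ (L.conj_mem hx'.1 ha), hx'.2 a ha]⟩
  inv_mem' := fun {x} hx => ⟨inv_mem hx.1, fun a ha => by
    have h := hx.2 _ (L.conj_mem (inv_mem hx.1) ha)
    rw [show x * (x⁻¹ * a * x⁻¹⁻¹) * x⁻¹ = a by group] at h
    exact h.symm⟩

theorem mem_fixer {h : G} :
    h ∈ L.fixer ↔ h ∈ normalizer (A : Set G) ∧ ∀ a ∈ A, V.f A A₀ (h * a * h⁻¹) = V.f A A₀ a := Iff.rfl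

/-- Elements commuting with `A` modulo a subgroup killed by the functional. -/
theorem mem_fixer_of_zero {x : G} (hx : x ∈ normalizer (A : Set G))
    (h : ∀ a ∈ A, V.f A A₀ (⁅x, a⁆) = 1) : x ∈ L.fixer := by
  refine ⟨hx, fun a ha => ?_⟩
  have hc : ⁅x, a⁆ ∈ A := by rw [commutatorElement_def]; exact A.mul_mem (L.conj_mem hx ha) (A.inv_mem ha)
  have e : x * a * x⁻¹ = ⁅x, a⁆ * a := by rw [commutatorElement_def, inv_mul_cancel_right]
  rw [e, L.f_mul hc ha, h a ha, one_mul]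

/-- The trick. -/
theorem f_sq {b₀ t : G} (hb₀ : b₀ = V.w ∨ b₀ = St.z * V.w) (htA : t ∈ normalizer (A : Set G))
    (htA₀ : t ∈ normalizer (A₀ : Set G)) (htw : Commute t b₀)
    (htz : St.z * t * St.z⁻¹ = t⁻¹)
    (hd : ∀ c ∈ A, Commute c (St.z * b₀) → V.f A A₀ (t * (c⁻¹ * (St.z * c * St.z⁻¹)) * t⁻¹) = 1) :
    t * t ∈ L.fixer := by
  obtain ⟨hsq, hbz, hwA, hbf⟩ := L.other_inv hb₀
  have hm : ∀ a ∈ A, ∀ b ∈ A, V.f A A₀ (t * (a * b) * t⁻¹) =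
      V.f A A₀ (t * a * t⁻¹) * V.f A A₀ (t * b * t⁻¹) := fun a ha b hb => by
    rw [show t * (a * b) * t⁻¹ = t * a * t⁻¹ * (t * b * t⁻¹) by group,
      L.f_mul (L.conj_mem htA ha) (L.conj_mem htA hb)]
  have hinv : ∀ a ∈ A, V.f A A₀ (t * a⁻¹ * t⁻¹) = (V.f A A₀ (t * a * t⁻¹))⁻¹ := fun a ha => by
    rw [show t * a⁻¹ * t⁻¹ = (t * a * t⁻¹)⁻¹ by group, L.f_inv (L.conj_mem htA ha)]
  have hA0 : ∀ a ∈ A₀, V.f A A₀ (t * a * t⁻¹) = 1 := fun a ha =>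
    L.f_A₀ ((Subgroup.mem_normalizer_iff.1 htA₀ a).1 ha)
  have hwfix : ∀ a ∈ A, a⁻¹ * (b₀ * a * b₀⁻¹) ∈ A₀ → V.f A A₀ (t * a * t⁻¹) = 1 := fun a ha h => by
    refine L.f_bfix hb₀ (L.conj_mem htA ha) ?_
    have e := (Subgroup.mem_normalizer_iff.1 htA₀ _).1 h
    rwa [show t * (a⁻¹ * (b₀ * a * b₀⁻¹)) * t⁻¹ = (t * a * t⁻¹)⁻¹ * ((t * b₀) * a * (t * b₀)⁻¹) by group,
      htw.eq, show b₀ * t * a * (b₀ * t)⁻¹ = b₀ * (t * a * t⁻¹) * b₀⁻¹ by group] at e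
  have hpair : ∀ {b : G}, b * b = 1 → b ∈ normalizer (A : Set G) → ∀ a ∈ A,
      (a * (b * a * b⁻¹))⁻¹ * (b * (a * (b * a * b⁻¹)) * b⁻¹) ∈ A₀ := fun {b} hb hbA a ha => by
    have hzz : b * (b * a * b⁻¹) * b⁻¹ = a := by
      rw [show b * (b * a * b⁻¹) * b⁻¹ = b * b * a * (b * b)⁻¹ by group, hb, one_mul, inv_one, mul_one]
    rw [show b * (a * (b * a * b⁻¹)) * b⁻¹ = (b * a * b⁻¹) * (b * (b * a * b⁻¹) * b⁻¹) by group, hzz,
      _root_.mul_inv_rev,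
      show (b * a * b⁻¹)⁻¹ * a⁻¹ * (b * a * b⁻¹ * a) = ⁅(b * a * b⁻¹)⁻¹, a⁻¹⁆ by
        rw [commutatorElement_def, inv_inv, inv_inv]; group]
    exact L.comm (Subgroup.commutator_mem_commutator (A.inv_mem (L.conj_mem hbA ha)) (A.inv_mem ha))
  have hw : ∀ a ∈ A, V.f A A₀ (t * (b₀ * a * b₀⁻¹) * t⁻¹) = (V.f A A₀ (t * a * t⁻¹))⁻¹ := fun a ha => by
    refine (eq_inv_of_mul_eq_one_right ?_)
    rw [← hm a ha _ (L.conj_mem hwA ha)]
    exact hwfix _ (A.mul_mem ha (L.conj_mem hwA ha)) (hpair hsq hwA a ha)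
  have hzwA : St.z * b₀ ∈ normalizer (A : Set G) := mul_mem L.zA hwA
  have hzw : St.z * b₀ * (St.z * b₀) = 1 := by
    rw [mul_assoc, ← mul_assoc b₀, hbz.eq, mul_assoc St.z b₀, hsq, mul_one, St.z_sq]
  -- the `zw`-fixed part
  have hc : ∀ c ∈ A, Commute c (St.z * b₀) → V.f A A₀ (t * c * t⁻¹) = 1 := fun c hcA hcc => by
    have h := hd c hcA hcc
    have e : St.z * c * St.z⁻¹ = b₀ * c * b₀⁻¹ := by
      calc St.z * c * St.z⁻¹ = St.z * (c * (St.z * b₀)) * (St.z * b₀)⁻¹ * St.z⁻¹ := by group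
        _ = St.z * St.z * b₀ * c * b₀⁻¹ * (St.z * St.z)⁻¹ := by rw [hcc.eq]; group
        _ = _ := by rw [St.z_sq, one_mul, inv_one, mul_one]
    rw [e, hm _ (A.inv_mem hcA) _ (L.conj_mem hwA hcA), hinv c hcA, hw c hcA, ← _root_.mul_inv_rev, inv_eq_one] at h
    exact L.f_zpow_sq (L.conj_mem htA hcA) h
  have hz : ∀ a ∈ A, V.f A A₀ (t * (St.z * a * St.z⁻¹) * t⁻¹) = V.f A A₀ (t * a * t⁻¹) := fun a ha => by
    set a₂ := a * (b₀ * a * b₀⁻¹)⁻¹ with ha₂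
    have hwa := L.conj_mem hwA ha
    have ha₂A : a₂ ∈ A := A.mul_mem ha (A.inv_mem hwa)
    set b := St.z * b₀ with hb
    have hba : b * a₂ * b⁻¹ ∈ A := L.conj_mem hzwA ha₂A
    obtain ⟨m, hm', hmc⟩ := exists_fix hzw L.odd_A₀ (hpair hzw hzwA a₂ ha₂A)
    have h0 : V.f A A₀ (t * (a₂ * (b * a₂ * b⁻¹)) * t⁻¹) = 1 := by
      have h1 := hc _ (A.mul_mem (A.mul_mem ha₂A hba) (L.le hm')) hmc.symm
      rwa [hm _ (A.mul_mem ha₂A hba) _ (L.le hm'), hA0 m hm', mul_one] at h1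
    rw [hm _ ha₂A _ hba] at h0
    have hw2 : b₀ * a₂ * b₀⁻¹ = a₂⁻¹ := by
      rw [ha₂, show b₀ * (a * (b₀ * a * b₀⁻¹)⁻¹) * b₀⁻¹ =
        b₀ * a * b₀⁻¹ * (b₀ * b₀ * a⁻¹ * (b₀ * b₀)⁻¹) by group, hsq, one_mul, inv_one, mul_one,
        _root_.mul_inv_rev, inv_inv]
    have hza := L.conj_mem L.zA ha
    have e2 : b * a₂ * b⁻¹ = (St.z * a₂ * St.z⁻¹)⁻¹ := by
      rw [hb, show St.z * b₀ * a₂ * (St.z * b₀)⁻¹ = St.z * (b₀ * a₂ * b₀⁻¹) * St.z⁻¹ by group, hw2]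
      group
    rw [e2, hinv _ (L.conj_mem L.zA ha₂A)] at h0
    have e3 : St.z * a₂ * St.z⁻¹ = St.z * a * St.z⁻¹ * (b₀ * (St.z * a * St.z⁻¹) * b₀⁻¹)⁻¹ := by
      rw [ha₂, show b₀ * (St.z * a * St.z⁻¹) * b₀⁻¹ = b₀ * St.z * a * (b₀ * St.z)⁻¹ by group, hbz.eq]
      group
    have h2 := mul_inv_eq_one.1 h0
    rw [ha₂, hm _ ha _ (A.inv_mem hwa), hinv _ hwa, hw a ha, inv_inv, ← ha₂, e3, hm _ hza _
      (A.inv_mem (L.conj_mem hwA hza)), hinv _ (L.conj_mem hwA hza), hw _ hza, inv_inv] at h2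
    obtain ⟨k, hk⟩ := Γ.hl.odd_of_ne_two Γ.hl2
    have key : ∀ x : X, x ^ l = 1 → x = (x * x) ^ (k + 1) := fun x hx => by
      rw [← sq, ← pow_mul, show 2 * (k + 1) = (2 * k + 1) + 1 by omega, pow_succ, ← hk, hx, one_mul]
    rw [key _ (L.f_pow (L.conj_mem htA hza)), ← h2, ← key _ (L.f_pow (L.conj_mem htA ha))]
  refine ⟨mul_mem htA htA, fun a ha => ?_⟩
  have h1 : ∀ a ∈ A, V.f A A₀ (t⁻¹ * a * t) = V.f A A₀ (t * a * t⁻¹) := fun a ha => by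
    have hza := L.conj_mem L.zA ha
    rw [← hz a ha, ← L.f_z (L.conj_mem htA hza)]
    congr 1
    have e : St.z * t⁻¹ * St.z⁻¹ = t := by
      rw [show St.z * t⁻¹ * St.z⁻¹ = (St.z * t * St.z⁻¹)⁻¹ by group, htz, inv_inv]
    calc t⁻¹ * a * t = (St.z * t * St.z⁻¹) * a * (St.z * t⁻¹ * St.z⁻¹) := by rw [htz, e]
      _ = St.z * (t * (St.z⁻¹ * a * St.z) * t⁻¹) * St.z⁻¹ := by group
      _ = _ := by rw [St.z_inv]
  have := h1 _ (L.conj_mem htA ha)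
  rw [show t⁻¹ * (t * a * t⁻¹) * t = a by group] at this
  rw [this]
  congr 1
  group

/-- An odd element whose square fixes the functional fixes it. -/
theorem mem_fixer_of_sq {t : G} (ht : Odd (orderOf t)) (h : t * t ∈ L.fixer) : t ∈ L.fixer :=
  St.mem_of_two_pow ht (j := 1) (by rwa [pow_one, sq])

/-- An `l`-element of the centralizer commuting with `w`. -/
theorem mem_fixer_of_commute {t : St.C} (htA : (t : G) ∈ normalizer (A : Set G))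
    (htA₀ : (t : G) ∈ normalizer (A₀ : Set G)) (htw : Commute (t : G) V.w)
    (htl : IsPGroup l (zpowers (t : G))) : (t : G) ∈ L.fixer := by
  haveI := Fact.mk Γ.hl
  refine ⟨htA, fun a ha => ?_⟩
  have hc : Commute (St.φ t) V.img := (show Commute t ⟨V.w, V.mem⟩ from Subtype.ext htw.eq).map St.φ
  rw [L.f_conj htA htA₀ (Or.inl (by rw [hc.eq, mul_inv_cancel_right])) ha, mul_inv_eq_iff_eq_mul]
  set Y := St.img A ⊔ zpowers (St.φ t) with hY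
  have hYl : IsPGroup l Y := by
    refine (St.img_isPGroup L.pgrp).to_sup_of_normal_left' ?_ (zpowers_le.2 (St.img_normalizer htA))
    intro ⟨x, hx⟩
    obtain ⟨i, rfl⟩ := mem_zpowers_iff.1 hx
    obtain ⟨k, hk⟩ := htl ⟨(t : G), mem_zpowers _⟩
    refine ⟨k, Subtype.ext ?_⟩
    have e : t ^ l ^ k = 1 := Subtype.ext (by simpa using congrArg Subtype.val hk)
    rw [SubmonoidClass.coe_pow, OneMemClass.coe_one, ← zpow_natCast, ← _root_.zpow_mul, mul_comm, _root_.zpow_mul,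
      zpow_natCast, ← map_pow, e, map_one, _root_.one_zpow]
  obtain ⟨c, hcA, hca⟩ := L.exists_c ha
  rw [L.f_eq hcA hca]
  set x := St.φ c * V.img * (St.φ c)⁻¹ * V.img⁻¹ with hx
  by_cases hx1 : x = 1
  · rw [hx1, mul_one, one_mul]
  have hxY : x ∈ St.img A := by
    refine St.mem_img.2 ⟨c * ⟨V.w, V.mem⟩ * c⁻¹ * (⟨V.w, V.mem⟩ : St.C)⁻¹, ?_, by
      rw [map_mul, map_mul, map_mul, map_inv, map_inv]; rfl⟩
    show (c : G) * V.w * (c : G)⁻¹ * V.w⁻¹ ∈ A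
    rw [show (c : G) * V.w * (c : G)⁻¹ * V.w⁻¹ = c * (V.w * (c : G)⁻¹ * V.w⁻¹) by group]
    exact A.mul_mem hcA (L.conj_mem L.wA (A.inv_mem hcA))
  have hxE : Γ.Elt x := ⟨Γ.comm_mem_N _ _, hx1, (L.comm_central hcA).1⟩
  obtain ⟨e, -, he, hec⟩ := Γ.elt_central hYl (le_sup_left (b := zpowers (St.φ t)) hxY) hxE.1 hx1
  obtain ⟨i, hi⟩ := mem_zpowers_iff.1
    (Γ.elt_unique he hxE (hec x (le_sup_left (b := zpowers (St.φ t)) hxY)).symm)
  rw [← hi]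
  exact ((hec _ (le_sup_right (a := St.img A) (mem_zpowers _))).zpow_right i).eq

/-- A non-central involution does not fix the functional. -/
theorem not_mem_fixer {b : St.C} (hb : (b : G) * b = 1) (hb1 : (b : G) ≠ 1) (hbz : (b : G) ≠ St.z) :
    (b : G) ∉ L.fixer := fun hf => by
  obtain ⟨y, hy, ⟨he, hinv⟩, -⟩ := St.exists_elt_inv V.mem V.sq V.ne V.nez L.pgrp L.wA L.ell
  have hby : (b : G) * y * (b : G)⁻¹ ∈ A := L.conj_mem hf.1 hy
  have hy' : St.φ (b * y * b⁻¹) ∈ zpowers (St.φ y) :=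
    Γ.elt_line (St.img_isPGroup L.pgrp) (St.mem_img.2 ⟨y, hy, rfl⟩) he (St.mem_img.2 ⟨_, hby, rfl⟩)
      (by rw [map_mul, map_mul, map_inv]; exact Γ.elt_conj he _)
  rw [map_mul, map_mul, map_inv] at hy'
  have hb' := Γ.nc_inv (St.nc hb hb1 hbz) he hy'
  have h := hf.2 _ hy
  rw [show (b : G) * y * (b : G)⁻¹ = ((b * y * b⁻¹ : St.C) : G) from rfl, L.f_fix (c := b * y * b⁻¹) hby,
    L.f_fix hy, map_mul, map_mul, map_inv, hb'] at h
  have hv : ∀ x : X, V.img * x * V.img⁻¹ = x⁻¹ → x * V.img * x⁻¹ * V.img⁻¹ = x * x := fun x hx => by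
    rw [show x * V.img * x⁻¹ * V.img⁻¹ = x * (V.img * x * V.img⁻¹)⁻¹ by group, hx, inv_inv]
  have hinv' : V.img * St.φ y * V.img⁻¹ = (St.φ y)⁻¹ := hinv
  rw [hv _ hinv', hv _ (by rw [show V.img * (St.φ y)⁻¹ * V.img⁻¹ = (V.img * St.φ y * V.img⁻¹)⁻¹ by group, hinv'])]
    at h
  have h8 : St.φ y ^ 8 = 1 := by
    rw [← sq, ← sq, ← pow_mul, ← pow_mul, inv_pow, inv_eq_iff_mul_eq_one, ← pow_add] at h
    exact h
  haveI := Fact.mk Γ.hl
  have hd := orderOf_dvd_of_pow_eq_one h8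
  rw [orderOf_eq_prime he.2.2 he.2.1] at hd
  exact Γ.hl2 ((Nat.prime_dvd_prime_iff_eq Γ.hl Nat.prime_two).1 (Γ.hl.dvd_of_dvd_pow (m := 2) (n := 3) hd))

end Lay

end Sett

end Cfsg.Agent.Invol.AbgOrder.Ell
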