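import Cfsg.Agent.Lib.Invol.AbgOrder.EllSylow
import Cfsg.Agent.Lib.Invol.AbgOrder.EllLocal
import Cfsg.Agent.Lib.Invol.AbgOrder.EllTrick

/-!
# The exceptional configuration: the elliptic line normalised by a Sylow `2`-subgroup

Generators of the semidihedral group inside the centraliser, and the element inverted by `z` moved to centralise the
line it normalises.
-/

set_option autoImplicit false
set_option linter.unusedSectionVars false
set_option linter.style.haveILetI false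

namespace Cfsg.Agent.Invol.AbgOrder.Ell

open Subgroup Matrix Cfsg.Agent.Classical
open scoped Pointwise

universe u v

namespace Gam

variable {X : Type u} [Group X] [Finite X] {F : Type v} [Field F] [Fintype F] {l : ℕ} (Γ : Gam X F l)

/-- An element of order `l` inverted by an involution is elliptic. -/
theorem elt_of_inverted {b e : X} (h1 : e ≠ 1) (hl : e ^ l = 1) (h : b * e * b⁻¹ = e⁻¹) : Γ.Elt e := by
  refine ⟨?_, h1, hl⟩
  have h2 := Γ.comm_mem_N b e
  rw [h, ← _root_.mul_inv_rev, ← sq] at h2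
  have h3 : e ^ 2 ∈ Γ.c.N := inv_mem_iff.1 h2
  obtain ⟨m, hm⟩ := exists_pow_eq_self_of_coprime (x := e) (n := 2)
    (Nat.coprime_two_left.2 ((Γ.hl.odd_of_ne_two Γ.hl2).of_dvd_nat (orderOf_dvd_of_pow_eq_one hl)))
  exact hm ▸ pow_mem h3 m

/-- The generators of the Sylow `2`-subgroup and the line they normalise. -/
theorem exists_gens : ∃ (n : ℕ) (x w e : X), 3 ≤ n ∧ Nat.card (Γ.c.S : Subgroup X) = 2 ^ (n + 1) ∧
    x ∈ (Γ.c.S : Subgroup X) ∧ w ∈ (Γ.c.S : Subgroup X) ∧ x ^ 2 ^ (n - 1) = Γ.c.z ∧ Γ.NC w ∧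
    w * x * w = x⁻¹ * Γ.c.z ∧ Γ.Elt e ∧ Commute x e ∧ w * e * w⁻¹ = e⁻¹ := by
  classical
  haveI : Fact (Nat.Prime 2) := ⟨Nat.prime_two⟩
  obtain ⟨hBcyc, h16⟩ : IsCyclic Γ.c.d.B ∧ 16 ≤ Nat.card (Γ.c.S : Subgroup X) := by
    rcases Γ.c.d.lift with ⟨-, h1, h2⟩ | ⟨h1, -⟩
    · exact ⟨h1, h2⟩
    · omega
  obtain ⟨m, hm⟩ := IsPGroup.iff_card.1 Γ.c.S.isPGroup'
  have hm4 : 4 ≤ m := by
    by_contra h
    have := Nat.pow_le_pow_right two_pos (show m ≤ 3 by omega)
    omega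
  obtain ⟨⟨xS, hxB⟩, hgen⟩ := hBcyc.exists_generator
  set n := m - 1 with hn
  have hBcard : Nat.card Γ.c.d.B = 2 ^ n := by
    have h := Γ.c.d.B.card_mul_index
    rw [Γ.c.d.idx, hm, show m = n + 1 by omega, pow_succ] at h
    omega
  have hxord : orderOf xS = 2 ^ n := by
    rw [← hBcard, ← Nat.card_zpowers]
    refine congrArg (fun T : Subgroup (Γ.c.S : Subgroup X) => Nat.card T) (le_antisymm (zpowers_le.2 hxB) fun y hy => ?_)
    obtain ⟨k, hk⟩ := mem_zpowers_iff.1 (hgen ⟨y, hy⟩)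
    exact mem_zpowers_iff.2 ⟨k, congrArg Subtype.val hk⟩
  set zS : (Γ.c.S : Subgroup X) := ⟨Γ.c.z, Γ.c.z_mem_S⟩ with hzS
  have hzc : zS ∈ center (Γ.c.S : Subgroup X) :=
    Subgroup.mem_center_iff.2 fun g => Subtype.ext (Γ.c.z_comm g)
  have hz1 : zS ≠ 1 := fun h => Γ.c.z_ne (congrArg Subtype.val h)
  have hcen : ∀ c ∈ center (Γ.c.S : Subgroup X), c = 1 ∨ c = zS := by
    intro c hc
    have h2 : Nat.card (center (Γ.c.S : Subgroup X)) = 2 := Γ.c.d.card_center
    obtain ⟨u, v, huv, hall⟩ := Nat.card_eq_two_iff.1 h2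
    have key : ∀ y : center (Γ.c.S : Subgroup X), y = u ∨ y = v := fun y => by
      have : y ∈ ({u, v} : Set _) := by rw [hall]; exact Set.mem_univ y
      simpa using this
    by_contra hne
    push Not at hne
    rcases key 1 with a1 | a1 <;> rcases key ⟨zS, hzc⟩ with a2 | a2 <;> rcases key ⟨c, hc⟩ with a3 | a3 <;>
      first
        | exact hz1 (congrArg Subtype.val (a2.trans a1.symm))
        | exact hne.1 (congrArg Subtype.val (a3.trans a1.symm))
        | exact hne.2 (congrArg Subtype.val (a3.trans a2.symm))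
  -- the involution of `B`
  have hzB : ∀ b ∈ Γ.c.d.B, b * b = 1 → b = 1 ∨ b = zS := by
    intro b hb hbb
    obtain ⟨k, hk⟩ := mem_zpowers_iff.1 (hgen ⟨b, hb⟩)
    have hk' : xS ^ k = b := congrArg Subtype.val hk
    obtain ⟨j, hj⟩ := mem_zpowers_iff.1 (hgen ⟨zS, Γ.c.d.center_le hzc⟩)
    have hj' : xS ^ j = zS := congrArg Subtype.val hj
    have key : ∀ {i : ℤ}, xS ^ i * xS ^ i = 1 → xS ^ i = 1 ∨ xS ^ i = xS ^ 2 ^ (n - 1) := by
      intro i hi
      have h0 : ((2 ^ n : ℕ) : ℤ) ∣ i + i := by rw [← hxord, orderOf_dvd_iff_zpow_eq_one, _root_.zpow_add, hi]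
      rw [show n = n - 1 + 1 by omega, pow_succ', ← two_mul, Nat.cast_mul, Nat.cast_ofNat] at h0
      obtain ⟨d, rfl⟩ := (mul_dvd_mul_iff_left (by norm_num : (2 : ℤ) ≠ 0)).1 h0
      have h2 : (xS ^ 2 ^ (n - 1)) * (xS ^ 2 ^ (n - 1)) = 1 := by
        rw [← pow_add, ← two_mul, ← pow_succ', show n - 1 + 1 = n by omega, ← hxord, pow_orderOf_eq_one]
      rw [_root_.zpow_mul, zpow_natCast]
      rcases Int.even_or_odd d with ⟨e, rfl⟩ | ⟨e, rfl⟩
      · left; rw [_root_.zpow_add, ← (Commute.refl (xS ^ 2 ^ (n - 1))).mul_zpow, h2, _root_.one_zpow]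
      · right; rw [_root_.zpow_add, _root_.zpow_mul, zpow_two, h2, _root_.one_zpow, one_mul, zpow_one]
    have hzz : zS * zS = 1 := Subtype.ext Γ.c.z_sq
    rcases key (i := k) (by rw [hk', hbb]) with h | h
    · exact Or.inl (hk'.symm.trans h)
    · rcases key (i := j) (by rw [hj', hzz]) with h' | h'
      · exact absurd (hj'.symm.trans h') hz1
      · exact Or.inr (by rw [← hk', h, ← h', hj'])
  have hxz : xS ^ 2 ^ (n - 1) = zS := by
    refine (hzB _ (pow_mem hxB _) ?_).resolve_left (pow_ne_one_of_lt_orderOf (by positivity) ?_)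
    · rw [← pow_add, ← two_mul, ← pow_succ', show n - 1 + 1 = n by omega, ← hxord, pow_orderOf_eq_one]
    · rw [hxord]; exact Nat.pow_lt_pow_right one_lt_two (by omega)
  -- the non-central involution
  obtain ⟨r, hr⟩ := Γ.c.exists_conj_mem (T := Subgroup.zpowers Γ.w₀) (IsPGroup.of_card (n := 1) (by
    rw [Nat.card_zpowers, orderOf_eq_prime (by rw [sq, Γ.w₀_sq]) Γ.w₀_ne, pow_one]))
  set wS : (Γ.c.S : Subgroup X) := ⟨r * Γ.w₀ * r⁻¹, hr _ (mem_zpowers _)⟩ with hwS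
  have hwNC : Γ.NC (wS : X) := Γ.nc_of_conj ⟨Γ.w₀_sq, Γ.w₀_ne, Γ.w₀_nez⟩ r
  have hww : wS * wS = 1 := Subtype.ext hwNC.1
  have hwi : wS⁻¹ = wS := inv_eq_of_mul_eq_one_right hww
  have hwB : wS ∉ Γ.c.d.B := fun h => by
    rcases hzB wS h hww with e | e
    · exact hwNC.2.1 (congrArg Subtype.val e)
    · exact hwNC.2.2 (congrArg Subtype.val e)
  have hxw : wS * xS * wS = xS⁻¹ * zS := by
    have hout : wS * xS ∉ Γ.c.d.B := fun h => hwB (by
      have := mul_mem h (inv_mem hxB)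
      rwa [mul_inv_cancel_right] at this)
    rcases hcen _ (Γ.c.d.sq _ hout) with h | h
    · exfalso
      obtain ⟨x', hx', y, hy, hne⟩ := Γ.c.d.norm_gen
      refine hne 1 (one_mem _) ?_
      rw [Γ.c.d.conj_eq hy hwB hx', one_mul]
      obtain ⟨k, hk⟩ := mem_zpowers_iff.1 (hgen ⟨x', hx'⟩)
      rw [← show xS ^ k = x' from congrArg Subtype.val hk, ← conj_zpow, ← (show Commute (wS * xS * wS⁻¹) xS from ?_).mul_zpow,
        show wS * xS * wS⁻¹ * xS = 1 by rw [hwi]; rw [← h]; group, _root_.one_zpow]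
      rw [show wS * xS * wS⁻¹ = xS⁻¹ from eq_inv_of_mul_eq_one_left (by rw [hwi, ← h]; group)]
      exact (Commute.refl xS).inv_left
    · have h' : wS * xS * wS * xS = zS := by rw [← h]; group
      calc wS * xS * wS = wS * xS * wS * xS * xS⁻¹ := by rw [mul_inv_cancel_right]
        _ = zS * xS⁻¹ := by rw [h']
        _ = xS⁻¹ * zS := (Subgroup.mem_center_iff.1 hzc _).symm
  -- the line
  obtain ⟨e, he, hSe⟩ := Γ.exists_sylow_line
  have hinv : (wS : X) * e * (wS : X)⁻¹ = e⁻¹ :=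
    Γ.nc_inv hwNC he ((Subgroup.mem_normalizer_iff.1 (hSe wS.2) e).1 (mem_zpowers e))
  set x := (xS : X) with hx
  set w := (wS : X) with hw
  have hwinv : w⁻¹ = w := inv_eq_of_mul_eq_one_right hwNC.1
  have hxw' : w * x * w = x⁻¹ * Γ.c.z := by
    have := congrArg Subtype.val hxw
    simpa using this
  have hxz' : x ^ 2 ^ (n - 1) = Γ.c.z := by
    have := congrArg Subtype.val hxz
    simpa using this
  have hn3 : 3 ≤ n := by omega
  refine ⟨n, x, w, e, hn3, by rw [hm, show n + 1 = m by omega], xS.2, wS.2, hxz', hwNC, hxw', he, ?_, hinv⟩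
  -- `x` centralises the line
  obtain ⟨k, hk⟩ := mem_zpowers_iff.1 ((Subgroup.mem_normalizer_iff.1 (hSe xS.2) e).1 (mem_zpowers e))
  change e ^ k = x * e * x⁻¹ at hk
  have hkk : e ^ (k * k) = e := by
    have h1 : w * (x * e * x⁻¹) * w = x⁻¹ * e⁻¹ * x := by
      calc w * (x * e * x⁻¹) * w = w * (x * e * x⁻¹) * w⁻¹ := by rw [hwinv]
        _ = (w * x * w⁻¹) * (w * e * w⁻¹) * (w * x * w⁻¹)⁻¹ := by group
        _ = x⁻¹ * (Γ.c.z * e⁻¹ * (Γ.c.z)⁻¹) * x := by rw [hinv, hwinv, hxw']; group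
        _ = x⁻¹ * e⁻¹ * x := by rw [← Γ.c.z_comm e⁻¹, mul_inv_cancel_right]
    rw [← hk] at h1
    have h2 : w * e ^ k * w = (e⁻¹) ^ k := by nth_rw 2 [← hwinv]; rw [← conj_zpow, hinv]
    rw [h2, _root_.inv_zpow] at h1
    have h3 : x * e ^ k * x⁻¹ = e := by
      have h4 := congrArg (·⁻¹) h1
      simp only [inv_inv, _root_.mul_inv_rev] at h4
      rw [h4]; group
    rwa [← conj_zpow, ← hk, ← _root_.zpow_mul] at h3
  have hel : orderOf e = l := by
    haveI := Fact.mk Γ.hl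
    exact orderOf_eq_prime he.2.2 he.2.1
  have hdvd : (l : ℤ) ∣ (k - 1) * (k + 1) := by
    rw [← hel, orderOf_dvd_iff_zpow_eq_one, show (k - 1) * (k + 1) = k * k - 1 by ring, _root_.zpow_sub, hkk,
      zpow_one, mul_inv_cancel]
  rcases (Nat.prime_iff_prime_int.1 Γ.hl).dvd_or_dvd hdvd with h | h
  · rw [← hel, orderOf_dvd_iff_zpow_eq_one, _root_.zpow_sub, hk, zpow_one, mul_inv_eq_one,
      mul_inv_eq_iff_eq_mul] at h
    exact h
  · exfalso
    rw [← hel, orderOf_dvd_iff_zpow_eq_one, _root_.zpow_add, hk, zpow_one] at h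
    have hxe : x * e * x⁻¹ = e⁻¹ := eq_inv_of_mul_eq_one_left h
    have hxp : ∀ j : ℕ, x ^ (2 * j) * e * (x ^ (2 * j))⁻¹ = e := by
      intro j
      induction j with
      | zero => simp
      | succ j ih =>
        have h2 : x * (x * e * x⁻¹) * x⁻¹ = e := by rw [hxe, ← conj_inv, hxe, inv_inv]
        calc x ^ (2 * (j + 1)) * e * (x ^ (2 * (j + 1)))⁻¹
            = x ^ (2 * j) * (x * (x * e * x⁻¹) * x⁻¹) * (x ^ (2 * j))⁻¹ := by
              rw [show 2 * (j + 1) = 2 * j + 1 + 1 by ring, pow_succ, pow_succ]; group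
          _ = e := by rw [h2, ih]
    set i := x ^ 2 ^ (n - 2) with hi
    have hie : Commute i e := by
      have := hxp (2 ^ (n - 3))
      rwa [← pow_succ', show n - 3 + 1 = n - 2 by omega, ← hi, mul_inv_eq_iff_eq_mul] at this
    have hwxe : Commute (w * x) e := by
      show w * x * e = e * (w * x)
      rw [← mul_inv_eq_iff_eq_mul, show w * x * e * (w * x)⁻¹ = w * (x * e * x⁻¹) * w⁻¹ by group, hxe, ← conj_inv,
        hinv, inv_inv]
    set P : Subgroup X := (Γ.c.S : Subgroup X) ⊓ centralizer ({e} : Set X) with hP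
    haveI := Γ.cyclic_two he (P := P) (Γ.c.S.isPGroup'.to_le inf_le_left)
      (fun y hy => Subgroup.mem_centralizer_singleton_iff.1 hy.2)
    have hiP : i ∈ P := ⟨pow_mem xS.2 _, Subgroup.mem_centralizer_singleton_iff.2 hie.eq⟩
    have hwP : w * x ∈ P := ⟨mul_mem wS.2 xS.2, Subgroup.mem_centralizer_singleton_iff.2 hwxe.eq⟩
    have hc : Commute i (w * x) := congrArg Subtype.val ((IsCyclic.isMulCommutative (α := P)).is_comm.comm (⟨i, hiP⟩ : P) ⟨w * x, hwP⟩)
    have hiw : Commute i w := by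
      have h2 := hc.mul_right ((Commute.refl x).pow_left (2 ^ (n - 2))).inv_right
      rwa [mul_inv_cancel_right] at h2
    have h5 : w * i * w = i⁻¹ := by
      rw [hi]
      nth_rw 2 [← hwinv]
      rw [← conj_pow, hwinv, hxw', (show Commute x⁻¹ Γ.c.z from Γ.c.z_comm _).mul_pow, inv_pow,
        show n - 2 = n - 3 + 1 by omega, pow_succ' 2, pow_mul Γ.c.z, sq Γ.c.z, Γ.c.z_sq, one_pow, mul_one]
    rw [mul_assoc, hiw.eq, ← mul_assoc, hwNC.1, one_mul] at h5
    have h6 : i * i = Γ.c.z := by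
      rw [hi, ← pow_add, ← two_mul, ← pow_succ', show n - 2 + 1 = n - 1 by omega, hxz']
    exact Γ.c.z_ne (by rw [← h6]; nth_rw 1 [h5]; exact inv_mul_cancel i)

end Gam

namespace Sett

variable {G : Type u} [Group G] [Finite G] {X : Type u} [Group X] [Finite X] {F : Type v} [Field F] [Fintype F]
  {l : ℕ} {Γ : Gam X F l}

/-- The exceptional configuration, normalised. -/
structure Core (St : Sett G Γ) where
  n : ℕ
  hn : 3 ≤ n
  x : G
  w : G
  a : G
  xC : x ∈ St.C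
  wC : w ∈ St.C
  ww : w * w = 1
  w_ne : w ≠ 1
  w_nez : w ≠ St.z
  x_pow : x ^ 2 ^ (n - 1) = St.z
  x_inv : w * x * w = x⁻¹ * St.z
  aC : a ∈ St.C
  al : a ^ l = 1
  ell : Γ.Elt (St.φ ⟨a, aC⟩)
  xa : Commute x a
  wa : w * a * w = a⁻¹
  card : (Nat.card G).factorization 2 = n + 1
  noO : (Nat.card St.O).factorization l = 0
  x₁ : G
  x₁_l : ∃ k : ℕ, x₁ ^ l ^ k = 1
  x₁_ne : x₁ ≠ 1
  x₁_a : Commute x₁ a
  x₁_inv : St.z * x₁ * St.z⁻¹ = x₁⁻¹

variable (St : Sett G Γ)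

/-- The map is injective on subgroups of order prime to that of the kernel. -/
theorem inj_of_coprime {H : Subgroup G} (hcop : (Nat.card H).Coprime (Nat.card St.O)) {c d : St.C}
    (hc : (c : G) ∈ H) (hd : (d : G) ∈ H) (e : St.φ c = St.φ d) : c = d := by
  have h1 := St.sub_mem_O e
  have h2 : orderOf ((c : G)⁻¹ * d) ∣ Nat.gcd (Nat.card H) (Nat.card St.O) :=
    Nat.dvd_gcd (Subgroup.orderOf_dvd_natCard _ (mul_mem (inv_mem hc) hd)) (Subgroup.orderOf_dvd_natCard _ h1)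
  rw [hcop.gcd_eq_one, Nat.dvd_one, orderOf_eq_one_iff, inv_mul_eq_one] at h2
  exact Subtype.ext h2

theorem cop_l {H : Subgroup G} (hH : IsPGroup l H) (h0 : (Nat.card St.O).factorization l = 0) :
    (Nat.card H).Coprime (Nat.card St.O) := by
  rw [St.eq_pow_fac hH]
  refine (Γ.hl.coprime_iff_not_dvd.2 fun h => ?_).pow_left _
  exact (Γ.hl.factorization_pos_of_dvd Nat.card_pos.ne' h).ne' h0

theorem cop_two {H : Subgroup G} (hH : IsPGroup 2 H) : (Nat.card H).Coprime (Nat.card St.O) := by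
  haveI : Fact (Nat.Prime 2) := ⟨Nat.prime_two⟩
  obtain ⟨k, hk⟩ := IsPGroup.iff_card.1 hH
  rw [hk]
  exact (Nat.coprime_two_left.2 St.O_odd).pow_left _

/-- The exceptional configuration can be normalised. -/
theorem exists_core (h : St.Exc) : Nonempty (Core St) := by
  classical
  haveI : Fact (Nat.Prime 2) := ⟨Nat.prime_two⟩
  haveI := Fact.mk Γ.hl
  obtain ⟨h0, T, hT, x₀, hx₀l, hx₀1, hx₀T, hx₀z⟩ := h
  obtain ⟨n, xX, wX, e, hn, hcardS, hxS, hwS, hxp, hwNC, hxw, he, hxe, hwe⟩ := Γ.exists_gens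
  -- a Sylow subgroup of `C` over that of `X`
  obtain ⟨S₁⟩ : Nonempty (Sylow 2 St.C) := inferInstance
  obtain ⟨r, hr⟩ := MulAction.exists_smul_eq X (S₁.mapSurjective St.surj) Γ.c.S
  obtain ⟨c₀, rfl⟩ := St.surj r
  set S₀ : Sylow 2 St.C := c₀ • S₁ with hS₀
  have hmap : (S₀ : Subgroup St.C).map St.φ = (Γ.c.S : Subgroup X) := by
    rw [hS₀, Sylow.coe_subgroup_smul, ← hr, Sylow.coe_subgroup_smul, Sylow.coe_mapSurjective]
    ext y
    simp only [Subgroup.mem_map, Subgroup.mem_smul_pointwise_iff_exists, MulAut.smul_def, MulAut.conj_apply]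
    constructor
    · rintro ⟨_, ⟨s, hs, rfl⟩, rfl⟩
      exact ⟨St.φ s, ⟨s, hs, rfl⟩, by simp⟩
    · rintro ⟨_, ⟨s, hs, rfl⟩, rfl⟩
      exact ⟨_, ⟨s, hs, rfl⟩, by simp⟩
  set SG := (S₀ : Subgroup St.C).map St.C.subtype with hSG
  have hSG2 : IsPGroup 2 SG := S₀.isPGroup'.map _
  have hSGC : SG ≤ St.C := Subgroup.map_subtype_le _
  have hlift : ∀ y ∈ (Γ.c.S : Subgroup X), ∃ c : St.C, (c : G) ∈ SG ∧ St.φ c = y := fun y hy => by
    rw [← hmap] at hy
    obtain ⟨c, hc, rfl⟩ := hy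
    exact ⟨c, ⟨c, hc, rfl⟩, rfl⟩
  obtain ⟨x, hxG, hxφ⟩ := hlift xX hxS
  obtain ⟨w, hwG, hwφ⟩ := hlift wX hwS
  have hzSG : St.z ∈ SG := by
    obtain ⟨c, hc, hcφ⟩ := hlift Γ.c.z Γ.c.z_mem_S
    have hcop : (Nat.card ↥(SG ⊔ zpowers St.z)).Coprime (Nat.card St.O) := St.cop_two (by
      refine hSG2.to_sup_of_normal_left' (IsPGroup.of_card (n := 1) (by
        rw [Nat.card_zpowers, orderOf_eq_prime (by rw [sq, St.z_sq]) St.z_ne, pow_one]))
        (zpowers_le.2 (mem_normalizer_fintype fun y hy => ?_))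
      rw [← (St.mem_C.1 (hSGC hy)).eq, mul_inv_cancel_right]
      exact hy)
    have := St.inj_of_coprime hcop (c := c) (d := ⟨St.z, St.z_mem⟩) (le_sup_left (b := zpowers St.z) hc)
      (le_sup_right (a := SG) (mem_zpowers St.z)) (by rw [hcφ, St.map_z])
    rwa [this] at hc
  have hinjS : ∀ {c d : St.C}, (c : G) ∈ SG → (d : G) ∈ SG → St.φ c = St.φ d → c = d := fun {c d} =>
    St.inj_of_coprime (St.cop_two hSG2)
  set zC : St.C := ⟨St.z, St.z_mem⟩
  have hxpow : x ^ 2 ^ (n - 1) = zC := hinjS (by rw [SubmonoidClass.coe_pow]; exact pow_mem hxG _) hzSG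
    (by rw [map_pow, hxφ, hxp, St.map_z])
  have hwwC : w * w = 1 := hinjS (mul_mem hwG hwG) (one_mem _) (by rw [map_mul, hwφ, hwNC.1, map_one])
  have hxinv : w * x * w = x⁻¹ * zC := hinjS (mul_mem (mul_mem hwG hxG) hwG)
    (mul_mem (inv_mem hxG) hzSG) (by rw [map_mul, map_mul, map_mul, map_inv, hxφ, hwφ, hxw, St.map_z])
  -- the invariant Sylow subgroup over the line
  obtain ⟨K, hKN, hNK, hKodd, hKtwo⟩ := Γ.exists_compl he
  set J := (K.comap St.φ).map St.C.subtype ⊓ St.C with hJ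
  have hJodd : Odd (Nat.card J) := St.pre_odd hKodd
  have hJC : J ≤ St.C := inf_le_right
  have hJmem : ∀ c : St.C, St.φ c ∈ K → (c : G) ∈ J := fun c hc => ⟨⟨c, hc, rfl⟩, c.2⟩
  have hJK : ∀ c : St.C, (c : G) ∈ J → St.φ c ∈ K := by
    rintro c ⟨⟨d, hd, e'⟩, -⟩
    rwa [show c = d from Subtype.ext e'.symm]
  have heK : e ∈ K := by
    obtain ⟨j, hj⟩ := hKtwo e (Subgroup.le_normalizer (mem_zpowers e))
    exact St.mem_of_two_pow ((Γ.hl.odd_of_ne_two Γ.hl2).of_dvd_nat (orderOf_dvd_of_pow_eq_one he.2.2)) hj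
  have hxn : St.φ x ∈ normalizer (zpowers e : Set X) := by
    rw [hxφ]; exact Gam.mem_normalizer_of_commute hxe
  have hwn : St.φ w ∈ normalizer (zpowers e : Set X) := mem_normalizer_fintype fun y hy => by
    obtain ⟨i, rfl⟩ := Subgroup.mem_zpowers_iff.1 hy
    rw [hwφ, ← conj_zpow, hwe]
    exact zpow_mem (inv_mem (mem_zpowers e)) i
  have hnormJ : ∀ c : St.C, St.φ c ∈ normalizer (zpowers e : Set X) → (c : G) ∈ normalizer (J : Set G) :=
    fun c hc => mem_normalizer_fintype fun y hy => by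
      have hyC := hJC hy
      have h := hJmem (c * ⟨y, hyC⟩ * c⁻¹) (by
        rw [map_mul, map_mul, map_inv]
        exact (Subgroup.mem_normalizer_iff.1 (hNK hc) _).1 (hJK ⟨y, hyC⟩ hy))
      exact h
  set S := zpowers (x : G) ⊔ zpowers (w : G) with hS
  have hSle : S ≤ SG := sup_le (zpowers_le.2 hxG) (zpowers_le.2 hwG)
  have hS2 : IsPGroup 2 S := hSG2.to_le hSle
  have hSJ : S ≤ normalizer (J : Set G) := sup_le (zpowers_le.2 (hnormJ x hxn)) (zpowers_le.2 (hnormJ w hwn))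
  have hcopJ : (Nat.card S).Coprime (Nat.card J) := by
    obtain ⟨k, hk⟩ := IsPGroup.iff_card.1 hS2
    rw [hk]
    exact (Nat.coprime_two_left.2 hJodd).pow_left _
  haveI := hS2.isNilpotent
  obtain ⟨T', hT', hST'⟩ := Grp.exists_invariant_sylow S J hSJ hcopJ (Or.inl inferInstance) l
  -- it is a Sylow subgroup of `C`
  have hfK : (Nat.card X).factorization l ≤ (Nat.card K).factorization l := by
    obtain ⟨e', P, he', hPe⟩ := Γ.exists_sylow_inv hwNC
    obtain ⟨g, hg, htz, hd⟩ := Γ.nc_rep hwNC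
    obtain ⟨t, -, hte⟩ := Γ.trans_inv hg htz hd he' ⟨he, hwe⟩
    have hze : zpowers (Γ.c.ι t * e' * (Γ.c.ι t)⁻¹) = zpowers e :=
      Subgroup.eq_of_le_of_card_ge (zpowers_le.2 hte) (by
        rw [Nat.card_zpowers, Nat.card_zpowers, orderOf_eq_prime he.2.2 he.2.1,
          orderOf_eq_prime (Γ.elt_conj he'.1 _).2.2 (Γ.elt_conj he'.1 _).2.1])
    have hP : cj (Γ.c.ι t) (P : Subgroup X) ≤ K := by
      rintro _ ⟨y, hy, rfl⟩
      have hn : Γ.c.ι t * y * (Γ.c.ι t)⁻¹ ∈ normalizer (zpowers e : Set X) := by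
        rw [← hze]
        refine mem_normalizer_fintype fun a ha => ?_
        obtain ⟨i, rfl⟩ := mem_zpowers_iff.1 ha
        obtain ⟨i', hi'⟩ := mem_zpowers_iff.1 ((Subgroup.mem_normalizer_iff.1 (hPe hy) (e' ^ i)).1
          (zpow_mem (mem_zpowers e') i))
        refine mem_zpowers_iff.2 ⟨i', ?_⟩
        rw [conj_zpow, hi', conj_zpow]
        group
      obtain ⟨j, hj⟩ := hKtwo _ hn
      exact St.mem_of_two_pow (odd_of_l (Γ := Γ) (isPGroup_cj _ P.isPGroup') (conj_mem_cj hy)) hj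
    have h1 := fac_le (l := l) hP
    rw [card_cj, P.card_eq_multiplicity, Γ.hl.factorization_pow, Finsupp.single_eq_same] at h1
    exact h1
  have hfC : (Nat.card St.C).factorization l = (Nat.card X).factorization l := by rw [St.fac_C, h0, add_zero]
  have hKJ : (Nat.card K).factorization l ≤ (Nat.card J).factorization l := by
    refine (Nat.factorization_le_iff_dvd Nat.card_pos.ne' Nat.card_pos.ne').2 ?_ l
    have e1 : K = (J.subgroupOf St.C).map St.φ := by
      ext y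
      constructor
      · intro hy
        obtain ⟨c, rfl⟩ := St.surj y
        exact ⟨c, Subgroup.mem_subgroupOf.2 (hJmem c hy), rfl⟩
      · rintro ⟨c, hc, rfl⟩
        exact hJK c (Subgroup.mem_subgroupOf.1 hc)
    rw [e1, ← Nat.card_congr (Subgroup.subgroupOfEquivOfLe hJC).toEquiv]
    exact Subgroup.card_map_dvd _ _
  have hfJ : (Nat.card J).factorization l = (Nat.card St.C).factorization l :=
    le_antisymm (fac_le hJC) (by omega)
  have hT'C : Grp.IsSylowIn l T' St.C := ⟨hT'.1.trans hJC, hT'.2.1, fun hd => by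
    have h1 := Grp.card_mul_relIndex (hT'.1.trans hJC)
    have hne : T'.relIndex St.C ≠ 0 := fun e => Nat.card_pos.ne' (by rw [← h1, e, mul_zero])
    have h2 := congrArg (fun m => m.factorization l) h1
    beta_reduce at h2
    rw [Nat.factorization_mul Nat.card_pos.ne' hne, Finsupp.add_apply, hT'.card, Γ.hl.factorization_pow,
      Finsupp.single_eq_same, hfJ] at h2
    have := Γ.hl.factorization_pos_of_dvd hne hd
    omega⟩
  -- the line lifts into it
  obtain ⟨a, haT, haφ⟩ : ∃ a : St.C, (a : G) ∈ T' ∧ St.φ a = e := by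
    set Y := St.img T' with hY
    have hYl : IsPGroup l Y := St.img_isPGroup hT'.2.1
    have hYK : Y ≤ K := by
      intro y hy
      obtain ⟨c, hc, rfl⟩ := St.mem_img.1 hy
      exact hJK c (hT'.1 hc)
    have hYn : Y ≤ normalizer (zpowers e : Set X) := hYK.trans hKN
    have hsup : IsPGroup l ↥(zpowers e ⊔ Y) := (IsPGroup.of_card (n := 1) (by
      rw [Nat.card_zpowers, orderOf_eq_prime he.2.2 he.2.1, pow_one])).to_sup_of_normal_left' hYl hYn
    have hYc : (Nat.card X).factorization l ≤ (Nat.card Y).factorization l := by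
      have hcard : Nat.card Y = Nat.card T' := by
        rw [hY, img, ← Nat.card_congr (Subgroup.subgroupOfEquivOfLe hT'C.1).toEquiv]
        refine Nat.card_congr (Equiv.ofBijective (fun c : T'.subgroupOf St.C =>
          (⟨St.φ c, c, c.2, rfl⟩ : (T'.subgroupOf St.C).map St.φ)) ⟨fun c d h => Subtype.ext ?_, ?_⟩).symm
        · exact St.inj_of_coprime (St.cop_l hT'.2.1 h0) c.2 d.2 (congrArg Subtype.val h)
        · rintro ⟨_, c, hc, rfl⟩
          exact ⟨⟨c, hc⟩, rfl⟩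
      rw [hcard, hT'C.card, Γ.hl.factorization_pow, Finsupp.single_eq_same, hfC]
    have heq : Y = zpowers e ⊔ Y := Subgroup.eq_of_le_of_card_ge le_sup_right (by
      obtain ⟨i, hi⟩ := IsPGroup.iff_card.1 hsup
      obtain ⟨j, hj⟩ := IsPGroup.iff_card.1 hYl
      have h1 := (Nat.factorization_le_iff_dvd Nat.card_pos.ne' Nat.card_pos.ne').2
        (Subgroup.card_subgroup_dvd_card (zpowers e ⊔ Y)) l
      rw [hi, Γ.hl.factorization_pow, Finsupp.single_eq_same] at h1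
      rw [hj, Γ.hl.factorization_pow, Finsupp.single_eq_same] at hYc
      rw [hi, hj]
      exact Nat.pow_le_pow_right Γ.hl.pos (h1.trans hYc))
    have heY : e ∈ Y := by rw [heq]; exact le_sup_left (b := Y) (mem_zpowers e)
    obtain ⟨a, ha, haφ⟩ := St.mem_img.1 heY
    exact ⟨a, ha, haφ⟩
  have hinjT : ∀ {c d : St.C}, (c : G) ∈ T' → (d : G) ∈ T' → St.φ c = St.φ d → c = d := fun {c d} =>
    St.inj_of_coprime (St.cop_l hT'.2.1 h0)
  have hal : a ^ l = 1 := hinjT (by rw [SubmonoidClass.coe_pow]; exact pow_mem haT l) (one_mem _)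
    (by rw [map_pow, haφ, he.2.2, map_one])
  have hconjT : ∀ {c : St.C}, (c : G) ∈ S → (((c * a * c⁻¹ : St.C)) : G) ∈ T' := fun {c} hc =>
    (Subgroup.mem_normalizer_iff.1 (hST' hc) a).1 haT
  have hxa : x * a * x⁻¹ = a := hinjT (hconjT (le_sup_left (b := zpowers (w : G)) (mem_zpowers _))) haT
    (by rw [map_mul, map_mul, map_inv, hxφ, haφ, hxe.eq, mul_inv_cancel_right])
  have hwa : w * a * w⁻¹ = a⁻¹ := hinjT (hconjT (le_sup_right (a := zpowers (x : G)) (mem_zpowers _))) (inv_mem haT)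
    (by rw [map_mul, map_mul, map_inv, map_inv, hwφ, haφ, hwe])
  obtain ⟨c, hc, hcT⟩ := hT.conj hT'C
  have hcT' : ∀ y ∈ T', c⁻¹ * y * c ∈ T := fun y hy => by
    rw [← hcT] at hy
    have := Subgroup.mem_pointwise_smul_iff_inv_smul_mem.1 hy
    simpa [MulAut.inv_apply, MulAut.smul_def] using this
  have hwne : (w : G) ≠ 1 := fun h => hwNC.2.1 (by rw [← hwφ, show w = 1 from Subtype.ext h, map_one])
  have hwnez : (w : G) ≠ St.z := fun h => hwNC.2.2 (by rw [← hwφ, show w = zC from Subtype.ext h]; exact St.map_z)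
  refine ⟨⟨n, hn, x, w, a, x.2, w.2, congrArg Subtype.val hwwC, hwne, hwnez, ?_, congrArg Subtype.val hxinv, a.2,
    congrArg Subtype.val hal, by rw [haφ]; exact he, ?_, ?_, ?_, h0, c * x₀ * c⁻¹, ?_, fun h => hx₀1 (conj_eq_one_iff.1 h),
    ?_, ?_⟩⟩
  · have h := congrArg Subtype.val hxpow
    rwa [SubmonoidClass.coe_pow] at h
  · exact mul_inv_eq_iff_eq_mul.1 (congrArg Subtype.val hxa)
  · have := congrArg Subtype.val hwa
    rwa [Subgroup.coe_mul, Subgroup.coe_mul, InvMemClass.coe_inv, InvMemClass.coe_inv,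
      inv_eq_of_mul_eq_one_right (congrArg Subtype.val hwwC : (w : G) * w = 1)] at this
  · rw [← St.C.index_mul_card, Nat.factorization_mul (Subgroup.index_ne_zero_of_finite) Nat.card_pos.ne',
      Finsupp.add_apply, Nat.factorization_eq_zero_of_not_dvd St.odd_index.not_two_dvd_nat, zero_add]
    have h1 := S₀.card_eq_multiplicity
    have h2 : Nat.card (S₀ : Subgroup St.C) = 2 ^ (n + 1) := by
      rw [← hcardS, ← hmap]
      refine Nat.card_congr (Equiv.ofBijective (fun s : (S₀ : Subgroup St.C) =>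
        (⟨St.φ s, s, s.2, rfl⟩ : (S₀ : Subgroup St.C).map St.φ)) ⟨fun s t h => Subtype.ext ?_, ?_⟩)
      · exact hinjS ⟨s, s.2, rfl⟩ ⟨t, t.2, rfl⟩ (congrArg Subtype.val h)
      · rintro ⟨_, s, hs, rfl⟩
        exact ⟨⟨s, hs⟩, rfl⟩
    rw [h2] at h1
    exact ((Nat.pow_right_injective le_rfl) h1).symm
  · obtain ⟨k, hk⟩ := hx₀l
    exact ⟨k, by rw [conj_pow, hk, mul_one, mul_inv_cancel]⟩
  · have h := (hx₀T _ (hcT' _ haT)).symm.map (MulAut.conj c)
    simp only [MulAut.conj_apply] at h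
    rwa [show c * (c⁻¹ * (a : G) * c) * c⁻¹ = a by group] at h
  · have hcz : Commute c St.z := St.mem_C.1 hc
    calc St.z * (c * x₀ * c⁻¹) * St.z⁻¹ = (St.z * c) * x₀ * (c⁻¹ * St.z⁻¹) := by group
      _ = (c * St.z) * x₀ * (St.z⁻¹ * c⁻¹) := by rw [hcz.eq, hcz.inv_inv.eq]
      _ = c * (St.z * x₀ * St.z⁻¹) * c⁻¹ := by group
      _ = (c * x₀ * c⁻¹)⁻¹ := by rw [hx₀z]; group

end Sett

end Cfsg.Agent.Invol.AbgOrder.Ell
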