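import Cfsg.Agent.Lib.Invol.AbgOrder.EllMeet

/-!
# The functional at `zw` of a maximal meet

Its stabiliser in the normalizer of the meet, and the elements of the minimal section of the signalizer lying there.
-/

set_option autoImplicit false
set_option linter.unusedSectionVars false
set_option linter.style.haveILetI false

namespace Cfsg.Agent.Invol.AbgOrder.Ell

open Subgroup Matrix Cfsg.Agent.Classical
open scoped commutatorElement Pointwise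

universe u v

namespace Sett

variable {G : Type u} [Group G] [Finite G] {X : Type u} [Group X] [Finite X] {F : Type v} [Field F] [Fintype F]
  {l : ℕ} {Γ : Gam X F l} {St : Sett G Γ}

namespace Four

variable (V : St.Four)

/-- On the centralizer of `zw`, `z` and `w` act alike. -/
theorem conj_eq {c : G} (hc : Commute c (St.z * V.w)) : St.z * c * St.z⁻¹ = V.w * c * V.w⁻¹ := by
  calc St.z * c * St.z⁻¹ = St.z * (c * (St.z * V.w)) * (St.z * V.w)⁻¹ * St.z⁻¹ := by group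
    _ = St.z * St.z * V.w * c * V.w⁻¹ * (St.z * St.z)⁻¹ := by rw [hc.eq]; group
    _ = _ := by rw [St.z_sq, one_mul, inv_one, mul_one]

theorem conj_zw {c : G} : St.z * V.w * c * (St.z * V.w)⁻¹ = St.z * (V.w * c * V.w⁻¹) * St.z⁻¹ := by group

theorem fix_w {c : G} (hc : Commute c V.w) : V.w * c * V.w⁻¹ = c := by rw [← hc.eq, mul_inv_cancel_right]

theorem fix_z {c : G} (hc : Commute c St.z) : St.z * c * St.z⁻¹ = c := by rw [← hc.eq, mul_inv_cancel_right]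

end Four

/-- The data. -/
structure Phi {Φ : Frame St} (μ : Meet Φ) where
  h : G
  hzw : h * (St.z * Φ.V.w) * h⁻¹ = St.z
  hz : h * St.z * h⁻¹ = Φ.V.w
  A : Subgroup G
  A₀ : Subgroup G
  L : Lay Φ.V A A₀
  le : A ≤ cj h μ.D
  comm : ⁅A, cj h μ.D⁆ ≤ A₀
  norm : cj h (normalizer (μ.D : Set G)) ≤ normalizer (A : Set G)
  norm₀ : cj h (normalizer (μ.D : Set G)) ≤ normalizer (A₀ : Set G)

namespace Meet

variable {Φ : Frame St} (μ : Meet Φ)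

theorem ell_D (hell : St.EllAt Φ.V.w Φ.U) : St.EllAt (St.z * Φ.V.w) μ.D :=
  St.ellAt_mono μ.R_le (Frame.ell_R hell)

theorem exists_phi (hell : St.EllAt Φ.V.w Φ.U) : Nonempty (Phi μ) := by
  obtain ⟨h, hh1, hh2⟩ := St.exists_pair Φ.V.mem Φ.V.sq Φ.V.ne Φ.V.nez Φ.V.zw_sq Φ.V.zw_ne St.z_sq St.z_ne
    Φ.V.zw_nez.symm Φ.comm_zw.symm
  have hN : cj h (normalizer (μ.D : Set G)) ≤ normalizer (cj h μ.D : Set G) := fun x hx =>
    mem_normalizer_cj (mem_cj.1 hx)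
  have hz : St.z ∈ cj h (normalizer (μ.D : Set G)) := by
    rw [mem_cj, show h⁻¹ * St.z * h = St.z * Φ.V.w by conv_lhs => rw [← hh1]
                                                      group]
    exact mul_mem μ.zD μ.wD
  have hw : Φ.V.w ∈ cj h (normalizer (μ.D : Set G)) := by
    rw [mem_cj, show h⁻¹ * Φ.V.w * h = St.z by rw [← hh2]; group]
    exact μ.zD
  have hell' := (St.ellAt_conj h).2 (μ.ell_D hell)
  rw [hh1] at hell'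
  obtain ⟨A, A₀, L, hA, hcomm, -, -, hn, hn₀⟩ :=
    exists_lay Φ.V (isPGroup_cj h μ.D_l) hN (hN hz) (hN hw) hell'
  exact ⟨⟨h, hh1, hh2, A, A₀, L, hA, hcomm, hn, hn₀⟩⟩

end Meet

namespace Phi

variable {Φ : Frame St} {μ : Meet Φ} (p : Phi μ)

theorem hw : p.h * Φ.V.w * p.h⁻¹ = St.z * Φ.V.w := by
  calc p.h * Φ.V.w * p.h⁻¹ = (p.h * St.z * p.h⁻¹) * (p.h * (St.z * Φ.V.w) * p.h⁻¹) := by
        rw [show (p.h * St.z * p.h⁻¹) * (p.h * (St.z * Φ.V.w) * p.h⁻¹) = p.h * (St.z * St.z * Φ.V.w) * p.h⁻¹ by group,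
          St.z_sq, one_mul]
    _ = _ := by rw [p.hzw, p.hz, Φ.V.comm.eq]

theorem hinv_z : p.h⁻¹ * St.z * p.h = St.z * Φ.V.w := by
  calc p.h⁻¹ * St.z * p.h = p.h⁻¹ * (p.h * (St.z * Φ.V.w) * p.h⁻¹) * p.h := by rw [p.hzw]
    _ = _ := by group

theorem hinv_w : p.h⁻¹ * Φ.V.w * p.h = St.z := by rw [← p.hz]; group

theorem hinv_zw : p.h⁻¹ * (St.z * Φ.V.w) * p.h = Φ.V.w := by rw [← p.hw]; group

theorem map_C {x : G} (hx : Commute x (St.z * Φ.V.w)) : p.h * x * p.h⁻¹ ∈ St.C := St.mem_C.2 (by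
  conv_rhs => rw [← p.hzw]
  exact hx.map (MulAut.conj p.h).toMonoidHom)

theorem mem_N {x : G} (hx : x ∈ normalizer (μ.D : Set G)) : p.h * x * p.h⁻¹ ∈ normalizer (p.A : Set G) :=
  p.norm (conj_mem_cj hx)

theorem mem_N₀ {x : G} (hx : x ∈ normalizer (μ.D : Set G)) : p.h * x * p.h⁻¹ ∈ normalizer (p.A₀ : Set G) :=
  p.norm₀ (conj_mem_cj hx)

/-- The stabiliser. -/
def H : Subgroup G := cj p.h⁻¹ p.L.fixer ⊓ normalizer (μ.D : Set G)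

theorem mem_H {x : G} : x ∈ p.H ↔ x ∈ normalizer (μ.D : Set G) ∧ p.h * x * p.h⁻¹ ∈ p.L.fixer := by
  rw [H, Subgroup.mem_inf, mem_cj, inv_inv, and_comm]

theorem D_le : μ.D ≤ p.H := fun d hd => p.mem_H.2 ⟨Subgroup.le_normalizer hd,
  p.L.mem_fixer_of_zero (p.mem_N (Subgroup.le_normalizer hd)) fun a ha => p.L.f_A₀ (by
    rw [← commutatorElement_inv]
    exact p.A₀.inv_mem (p.comm (Subgroup.commutator_mem_commutator ha (conj_mem_cj hd))))⟩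

theorem zw_mem : St.z * Φ.V.w ∈ p.H := p.mem_H.2 ⟨mul_mem μ.zD μ.wD, by rw [p.hzw]; exact p.L.z_fixer⟩

theorem z_not : St.z ∉ p.H := fun h => by
  have h1 := (p.mem_H.1 h).2
  rw [p.hz] at h1
  exact p.L.not_mem_fixer (b := ⟨Φ.V.w, Φ.V.mem⟩) Φ.V.sq Φ.V.ne Φ.V.nez h1

theorem w_not : Φ.V.w ∉ p.H := fun h => p.z_not (by
  have := p.H.mul_mem p.zw_mem h
  rwa [mul_assoc, Φ.V.sq, mul_one] at this)

theorem norm_H {x : G} (hx : x ∈ normalizer (μ.D : Set G)) (hxzw : x * (St.z * Φ.V.w) * x⁻¹ = St.z * Φ.V.w)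
    (hxz : x * St.z * x⁻¹ = St.z ∨ x * St.z * x⁻¹ = Φ.V.w) : x ∈ normalizer (p.H : Set G) := by
  refine mem_normalizer_inf (mem_normalizer_cj ?_) (Subgroup.le_normalizer hx)
  rw [inv_inv]
  have hC := p.map_C (mul_inv_eq_iff_eq_mul.1 hxzw)
  refine p.L.mem_normalizer_fixer (c := ⟨_, hC⟩) (p.mem_N hx) (p.mem_N₀ hx) ?_
  have e : St.φ ⟨_, hC⟩ * Φ.V.img * (St.φ ⟨_, hC⟩)⁻¹ =
      St.φ (⟨p.h * x * p.h⁻¹, hC⟩ * ⟨Φ.V.w, Φ.V.mem⟩ * (⟨p.h * x * p.h⁻¹, hC⟩ : St.C)⁻¹) := by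
    rw [map_mul, map_mul, map_inv]; rfl
  have e2 : (p.h * x * p.h⁻¹) * Φ.V.w * (p.h * x * p.h⁻¹)⁻¹ = p.h * (x * St.z * x⁻¹) * p.h⁻¹ := by
    rw [← p.hinv_w]; group
  rw [e]
  rcases hxz with h | h
  · refine Or.inl (congrArg St.φ (Subtype.ext (e2.trans ?_)))
    rw [h, p.hz]
  · refine Or.inr ?_
    rw [show (⟨p.h * x * p.h⁻¹, hC⟩ : St.C) * ⟨Φ.V.w, Φ.V.mem⟩ * (⟨p.h * x * p.h⁻¹, hC⟩ : St.C)⁻¹ =
      ⟨St.z, St.z_mem⟩ * ⟨Φ.V.w, Φ.V.mem⟩ from Subtype.ext (e2.trans (by rw [h, p.hw]; rfl)), map_mul, St.map_z]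
    rfl

theorem z_norm : St.z ∈ normalizer (p.H : Set G) :=
  p.norm_H μ.zD (Four.fix_z Φ.comm_zw.symm) (Or.inl (mul_inv_cancel_right _ _))

theorem w_norm : Φ.V.w ∈ normalizer (p.H : Set G) :=
  p.norm_H μ.wD (Φ.V.fix_w Φ.comm_w_zw.symm) (Or.inl (Φ.V.fix_w Φ.V.comm.symm))

/-- `zw` is isolated in the stabiliser. -/
theorem isolated {x : G} (hx : x ∈ p.H) (hc : Commute (St.z * Φ.V.w) (x * (St.z * Φ.V.w) * x⁻¹)) :
    x * (St.z * Φ.V.w) * x⁻¹ = St.z * Φ.V.w := by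
  by_contra hne
  set i := x * (St.z * Φ.V.w) * x⁻¹ with hi
  have hiH : i ∈ p.H := p.H.mul_mem (p.H.mul_mem hx p.zw_mem) (p.H.inv_mem hx)
  refine p.L.not_mem_fixer (b := ⟨_, p.map_C hc.symm⟩) (sq_conj (sq_conj Φ.V.zw_sq))
    (conj_ne_one (conj_ne_one Φ.V.zw_ne)) (fun h => hne ?_) (p.mem_H.1 hiH).2
  have h' : p.h * i * p.h⁻¹ = St.z := h
  calc i = p.h⁻¹ * (p.h * i * p.h⁻¹) * p.h := by group
    _ = _ := by rw [h', p.hinv_z]

theorem exists_J (hell : St.EllAt Φ.V.w Φ.U) :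
    ∃ J : Subgroup G, J ≤ p.H ∧ Odd (Nat.card J) ∧ ∀ x ∈ p.H, Odd (orderOf x) → x ∈ J := by
  have hCe : cj p.h (Subgroup.centralizer ({St.z * Φ.V.w} : Set G)) = St.C := by rw [cj_centralizer, p.hzw]
  have hell' := (St.ellAt_conj p.h).2 (μ.ell_D hell)
  rw [p.hzw] at hell'
  obtain ⟨K, hK, hKn, hKodd, hKall⟩ := St.exists_compl_ell (isPGroup_cj p.h μ.D_l) hell'
    (H := cj p.h (p.H ⊓ Subgroup.centralizer ({St.z * Φ.V.w} : Set G)))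
    ((cj_mono _ inf_le_right).trans hCe.le)
    (fun x hx => mem_normalizer_cj (p.mem_H.1 (mem_cj.1 hx).1).1)
  obtain ⟨J, hJ, -, hJodd, hJall⟩ := exists_compl_iso p.zw_mem Φ.V.zw_sq Φ.V.zw_ne
    (fun x hx hc => p.isolated hx hc) (K := cj p.h⁻¹ K)
    (by
      refine (cj_mono _ hK).trans ?_
      rw [cj_cj, inv_mul_cancel, cj_one])
    (fun x hx => mem_normalizer_cj (by rw [inv_inv]; exact hKn (conj_mem_cj hx)))
    (by rw [card_cj]; exact hKodd)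
    (fun x hx hodd => by
      rw [mem_cj, inv_inv]
      refine hKall _ (conj_mem_cj hx) ?_
      rwa [show orderOf (p.h * x * p.h⁻¹) = orderOf x from
        orderOf_injective (MulAut.conj p.h).toMonoidHom (MulAut.conj p.h).injective x])
  exact ⟨J, hJ, hJodd, hJall⟩

/-- An element of the minimal section of `U` fixes the functional. -/
theorem fix_aux (Λ : UA Φ) {b k : G} (hb : b = Φ.V.w ∨ b = St.z * Φ.V.w) (hkA : k ∈ Λ.A)
    (hkH : k ∈ normalizer (μ.D : Set G)) (hkb : Commute k (p.h⁻¹ * b * p.h))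
    (hkinv : St.z * Φ.V.w * k * (St.z * Φ.V.w)⁻¹ = k⁻¹)
    (hd : ∀ c ∈ μ.D, Commute c (p.h⁻¹ * (St.z * b) * p.h) →
      c⁻¹ * (St.z * Φ.V.w * c * (St.z * Φ.V.w)⁻¹) ∈ Φ.U) : k ∈ p.H := by
  refine p.mem_H.2 ⟨hkH, ?_⟩
  set t := p.h * k * p.h⁻¹ with ht
  have htA := p.mem_N hkH
  have htb : Commute t b := by
    have := hkb.map (MulAut.conj p.h).toMonoidHom
    simp only [MulEquiv.coe_toMonoidHom, MulAut.conj_apply] at this
    rwa [show p.h * (p.h⁻¹ * b * p.h) * p.h⁻¹ = b by group] at this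
  have htz : St.z * t * St.z⁻¹ = t⁻¹ := by
    calc St.z * t * St.z⁻¹ = p.h * ((p.h⁻¹ * St.z * p.h) * k * (p.h⁻¹ * St.z * p.h)⁻¹) * p.h⁻¹ := by rw [ht]; group
      _ = t⁻¹ := by rw [p.hinv_z, hkinv, ht]; group
  have hodd : Odd (orderOf t) := by
    rw [ht, show orderOf (p.h * k * p.h⁻¹) = orderOf k from
      orderOf_injective (MulAut.conj p.h).toMonoidHom (MulAut.conj p.h).injective k]
    exact odd_of_l (Γ := Γ) (Φ.U_l.to_le Λ.le_U) hkA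
  refine p.L.mem_fixer_of_sq hodd (p.L.f_sq hb htA (p.mem_N₀ hkH) htb htz fun c hc hcc => ?_)
  set c₀ := p.h⁻¹ * c * p.h with hc₀
  have hc₀D : c₀ ∈ μ.D := mem_cj.1 (p.le hc)
  have hc₀c : Commute c₀ (p.h⁻¹ * (St.z * b) * p.h) := by
    have := hcc.map (MulAut.conj p.h⁻¹).toMonoidHom
    simp only [MulEquiv.coe_toMonoidHom, MulAut.conj_apply, inv_inv] at this
    exact this
  set d₀ := c₀⁻¹ * (St.z * Φ.V.w * c₀ * (St.z * Φ.V.w)⁻¹) with hd₀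
  have hd₀U : d₀ ∈ Φ.U := hd c₀ hc₀D hc₀c
  set d := c⁻¹ * (St.z * c * St.z⁻¹) with hddef
  have hdd : d = p.h * d₀ * p.h⁻¹ := by rw [hddef, hd₀, hc₀, ← p.hinv_z]; group
  have hzc := (Subgroup.mem_normalizer_iff.1 p.L.zA c).1 hc
  have hdA : d ∈ p.A := p.A.mul_mem (p.A.inv_mem hc) hzc
  have hfd : Φ.V.f p.A p.A₀ d = 1 := by
    rw [hddef, p.L.f_mul (p.A.inv_mem hc) hzc, p.L.f_inv hc, p.L.f_z hc, inv_mul_cancel]
  have htd : ⁅t, d⁆ ∈ p.A := by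
    rw [commutatorElement_def]; exact p.A.mul_mem (p.L.conj_mem htA hdA) (p.A.inv_mem hdA)
  rw [show t * d * t⁻¹ = ⁅t, d⁆ * d by rw [commutatorElement_def, inv_mul_cancel_right], p.L.f_mul htd hdA, hfd,
    mul_one]
  refine p.L.f_zero (B := p.A ⊓ cj p.h Λ.A₀) inf_le_left
    (mem_normalizer_inf p.L.zA (mem_normalizer_cj (by
      rw [p.hinv_z]; exact Λ.norm₀ ⟨mul_mem Φ.zU Φ.wU, Φ.V.zw_mem⟩)))
    (mem_normalizer_inf p.L.wA (mem_normalizer_cj (by rw [p.hinv_w]; exact Λ.norm₀ ⟨Φ.zU, St.z_mem⟩)))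
    (fun h => ?_) ⟨htd, ?_⟩
  · refine (Λ.ell_b (mul_mem Φ.zU Φ.wU) Φ.V.zw_mem Φ.V.zw_sq Φ.V.zw_ne Φ.V.zw_nez).2 ((St.ellAt_conj p.h).1 ?_)
    rw [p.hzw]
    exact St.ellAt_mono inf_le_right h
  · rw [show ⁅t, d⁆ = p.h * ⁅k, d₀⁆ * p.h⁻¹ by rw [hdd, ht, commutatorElement_def, commutatorElement_def]; group]
    exact conj_mem_cj (Λ.comm (Subgroup.commutator_mem_commutator hkA hd₀U))

/-- The element centralising the four-group. -/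
theorem fix_V (Λ : UA Φ) {k : G} (hkA : k ∈ Λ.A) (hkH : k ∈ normalizer (μ.D : Set G)) (hkz : Commute k St.z)
    (hkw : Commute k Φ.V.w) : k ∈ p.H := by
  refine p.mem_H.2 ⟨hkH, p.L.mem_fixer_of_commute (t := ⟨_, p.map_C (hkz.mul_right hkw)⟩) (p.mem_N hkH)
    (p.mem_N₀ hkH) ?_ ?_⟩
  · have := hkz.map (MulAut.conj p.h).toMonoidHom
    simp only [MulEquiv.coe_toMonoidHom, MulAut.conj_apply] at this
    rwa [p.hz] at this
  · refine (isPGroup_cj p.h (Φ.U_l.to_le Λ.le_U)).to_le (zpowers_le.2 ?_)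
    exact conj_mem_cj hkA

/-- The element of the centralizer of `z` inverted by `w`. -/
theorem fix_z (Λ : UA Φ) {k : G} (hkA : k ∈ Λ.A) (hkH : k ∈ normalizer (μ.D : Set G)) (hkz : Commute k St.z)
    (hkw : Φ.V.w * k * Φ.V.w⁻¹ = k⁻¹) : k ∈ p.H := by
  refine p.fix_aux Λ (Or.inl rfl) hkA hkH (by rwa [p.hinv_w]) ?_ fun c hc hcc => ?_
  · rw [Φ.V.conj_zw, hkw, Four.fix_z hkz.inv_left]
  · rw [p.hinv_zw] at hcc
    rw [Φ.V.conj_zw, Φ.V.fix_w hcc]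
    exact Φ.N₀_le_U (Φ.cm_P ▸ cm_mem (μ.D_le_P hc))

/-- The element of the centralizer of `w` inverted by `z`. -/
theorem fix_w (Λ : UA Φ) {k : G} (hkA : k ∈ Λ.A) (hkH : k ∈ normalizer (μ.D : Set G)) (hkw : Commute k Φ.V.w)
    (hkz : St.z * k * St.z⁻¹ = k⁻¹) (hnz : ¬ St.EllAt St.z μ.D) : k ∈ p.H := by
  refine p.fix_aux Λ (Or.inr rfl) hkA hkH (by rwa [p.hinv_zw]) ?_ fun c hc hcc => ?_
  · rw [Φ.V.conj_zw, Φ.V.fix_w hkw, hkz]
  · rw [← mul_assoc St.z, St.z_sq, one_mul, p.hinv_w] at hcc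
    have e : St.z * Φ.V.w * c * (St.z * Φ.V.w)⁻¹ = Φ.V.w * c * Φ.V.w⁻¹ := by
      rw [show St.z * Φ.V.w * c * (St.z * Φ.V.w)⁻¹ = St.z * Φ.V.w * c * (Φ.V.w * St.z)⁻¹ by rw [Φ.V.comm.eq],
        show St.z * Φ.V.w * c * (Φ.V.w * St.z)⁻¹ = St.z * Φ.V.w * (c * St.z⁻¹) * Φ.V.w⁻¹ by group,
        (hcc.inv_right).eq, show St.z * Φ.V.w * (St.z⁻¹ * c) * Φ.V.w⁻¹ = St.z * (Φ.V.w * St.z⁻¹) * c * Φ.V.w⁻¹ by group,
        St.z_inv, Φ.V.comm.eq, ← mul_assoc St.z, St.z_sq, one_mul]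
    rw [e]
    have hcC : c ∈ St.C := St.mem_C.2 hcc
    refine Φ.PO_le_U ⟨Φ.P.mul_mem (Φ.P.inv_mem (μ.D_le_P hc))
      ((Subgroup.mem_normalizer_iff.1 Φ.wP _).1 (μ.D_le_P hc)), ?_⟩
    have hcw := Φ.V.commute_img μ.D_l μ.wD hnz (c := ⟨c, hcC⟩) hc
    exact St.sub_mem_O (c := ⟨c, hcC⟩) (d := ⟨Φ.V.w, Φ.V.mem⟩ * ⟨c, hcC⟩ * (⟨Φ.V.w, Φ.V.mem⟩ : St.C)⁻¹)
      (by rw [map_mul, map_mul, map_inv]; exact (mul_inv_eq_iff_eq_mul.2 hcw.eq).symm)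

end Phi

namespace Meet

variable {Φ : Frame St} (μ : Meet Φ)

/-- An element of the minimal section of `U` in the normalizer, outside the meet. -/
theorem exists_k (Λ : UA Φ) (h : ¬ Λ.A ≤ μ.D) :
    ∃ k ∈ Λ.A, k ∈ normalizer (μ.D : Set G) ∧ k ∉ μ.D ∧ ((Commute k St.z ∧ Commute k Φ.V.w) ∨
      (Commute k St.z ∧ Φ.V.w * k * Φ.V.w⁻¹ = k⁻¹) ∨ (Commute k Φ.V.w ∧ St.z * k * St.z⁻¹ = k⁻¹)) := by
  haveI := Fact.mk Γ.hl
  have hDA : μ.D ≤ normalizer (Λ.A : Set G) := μ.D_le_P.trans Λ.P_le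
  have hE : ¬ Λ.A ⊓ normalizer (μ.D : Set G) ≤ μ.D := fun hle => by
    have hsup : Λ.A ⊔ μ.D ≤ Φ.P := sup_le Λ.A_le_P μ.D_le_P
    have hne : μ.D ≠ Λ.A ⊔ μ.D := fun e => h (e.symm ▸ le_sup_left)
    obtain ⟨x, ⟨hxn, hx⟩, hxD⟩ :=
      SetLike.exists_of_lt (M22Ord.lt_normalizer_inf (Φ.P_l.to_le hsup) le_sup_right hne)
    have hx' : x ∈ (Λ.A : Set G) * (μ.D : Set G) := by
      rw [← Subgroup.coe_mul_of_right_le_normalizer_left _ _ hDA]; exact hx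
    have hxn' : x ∈ normalizer (μ.D : Set G) := hxn
    obtain ⟨a, ha, d, hd, e⟩ := hx'
    have e' : a * d = x := e
    have hdD : d ∈ μ.D := hd
    have han : a ∈ normalizer (μ.D : Set G) := by
      have := mul_mem hxn' (inv_mem (Subgroup.le_normalizer hdD))
      rwa [← e', mul_inv_cancel_right] at this
    exact hxD (e' ▸ μ.D.mul_mem (hle (⟨ha, han⟩ : a ∈ Λ.A ⊓ normalizer (μ.D : Set G))) hdD)
  have hzE : St.z ∈ normalizer ((Λ.A ⊓ normalizer (μ.D : Set G) : Subgroup G) : Set G) :=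
    mem_normalizer_inf (Λ.norm ⟨Φ.zU, St.z_mem⟩) (Subgroup.le_normalizer μ.zD)
  have hwE : Φ.V.w ∈ normalizer ((Λ.A ⊓ normalizer (μ.D : Set G) : Subgroup G) : Set G) :=
    mem_normalizer_inf (Λ.norm ⟨Φ.wU, Φ.V.mem⟩) (Subgroup.le_normalizer μ.wD)
  have hEl : IsPGroup l ↥(Λ.A ⊓ normalizer (μ.D : Set G)) := (Φ.U_l.to_le Λ.le_U).to_le inf_le_left
  obtain ⟨k, hk, hkD, hc | hc | hc | hc⟩ :=
    exists_eigen Γ.hl2 St.z_sq Φ.V.sq Φ.V.comm.symm.eq hEl hzE hwE hE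
  · exact ⟨k, hk.1, hk.2, hkD, Or.inl hc⟩
  · exact ⟨k, hk.1, hk.2, hkD, Or.inr (Or.inl hc)⟩
  · exact ⟨k, hk.1, hk.2, hkD, Or.inr (Or.inr hc)⟩
  · exfalso
    refine hkD (μ.R_le ?_)
    have h1 : k⁻¹ * (St.z * k * St.z⁻¹) ∈ Φ.R (St.z * Φ.V.w) := by
      rw [← Φ.R_eq Φ.comm_zw]
      exact cm_mem ⟨Λ.A_le_P hk.1, Subgroup.mem_centralizer_singleton_iff.2 hc.1.eq⟩
    rw [hc.2, ← _root_.mul_inv_rev] at h1
    have h2 := (Φ.R (St.z * Φ.V.w)).inv_mem h1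
    rw [inv_inv] at h2
    exact St.mem_of_two_pow (odd_of_l (Γ := Γ) (Φ.U_l.to_le Λ.le_U) hk.1) (j := 1) (by rwa [pow_one, sq])

end Meet

end Sett

end Cfsg.Agent.Invol.AbgOrder.Ell
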