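import Cfsg.Agent.Lib.Invol.AbgOrder.EllGamma
import Cfsg.Agent.Lib.Classical.DicksonSL
import Cfsg.Agent.Lib.Classical.SLNormal
import Cfsg.Agent.Lib.Invol.RealFreeQuad

/-!
# Tools for a quadratic action of an elliptic element

Root groups of `SL(2, q)`, a function with two values on the squares, an invariant bilinear function, and the
centralising property of a quadratic element.
-/

set_option autoImplicit false
set_option linter.unusedSectionVars false
set_option linter.style.haveILetI false

namespace Cfsg.Agent.Invol.AbgOrder.Ell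

open Matrix Subgroup

universe u v w

variable {F : Type v} [Field F]

local notation "SL₂" => Matrix.SpecialLinearGroup (Fin 2) F
local notation "M₂" => Matrix (Fin 2) (Fin 2) F

/-- The diagonal torus. -/
def dia (a : F) (ha : a ≠ 0) : SL₂ := ⟨!![a, 0; 0, a⁻¹], by simp [Matrix.det_fin_two, ha]⟩

theorem dia_conj_up (a : F) (ha : a ≠ 0) (τ : F) :
    dia a ha * Grp.SL2.up τ * (dia a ha)⁻¹ = Grp.SL2.up (a * a * τ) := by
  refine mul_inv_eq_of_eq_mul (Subtype.ext ?_)
  show (!![a, 0; 0, a⁻¹] : M₂) * !![1, τ; 0, 1] = !![1, a * a * τ; 0, 1] * !![a, 0; 0, a⁻¹]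
  ext i j
  fin_cases i <;> fin_cases j <;> simp [Matrix.mul_apply, Fin.sum_univ_two]
  field_simp

/-- The upper root group and an element outside its normaliser generate. -/
theorem up_closure {H : Subgroup SL₂} (hup : ∀ τ : F, Grp.SL2.up τ ∈ H) {s : SL₂} (hs : s ∈ H)
    (hc : (s : M₂) 1 0 ≠ 0) : H = ⊤ := by
  set c := (s : M₂) 1 0 with hc'
  have hdet := Grp.SL2.det_eq s
  set w : SL₂ := Grp.SL2.up (-((s : M₂) 0 0) / c) * s * Grp.SL2.up (-((s : M₂) 1 1) / c) with hw
  have hwH : w ∈ H := mul_mem (mul_mem (hup _) hs) (hup _)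
  have hwe : (w : M₂) = !![0, -c⁻¹; c, 0] := by
    rw [hw]
    simp only [Matrix.SpecialLinearGroup.coe_mul]
    ext i j
    fin_cases i <;> fin_cases j <;>
      simp [Grp.SL2.up, Matrix.mul_apply, Matrix.vecMul, dotProduct, Fin.sum_univ_two, ← hc'] <;>
      field_simp <;> first
        | linear_combination hdet
        | linear_combination -hdet
        | ring
  have hlow : ∀ τ : F, Grp.SL2.low τ ∈ H := fun τ => by
    have h : w * Grp.SL2.up (-τ / (c * c)) * w⁻¹ = Grp.SL2.low τ := by
      refine mul_inv_eq_of_eq_mul (Subtype.ext ?_)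
      simp only [Matrix.SpecialLinearGroup.coe_mul, hwe]
      ext i j
      fin_cases i <;> fin_cases j <;>
        simp [Grp.SL2.up, Grp.SL2.low, Matrix.mul_apply, Fin.sum_univ_two]
      field_simp
    exact h ▸ mul_mem (mul_mem hwH (hup _)) (inv_mem hwH)
  rw [eq_top_iff, ← Classical.SL_closure_transvections, Subgroup.closure_le]
  rintro _ ⟨⟨i, j, hij, d⟩, rfl⟩
  fin_cases i <;> fin_cases j
  · exact absurd rfl hij
  · refine (congrArg (· ∈ H) (Subtype.ext ?_ : _ = Grp.SL2.up d)).mpr (hup d)
    ext r s; fin_cases r <;> fin_cases s <;>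
      simp [Grp.SL2.up, Matrix.TransvectionStruct.toSpecialLinearGroup,
        Matrix.SpecialLinearGroup.transvection_coe]
  · refine (congrArg (· ∈ H) (Subtype.ext ?_ : _ = Grp.SL2.low d)).mpr (hlow d)
    ext r s; fin_cases r <;> fin_cases s <;>
      simp [Grp.SL2.low, Matrix.TransvectionStruct.toSpecialLinearGroup,
        Matrix.SpecialLinearGroup.transvection_coe]
  · exact absurd rfl hij

/-- A multiplicative bilinear function invariant under all scalars is trivial. -/
theorem biadd_one [Fintype F] (h2 : (2 : F) ≠ 0) (h5 : 5 ≤ Fintype.card F) {A : Type w} [CommGroup A]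
    (β : F → F → A) (hl : ∀ x x' y, β (x + x') y = β x y * β x' y) (hr : ∀ x y y', β x (y + y') = β x y * β x y')
    (hinv : ∀ m x y, m ≠ 0 → β (m * x) (m * y) = β x y) (x y : F) : β x y = 1 := by
  classical
  have key : ∀ m : F, m ≠ 0 → m ≠ -1 → β (m * x) y = (β x (m * y) * β x y)⁻¹ := fun m hm hm1 => by
    have h := hinv (1 + m) x y (fun e => hm1 (eq_neg_of_add_eq_zero_right e))
    rw [add_mul, add_mul, one_mul, one_mul, hl, hr, hr, hinv m x y hm, mul_assoc, mul_eq_left] at h
    rw [eq_inv_iff_mul_eq_one, ← h, mul_comm (β x (m * y)) (β (m * x) y * β x y), mul_assoc,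
      mul_comm (β x (m * y))]
  obtain ⟨m, hm⟩ : ∃ m : F, m ∉ ({0, -1, -2} : Finset F) := by
    by_contra h
    push Not at h
    have h3 := Finset.card_le_card (fun z (_ : z ∈ Finset.univ) => h z)
    have := Finset.card_le_three (a := (0 : F)) (b := -1) (c := -2)
    rw [Finset.card_univ] at h3
    omega
  simp only [Finset.mem_insert, Finset.mem_singleton, not_or] at hm
  obtain ⟨hm0, hm1, hm2⟩ := hm
  have e1 := key (1 + m) (fun e => hm1 (eq_neg_of_add_eq_zero_right e))
    (fun e => hm2 (by linear_combination e))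
  rw [add_mul, add_mul, one_mul, one_mul, hl, hr, key m hm0 hm1] at e1
  have h2' : β x y * β x y = 1 := by
    set a := β x y
    set b := β x (m * y)
    rw [show a * (b * a)⁻¹ = b⁻¹ by rw [mul_comm b a, _root_.mul_inv_rev]; simp [mul_comm],
      show (a * b * a)⁻¹ = b⁻¹ * (a * a)⁻¹ by rw [mul_right_comm, _root_.mul_inv_rev]] at e1
    exact inv_eq_one.1 (mul_eq_left.1 e1.symm)
  have h3 := key 1 one_ne_zero (fun e => h2 (by linear_combination e))
  rw [one_mul, one_mul, h2', inv_one] at h3
  exact h3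

/-- A character of the additive group takes more than two values on the squares. -/
theorem not_two_values [Fintype F] (h5 : 5 ≤ Fintype.card F) (h4 : Fintype.card F % 4 = 3) {D : Type w} [CommRing D]
    [IsDomain D] (f : F → D) (f0 : f 0 = 1) (fadd : ∀ x y, f (x + y) = f x * f y) (f1 : f 1 ≠ 1) (e₁ e₂ : D)
    (hv : ∀ x : F, x ≠ 0 → f (x * x) = e₁ ∨ f (x * x) = e₂) : False := by
  classical
  obtain ⟨p, hp⟩ := CharP.exists F
  obtain ⟨n, hpp, hn⟩ := FiniteField.card F p
  haveI := Fact.mk hpp
  have hnat : ∀ (x : F) (k : ℕ), f (k * x) = f x ^ k := fun x k => by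
    induction k with
    | zero => simp [f0]
    | succ k ih => rw [Nat.cast_succ, add_mul, one_mul, fadd, ih, pow_succ]
  have hpow : ∀ x : F, f x ^ p = 1 := fun x => by rw [← hnat, CharP.cast_eq_zero, zero_mul, f0]
  have hord : orderOf (f 1) = p := orderOf_eq_prime (hpow 1) f1
  have hp2 : p ≠ 2 := by rintro rfl; rw [hn, ← Nat.succ_pred_eq_of_pos n.pos, pow_succ'] at h4; omega
  have hp5 : p ≠ 5 := by
    rintro rfl
    rw [hn, Nat.pow_mod] at h4
    norm_num at h4
  rcases eq_or_ne p 3 with rfl | hp3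
  · have hroot : ∀ x : F, f x = 1 ∨ f x = f 1 ∨ f x = f 1 ^ 2 := fun x => by
      have hs : 1 + f 1 + f 1 ^ 2 = 0 := (mul_eq_zero.1 (show (1 + f 1 + f 1 ^ 2) * (f 1 - 1) = 0 by
        linear_combination hpow 1)).resolve_right (sub_ne_zero.2 f1)
      have h := show (f x - 1) * ((f x - f 1) * (f x - f 1 ^ 2)) = 0 by
        linear_combination hpow x - f x ^ 2 * hs + f x * f 1 * hs + (f x - 1) * hpow 1 - f x * hpow 1
      rcases mul_eq_zero.1 h with h | h
      · exact Or.inl (sub_eq_zero.1 h)
      · rcases mul_eq_zero.1 h with h | h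
        · exact Or.inr (Or.inl (sub_eq_zero.1 h))
        · exact Or.inr (Or.inr (sub_eq_zero.1 h))
    have h30 : (3 : F) = 0 := by exact_mod_cast CharP.cast_eq_zero F 3
    obtain ⟨y, hy0, hy⟩ : ∃ y : F, y ≠ 0 ∧ f y = 1 := by
      obtain ⟨m, hm⟩ : ∃ m : F, m ∉ ({0, 1, -1} : Finset F) := by
        by_contra h
        push Not at h
        have h3 := Finset.card_le_card (fun z (_ : z ∈ Finset.univ) => h z)
        have := Finset.card_le_three (a := (0 : F)) (b := 1) (c := -1)
        rw [Finset.card_univ] at h3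
        omega
      simp only [Finset.mem_insert, Finset.mem_singleton, not_or] at hm
      rcases hroot m with h | h | h
      · exact ⟨m, hm.1, h⟩
      · refine ⟨m + 1 + 1, fun e => hm.2.1 (by linear_combination e - h30), ?_⟩
        rw [fadd, fadd, h]
        linear_combination hpow 1
      · refine ⟨m + 1, fun e => hm.2.2 (by linear_combination e), ?_⟩
        rw [fadd, h]
        linear_combination hpow 1
    obtain ⟨x₀, hx₀, hfx₀⟩ : ∃ x₀ : F, x₀ ≠ 0 ∧ f (x₀ * x₀) = 1 := by
      rcases (by
          by_cases hsq : IsSquare y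
          · exact Or.inl hsq
          · refine Or.inr ?_
            have hneg : ¬ IsSquare (-1 : F) := fun h => FiniteField.isSquare_neg_one_iff.1 h h4
            have h' : IsSquare (y / -1) := by
              exact Gam.div_square (neg_ne_zero.2 one_ne_zero) hsq hneg
            rwa [div_neg, div_one] at h' : IsSquare y ∨ IsSquare (-y)) with ⟨r, hr⟩ | ⟨r, hr⟩
      · exact ⟨r, fun e => hy0 (by rw [hr, e, zero_mul]), hr ▸ hy⟩
      · refine ⟨r, fun e => hy0 (neg_eq_zero.1 (by rw [hr, e, zero_mul])), ?_⟩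
        rw [← hr, show -y = y + y by linear_combination -y * h30, fadd, hy, one_mul]
    have hall : ∀ x : F, f (x * x) = 1 ∨ f (x * x) = f 1 := fun x => by
      rcases eq_or_ne x 0 with rfl | hx
      · exact Or.inl (by rw [mul_zero, f0])
      have a1 := hv 1 one_ne_zero
      rw [mul_one] at a1
      have a0 := hv x₀ hx₀
      rw [hfx₀] at a0
      rcases hv x hx with h | h <;> rcases a1 with b | b <;> rcases a0 with c | c <;>
        simp_all
    have hB : ∀ x : F, f (2 * x * x₀) = 1 := fun x => by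
      have hab : f ((x + x₀) * (x + x₀)) * f ((x - x₀) * (x - x₀)) = f (x * x) ^ 2 := by
        rw [← fadd, show (x + x₀) * (x + x₀) + (x - x₀) * (x - x₀) = (x * x + x * x) + (x₀ * x₀ + x₀ * x₀) by ring,
          fadd, fadd, fadd, hfx₀, mul_one, mul_one, sq]
      have ha : f ((x + x₀) * (x + x₀)) = f (x * x) := by
        have hne : f 1 ^ 2 ≠ 1 := fun e => f1 (by linear_combination hpow 1 - f 1 * e)
        have hne' : f 1 ^ 2 ≠ f 1 := fun e => f1 (by
          have h0 : f 1 ≠ 0 := fun e0 => by have := hpow 1; rw [e0] at this; simp at this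
          exact mul_left_cancel₀ h0 (by rw [mul_one, ← sq, e]))
        rcases hall (x + x₀) with a | a <;> rcases hall (x - x₀) with b | b <;> rcases hall x with c | c <;>
          rw [a, b, c] at hab <;> rw [a, c] <;> first
            | rfl
            | (exfalso; simp at hab; first
                | exact f1 hab
                | exact f1 hab.symm
                | exact hne hab
                | exact hne hab.symm
                | exact hne' hab
                | exact hne' hab.symm
                | exact hne (by linear_combination hab))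
      rw [show (x + x₀) * (x + x₀) = x * x + (2 * x * x₀ + x₀ * x₀) by ring, fadd, fadd, hfx₀, mul_one] at ha
      exact (mul_eq_left₀ (fun e => by have := hpow (x * x); rw [e] at this; simp at this)).1 ha
    exact f1 (by
      have h2 : (2 : F) ≠ 0 := fun e => one_ne_zero (α := F) (by linear_combination h30 - e)
      have := hB (1 / (2 * x₀))
      rwa [show 2 * (1 / (2 * x₀)) * x₀ = 1 by field_simp] at this)
  · have hp7 : 7 ≤ p := by
      by_contra h
      have := hpp.two_le
      interval_cases p <;> simp_all (config := { decide := true })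
    have hsq : ∀ k : ℕ, ¬ p ∣ k → f 1 ^ (k * k) = e₁ ∨ f 1 ^ (k * k) = e₂ := fun k hk => by
      have := hv k (fun e => hk ((CharP.cast_eq_zero_iff F p k).1 e))
      rwa [show (k : F) * k = ((k * k : ℕ) : F) * 1 by push_cast; ring, hnat] at this
    have hne : ∀ i j : ℕ, i ≤ j → ¬ p ∣ j - i → f 1 ^ i ≠ f 1 ^ j := fun i j hij hd e => by
      have hu : IsUnit (f 1) := IsUnit.of_pow_eq_one (hpow 1) hpp.ne_zero
      refine hd (hord ▸ orderOf_dvd_of_pow_eq_one ((hu.pow i).mul_left_cancel (b := f 1 ^ (j - i)) ?_))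
      rw [← pow_add, Nat.add_sub_cancel' hij, mul_one, e]
    have d3 : ¬ p ∣ 3 := fun h => hp3 ((Nat.prime_dvd_prime_iff_eq hpp Nat.prime_three).1 h)
    have d15 : ¬ p ∣ 15 := fun h => by
      rcases hpp.dvd_mul.1 (show p ∣ 3 * 5 from h) with h | h
      · exact d3 h
      · exact hp5 ((Nat.prime_dvd_prime_iff_eq hpp (by norm_num)).1 h)
    have d12 : ¬ p ∣ 12 := fun h => by
      rcases hpp.dvd_mul.1 (show p ∣ 3 * 4 from h) with h | h
      · exact d3 h
      · exact absurd (Nat.le_of_dvd (by norm_num) h) (by omega)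
    have d : ∀ k : ℕ, 0 < k → k < 7 → ¬ p ∣ k := fun k hk hk7 h => by
      have := Nat.le_of_dvd hk h; omega
    rcases hsq 1 (d 1 one_pos (by norm_num)) with a | a <;> rcases hsq 2 (d 2 two_pos (by norm_num)) with b | b <;>
      rcases hsq 4 (d 4 (by norm_num) (by norm_num)) with c | c <;> first
        | exact hne 1 4 (by norm_num) d3 (a.trans b.symm)
        | exact hne 1 16 (by norm_num) d15 (a.trans c.symm)
        | exact hne 4 16 (by norm_num) d12 (b.trans c.symm)

section Quad

variable {l : ℕ} [Fact l.Prime]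

/-- A quadratic element has order `l`. -/
theorem quad_pow {V : Type u} [AddCommGroup V] [Module (ZMod l) V] {s : Module.End (ZMod l) V}
    (h : (s - 1) * (s - 1) = 0) : s ^ l = 1 := by
  have key : ∀ k : ℕ, s ^ k = 1 + k • (s - 1) := fun k => by
    induction k with
    | zero => simp
    | succ k ih =>
      rw [pow_succ, ih, succ_nsmul]
      nth_rw 2 [show s = 1 + (s - 1) by abel]
      rw [add_mul, one_mul, smul_mul_assoc, mul_add, mul_one, h, add_zero]
      abel
  rw [key, ← Nat.cast_smul_eq_nsmul (ZMod l), ZMod.natCast_self, zero_smul, add_zero]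

/-- A quadratic element centralises a group of odd order prime to `l` which it normalises. -/
theorem quad_centralize (hl2 : l ≠ 2) {V : Type u} [AddCommGroup V] [Module (ZMod l) V] [Finite V]
    {A : (Module.End (ZMod l) V)ˣ} (hq : ((A : Module.End (ZMod l) V) - 1) * ((A : Module.End (ZMod l) V) - 1) = 0)
    (M : Subgroup (Module.End (ZMod l) V)ˣ) (hn : A ∈ normalizer (M : Set (Module.End (ZMod l) V)ˣ))
    (hodd : Odd (Nat.card M)) (hlM : ¬ l ∣ Nat.card M) : ∀ m ∈ M, Commute A m := by
  classical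
  haveI : Finite (Module.End (ZMod l) V) := Finite.of_injective (fun f => (f : V → V)) DFunLike.coe_injective
  have hA : A ^ l = 1 := Units.ext (by rw [Units.val_pow_eq_pow_val, quad_pow hq, Units.val_one])
  set Q := zpowers A ⊔ M with hQ
  have hAQ : A ∈ Q := (le_sup_left : zpowers A ≤ Q) (mem_zpowers A)
  let ρ : Q →* Module.End (ZMod l) V := (Units.coeHom _).comp Q.subtype
  have hinj : Function.Injective ρ := fun a b h => Subtype.ext (Units.ext h)
  intro m hm
  by_cases hc : (⟨A, hAQ⟩ : Q) ∈ Cfsg.pCore l Q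
  · set c := A * m * A⁻¹ * m⁻¹ with hc'
    have hcM : c ∈ M := mul_mem ((Subgroup.mem_normalizer_iff.1 hn m).1 hm) (inv_mem hm)
    haveI := Grp.pCore_isNormal (p := l) (G := Q)
    have hcO : (⟨A, hAQ⟩ * ⟨m, (le_sup_right : M ≤ Q) hm⟩ * (⟨A, hAQ⟩ : Q)⁻¹ *
        (⟨m, (le_sup_right : M ≤ Q) hm⟩ : Q)⁻¹) ∈ Cfsg.pCore l Q := by
      rw [mul_assoc, mul_assoc, ← mul_assoc (⟨m, _⟩ : Q)]
      exact mul_mem hc ((inferInstance : (Cfsg.pCore l Q).Normal).conj_mem _ (inv_mem hc) _)
    obtain ⟨k, hk⟩ := (Grp.pCore_isPGroup (p := l) (G := Q)) ⟨_, hcO⟩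
    have hk' : c ^ l ^ k = 1 := congrArg (fun x : (Cfsg.pCore l Q) => ((x : Q) : (Module.End (ZMod l) V)ˣ)) hk
    have h1 : orderOf c ∣ Nat.gcd (l ^ k) (Nat.card M) :=
      Nat.dvd_gcd (orderOf_dvd_of_pow_eq_one hk') (Subgroup.orderOf_dvd_natCard _ hcM)
    rw [Nat.Coprime.gcd_eq_one (Nat.Coprime.pow_left k ((Fact.out : l.Prime).coprime_iff_not_dvd.2 hlM)),
      Nat.dvd_one, orderOf_eq_one_iff, hc', mul_inv_eq_one, mul_inv_eq_iff_eq_mul] at h1
    exact h1
  · exfalso
    obtain ⟨h, hh, hh1, -⟩ := RealFree.exists_commuting_involution hl2 ρ hinj (a := ⟨A, hAQ⟩) hq hc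
    have h2 : 2 ∣ Nat.card Q := by
      rw [← orderOf_eq_prime hh hh1]; exact orderOf_dvd_natCard h
    have h3 : Nat.card Q ∣ Nat.card (zpowers A) * Nat.card M :=
      Grp.card_sup_dvd_mul (zpowers_le.2 hn)
    rcases (Nat.Prime.dvd_mul Nat.prime_two).1 (h2.trans h3) with h | h
    · rw [Nat.card_zpowers] at h
      exact hl2 ((Nat.prime_dvd_prime_iff_eq Nat.prime_two (Fact.out : l.Prime)).1
        (h.trans (orderOf_dvd_of_pow_eq_one hA))).symm
    · exact Nat.not_even_iff_odd.2 hodd (even_iff_two_dvd.2 h)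

end Quad

end Cfsg.Agent.Invol.AbgOrder.Ell
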