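import Cfsg.Agent.Lib.Invol.AbgOrder.EllMove
import Cfsg.Agent.Lib.Invol.AbgOrder.EllQuadAux

/-!
# A quadratic element acts centrally

For a module of a group mapping onto `X` with kernel of odd order acting as a group of order prime to `l`.
-/

set_option autoImplicit false
set_option linter.unusedSectionVars false
set_option linter.style.haveILetI false

namespace Cfsg.Agent.Invol.AbgOrder.Ell

open Matrix Subgroup
open scoped commutatorElement

universe u v

namespace Gam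

variable {X : Type u} [Group X] [Finite X] {F : Type v} [Field F] [Fintype F] {l : ℕ} (Γ : Gam X F l)

local notation "SL₂" => Matrix.SpecialLinearGroup (Fin 2) F
local notation "M₂" => Matrix (Fin 2) (Fin 2) F

variable {B : Type u} [Group B] [Finite B] {V : Type u} [AddCommGroup V] [Module (ZMod l) V] [Finite V]
  (φ : B →* X) (ρ : B →* Module.End (ZMod l) V)

/-- An elliptic element does not act quadratically. -/
theorem ell_false (h4 : Fintype.card F % 4 = 3) (hφ : Function.Surjective φ)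
    (hR : ∀ b : B, ρ b = 1 → φ b = 1 ∨ φ b = Γ.c.z) {a : B} (hq : (ρ a - 1) * (ρ a - 1) = 0)
    (hx : Γ.Elt (φ a)) (hcen : ∀ k ∈ φ.ker, Commute (ρ a) (ρ k)) : False := by
  classical
  obtain ⟨s, hs, hs1, hsl, u, hu, hus, hns, -⟩ := Γ.elt_ι hx
  -- the entry and the trace
  obtain ⟨α, β, hab⟩ := exists_lin
    (not_scalar_of_tz Γ.two_ne (tz_of_sq Γ.c.odd hu) (by rw [u.2]; exact one_ne_zero))
    (show (s : M₂) * (u : M₂) = (u : M₂) * (s : M₂) by rw [← cmul, ← hus, cmul])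
  have hβ : β ≠ 0 := fun h => hns α (by rw [hab, h, zero_smul, add_zero])
  have hu10 : (u : M₂) 1 0 ≠ 0 := fun h => by
    have hd := u.2
    rw [Matrix.det_fin_two, h, mul_zero, sub_zero, (tz_of_sq Γ.c.odd hu).eq] at hd
    exact FiniteField.isSquare_neg_one_iff.1 ⟨(u : M₂) 0 0, by linear_combination hd⟩ h4
  set c := (s : M₂) 1 0 with hc
  have hc0 : c ≠ 0 := by
    rw [hc, hab]
    simp [hβ, hu10]
  set t := (s : M₂) 0 0 + (s : M₂) 1 1 with ht
  have ht0 : t ≠ 0 := fun h => by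
    have htz : TZ (s : M₂) := h
    have hss : s * s = -1 := Subtype.ext (by
      rw [cmul, htz.mul_self, s.2, Matrix.SpecialLinearGroup.coe_neg, Matrix.SpecialLinearGroup.coe_one, neg_smul,
        one_smul])
    obtain ⟨k, hk⟩ := Γ.hl.odd_of_ne_two Γ.hl2
    rw [hk, pow_succ, pow_mul, sq, hss] at hsl
    rcases neg_one_pow_eq_or SL₂ k with e | e <;> rw [e] at hsl
    · exact hs1 (by rwa [one_mul] at hsl)
    · rw [neg_one_mul, neg_eq_iff_eq_neg] at hsl
      exact hns (-1) (by rw [hsl, Matrix.SpecialLinearGroup.coe_neg, Matrix.SpecialLinearGroup.coe_one, neg_smul,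
        one_smul])
  -- the centraliser of the kernel
  let ρu := ρ.toHomUnits
  have hρu : ∀ b, ((ρu b : (Module.End (ZMod l) V)ˣ) : Module.End (ZMod l) V) = ρ b := fun b => rfl
  let M1 : Subgroup B :=
    (Subgroup.centralizer ((φ.ker.map ρu : Subgroup (Module.End (ZMod l) V)ˣ) : Set (Module.End (ZMod l) V)ˣ)).comap ρu
  have hkc : ∀ b ∈ M1, ∀ k ∈ φ.ker, Commute (ρu b) (ρu k) := fun b hb k hk =>
    (Subgroup.mem_centralizer_iff.1 (show ρu b ∈ _ from hb) (ρu k) ⟨k, hk, rfl⟩).symm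
  have hM1n : M1.Normal := ⟨fun b hb g => Subgroup.mem_centralizer_iff.2 (by
    rintro _ ⟨k, hk, rfl⟩
    have h : Commute (ρu b) (ρu (g⁻¹ * k * g)) := hkc b hb _ (by
      have := (inferInstance : φ.ker.Normal).conj_mem k hk g⁻¹
      rwa [inv_inv] at this)
    rw [map_mul, map_mul, map_inv] at h
    rw [map_mul, map_mul, map_inv]
    calc ρu k * (ρu g * ρu b * (ρu g)⁻¹) = ρu g * (((ρu g)⁻¹ * ρu k * ρu g) * ρu b) * (ρu g)⁻¹ := by group
      _ = ρu g * (ρu b * ((ρu g)⁻¹ * ρu k * ρu g)) * (ρu g)⁻¹ := by rw [h.eq]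
      _ = ρu g * ρu b * (ρu g)⁻¹ * ρu k := by group)⟩
  have ha1 : a ∈ M1 := Subgroup.mem_centralizer_iff.2 (by
    rintro _ ⟨k, hk, rfl⟩
    exact (Units.ext (hcen k hk).eq : ρu a * ρu k = ρu k * ρu a).symm)
  have hN : Γ.c.N ≤ M1.map φ := by
    by_contra h
    rcases Γ.normal_small (hM1n.map φ hφ) h ⟨a, ha1, rfl⟩ with e | e
    · exact hx.2.1 e
    · have := hx.2.2
      rw [e] at this
      obtain ⟨k, hk⟩ := Γ.hl.odd_of_ne_two Γ.hl2
      have h2 : Γ.c.z ^ (2 * k + 1) = 1 := hk ▸ this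
      rw [pow_succ, pow_mul, sq, Γ.c.z_sq, one_pow, one_mul] at h2
      exact Γ.c.z_ne h2
  -- commutators of the centraliser depend only on the images
  have indep : ∀ b ∈ M1, ∀ b' ∈ M1, ∀ d ∈ M1, ∀ d' ∈ M1, φ b = φ b' → φ d = φ d' →
      ⁅ρu b, ρu d⁆ = ⁅ρu b', ρu d'⁆ := by
    intro b hb b' hb' d hd d' hd' e1 e2
    have h1 : ∀ x ∈ M1, ∀ x' ∈ M1, ∀ y ∈ M1, φ x = φ x' → ⁅ρu x, ρu y⁆ = ⁅ρu x', ρu y⁆ := by
      intro x _ x' hx' y hy e
      obtain ⟨k, hk, rfl⟩ : ∃ k ∈ φ.ker, x = x' * k :=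
        ⟨x'⁻¹ * x, by rw [MonoidHom.mem_ker, map_mul, map_inv, e, inv_mul_cancel], by group⟩
      have hky := (hkc y hy k hk).symm
      rw [map_mul, commutatorElement_def, commutatorElement_def, _root_.mul_inv_rev, mul_assoc (ρu x') (ρu k),
        hky.eq]
      group
    rw [h1 b hb b' hb' d hd e1, ← commutatorElement_inv, h1 d hd d' hd' b' hb' e2, commutatorElement_inv]
  have lift : ∀ s : SL₂, ∃ b ∈ M1, φ b = Γ.c.ι s := fun s => hN (Γ.mem_N.2 ⟨s, rfl⟩)
  choose L hLM hLφ using lift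
  have hLmul : ∀ s s' : SL₂, φ (L s * L s') = φ (L (s * s')) := fun s s' => by
    rw [map_mul, hLφ, hLφ, hLφ, map_mul]
  -- the root group acts as an abelian group
  let P := M1.map ρu
  let U : F → B := fun τ => L (Grp.SL2.up τ)
  have hU : ∀ τ, U τ ∈ M1 := fun τ => hLM _
  have hval : ∀ τ σ, (⟨⁅ρu (U τ), ρu (U σ)⁆, by
      rw [← map_commutatorElement]; exact ⟨_, (by rw [commutatorElement_def]; exact mul_mem (mul_mem (mul_mem (hU τ) (hU σ)) (inv_mem (hU τ))) (inv_mem (hU σ))), rfl⟩⟩ : P) ∈ Subgroup.center P := by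
    intro τ σ
    rw [Subgroup.mem_center_iff]
    rintro ⟨_, b, hb, rfl⟩
    refine Subtype.ext ?_
    show ρu b * ⁅ρu (U τ), ρu (U σ)⁆ = ⁅ρu (U τ), ρu (U σ)⁆ * ρu b
    rw [← map_commutatorElement]
    refine (hkc b hb _ ?_).eq
    rw [MonoidHom.mem_ker, map_commutatorElement, hLφ, hLφ, commutatorElement_eq_one_iff_mul_comm, ← map_mul,
      ← map_mul, (Grp.SL2.commute_up τ σ).eq]
  have htor : ∀ (m : F) (hm : m ≠ 0) (τ : F), φ (L (dia m hm) * U τ * (L (dia m hm))⁻¹) = φ (U (m * m * τ)) := by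
    intro m hm τ
    rw [map_mul, map_mul, map_inv, hLφ, hLφ, hLφ, ← map_inv, ← map_mul, ← map_mul, dia_conj_up]
  have hUadd : ∀ τ σ, φ (U τ * U σ) = φ (U (τ + σ)) := fun τ σ => by
    rw [hLmul, Grp.SL2.up_mul]
  have hconjM : ∀ g ∈ M1, ∀ b ∈ M1, g * b * g⁻¹ ∈ M1 := fun g hg b hb => mul_mem (mul_mem hg hb) (inv_mem hg)
  letI : CommGroup (Subgroup.center P) :=
    { (inferInstance : Group (Subgroup.center P)) with
      mul_comm := fun x y => Subtype.ext (Subgroup.mem_center_iff.1 y.2 x) }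
  have hab' : ∀ τ σ, ⁅ρu (U τ), ρu (U σ)⁆ = 1 := by
    intro τ σ
    let C : F → F → Subgroup.center P := fun τ σ => ⟨_, hval τ σ⟩
    have hCv : ∀ τ σ, (((C τ σ : Subgroup.center P) : P) : (Module.End (ZMod l) V)ˣ) = ⁅ρu (U τ), ρu (U σ)⁆ :=
      fun _ _ => rfl
    have hcenU : ∀ τ σ, ∀ b ∈ M1, Commute ⁅ρu (U τ), ρu (U σ)⁆ (ρu b) := fun τ σ b hb =>
      (congrArg Subtype.val (Subgroup.mem_center_iff.1 (hval τ σ) ⟨_, b, hb, rfl⟩)).symm
    have hl : ∀ x x' y, C (x + x') y = C x y * C x' y := fun x x' y => by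
      refine Subtype.ext (Subtype.ext ?_)
      show ⁅ρu (U (x + x')), ρu (U y)⁆ = ⁅ρu (U x), ρu (U y)⁆ * ⁅ρu (U x'), ρu (U y)⁆
      rw [← indep (U x * U x') (mul_mem (hU x) (hU x')) _ (hU _) _ (hU y) _ (hU y) (hUadd x x') rfl, map_mul]
      have h := (hcenU x' y (U x) (hU x)).eq
      have h' := (hcenU x y _ (mul_mem (mul_mem (hU x') (hU y)) (mul_mem (inv_mem (hU x')) (inv_mem (hU y))))).eq
      calc ⁅ρu (U x) * ρu (U x'), ρu (U y)⁆
          = ρu (U x) * ⁅ρu (U x'), ρu (U y)⁆ * (ρu (U x))⁻¹ * ⁅ρu (U x), ρu (U y)⁆ := by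
            simp only [commutatorElement_def]; group
        _ = ⁅ρu (U x'), ρu (U y)⁆ * ⁅ρu (U x), ρu (U y)⁆ := by rw [← h, mul_inv_cancel_right]
        _ = _ := by
          refine (?_ : Commute _ _).eq
          have := (congrArg Subtype.val (Subgroup.mem_center_iff.1 (hval x' y) ⟨_, (C x y : P).2⟩)).symm
          exact this
    have hinvC : ∀ x y, C x y = (C y x)⁻¹ := fun x y =>
      Subtype.ext (Subtype.ext (commutatorElement_inv _ _).symm)
    have hr : ∀ x y y', C x (y + y') = C x y * C x y' := fun x y y' => by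
      rw [hinvC, hl, hinvC x y, hinvC x y', _root_.mul_inv_rev, mul_comm]
    have hsq : ∀ m x y, m ≠ 0 → C (m * m * x) (m * m * y) = C x y := fun m x y hm => by
      refine Subtype.ext (Subtype.ext ?_)
      show ⁅ρu (U (m * m * x)), ρu (U (m * m * y))⁆ = ⁅ρu (U x), ρu (U y)⁆
      have hd := hLM (dia m hm)
      rw [← indep _ (hconjM _ hd _ (hU x)) _ (hU _) _ (hconjM _ hd _ (hU y)) _ (hU _) (htor m hm x) (htor m hm y)]
      simp only [map_mul, map_inv, ← conjugate_commutatorElement]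
      rw [← (hcenU x y _ hd).eq, mul_inv_cancel_right]
    have hinv : ∀ m x y, m ≠ 0 → C (m * x) (m * y) = C x y := fun m x y hm => by
      by_cases hs : IsSquare m
      · obtain ⟨r, rfl⟩ := hs
        exact hsq r x y (left_ne_zero_of_mul hm)
      · have hn1 : ¬ IsSquare (-1 : F) := fun h => FiniteField.isSquare_neg_one_iff.1 h h4
        obtain ⟨r, hr'⟩ := div_square (neg_ne_zero.2 one_ne_zero) hs hn1
        rw [div_neg, div_one] at hr'
        have hneg : ∀ x y, C (-x) y = (C x y)⁻¹ := fun x y => eq_inv_of_mul_eq_one_left (by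
          rw [← hl, neg_add_cancel]
          refine Subtype.ext (Subtype.ext ?_)
          show ⁅ρu (U 0), ρu (U y)⁆ = 1
          rw [indep _ (hU 0) 1 (one_mem _) _ (hU y) _ (hU y) (by rw [hLφ, Grp.SL2.up_zero, map_one, map_one]) rfl,
            map_one, commutatorElement_one_left])
        have hneg' : ∀ x y, C x (-y) = (C x y)⁻¹ := fun x y => by rw [hinvC, hneg, ← hinvC]
        rw [show m * x = -(r * r * x) by rw [← hr']; ring, show m * y = -(r * r * y) by rw [← hr']; ring, hneg,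
          hneg', inv_inv, hsq r x y (fun e => hm (by rw [e, mul_zero, neg_eq_zero] at hr'; exact hr'))]
    exact congrArg (fun z : Subgroup.center P => ((z : P) : (Module.End (ZMod l) V)ˣ))
      (biadd_one Γ.two_ne Γ.five_le C hl hr hinv τ σ)
  -- the second element and the product
  set y := L (Grp.SL2.up (-t / c)) with hy
  set b := y * a * y⁻¹ with hb
  have hbq : (ρ b - 1) * (ρ b - 1) = 0 := by
    have e : ρ b - 1 = ρ y * (ρ a - 1) * ρ y⁻¹ := by
      rw [mul_sub, sub_mul, mul_one, ← map_mul, ← map_mul, ← map_mul, mul_inv_cancel, map_one]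
    rw [e, show ρ y * (ρ a - 1) * ρ y⁻¹ * (ρ y * (ρ a - 1) * ρ y⁻¹) =
      ρ y * (ρ a - 1) * (ρ y⁻¹ * ρ y) * (ρ a - 1) * ρ y⁻¹ by simp only [mul_assoc],
      ← map_mul, inv_mul_cancel, map_one, mul_one, mul_assoc (ρ y), hq, mul_zero, zero_mul]
  set g := a * b * (a * b) with hg
  have hb1 : b ∈ M1 := hconjM _ (hLM _) _ ha1
  have hg1 : g ∈ M1 := mul_mem (mul_mem ha1 hb1) (mul_mem ha1 hb1)
  set τ₁ := 2 * (2 * t / c) with hτ₁
  have hgφ : φ g = Γ.c.ι (Grp.SL2.up τ₁) := by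
    rw [hg, map_mul, map_mul, hb, map_mul, map_mul, map_inv, hy, hLφ, ← hs, ← map_inv, ← map_mul, ← map_mul,
      ← map_mul, ← map_mul]
    refine congrArg _ ?_
    have key : s * (Grp.SL2.up (-t / c) * s * (Grp.SL2.up (-t / c))⁻¹) = -Grp.SL2.up (2 * t / c) := by
      rw [← mul_assoc, mul_inv_eq_iff_eq_mul]
      refine Subtype.ext ?_
      simp only [Matrix.SpecialLinearGroup.coe_mul, Matrix.SpecialLinearGroup.coe_neg, Matrix.neg_mul]
      have hd := Grp.SL2.det_eq s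
      ext i j
      fin_cases i <;> fin_cases j <;>
        simp [Grp.SL2.up, Matrix.mul_apply, Matrix.vecMul, dotProduct, Fin.sum_univ_two, ← hc] <;> rw [ht] <;> field_simp <;>
        first
          | linear_combination hd
          | linear_combination -hd
          | linear_combination (-((s : M₂) 0 0) - (s : M₂) 1 1) * hd
          | linear_combination ((s : M₂) 0 0 + (s : M₂) 1 1) * hd
          | linear_combination -t * hd
          | ring
    rw [key, neg_mul_neg, Grp.SL2.up_mul, hτ₁]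
    congr 1
    ring
  have hU0 : ∀ τ, ∀ d ∈ M1, φ d = φ (U τ) → ∀ σ, Commute (ρu d) (ρu (U σ)) := fun τ d hd e σ =>
    commutatorElement_eq_one_iff_commute.1 ((indep d hd _ (hU τ) _ (hU σ) _ (hU σ) e rfl).trans (hab' τ σ))
  have hcomm_g : ∀ σ, Commute (ρu g) (ρu (U σ)) := hU0 τ₁ g hg1 (hgφ.trans (hLφ _).symm)
  -- the generated subgroup
  set cc := ρ g + ρ g⁻¹ with hcc
  let K : Subgroup B := Subgroup.closure (insert a (Set.range U))
  have hKM : K ≤ M1 := (Subgroup.closure_le _).2 (Set.insert_subset_iff.2 ⟨ha1, by rintro _ ⟨τ, rfl⟩; exact hU τ⟩)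
  have hKcc : ∀ k ∈ K, Commute cc (ρ k) := by
    intro k hk
    induction hk using Subgroup.closure_induction with
    | one => rw [map_one]; exact Commute.one_right _
    | mul x y _ _ hx hy => rw [map_mul]; exact hx.mul_right hy
    | inv x _ hx =>
      show cc * ρ x⁻¹ = ρ x⁻¹ * cc
      calc cc * ρ x⁻¹ = ρ x⁻¹ * ρ x * cc * ρ x⁻¹ := by
            rw [← map_mul, inv_mul_cancel, map_one, one_mul]
        _ = ρ x⁻¹ * cc * (ρ x * ρ x⁻¹) := by rw [mul_assoc (ρ x⁻¹), ← hx.eq]; simp only [mul_assoc]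
        _ = ρ x⁻¹ * cc := by rw [← map_mul, mul_inv_cancel, map_one, mul_one]
    | mem x hx =>
      rcases hx with rfl | ⟨σ, rfl⟩
      · exact RealFree.commute_add_inv ρ hq hbq (mul_mem (mul_mem (Subgroup.subset_closure (by simp))
          (Subgroup.subset_closure (by simp))) (mul_mem (Subgroup.subset_closure (by simp))
          (Subgroup.subset_closure (by simp))))
      · have h := hcomm_g σ
        have h1 : Commute (ρ g) (ρ (U σ)) := congrArg Units.val h.eq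
        have h2 : Commute (ρ g⁻¹) (ρ (U σ)) := by
          have := congrArg Units.val h.inv_left.eq
          rwa [← map_inv] at this
        exact h1.add_left h2
  have hKN : ∀ s' : SL₂, ∃ k ∈ K, φ k = Γ.c.ι s' := by
    have hH : (K.map φ).comap Γ.c.ι = ⊤ :=
      up_closure (fun τ => ⟨U τ, Subgroup.subset_closure (Or.inr ⟨τ, rfl⟩), hLφ _⟩)
        (s := s) ⟨a, Subgroup.subset_closure (Or.inl rfl), hs.symm⟩ hc0
    intro s'
    exact hH.ge (Subgroup.mem_top s')
  choose E hEK hEφ using hKN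
  have hEM : ∀ s', E s' ∈ M1 := fun s' => hKM (hEK s')
  -- the splitting
  obtain ⟨δ, hδ0, hδ⟩ := Classical.exists_sq_ne_one_field (F := F) (by have := Γ.five_le; omega)
  have hδ1 : δ * δ - 1 ≠ 0 := by rwa [sub_ne_zero, ← sq]
  let S : F → (Module.End (ZMod l) V)ˣ := fun τ => ⁅ρu (E (dia δ hδ0)), ρu (U (τ / (δ * δ - 1)))⁆
  have hSb : ∀ τ, ∃ d ∈ M1, φ d = φ (U τ) ∧ ρu d = S τ := fun τ => by
    refine ⟨⁅E (dia δ hδ0), U (τ / (δ * δ - 1))⁆, (by rw [commutatorElement_def]; exact mul_mem (mul_mem (mul_mem (hEM _) (hU _)) (inv_mem (hEM _))) (inv_mem (hU _))), ?_, map_commutatorElement _ _ _⟩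
    rw [map_commutatorElement, hEφ, hLφ, hLφ, commutatorElement_def, ← map_inv, ← map_inv, ← map_mul, ← map_mul,
      ← map_mul, dia_conj_up, show (Grp.SL2.up (τ / (δ * δ - 1)) : SL₂)⁻¹ = Grp.SL2.up (-(τ / (δ * δ - 1))) from
        inv_eq_of_mul_eq_one_right (by rw [Grp.SL2.up_mul, add_neg_cancel, Grp.SL2.up_zero]), Grp.SL2.up_mul]
    congr 2
    field_simp
    ring
  have hSU : ∀ τ σ, Commute (S τ) (ρu (U σ)) := fun τ σ => by
    obtain ⟨d, hd, e, he⟩ := hSb τ
    exact he ▸ hU0 τ d hd e σ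
  have hSS : ∀ τ σ, Commute (S τ) (S σ) := fun τ σ => by
    obtain ⟨d, hd, e, he⟩ := hSb τ
    obtain ⟨d', hd', e', he'⟩ := hSb σ
    rw [← he, ← he']
    exact commutatorElement_eq_one_iff_commute.1 ((indep d hd _ (hU τ) _ hd' _ (hU σ) e e').trans (hab' τ σ))
  have hSadd : ∀ τ σ, S (τ + σ) = S τ * S σ := fun τ σ => by
    show ⁅ρu (E (dia δ hδ0)), ρu (U ((τ + σ) / (δ * δ - 1)))⁆ = _
    rw [add_div, ← indep _ (hEM _) _ (hEM _) _ (mul_mem (hU _) (hU _)) _ (hU _) rfl (hUadd _ _), map_mul]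
    have := (hSU σ (τ / (δ * δ - 1))).eq
    calc ⁅ρu (E (dia δ hδ0)), ρu (U (τ / (δ * δ - 1))) * ρu (U (σ / (δ * δ - 1)))⁆
        = S τ * (ρu (U (τ / (δ * δ - 1))) * S σ * (ρu (U (τ / (δ * δ - 1))))⁻¹) := by
          simp only [S, commutatorElement_def]; group
      _ = S τ * S σ := by rw [← this, mul_inv_cancel_right]
  have hS0 : S 0 = 1 := by
    have := hSadd 0 0
    rwa [add_zero, left_eq_mul] at this
  have hStor : ∀ m (hm : m ≠ 0) τ, ρu (E (dia m hm)) * S τ * (ρu (E (dia m hm)))⁻¹ = S (m * m * τ) := by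
    intro m hm τ
    show _ * ⁅_, _⁆ * _ = ⁅_, _⁆
    rw [conjugate_commutatorElement, ← map_inv, ← map_mul, ← map_mul, ← map_mul, ← map_mul]
    refine indep _ (hconjM _ (hEM _) _ (hEM _)) _ (hEM _) _ (hconjM _ (hEM _) _ (hU _)) _ (hU _) ?_ ?_
    · rw [map_mul, map_mul, map_inv, hEφ, hEφ, ← map_inv, ← map_mul, ← map_mul]
      refine congrArg _ (mul_inv_eq_of_eq_mul (Subtype.ext ?_))
      show (!![m, 0; 0, m⁻¹] : M₂) * !![δ, 0; 0, δ⁻¹] = !![δ, 0; 0, δ⁻¹] * !![m, 0; 0, m⁻¹]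
      ext i j
      fin_cases i <;> fin_cases j <;> simp [Matrix.mul_apply, Fin.sum_univ_two, mul_comm]
    · rw [map_mul, map_mul, map_inv, hEφ, hLφ, hLφ, ← map_inv, ← map_mul, ← map_mul, dia_conj_up, mul_div_assoc]
  have hS1 : S τ₁ ≠ 1 := fun h => by
    obtain ⟨d, hd, e, he⟩ := hSb τ₁
    have hd1 : ρ d = 1 := by rw [← hρu, he, h, Units.val_one]
    rw [hLφ] at e
    rcases hR d hd1 with e' | e' <;> rw [e] at e'
    · have h0 := congrArg (fun s : SL₂ => (s : M₂) 0 1) (Γ.c.ι_inj (e'.trans (map_one Γ.c.ι).symm))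
      simp [Grp.SL2.up, hτ₁, Γ.two_ne, ht0, hc0] at h0
    · have h0 := congrArg (fun s : SL₂ => (s : M₂) 0 1) (Γ.c.ι_inj e')
      simp [Grp.SL2.up, hτ₁, Γ.two_ne, ht0, hc0] at h0
  -- the constant
  obtain ⟨d₁, hd₁, e₁, he₁⟩ := hSb τ₁
  set k := ρu g * (S τ₁)⁻¹ with hk
  have hkcen : ∀ e ∈ M1, Commute k (ρu e) := fun e he => by
    rw [hk, ← he₁, ← map_inv, ← map_mul]
    exact (hkc e he _ (by rw [MonoidHom.mem_ker, map_mul, map_inv, e₁, hgφ, hLφ, mul_inv_cancel])).symm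
  -- a commutative ring
  let A : Set (Module.End (ZMod l) V) :=
    {x | ∃ v : (Module.End (ZMod l) V)ˣ, (v : Module.End (ZMod l) V) = x ∧ ∃ i : ℤ, ∃ τ, v = k ^ i * S τ}
  have hkS : ∀ τ, Commute k (S τ) := fun τ => by
    obtain ⟨d, hd, -, he⟩ := hSb τ
    exact he ▸ hkcen d hd
  have hAc : ∀ x ∈ A, ∀ y ∈ A, x * y = y * x := by
    rintro _ ⟨v, rfl, i, τ, rfl⟩ _ ⟨w, rfl, j, σ, rfl⟩
    have h : Commute (k ^ i * S τ) (k ^ j * S σ) :=
      ((Commute.zpow_zpow_self k i j).mul_right ((hkS σ).zpow_left i)).mul_left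
        (((hkS τ).symm.zpow_right j).mul_right (hSS τ σ))
    exact congrArg Units.val h.eq
  haveI := Subring.isMulCommutative_closure hAc
  letI : CommRing (Subring.closure A) := { (inferInstance : Ring (Subring.closure A)) with mul_comm := mul_comm' }
  have hAm : ∀ (i : ℤ) τ, ((k ^ i * S τ : (Module.End (ZMod l) V)ˣ) : Module.End (ZMod l) V) ∈ Subring.closure A :=
    fun i τ => Subring.subset_closure ⟨_, rfl, i, τ, rfl⟩
  let T : F → Subring.closure A := fun τ => ⟨S τ, by simpa using hAm 0 τ⟩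
  let kk : Subring.closure A := ⟨k, by simpa [hS0] using hAm 1 0⟩
  let kk' : Subring.closure A := ⟨(k⁻¹ : (Module.End (ZMod l) V)ˣ), by simpa [hS0] using hAm (-1) 0⟩
  have hTadd : ∀ τ σ, T (τ + σ) = T τ * T σ := fun τ σ => Subtype.ext (by
    show (S (τ + σ) : Module.End (ZMod l) V) = _
    rw [hSadd]; rfl)
  have hT0 : T 0 = 1 := Subtype.ext (by show (S 0 : Module.End (ZMod l) V) = 1; rw [hS0]; rfl)
  obtain ⟨p, hp⟩ := CharP.exists F
  obtain ⟨n, hpp, hn⟩ := FiniteField.card F p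
  haveI := Fact.mk Γ.hl
  have hpl : ¬ l ∣ p := fun h =>
    ne_char Γ.hl Γ.hl2 Γ.hlt hpp n.pos hn ((Nat.prime_dvd_prime_iff_eq Γ.hl hpp).1 h)
  obtain ⟨J, hJ, hJx⟩ : ∃ J : Ideal (Subring.closure A), J.IsPrime ∧ T τ₁ - 1 ∉ J := by
    by_contra h
    push Not at h
    have hnil : IsNilpotent (T τ₁ - 1) := nilpotent_iff_mem_prime.2 h
    have hpw : T τ₁ ^ p = 1 := by
      have hnat : ∀ i : ℕ, T τ₁ ^ i = T (i * τ₁) := fun i => by
        induction i with
        | zero => simp [hT0]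
        | succ i ih => rw [pow_succ, ih, ← hTadd]; congr 1; push_cast; ring
      rw [hnat, CharP.cast_eq_zero, zero_mul, hT0]
    set x := T τ₁ with hx
    have hgeo : (∑ i ∈ Finset.range p, x ^ i) * (x - 1) = 0 := by rw [geom_sum_mul, hpw, sub_self]
    have hunit : IsUnit (∑ i ∈ Finset.range p, x ^ i) := by
      have h1 : IsNilpotent ((∑ i ∈ Finset.range p, x ^ i) - p) := by
        rw [show ((p : Subring.closure A)) = ∑ i ∈ Finset.range p, (1 : Subring.closure A) by simp,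
          ← Finset.sum_sub_distrib]
        refine isNilpotent_sum fun i _ => ?_
        rw [← geom_sum_mul x i]
        exact (Commute.all _ _).isNilpotent_mul_left hnil
      have hpu : IsUnit ((p : Subring.closure A)) := by
        obtain ⟨m, hm⟩ : ∃ m : ℕ, ((p * m : ℕ) : ZMod l) = 1 := by
          refine ⟨((p : ZMod l)⁻¹).val, ?_⟩
          rw [Nat.cast_mul, ZMod.natCast_zmod_val, mul_inv_cancel₀]
          rwa [Ne, ZMod.natCast_eq_zero_iff]
        refine IsUnit.of_mul_eq_one (m : Subring.closure A) (Subtype.ext ?_)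
        push_cast
        rw [← Nat.cast_mul, ← map_natCast (algebraMap (ZMod l) (Module.End (ZMod l) V)), hm, map_one]
      have := h1.isUnit_add_left_of_commute hpu (Commute.all _ _)
      rwa [add_sub_cancel] at this
    have h2 := congrArg Subtype.val (hunit.mul_right_eq_zero.1 hgeo)
    refine hS1 (Units.ext ?_)
    exact sub_eq_zero.1 h2
  haveI := hJ
  let π : Subring.closure A →+* (Subring.closure A) ⧸ J := Ideal.Quotient.mk J
  have hkk : kk * kk' = 1 := Subtype.ext (by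
    show (k : Module.End (ZMod l) V) * ((k⁻¹ : (Module.End (ZMod l) V)ˣ) : Module.End (ZMod l) V) = 1
    rw [← Units.val_mul, mul_inv_cancel, Units.val_one])
  set ξ := π (kk * T τ₁) with hξ
  set ξ' := π (kk' * T (-τ₁)) with hξ'
  have hξξ : ξ * ξ' = 1 := by
    rw [hξ, hξ', ← map_mul, mul_mul_mul_comm, hkk, one_mul, ← hTadd, add_neg_cancel, hT0, map_one]
  refine not_two_values Γ.five_le h4 (fun x => π (T (x * τ₁))) (by simp only [zero_mul, hT0, map_one])
    (fun x y => by simp only [add_mul, hTadd, map_mul]) (fun h => hJx (by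
      rw [← Ideal.Quotient.eq, map_one]; simpa [one_mul] using h)) (π kk' * ξ) (π kk' * ξ') (fun x hx => ?_)
  -- the value on a square
  set e := E (dia x hx) with he
  have hc' : (ρu e : Module.End (ZMod l) V) * cc * ((ρu e)⁻¹ : (Module.End (ZMod l) V)ˣ) = cc := by
    rw [show ((ρu e : (Module.End (ZMod l) V)ˣ) : Module.End (ZMod l) V) * cc = cc * ρu e from
      (hKcc e (hEK _)).eq.symm, mul_assoc, ← Units.val_mul, mul_inv_cancel, Units.val_one, mul_one]
  have hgk : ρu g = k * S τ₁ := by rw [hk, inv_mul_cancel_right]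
  have hgk' : ρu g⁻¹ = k⁻¹ * S (-τ₁) := by
    rw [map_inv, hgk, _root_.mul_inv_rev, inv_eq_of_mul_eq_one_right
      (show S τ₁ * S (-τ₁) = 1 by rw [← hSadd, add_neg_cancel, hS0])]
    exact ((hkS (-τ₁)).inv_left).eq.symm
  have hsum : kk * T τ₁ + kk' * T (-τ₁) = kk * T (x * x * τ₁) + kk' * T (-(x * x * τ₁)) := by
    refine Subtype.ext ?_
    show (k : Module.End (ZMod l) V) * S τ₁ + ((k⁻¹ : (Module.End (ZMod l) V)ˣ) : Module.End (ZMod l) V) * S (-τ₁) =
      (k : Module.End (ZMod l) V) * S (x * x * τ₁) +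
        ((k⁻¹ : (Module.End (ZMod l) V)ˣ) : Module.End (ZMod l) V) * S (-(x * x * τ₁))
    have h1 : cc = (k : Module.End (ZMod l) V) * S τ₁ +
        ((k⁻¹ : (Module.End (ZMod l) V)ˣ) : Module.End (ZMod l) V) * S (-τ₁) := by
      rw [hcc, ← hρu g, ← hρu g⁻¹, hgk, hgk']
      simp only [Units.val_mul]
    have hconj : ∀ w σ, (∀ b ∈ M1, Commute w (ρu b)) →
        ((ρu e : (Module.End (ZMod l) V)ˣ) : Module.End (ZMod l) V) * ((w : Module.End (ZMod l) V) * S σ) *
          ((ρu e)⁻¹ : (Module.End (ZMod l) V)ˣ) = w * S (x * x * σ) := fun w σ hw => by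
      rw [← hStor x hx σ, ← Units.val_mul, ← Units.val_mul, ← Units.val_mul, ← Units.val_mul,
        ← mul_assoc (ρu e) w, ← (hw e (hEM _)).eq]
      simp only [mul_assoc, he]
    rw [← h1, ← hc', h1, mul_add, add_mul, hconj k τ₁ hkcen, hconj k⁻¹ (-τ₁) (fun b hb => (hkcen b hb).inv_left),
      mul_neg]
  set v := π (kk * T (x * x * τ₁)) with hv
  set v' := π (kk' * T (-(x * x * τ₁))) with hv'
  have hvv : v * v' = 1 := by
    rw [hv, hv', ← map_mul, mul_mul_mul_comm, hkk, one_mul, ← hTadd, add_neg_cancel, hT0, map_one]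
  have hs2 : ξ + ξ' = v + v' := by
    rw [hξ, hξ', hv, hv', ← map_add, ← map_add, hsum]
  have hz : (v - ξ) * (v - ξ') = 0 := by linear_combination hξξ - hvv + v * hs2 * (-1)
  have hfin : π (T (x * x * τ₁)) = π kk' * v := by
    rw [hv, ← map_mul]
    refine congrArg π ?_
    rw [← mul_assoc kk' kk, mul_comm kk' kk, hkk, one_mul]
  rcases mul_eq_zero.1 hz with h | h
  · exact Or.inl (by rw [hfin, sub_eq_zero.1 h])
  · exact Or.inr (by rw [hfin, sub_eq_zero.1 h])

include Γ in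
/-- A quadratic element acts centrally. -/
theorem quad_central (hφ : Function.Surjective φ) (hodd : Odd (Nat.card φ.ker))
    (hker : ¬ l ∣ Nat.card (φ.ker.map ρ.toHomUnits)) {a : B} (hq : (ρ a - 1) * (ρ a - 1) = 0) (b : B) :
    Commute (ρ a) (ρ b) := by
  classical
  haveI := Fact.mk Γ.hl
  haveI : Finite (Module.End (ZMod l) V) := Finite.of_injective (fun f => (f : V → V)) DFunLike.coe_injective
  set ρu := ρ.toHomUnits with hρu
  -- the `l`-part
  obtain ⟨i, m, hm, hn⟩ := Nat.exists_eq_pow_mul_and_not_dvd (orderOf_pos a).ne' l Γ.hl.ne_one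
  have hal : ρu a ^ l = 1 := Units.ext (by
    rw [Units.val_pow_eq_pow_val, Units.val_one]
    exact quad_pow hq)
  obtain ⟨e, he⟩ := Nat.exists_mul_mod_eq_one_of_coprime ((Γ.hl.coprime_iff_not_dvd.2 hm).symm) Γ.hl.one_lt
  set a' := a ^ (m * e) with ha'
  have ha'ρ : ρu a' = ρu a := by
    rw [ha', map_pow, ← pow_mod_orderOf]
    rcases (Nat.dvd_prime Γ.hl).1 (orderOf_dvd_of_pow_eq_one hal) with h | h
    · rw [h, Nat.mod_one, pow_zero, orderOf_eq_one_iff.1 h]
    · rw [h, he.2, pow_one]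
  have ha'l : a' ^ l ^ i = 1 := by
    rw [ha', ← pow_mul, show m * e * l ^ i = l ^ i * m * e by ring, ← hn, pow_mul, pow_orderOf_eq_one, one_pow]
  have hq' : ((ρu a' : Module.End (ZMod l) V) - 1) * ((ρu a' : Module.End (ZMod l) V) - 1) = 0 := by
    rw [ha'ρ]; exact hq
  suffices h : Commute (ρu a') (ρu b) by
    rw [ha'ρ] at h
    exact congrArg Units.val h.eq
  set M0 := φ.ker.map ρu with hM0
  have hM0odd : Odd (Nat.card M0) := hodd.of_dvd_nat (Subgroup.card_map_dvd _ _)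
  -- it centralises what it normalises
  have cen : ∀ Y : Subgroup X, Odd (Nat.card Y) → ¬ l ∣ Nat.card Y → (∀ y ∈ Y, φ a' * y * (φ a')⁻¹ ∈ Y) →
      ∀ c : B, φ c ∈ Y → Commute (ρu a') (ρu c) := by
    intro Y hYo hYl hYn c hc
    have hdiv : ∀ r : ℕ, r.Prime → r ∣ Nat.card ((Y.comap φ).map ρu) → r ∣ Nat.card Y ∨ r ∣ Nat.card M0 := by
      intro r hr hd
      haveI := Fact.mk hr
      obtain ⟨⟨_, y, hy, rfl⟩, hyr⟩ := exists_prime_orderOf_dvd_card' r hd
      rw [← Subgroup.orderOf_coe] at hyr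
      have h1 : ρu y ^ Nat.card Y ∈ M0 := ⟨y ^ Nat.card Y, by
        rw [SetLike.mem_coe, MonoidHom.mem_ker, map_pow]
        exact congrArg Subtype.val (pow_card_eq_one' (x := (⟨φ y, hy⟩ : Y))), map_pow _ _ _⟩
      have h2 : ρu y ^ (Nat.card Y * Nat.card M0) = 1 := by
        rw [pow_mul]
        exact congrArg Subtype.val (pow_card_eq_one' (x := (⟨_, h1⟩ : M0)))
      exact hr.dvd_mul.1 (hyr ▸ orderOf_dvd_of_pow_eq_one h2)
    refine quad_centralize Γ.hl2 hq' ((Y.comap φ).map ρu) ?_ ?_ ?_ _ ⟨c, hc, rfl⟩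
    · refine Subgroup.le_normalizer_map ρu ⟨a', ?_, rfl⟩
      exact mem_normalizer_fintype (by
        intro y hy
        show φ (a' * y * a'⁻¹) ∈ Y
        rw [map_mul, map_mul, map_inv]
        exact hYn _ hy)
    · rw [← Nat.not_even_iff_odd, even_iff_two_dvd]
      intro h
      rcases hdiv 2 Nat.prime_two h with h | h
      · exact Nat.not_even_iff_odd.2 hYo (even_iff_two_dvd.2 h)
      · exact Nat.not_even_iff_odd.2 hM0odd (even_iff_two_dvd.2 h)
    · exact fun h => (hdiv l Γ.hl h).elim hYl hker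
  have hcK : ∀ k ∈ φ.ker, Commute (ρu a') (ρu k) := fun k hk =>
    cen ⊥ (by rw [Subgroup.card_bot]; exact odd_one) (by rw [Subgroup.card_bot]; exact Γ.hl.not_dvd_one)
      (fun y hy => by rw [Subgroup.mem_bot.1 hy]; simp) k (Subgroup.mem_bot.2 hk)
  have hA : ρu a' ^ l = 1 := ha'ρ ▸ hal
  set x := φ a' with hx
  by_cases hx1 : x = 1
  · have h1 : orderOf (ρu a') ∣ Nat.gcd l (Nat.card M0) :=
      Nat.dvd_gcd (orderOf_dvd_of_pow_eq_one hA) (Subgroup.orderOf_dvd_natCard _ ⟨a', MonoidHom.mem_ker.2 hx1, rfl⟩)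
    rw [(Γ.hl.coprime_iff_not_dvd.2 hker).gcd_eq_one, Nat.dvd_one, orderOf_eq_one_iff] at h1
    rw [h1]
    exact Commute.one_left _
  set R := ρu.ker.map φ with hR
  by_cases hN : Γ.c.N ≤ R
  · -- the image is abelian modulo the kernel
    obtain ⟨r, hr, hre⟩ := hN (Γ.comm_mem_N (φ b) x)
    have hk : r⁻¹ * (b * a' * b⁻¹ * a'⁻¹) ∈ φ.ker := by
      rw [MonoidHom.mem_ker]
      simp only [map_mul, map_inv, hre]
      exact inv_mul_cancel _
    have hkρ : ρu (r⁻¹ * (b * a' * b⁻¹ * a'⁻¹)) = ρu b * ρu a' * (ρu b)⁻¹ * (ρu a')⁻¹ := by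
      rw [map_mul, map_inv, MonoidHom.mem_ker.1 hr, inv_one, one_mul]
      simp only [map_mul, map_inv]
    set k := ρu (r⁻¹ * (b * a' * b⁻¹ * a'⁻¹)) with hkdef
    have hka : Commute k (ρu a') := (hcK _ hk).symm
    have hconj : ρu b * ρu a' * (ρu b)⁻¹ = k * ρu a' := by rw [hkρ, inv_mul_cancel_right]
    have hkl : k ^ l = 1 := by
      have h := congrArg (· ^ l) hconj
      simp only [conj_pow, hka.mul_pow, hA, mul_one, mul_inv_cancel] at h
      exact h.symm
    have h1 : orderOf k ∣ Nat.gcd l (Nat.card M0) :=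
      Nat.dvd_gcd (orderOf_dvd_of_pow_eq_one hkl) (Subgroup.orderOf_dvd_natCard _ ⟨_, hk, rfl⟩)
    rw [(Γ.hl.coprime_iff_not_dvd.2 hker).gcd_eq_one, Nat.dvd_one, orderOf_eq_one_iff] at h1
    rw [h1, one_mul, mul_inv_eq_iff_eq_mul] at hconj
    exact hconj.symm
  exfalso
  have hRn : R.Normal := (inferInstance : ρu.ker.Normal).map φ hφ
  have hsmall : ∀ c : B, ρu c = 1 → φ c = 1 ∨ φ c = Γ.c.z := fun c hc =>
    Γ.normal_small hRn hN ⟨c, MonoidHom.mem_ker.2 hc, rfl⟩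
  have hlodd : Odd l := Γ.hl.odd_of_ne_two Γ.hl2
  have hxl : x ^ l = 1 := by
    have h : φ (a' ^ l) = 1 ∨ φ (a' ^ l) = Γ.c.z := hsmall _ (by rw [map_pow, hA])
    rw [map_pow] at h
    refine h.resolve_right fun hz => ?_
    have h2 : Γ.c.z ^ l ^ i = 1 := by
      rw [← hz, ← map_pow, ← map_pow, ← pow_mul, mul_comm, pow_mul, ha'l, one_pow, map_one]
    obtain ⟨j, hj⟩ := hlodd.pow (n := i)
    rw [hj, pow_succ, pow_mul, sq, Γ.c.z_sq, one_pow, one_mul] at h2
    exact Γ.c.z_ne h2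
  by_cases hmv : x ∉ Γ.c.N ∨ Fintype.card F % 4 ≠ 3
  · obtain ⟨Y, hYo, hYl, hYn, y, hy, hxy⟩ := Γ.move hxl hx1 hmv
    obtain ⟨c, rfl⟩ := hφ y
    have h := cen Y hYo hYl hYn c hy
    rcases hsmall (a' * c * a'⁻¹ * c⁻¹)
      (by rw [map_mul, map_mul, map_mul, map_inv, map_inv, h.eq, mul_inv_cancel_right, mul_inv_cancel]) with e | e <;>
      rw [map_mul, map_mul, map_mul, map_inv, map_inv, ← hx] at e
    · exact hxy (mul_inv_eq_iff_eq_mul.1 (mul_inv_eq_one.1 e))
    · have hzY : Γ.c.z ∈ Y := e ▸ mul_mem (hYn _ hy) (inv_mem hy)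
      have h2 : 2 ∣ Nat.card Y := by
        rw [← orderOf_eq_prime (show Γ.c.z ^ 2 = 1 by rw [sq, Γ.c.z_sq]) Γ.c.z_ne]
        exact Subgroup.orderOf_dvd_natCard _ hzY
      exact Nat.not_even_iff_odd.2 hYo (even_iff_two_dvd.2 h2)
  push Not at hmv
  exact Γ.ell_false φ ρ hmv.2 hφ (fun c hc => hsmall c (Units.ext hc)) (a := a') hq' ⟨hmv.1, hx1, hxl⟩
    fun k hk => congrArg Units.val (hcK k hk).eq

end Gam

end Cfsg.Agent.Invol.AbgOrder.Ell
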