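import Cfsg.Agent.Lib.Invol.AbgOrder.BudgetUEq

/-!
# The trivial component with a constituent of degree `q + 1`

If the average of the half over the kernel contains an irreducible character of degree `q + 1` vanishing at `w`, the
bound at the trivial character improves by `q + 1`.
-/

set_option autoImplicit false
set_option linter.unusedSectionVars false
set_option linter.style.haveILetI false

namespace Cfsg.Agent.Invol.AbgOrder

open Cfsg Cfsg.Agent.Char Cfsg.Agent.Char.CycGlaub Matrix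
open scoped ComplexConjugate

universe u v t

namespace EllY

variable {Y : Type u} [Group Y] [Fintype Y] {F : Type v} [Field F] [Fintype F] (e : EllY Y F)

local notation "SL₂" => Matrix.SpecialLinearGroup (Fin 2) F
local notation "M₂" => Matrix (Fin 2) (Fin 2) F
local notation "Gm" => (((e.gw : GL (Fin 2) F)) : Matrix (Fin 2) (Fin 2) F)

open _root_.Classical in
/-- An irreducible character of degree neither `1` nor `q` has average zero over the outer elements fixing infinity. -/
theorem outAvg_eq_zero {ψ : Y → ℂ} (hψ : IsIrrCharacter Y ψ) (h1 : ψ 1 ≠ 1)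
    (hq : ψ 1 ≠ (Fintype.card F : ℂ)) : e.outAvg ψ = 0 := by
  have key : ∀ φ : Y → ℂ, IsIrrCharacter Y φ → φ 1 = ψ 1 → ∑ y : e.borel, φ y = 0 := by
    intro φ hφ hφ1
    have hz : classInner e.perm φ = 0 := by
      rw [show e.perm = (fun y => e.perm y - 1) + fun _ => (1 : ℂ) from funext fun y => by simp,
        classInner_add_left, classInner_irr_ne e.perm_sub_one_irr hφ (fun h => hq ?_),
        classInner_irr_ne isIrr_one hφ (fun h => h1 ?_), add_zero]
      · rw [← hφ1, ← h]
      · rw [← hφ1, ← h]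
        show e.perm 1 - 1 = _
        rw [e.perm_one, add_sub_cancel_right]
    rw [show classInner e.perm φ = classInner (indFun e.borel fun _ => (1 : ℂ)) φ from rfl,
      classInner_indFun _ _ (IsIrr.classFun hφ), classInner, mul_eq_zero] at hz
    have h := congrArg conj (hz.resolve_left (inv_ne_zero (Nat.cast_ne_zero.2 Nat.card_pos.ne')))
    simpa [map_sum] using h
  have ha := key ψ hψ rfl
  have hb := key (fun y => (e.sgn y : ℂ) * ψ y) (IsIrr.mul_linear hψ e.sgn) (by simp)
  rw [e.sum_borel_split] at ha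
  rw [e.sum_borel_split fun y => (e.sgn y : ℂ) * ψ y] at hb
  simp only [e.sgn_ι, e.sgn_out, Units.val_one, Units.val_neg, one_mul, neg_mul, Finset.sum_neg_distrib] at hb
  have h0 : ∑ s ∈ Finset.univ.filter (fun s : SL₂ => ((s : M₂) * Gm) 1 0 = 0), ψ (e.ι s * e.w) = 0 := by
    linear_combination ha / 2 - hb / 2
  rw [outAvg, h0, mul_zero]

end EllY

namespace UData

variable {C : Type u} [Group C] [Fintype C] {X : Type v} [Group X] {F : Type t} [Field F] [Fintype F]
  (B : UData C X F) [Fintype B.O] [Fintype B.R] [Fintype B.Gw]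

local notation "SL₂" => Matrix.SpecialLinearGroup (Fin 2) F
local notation "M₂" => Matrix (Fin 2) (Fin 2) F

set_option maxHeartbeats 2000000 in
open _root_.Classical in
/-- The bound at the trivial character. -/
theorem triv_bound [Fintype X] (W : B.WExp) (hY : B.Yw = ⊤) {ψ : X → ℂ} (hψ : IsIrrCharacter X ψ) {d : ℕ}
    (hd : ψ 1 = d) (hd1 : d ≠ 1) (hdq : d ≠ Fintype.card F) (hz : ψ (B.σ B.z) = ψ 1) (hw : ψ (B.σ B.w) = 0)
    (hc : classInner (fun c : C => B.χ c) (fun c => ψ (B.σ c)) ≠ 0) :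
    ((Fintype.card F : ℤ) - 1) * |W.a B.triv| + 2 * d ≤ 2 * B.n B.triv := by
  classical
  obtain ⟨T, hT, hT'⟩ : ∃ T : X → ℂ, IsCharacter X T ∧ ∀ c, T (B.σ c) = Char.avgN B.O B.χp c :=
    IsChar.exists_factor (IsChar.avgN _ B.isChar_χp) B.σ B.surj fun k hk => by
      conv_lhs => rw [show k = ((⟨k, hk⟩ : B.O) : C) * 1 from (mul_one k).symm]
      exact avgN_mul_left _ _ _ _
  have hT1 : T 1 = (B.n B.triv : ℂ) := by
    rw [← map_one B.σ, hT', avgN_one_eq, ← B.n_spec]
    rfl
  -- the value at `w`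
  have hTw : T (B.σ B.w) = (W.a B.triv : ℂ) := by
    rw [hT']
    haveI : (B.O.subgroupOf B.Gw).Normal := Subgroup.Normal.subgroupOf inferInstance _
    haveI : Fintype (B.O.subgroupOf B.Gw) := Fintype.ofFinite _
    haveI : Fintype (B.R.subgroupOf B.Gw) := Fintype.ofFinite _
    have hFc : IsClassFunction B.Gw (fun x : B.Gw => B.χp x) := fun a b => by
      show B.χp ((b * a * b⁻¹ : B.Gw) : C) = _
      rw [Subgroup.coe_mul, Subgroup.coe_mul, Subgroup.coe_inv, IsChar.classFun B.isChar_χp (a : C) (b : C)]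
    have hsum := B.setup_w.sum_coset hFc
    have hO : ∑ g : B.O.subgroupOf B.Gw, B.χp (((g : B.Gw) * ⟨B.w, B.w_mem_Gw⟩ : B.Gw) : C) =
        (Nat.card B.O : ℂ) * Char.avgN B.O B.χp B.w := by
      rw [Char.avgN, mul_inv_cancel_left₀ (Nat.cast_ne_zero.2 Nat.card_pos.ne')]
      exact Fintype.sum_equiv (Subgroup.subgroupOfEquivOfLe B.O_le_Gw).toEquiv _ _ fun g => rfl
    have hR : ∑ r : B.R.subgroupOf B.Gw, B.χp (((r : B.Gw) * ⟨B.w, B.w_mem_Gw⟩ : B.Gw) : C) =
        (Nat.card B.R : ℂ) * (W.a B.triv : ℂ) := by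
      rw [← W.coef B.triv (B.triv_fix _), B.β_triv W, classInner,
        mul_inv_cancel_left₀ (Nat.cast_ne_zero.2 Nat.card_pos.ne')]
      refine Fintype.sum_equiv
        (Subgroup.subgroupOfEquivOfLe (show B.R ≤ B.Gw from fun y hy => B.O_le_Gw hy.1)).toEquiv _ _ fun r => ?_
      set y : B.R := Subgroup.subgroupOfEquivOfLe (show B.R ≤ B.Gw from fun y hy => B.O_le_Gw hy.1) r
      show B.χp ((y : C) * B.w) = B.χp (B.w * y) * conj (1 : ℂ)
      rw [map_one, mul_one, B.w_comm y]
    rw [hO, hR, Nat.card_congr (Subgroup.subgroupOfEquivOfLe B.O_le_Gw).toEquiv,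
      Nat.card_congr (Subgroup.subgroupOfEquivOfLe (show B.R ≤ B.Gw from fun y hy => B.O_le_Gw hy.1)).toEquiv]
      at hsum
    refine mul_left_cancel₀ (mul_ne_zero (Nat.cast_ne_zero.2 (Nat.card_pos (α := B.R)).ne')
      (Nat.cast_ne_zero.2 (Nat.card_pos (α := B.O)).ne')) ?_
    linear_combination hsum
  -- the multiplicity of `ψ`
  have hin : classInner T ψ = classInner (fun c : C => B.χ c) (fun c => ψ (B.σ c)) := by
    rw [← classInner_comp_surjective B.σ B.surj T ψ, show (fun c => T (B.σ c)) = Char.avgN B.O B.χp from funext hT',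
      classInner_avgN, show Char.avgN B.O (fun c => ψ (B.σ c)) = fun c => ψ (B.σ c) from funext fun c => by
        simp only [Char.avgN, map_mul, fun o : B.O => MonoidHom.mem_ker.1 o.2, one_mul, Finset.sum_const,
          Finset.card_univ, nsmul_eq_mul, ← Nat.card_eq_fintype_card]
        rw [inv_mul_cancel_left₀ (Nat.cast_ne_zero.2 Nat.card_pos.ne')]]
    have hzc : ∀ c, ψ (B.σ (B.z * c)) = ψ (B.σ c) := fun c => by
      rw [map_mul, char_mul_ker (IsIrr.isCharacter hψ) hz]
    have hswap : classInner (fun c : C => B.χ (B.z * c)) (fun c => ψ (B.σ c)) =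
        classInner (fun c : C => B.χ c) (fun c => ψ (B.σ c)) := by
      simp only [classInner]
      congr 1
      refine Fintype.sum_equiv (Equiv.mulLeft B.z) _ _ fun c => ?_
      simp only [Equiv.coe_mulLeft, hzc]
    rw [show B.χp = (2⁻¹ : ℂ) • (B.χ + fun c => B.χ (B.z * c)) from funext fun c => by simp [χp]; ring,
      classInner_smul_left, classInner_add_left, hswap]
    ring
  obtain ⟨a, ha, hdec⟩ := IsChar.exists_decomp_inner hT
  have ha0 : 1 ≤ a ⟨ψ, hψ⟩ := Nat.one_le_iff_ne_zero.2 fun h0 => hc (by rw [← hin, ← Nat.cast_zero, ← h0]; exact ha ⟨ψ, hψ⟩)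
  have hrest : IsCharacter X (T - ψ) := by
    have hsum : ∀ φ : IrrCharacter X, (a φ : ℂ) • (φ : X → ℂ) =
        ((if φ = ⟨ψ, hψ⟩ then a φ - 1 else a φ : ℕ) : ℂ) • (φ : X → ℂ) +
          if φ = ⟨ψ, hψ⟩ then (φ : X → ℂ) else 0 := fun φ => by
      by_cases h : φ = ⟨ψ, hψ⟩
      · subst h
        rw [if_pos rfl, if_pos rfl, Nat.cast_sub ha0, Nat.cast_one, sub_smul, one_smul, sub_add_cancel]
      · rw [if_neg h, if_neg h, add_zero]
    have he : T - ψ = ∑ φ : IrrCharacter X, ((if φ = ⟨ψ, hψ⟩ then a φ - 1 else a φ : ℕ) : ℂ) • (φ : X → ℂ) := by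
      rw [hdec, Finset.sum_congr rfl fun φ _ => hsum φ, Finset.sum_add_distrib, Finset.sum_ite_eq',
        if_pos (Finset.mem_univ _), add_sub_cancel_right]
    rw [he]
    exact IsChar.sum fun φ _ => IsChar.nsmul (IsIrr.isCharacter φ.2) _
  -- restricted to the whole of `X`
  haveI : Fintype B.Yw := Fintype.ofFinite _
  have hsur : Function.Surjective B.Yw.subtype := fun x => ⟨⟨x, hY ▸ Subgroup.mem_top x⟩, rfl⟩
  have hψY : IsIrrCharacter B.Yw (fun y => ψ (B.Yw.subtype y)) := IsIrr.comp_surjective _ hsur hψ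
  have hψ0 : B.ellY.outAvg (fun y => ψ (B.Yw.subtype y)) = 0 :=
    B.ellY.outAvg_eq_zero hψY (by rw [map_one, hd]; exact_mod_cast hd1) (by rw [map_one, hd]; exact_mod_cast hdq)
  have hT0 : B.ellY.outAvg (fun y => T (B.Yw.subtype y)) = 0 := by
    have hlift : ∀ s : SL₂, ∃ g : C, B.σ g = B.ι s * B.σ B.w := fun s => B.surj _
    choose g hg using hlift
    rw [EllY.outAvg]
    refine mul_eq_zero_of_right _ ?_
    have hsg : ∀ s, T (B.Yw.subtype (B.ellY.ι s * B.ellY.w)) = Char.avgN B.O B.χp (g s) := fun s => by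
      rw [← hT', hg]
      rfl
    simp only [hsg, Char.avgN, ← Finset.mul_sum]
    refine mul_eq_zero_of_right _ ?_
    rw [Finset.sum_comm]
    refine Finset.sum_eq_zero fun o _ => ?_
    simp only [χp, ← Finset.sum_div, Finset.sum_add_distrib]
    rw [show B.ellY.gw = B.gw from rfl]
    have hσo : B.σ (o : C) = 1 := MonoidHom.mem_ker.1 o.2
    rw [B.borel (fun s => (o : C) * g s) fun s => by rw [map_mul, hσo, one_mul, hg]]
    have hz' := B.borel (fun s => B.z * ((o : C) * g (-s))) fun s => by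
      rw [map_mul, map_mul, hσo, one_mul, hg, ← B.gz, ← mul_assoc, ← map_mul, neg_one_mul, neg_neg]
    have he : ∑ s ∈ Finset.univ.filter (fun s : SL₂ => ((s : M₂) * (B.gw : M₂)) 1 0 = 0),
        B.χ (B.z * ((o : C) * g s)) = 0 := by
      rw [← hz']
      refine Finset.sum_nbij' (fun s => -s) (fun s => -s) ?_ ?_ (fun s _ => neg_neg s) (fun s _ => neg_neg s)
        fun s _ => by rw [neg_neg]
      all_goals
        intro s hs
        refine Finset.mem_filter.2 ⟨Finset.mem_univ _, ?_⟩
        have := (Finset.mem_filter.1 hs).2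
        simp [this]
    rw [he, add_zero, zero_div]
  have h := B.ellY.bound (IsChar.comp B.Yw.subtype hrest)
  have hout : B.ellY.outAvg (fun y => (T - ψ) (B.Yw.subtype y)) =
      B.ellY.outAvg (fun y => T (B.Yw.subtype y)) - B.ellY.outAvg (fun y => ψ (B.Yw.subtype y)) := by
    simp only [EllY.outAvg, Pi.sub_apply, Finset.sum_sub_distrib, mul_sub]
  rw [hout, hT0, hψ0, sub_zero, sub_zero] at h
  simp only [Pi.sub_apply, map_one] at h
  rw [show B.Yw.subtype B.ellY.w = B.σ B.w from rfl, hTw, hw, sub_zero, hT1, hd, Complex.norm_intCast,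
    Complex.sub_re, Complex.natCast_re, Complex.natCast_re] at h
  have h' : ((((Fintype.card F : ℤ) - 1) * |W.a B.triv| + 2 * d : ℤ) : ℝ) ≤ ((2 * B.n B.triv : ℤ) : ℝ) := by
    push_cast at h ⊢
    linarith
  exact_mod_cast h'

end UData

end Cfsg.Agent.Invol.AbgOrder
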