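import Cfsg.Agent.Lib.Invol.AbgOrder.FieldRemoval
import Cfsg.Agent.Lib.Invol.AbgOrder.FinalSteps

/-!
# The inputs on the field component of the final steps, from `E(l)`
-/

set_option autoImplicit false
set_option linter.unusedSectionVars false
set_option linter.style.haveILetI false

open scoped Classical

namespace Cfsg.Agent.Invol.AbgOrder

open Cfsg Cfsg.Agent.Char Cfsg.Agent.Block

universe u

variable {G : Type u} [Group G] [Fintype G] [IsSimpleGroup G]

/-- No field component, linear case. -/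
theorem linFieldFree_of
    (hE : ∀ (S : Sylow 2 G) (z : G) (F : Type) [Field F] [Fintype F] (L : Type) [Field L] [Fintype L] [Algebra F L],
      Cfsg.IsQuasiDihedral (S : Subgroup G) → Fintype.card F % 4 = 3 → orderOf z = 2 → z ∈ S →
        (∀ s ∈ (S : Subgroup G), s * z = z * s) → Module.finrank F L = 2 →
        Shape0 (CQ z) F (GL (Fin 2) F) Lˣ (Fintype.card F : ℤ) → EllBound z (Fintype.card F : ℤ)) :
    LinFieldFree G := by
  intro S F L _ _ _ _ _ hc hL cs hzS hzc
  have hodd : Odd (Fintype.card F) := by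
    rcases hc with ⟨-, h⟩ | ⟨-, h⟩ <;> exact Nat.odd_iff.2 (by omega)
  obtain ⟨pp, ⟨MM⟩⟩ := BrauerL3.matModel_GL (F := F) hodd
  obtain ⟨p, hp⟩ := CharP.exists F
  obtain ⟨n, hpp, hn⟩ := FiniteField.card F p
  exact cs.fld_free S hzc MM hpp n.pos hn (Or.inl (by rw [hn]; push_cast; rfl))
    (hc.imp (And.imp_right fun h => by omega) (And.imp_right fun h => by omega))
    fun hqd => hE S cs.z F L hqd ((hc.resolve_right fun h => not_qd_and_wreathed hqd h.1).2) cs.toPreSetup.order_z
      hzS hzc hL cs.s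

/-- No field component, unitary case. -/
theorem unitFieldFree_of
    (hE : ∀ (S : Sylow 2 G) (z : G) (F : Type) [Field F] [Fintype F] (L : Type) [Field L] [Fintype L] [Algebra F L],
      Cfsg.IsQuasiDihedral (S : Subgroup G) → Fintype.card F % 4 = 1 → orderOf z = 2 → z ∈ S →
        (∀ s ∈ (S : Subgroup G), s * z = z * s) → Module.finrank F L = 2 → Fintype.card L = Fintype.card F ^ 2 →
        Shape0 (CQ z) F (Cfsg.GU 2 L (Fintype.card F)) Lˣ (-(Fintype.card F : ℤ)) →
          EllBound z (-(Fintype.card F : ℤ))) :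
    UnitFieldFree G := by
  intro S F L _ _ _ _ _ hc hL hcL cs hzS hzc
  have hodd : Odd (Fintype.card F) := by
    rcases hc with ⟨-, h⟩ | ⟨-, h⟩ <;> exact Nat.odd_iff.2 (by omega)
  obtain ⟨pp, ⟨MM⟩⟩ := BrauerL3.matModel_GU (F := L) (q := Fintype.card F) hcL hodd
  obtain ⟨p, hp⟩ := CharP.exists F
  obtain ⟨n, hpp, hn⟩ := FiniteField.card F p
  exact cs.fld_free S hzc MM hpp n.pos hn (Or.inr (by rw [hn]; push_cast; rfl))
    (hc.imp (And.imp_right fun h => by omega) (And.imp_right fun h => by omega))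
    fun hqd => hE S cs.z F L hqd ((hc.resolve_right fun h => not_qd_and_wreathed hqd h.1).2) cs.toPreSetup.order_z
      hzS hzc hL hcL cs.s

end Cfsg.Agent.Invol.AbgOrder
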