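import Cfsg.Agent.Lib.Invol.AbgOrder.CoreGL
import Cfsg.Agent.Lib.Invol.AbgOrder.CorePoints

/-!
# The field component is invariant under fusion

An element centralising two involutions has the same field component at both: for commuting involutions this is the
agreement on `C(z, w)`, for two involutions generating a dihedral group of twice odd order they are conjugate by an
element centralising whatever centralises both, and otherwise the central involution of the dihedral group is between
them.
-/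

set_option autoImplicit false
set_option linter.style.haveILetI false

namespace Cfsg.Agent.Invol.AbgOrder

open Cfsg.Agent.Invol.BrauerL3 (Tbl scal)

universe u v w x

variable {G : Type u} [Group G] [Finite G] {F : Type v} [Field F] [Fintype F] {H : Type w} [Group H] {K : Type x}
  [CommGroup K] {Q : ℤ}

namespace CoreSetup

variable (c : CoreSetup G F H K Q)
include c

/-- A non-central involution of `C(z)` is conjugate to `w` in `C(z)`. -/
theorem exists_conj_w {t : G} (ht2 : t * t = 1) (ht1 : t ≠ 1) (htz : t * c.z = c.z * t) (hne : t ≠ c.z) :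
    ∃ b : G, b * c.z = c.z * b ∧ b * c.w * b⁻¹ = t := by
  obtain ⟨e, he1, he2, heu, -, -, -, -, hall⟩ := c.s.exists_invols
  obtain rfl : e = c.k.e := by
    rcases c.k.e_uniq (e : K) (congrArg Subtype.val he2) with h | h
    · exact absurd (Subtype.ext h) he1
    · exact Subtype.ext h
  have hord : orderOf (c.q t) = 2 := by
    refine orderOf_eq_prime (by rw [sq, ← c.q_mul htz htz, ht2, c.q_one]) fun h => ?_
    exact ht1 (eq_one_of_sq_odd ht2 (coreAt_odd (c.mem_O.2 ⟨htz, h⟩)))
  rcases hall _ hord with h | h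
  · exfalso
    refine hne (c.eq_of_invol htz rfl ht2 c.z2 (fun y hy => (coreAt_comm hy).symm) ?_)
    rw [h, ← c.zc_eq]
    rfl
  · obtain ⟨y, hy⟩ := isConj_iff.1 h
    obtain ⟨b, hb, rfl⟩ := c.exists_lift y
    obtain ⟨o, ho, hoe⟩ := c.exists_conj_invol (c.conj_comm hb c.wz) htz
      (by rw [conj_mul, c.w2, mul_one, mul_inv_cancel]) ht2 (by rw [c.q_conj hb c.wz, c.q_w, ← hy]; rfl)
    refine ⟨o * b, ((show Commute o c.z from coreAt_comm ho).mul_left hb).eq, ?_⟩
    rw [← hoe]
    group

/-- The case of commuting involutions. -/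
theorem fld_fusion_comm {y a : G} (hy2 : c.z * (y⁻¹ * c.z * y) = y⁻¹ * c.z * y * c.z) (ha : a * c.z = c.z * a)
    (hay : y * a * y⁻¹ * c.z = c.z * (y * a * y⁻¹)) : c.fld (y * a * y⁻¹) = c.fld a := by
  by_cases ht : y⁻¹ * c.z * y = c.z
  · refine c.fld_conj ?_ ha
    calc y * c.z = y * (y⁻¹ * c.z * y) := by rw [ht]
      _ = c.z * y := by group
  have ht2 : y⁻¹ * c.z * y * (y⁻¹ * c.z * y) = 1 := by
    calc y⁻¹ * c.z * y * (y⁻¹ * c.z * y) = y⁻¹ * (c.z * c.z) * y := by group
      _ = 1 := by rw [c.z2, mul_one, inv_mul_cancel]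
  have ht1 : y⁻¹ * c.z * y ≠ 1 := fun h => c.z_ne (by
    calc c.z = y * (y⁻¹ * c.z * y) * y⁻¹ := by group
      _ = 1 := by rw [h, mul_one, mul_inv_cancel])
  obtain ⟨b, hb, hbw⟩ := c.exists_conj_w ht2 ht1 hy2.symm ht
  set t := y⁻¹ * c.z * y with htdef
  have hat : Commute a t := by
    have h := ((show Commute (y * a * y⁻¹) c.z from hay).map (MulAut.conj y⁻¹).toMonoidHom)
    simpa [MulAut.conj_apply, htdef, mul_assoc] using h
  have hbi : b⁻¹ * c.z = c.z * b⁻¹ := (show Commute b c.z from hb).inv_left.eq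
  have ha' : b⁻¹ * a * b * c.z = c.z * (b⁻¹ * a * b) :=
    (((show Commute b⁻¹ c.z from hbi).mul_left ha).mul_left hb).eq
  have haw : b⁻¹ * a * b * c.w = c.w * (b⁻¹ * a * b) := by
    have h := hat.map (MulAut.conj b⁻¹).toMonoidHom
    rw [← hbw] at h
    simpa [MulAut.conj_apply, mul_assoc] using h.eq
  have heq : y * b * c.g * c.z = c.z * (y * b * c.g) := by
    calc y * b * c.g * c.z = y * (b * (c.g * c.z * c.g⁻¹) * b⁻¹) * y⁻¹ * (y * b * c.g) := by group
      _ = c.z * (y * b * c.g) := by rw [c.gz, hbw, htdef]; group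
  rw [show y * a * y⁻¹ = y * b * c.g * (c.g⁻¹ * (b⁻¹ * a * b) * c.g) * (y * b * c.g)⁻¹ by group,
    c.fld_conj heq (c.toPreSetup.M_inv ha' haw).1, c.fld_agree ha' haw]
  simpa using c.fld_conj hbi ha

/-- The field component is the same at every involution centralised. -/
theorem fld_fusion (hcls : ∀ i : G, orderOf i = 2 → IsConj i c.z) {y a : G} (ha : a * c.z = c.z * a)
    (hay : y * a * y⁻¹ * c.z = c.z * (y * a * y⁻¹)) : c.fld (y * a * y⁻¹) = c.fld a := by
  set t := y⁻¹ * c.z * y with htdef
  have hat : Commute a t := by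
    have h := ((show Commute (y * a * y⁻¹) c.z from hay).map (MulAut.conj y⁻¹).toMonoidHom)
    simpa [MulAut.conj_apply, htdef, mul_assoc] using h
  by_cases hzt : Commute c.z t
  · exact c.fld_fusion_comm hzt.eq ha hay
  have hzi : c.z⁻¹ = c.z := inv_eq_of_mul_eq_one_right c.z2
  have ht2 : t * t = 1 := by
    calc t * t = y⁻¹ * (c.z * c.z) * y := by rw [htdef]; group
      _ = 1 := by rw [c.z2, mul_one, inv_mul_cancel]
  have hti : t⁻¹ = t := inv_eq_of_mul_eq_one_right ht2
  set d := c.z * t with hd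
  have had : Commute a d := (show Commute a c.z from ha).mul_right hat
  have hzd : ∀ k : ℕ, c.z * d ^ k * c.z⁻¹ = (d ^ k)⁻¹ := fun k => by
    rw [← inv_pow, ← conj_pow]
    congr 1
    calc c.z * d * c.z⁻¹ = c.z * c.z * (t * c.z⁻¹) := by rw [hd]; group
      _ = t * c.z⁻¹ := by rw [c.z2, one_mul]
      _ = d⁻¹ := by rw [hd, _root_.mul_inv_rev, hti]
  rcases Nat.even_or_odd (orderOf d) with ⟨k, hk⟩ | ⟨k, hk⟩
  · -- the central involution of the dihedral group
    have hd1 : d ≠ 1 := fun h => hzt (by rw [← inv_eq_of_mul_eq_one_right h, hzi])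
    have hk0 : 0 < k := by
      have := orderOf_pos d
      omega
    set s := d ^ k with hs
    have hs2 : s * s = 1 := by rw [hs, ← pow_add, ← hk, pow_orderOf_eq_one]
    have hs1 : s ≠ 1 := fun h => by
      have := Nat.le_of_dvd hk0 (orderOf_dvd_of_pow_eq_one h)
      omega
    have hsz : Commute c.z s := by
      show c.z * s = s * c.z
      rw [← mul_inv_eq_iff_eq_mul, hs, hzd, ← hs, inv_eq_of_mul_eq_one_right hs2]
    have hst : Commute t s := by
      have h := ((Commute.refl d).pow_right k)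
      rw [← hs, hd] at h
      have := hsz.inv_left.mul_left h
      rwa [inv_mul_cancel_left] at this
    have hne : s ≠ c.z := fun h => hzt (by rw [h] at hst; exact hst.symm)
    obtain ⟨y1, hy1⟩ := isConj_iff.1 (hcls s (orderOf_eq_prime (by rw [sq, hs2]) hs1))
    have hs' : y1⁻¹ * c.z * y1 = s := by rw [← hy1]; group
    have has : Commute a s := had.pow_right k
    have ha1 : y1 * a * y1⁻¹ * c.z = c.z * (y1 * a * y1⁻¹) := by
      have h := has.map (MulAut.conj y1).toMonoidHom
      simpa [MulAut.conj_apply, ← hy1, mul_assoc] using h.eq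
    rw [← c.fld_fusion_comm (y := y1) (by rw [hs']; exact hsz.eq) ha ha1]
    have e : y * a * y⁻¹ = y * y1⁻¹ * (y1 * a * y1⁻¹) * (y * y1⁻¹)⁻¹ := by group
    rw [e]
    refine c.fld_fusion_comm ?_ ha1 (e ▸ hay)
    have ht' : (y * y1⁻¹)⁻¹ * c.z * (y * y1⁻¹) = y1 * t * y1⁻¹ := by rw [htdef]; group
    rw [ht']
    have h := hst.map (MulAut.conj y1).toMonoidHom
    simpa [MulAut.conj_apply, ← hy1, mul_assoc] using h.eq.symm
  · -- the two are conjugate by an element centralising `a`
    set h := d ^ k with hh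
    have hconj : h * c.z * h⁻¹ = t := by
      have h1 : h * c.z * h⁻¹ * c.z⁻¹ = h * h := by
        calc h * c.z * h⁻¹ * c.z⁻¹ = h * (c.z * h * c.z⁻¹)⁻¹ := by group
          _ = h * h := by rw [hh, hzd, inv_inv]
      calc h * c.z * h⁻¹ = h * c.z * h⁻¹ * c.z⁻¹ * c.z := by group
        _ = d ^ (k + k) * c.z := by rw [h1, hh, ← pow_add]
        _ = d⁻¹ * c.z := by
          congr 1
          refine eq_inv_of_mul_eq_one_left ?_
          rw [← pow_succ, show k + k + 1 = orderOf d by omega, pow_orderOf_eq_one]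
        _ = t := by rw [hd, _root_.mul_inv_rev, hti, inv_mul_cancel_right]
    have hah : h * a * h⁻¹ = a := by rw [(had.pow_right k).symm.eq, mul_inv_cancel_right]
    have hyh : y * h * c.z = c.z * (y * h) := by
      calc y * h * c.z = y * (h * c.z * h⁻¹) * h := by group
        _ = c.z * (y * h) := by rw [hconj, htdef]; group
    rw [show y * a * y⁻¹ = y * h * a * (y * h)⁻¹ by
      rw [show y * h * a * (y * h)⁻¹ = y * (h * a * h⁻¹) * y⁻¹ by group, hah]]
    exact c.fld_conj hyh ha

end CoreSetup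

end Cfsg.Agent.Invol.AbgOrder
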