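import Cfsg.Agent.Lib.Invol.AbgOrder.SdProfile

/-!
# The five functions for any three regular characters

The atoms of the semidihedral case with `θ_a(e) = 1` and `θ_b(e) = θ_c(e) = -1` arbitrary.
-/

set_option autoImplicit false
set_option linter.unusedSectionVars false
set_option linter.style.haveILetI false
set_option linter.unreachableTactic false
set_option linter.unusedTactic false
set_option linter.unusedSimpArgs false
set_option maxHeartbeats 4000000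

open scoped ComplexConjugate Classical

namespace Cfsg.Agent.Invol.AbgOrder

open Cfsg Cfsg.Agent.Char Cfsg.Agent.Block
open Cfsg.Agent.Invol.BrauerL3 (scal Tbl SgnIrr Funs matSd degSd tSd uSd gramSd valSd pairSd orth_of_ne
  sdFuns_of_atoms exists_lam exists_theta_two exists_theta_four invols)
open Cfsg.Agent.Block.SL2Char (cv)

universe u v w v'

variable {N : Type u} [Group N] [Fintype N] {H : Type v} [Group H] {K : Type w} [CommGroup K] {Q : ℤ}

/-- The character of the scalars and three regular characters. -/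
structure Sd3 (Y : NSys N H K Q) where
  /-- the character of order two of the scalars -/
  lam : scal K Q →* ℂˣ
  hl2 : ∀ x, lam x * lam x = 1
  hlodd : ∀ x, Odd (orderOf x) → lam x = 1
  hle : lam Y.e = -1
  /-- a non-square -/
  g : scal K Q
  hg : lam g = -1
  /-- the character with value `1` at `e` -/
  θa : K →* ℂˣ
  /-- a character with value `-1` at `e` -/
  θb : K →* ℂˣ
  /-- another -/
  θc : K →* ℂˣ
  hra : RegChar Q θa
  hea : θa (Y.e : K) = 1
  hrb : RegChar Q θb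
  heb : θb (Y.e : K) = -1
  hrc : RegChar Q θc
  hec : θc (Y.e : K) = -1
  hne : ∃ l, θc l ≠ θb l
  hne' : ∃ l, θc l ≠ θb (l ^ Q)

/-- The characters upstairs. -/
noncomputable def Sd3.vH {Y : NSys N H K Q} (P : Sd3 Y) : Fin 8 → H → ℂ :=
  ![fun _ => 1, Y.T.St, fun x => (P.lam.comp Y.T.dt x : ℂ), fun x => (P.lam.comp Y.T.dt x : ℂ) * Y.T.St x,
    Y.T.PS 1 P.lam, Y.T.DS P.θa, Y.T.DS P.θb, Y.T.DS P.θc]

namespace NSys

variable (Y : NSys N H K Q)
include Y

/-- A choice. -/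
theorem exists_sd3 (hQ : Q % 4 = 3) : Nonempty (Sd3 Y) := by
  haveI := Y.T.cyc
  haveI := Y.T.finiteK
  obtain ⟨lam, hl2, hlodd, hle, g, hg⟩ := exists_lam Y.T.odd Y.T.ne_one Y.T.card
  obtain ⟨θa, hao, hae, har⟩ := exists_theta_four hQ Y.T.ne_neg_one Y.T.card
  obtain ⟨θ, hto, hte, htr, htr', htn, htn'⟩ := exists_theta_two Y.T.odd Y.T.ne_one Y.T.ne_neg_one Y.T.card
  have hne : (Y.e : K) ≠ 1 := fun h => Y.e_ne (Subtype.ext h)
  have hee : (Y.e : K) * Y.e = 1 := congrArg Subtype.val Y.e_sq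
  exact ⟨{ lam := lam, hl2 := hl2, hlodd := hlodd, hle := by rw [hle Y.e Y.e_ne Y.e_sq, if_neg (by omega)],
           g := g, hg := hg, θa := θa, θb := θ, θc := θ⁻¹, hra := ⟨hao, har⟩, hea := hae _ hne hee,
           hrb := ⟨hto, htr⟩, heb := hte _ hne hee,
           hrc := ⟨fun x hx => by rw [MonoidHom.inv_apply, hto x hx, inv_one], htr'⟩,
           hec := by rw [MonoidHom.inv_apply, hte _ hne hee, inv_neg, inv_one],
           hne := htn, hne' := htn' }⟩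

/-- The eight characters on `N`. -/
theorem exists_atoms3 (hQ : Q % 4 = 3) (S : Split Y) (P : Sd3 Y) :
    ∃ v : Fin 8 → N → ℂ, (∀ j, SgnIrr N (v j)) ∧ (∀ j g, v j (Y.π g) = P.vH j g) ∧
      (∀ i j, i ≠ j → classInner (v i) (v j) = 0) ∧
      v 0 = (fun _ => 1) ∧ (∀ j, v j 1 = degSd Q j) ∧ (∀ j, v j (S.τ (Y.e, Y.e)) = tSd Q j) ∧
      (∀ j, v j (S.τ (1, Y.e)) = uSd j) ∧
      (∀ j n, ¬ 2 ∣ orderOf n → v j n = (alSd j : ℂ) + beSd j * v 1 n) ∧
      ∀ (i : Fin 5) (p : scal K Q × scal K Q), p.1 ≠ p.2 → P.lam p.1 = 1 ∨ P.lam p.2 = 1 →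
          ∑ j, (matSd i j : ℂ) * v j (S.τ p) = 0 := by
  haveI := Y.T.cyc
  haveI := Y.T.finiteK
  haveI := Y.finiteH
  haveI := Fintype.ofFinite H
  obtain ⟨lam, hl2, hlodd, hle', g, hg, θa, θ, θc, ⟨hao, har⟩, hae, ⟨hto, htr⟩, hte, ⟨htco, htr'⟩, htce, htn, htn'⟩ := P
  have h1l : (1 : scal K Q →* ℂˣ) ≠ lam := fun h => by
    have := congrArg Units.val (DFunLike.congr_fun h Y.e)
    rw [hle'] at this
    simp only [MonoidHom.one_apply, Units.val_one, Units.val_neg] at this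
    norm_num at this
  have hneK : (Y.e : K) ≠ 1 := fun h => Y.e_ne (Subtype.ext h)
  have heeK : (Y.e : K) * Y.e = 1 := congrArg Subtype.val Y.e_sq
  let vH : Fin 8 → H → ℂ := ![fun _ => 1, Y.T.St, fun x => (lam.comp Y.T.dt x : ℂ),
    fun x => (lam.comp Y.T.dt x : ℂ) * Y.T.St x, Y.T.PS 1 lam, Y.T.DS θa, Y.T.DS θ, Y.T.DS θc]
  have hirrH : ∀ j, SgnIrr H (vH j) := fun j => by
    fin_cases j
    · exact Or.inl Cfsg.Agent.Char.isIrr_one
    · exact Y.T.St_irr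
    · exact SgnIrr.linear _
    · exact Y.T.St_irr.mul_linear _
    · exact Y.T.PS_irr _ _ h1l
    · exact Y.T.DS_irr _ har
    · exact Y.T.DS_irr _ htr
    · exact Y.T.DS_irr _ htr'
  have haK : ∀ a : scal K Q, Odd (orderOf a) → θa (a : K) = 1 := fun a ha => hao _ (by rwa [Subgroup.orderOf_coe])
  have htK : ∀ a : scal K Q, Odd (orderOf a) → θ (a : K) = 1 := fun a ha => hto _ (by rwa [Subgroup.orderOf_coe])
  have hcK : ∀ a : scal K Q, Odd (orderOf a) → θc (a : K) = 1 := fun a ha => htco _ (by rwa [Subgroup.orderOf_coe])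
  have hdt : ∀ g : H, Odd (orderOf g) → lam (Y.T.dt g) = 1 := fun g hg =>
    hlodd _ (hg.of_dvd_nat (orderOf_map_dvd Y.T.dt g))
  have hoddv : ∀ (a : scal K Q), Odd (orderOf a) → ∀ j, vH j (Y.T.D (a, a)) = vH j 1 := fun a ha j => by
    fin_cases j <;>
      simp [vH, cv, Y.T.St_sc, Y.T.St_one, Y.T.PS_sc _ _ a h1l, Y.T.PS_one h1l, Y.T.DS_sc _ a har, Y.T.DS_one har,
        Y.T.DS_sc _ a htr, Y.T.DS_one htr, Y.T.DS_sc _ a htr', Y.T.DS_one htr', Y.T.dt_D, hlodd a ha, haK a ha,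
        htK a ha, hcK a ha]
  choose ψ hψ hψπ using fun j => Y.T.descend Y.π Y.surj Y.ker_central Y.ker_odd (hirrH j) (fun a ha => hoddv a ha j)
  have hd : ∀ j, ψ j 1 = degSd Q j := fun j => by
    rw [← map_one Y.π, hψπ]
    fin_cases j <;>
      simp [vH, degSd, Y.T.St_one, Y.T.PS_one h1l, Y.T.DS_one har, Y.T.DS_one htr, Y.T.DS_one htr']
  have hτ : ∀ j p, ψ j (S.τ p) = vH j (Y.T.D p) := fun j p => S.val_tau (hψ j).classFun (hψπ j) p
  refine ⟨ψ, hψ, hψπ, ?_, ?_, hd, fun j => ?_, fun j => ?_, fun j => ?_, fun i p hp hl => ?_⟩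
  · have hv : ∀ {i j}, ψ i = ψ j → ∀ x, vH i x = vH j x := fun {i j} h x => by rw [← hψπ, ← hψπ, h]
    have hb := Y.T.big
    refine orth_of_ne ψ (degSd Q) hψ hd (fun i j h => ?_) fun i j h he hij => ?_
    · fin_cases i <;> fin_cases j <;> simp [degSd] at h ⊢ <;> omega
    have hg1 : g ≠ 1 := fun h => by
      have := congrArg Units.val (hg.symm.trans ((congrArg lam h).trans (map_one lam)))
      simp only [Units.val_neg, Units.val_one] at this
      norm_num at this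
    have hq : (1 : ℂ) - Q ≠ 0 := sub_ne_zero.2 (by exact_mod_cast Y.T.ne_one.symm)
    have n02 : ¬ ψ 0 = ψ 2 := fun h => by
      have := hv h (Y.T.D (g, 1))
      simp [vH, Y.T.dt_D, hg] at this
      norm_num at this
    have n13 : ¬ ψ 1 = ψ 3 := fun h => by
      have := hv h (Y.T.D (g, 1))
      simp [vH, Y.T.dt_D, hg, Y.T.St_D g 1 hg1] at this
      norm_num at this
    have n5 : ¬ ψ 5 = ψ 6 := fun h => by
      have := hv h (Y.T.D (Y.e, Y.e))
      simp [vH, cv, Y.T.DS_sc _ Y.e har, Y.T.DS_sc _ Y.e htr, hae, hte, htce] at this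
      exact hq (by linear_combination this / 2)
    have n5' : ¬ ψ 5 = ψ 7 := fun h => by
      have := hv h (Y.T.D (Y.e, Y.e))
      simp [vH, cv, Y.T.DS_sc _ Y.e har, Y.T.DS_sc _ Y.e htr', hae, hte, htce] at this
      exact hq (by linear_combination this / 2)
    have n67 : ¬ ψ 6 = ψ 7 := fun h => by
      rcases Y.T.DS_inj htr htr' (funext fun x => by simpa [vH] using hv h x) with h' | h'
      · obtain ⟨l, hl⟩ := htn; exact hl (h' l)
      · obtain ⟨l, hl⟩ := htn'; exact hl (h' l)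
    fin_cases i <;> fin_cases j <;> simp [degSd] at h he <;>
      first
        | omega
        | exact n02 hij
        | exact n13 hij
        | exact n5 hij
        | exact n5' hij
        | exact n67 hij
  · funext x
    obtain ⟨y, rfl⟩ := Y.surj x
    rw [hψπ]
    rfl
  · rw [hτ]
    fin_cases j <;>
      simp [vH, cv, tSd, Y.T.St_sc, Y.T.dt_D, hl2, Y.e_sq, Y.T.PS_sc _ _ Y.e h1l, hle', Y.T.DS_sc _ Y.e har,
        Y.T.DS_sc _ Y.e htr, Y.T.DS_sc _ Y.e htr', hae, hte, htce]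
  · rw [hτ]
    fin_cases j <;>
      simp [vH, cv, uSd, Y.T.dt_D, hle', Y.T.St_D 1 Y.e (Ne.symm Y.e_ne),
        Y.T.PS_D _ _ 1 Y.e h1l (Ne.symm Y.e_ne), Y.T.DS_D _ 1 Y.e har (Ne.symm Y.e_ne),
        Y.T.DS_D _ 1 Y.e htr (Ne.symm Y.e_ne), Y.T.DS_D _ 1 Y.e htr' (Ne.symm Y.e_ne)]
  · refine Y.affine_of_reps (hψ j).classFun (hψ 1).classFun (hψπ j) (hψπ 1) (fun x hx => ?_) (fun x hx => ?_)
      (fun x y hxy hx hy => ?_) (fun l hl hlo => ?_)
    · fin_cases j <;>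
        simp [vH, cv, alSd, beSd, Y.T.St_U, Y.T.dt_U, hlodd x hx, Y.T.PS_U _ _ x h1l, Y.T.DS_U _ x har,
          Y.T.DS_U _ x htr, Y.T.DS_U _ x htr', haK x hx, htK x hx, hcK x hx]
    · fin_cases j <;>
        simp [vH, cv, alSd, beSd, Y.T.St_sc, Y.T.dt_D, hlodd x hx, Y.T.PS_sc _ _ x h1l, Y.T.DS_sc _ x har,
          Y.T.DS_sc _ x htr, Y.T.DS_sc _ x htr', haK x hx, htK x hx, hcK x hx] <;> ring
    · fin_cases j <;>
        simp [vH, cv, alSd, beSd, Y.T.St_D x y hxy, Y.T.dt_D, hlodd x hx, hlodd y hy, Y.T.PS_D _ _ x y h1l hxy,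
          Y.T.DS_D _ x y har hxy, Y.T.DS_D _ x y htr hxy, Y.T.DS_D _ x y htr' hxy] <;> norm_num
    · fin_cases j <;>
        simp [vH, cv, alSd, beSd, Y.T.St_E l hl, hdt _ (show Odd (orderOf (Y.T.E l)) by
          rwa [orderOf_injective _ Y.T.E_inj]), Y.T.PS_E _ _ l h1l hl, Y.T.DS_E _ l har hl,
          Y.T.DS_E _ l htr hl, Y.T.DS_E _ l htr' hl, map_zpow, hao _ hlo, hto _ hlo, htco _ hlo] <;> norm_num
  · obtain ⟨a, b⟩ := p
    simp only [hτ]
    rcases hl with hl | hl <;> fin_cases i <;>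
      simp [Fin.sum_univ_succ, matSd, vH, cv, Y.T.dt_D, hl, Y.T.St_D a b hp, Y.T.PS_D _ _ a b h1l hp,
        Y.T.DS_D _ a b har hp, Y.T.DS_D _ a b htr hp, Y.T.DS_D _ a b htr' hp] <;> ring


end NSys

/-- The data of the projections in the semidihedral case. -/
theorem Frm.exists_sdFuns3 {G : Type v'} [Group G] [Fintype G] {X : Type u} [Group X] [Fintype X] {N : Subgroup X}
    {D : PData G X} {Y : NSys N H K Q} {S : Split Y} (F : Frm D S) [Fintype (scal K Q)] (hQ : Q % 4 = 3)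
    {M : Ideal AlgInt} (hM : IsPModular 2 M) (T3 : Sd3 Y) :
    ∃ P : D.NFuns N M gramSd (fun _ => 1) (valSd Q) (pairSd Q), (∀ i, InB0 M (P.f i)) ∧
      ∀ i g, P.f i (Y.π g) = ∑ j, (matSd i j : ℂ) * T3.vH j g := by
  haveI := Y.finiteH
  haveI := Fintype.ofFinite H
  obtain ⟨v, hirr, hv, horth, h0, hd, ha, hb, haff, htor⟩ := Y.exists_atoms3 hQ S T3
  have hv1 : ∀ g, v 1 (Y.π g) = Y.T.St g := hv 1
  have hinv : ∀ φ : N → ℂ, IsClassFunction N φ → ∑ i ∈ invols N, φ i =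
      φ (S.τ (Y.e, Y.e)) + ((Q * (Q + 1) : ℤ) : ℂ) * φ (S.τ (1, Y.e)) := fun φ hφ => by
    obtain ⟨c, hc⟩ := S.conj (Y.e, Y.e)
    obtain ⟨c', hc'⟩ := S.conj (1, Y.e)
    rw [← hc, ← hc', hφ, hφ]
    exact Y.T.sum_invols Y.π Y.surj Y.ker_central Y.ker_odd Y.e_ne Y.e_sq Y.T.exists_e.choose_spec.2.2.1 hφ
  obtain ⟨Fn, hFn⟩ := sdFuns_of_atoms v Set.univ (S.τ (Y.e, Y.e)) (S.τ (1, Y.e)) Q
    (((Q * (Q + 1) : ℤ) : ℚ) ^ 2 / Nat.card N) Y.T.ne_zero Y.T.ne_one Y.T.ne_neg_one rfl hirr horth h0 hd ha hb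
    hinv fun _ _ _ => Set.mem_univ _
  have hcf : ∀ i, IsClassFunction N (Fn.f i) := fun i => IsGenChar.classFun (Fn.gen i)
  have hgoods : goods K Q = ∅ := Finset.eq_empty_of_forall_notMem fun p hp => by
    obtain ⟨⟨k, hk⟩, hg, hg1, hg2⟩ := mem_goods.1 hp
    have e1 := (Y.two_eq hQ ⟨k, congrArg Prod.fst hk⟩).resolve_left hg1
    have e2 := (Y.two_eq hQ ⟨k, congrArg Prod.snd hk⟩).resolve_left hg2
    exact hg (e1.trans e2.symm)
  have hB : ∀ i, InB0 M (Fn.f i) := fun i =>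
    inB0_comb hM (hirr 1) (Y.St_reg S (hirr 1) hv1) v hirr (matSd i) alSd beSd haff (hFn i)
  suffices h : ∃ P : D.NFuns N M gramSd (fun _ => 1) (valSd Q) (pairSd Q), P.f = Fn.f by
    obtain ⟨P, hP⟩ := h
    exact ⟨P, fun i => by rw [hP]; exact hB i, fun i g => by rw [hP, hFn]; simp only [hv]⟩
  refine F.nfuns_of_funs hM Fn (gram := gramSd) (pr := pairSd Q)
    (fun i => oddVanish_comb v (matSd i) alSd beSd haff (matSd_odd i).1 (matSd_odd i).2 (hFn i))
    hB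
    (fun i q hq hq1 hqa n hn => ?_) (fun i l => by simp [hgoods]) fun i => by simp [hgoods]
  have hne : q.1 ≠ q.2 := fun e => hq1 <| by
    rcases hqa with h | h
    · exact Prod.ext h (e ▸ h)
    · exact Prod.ext (e.trans h) h
  obtain ⟨r, hr, hne', hχ⟩ := S.sec_param hq hne hn
  obtain ⟨c, rfl⟩ := isConj_iff.1 hr
  rw [hcf, hFn]
  obtain ⟨e1, e2⟩ := hχ T3.lam T3.hlodd
  exact htor i r hne' (hqa.imp (fun h => by rw [e1, h, map_one]) fun h => by rw [e2, h, map_one])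

end Cfsg.Agent.Invol.AbgOrder
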