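import Cfsg.Agent.Lib.Invol.AbgOrder.TwistVecs
import Cfsg.Agent.Lib.Invol.AbgOrder.ColMain

/-!
# The section of `z` in the twisted block

For integers `u χ`, supported in the twisted block, let `Θ = ∑ u χ · χ`.  On `z` times the elements of odd order of
`C(z)` it is `ε` times a function `g` in the span of the principal block of the image, and for a function supported on
this section of the image the combination `∑ u χ · ⟨ε f, χ⟩` is the inner product with `g`.
-/

set_option autoImplicit false
set_option linter.unusedSectionVars false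
set_option linter.style.haveILetI false

open scoped ComplexConjugate Classical

namespace Cfsg.Agent.Invol.AbgOrder

open Cfsg Cfsg.Agent.Char Cfsg.Agent.Block

universe u v

variable {G : Type u} [Group G] [Fintype G] {K : Type v} [Group K] [Fintype K] {M : Ideal AlgInt}

namespace TData

variable (T : TData G K)

/-- The combination of the coefficients. -/
noncomputable def coefLin (hM : IsPModular 2 M) (N : Subgroup K) (u : IrrCharacter G → ℤ) : (N → ℂ) →ₗ[ℂ] ℂ where
  toFun f := ∑ χ : IrrCharacter G, (u χ : ℂ) * T.tcoef hM (indFun N f) χ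
  map_add' f g := by
    rw [← Finset.sum_add_distrib]
    refine Finset.sum_congr rfl fun χ _ => ?_
    simp only [tcoef, indFun_add, Pi.add_apply]
    split_ifs
    · simp only [classInner, mul_add, add_mul, Finset.sum_add_distrib]
    · ring
  map_smul' c f := by
    rw [smul_eq_mul, RingHom.id_apply, Finset.mul_sum]
    refine Finset.sum_congr rfl fun χ _ => ?_
    simp only [tcoef, indFun_smul, Pi.smul_apply, smul_eq_mul]
    split_ifs
    · simp only [classInner, Finset.mul_sum]
      exact Finset.sum_congr rfl fun a _ => by ring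
    · ring

/-- **The column of the twisted block at `z`.** -/
theorem exists_profile (hM : IsPModular 2 M) (N : Subgroup K) [Fintype N] (hzN : T.toPData.zbar ∈ N)
    (u : IrrCharacter G → ℤ) (hu : ∀ χ, χ ∉ T.block hM → u χ = 0) :
    ∃ g : K → ℂ, InB0 M g ∧ g 1 = ∑ χ : IrrCharacter G, (u χ : ℂ) * (χ : G → ℂ) T.z ∧
      ∀ f : N → ℂ, IsClassFunction N f → (∀ n : N, f n ≠ 0 → ¬ 2 ∣ orderOf ((⟨T.toPData.zbar, hzN⟩ : N) * n)) →
        T.coefLin hM N u f = classInner f (fun n : N => g (T.toPData.zbar * (n : K))) := by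
  haveI : Fact (Nat.Prime 2) := ⟨Nat.prime_two⟩
  set D := T.toPData
  set zC : D.C := ⟨T.z, D.z_mem⟩ with hzC
  set g : K → ℂ := fun q => ∑ ψ ∈ Finset.univ.filter (fun ψ : IrrCharacter K => ψ ∈ principalBlock M K),
    (∑ χ : IrrCharacter G, (u χ : ℂ) * classInner (fun c : D.C => (χ : G → ℂ) (T.z * (c : G)))
      (fun c => (T.eps c : ℂ) * (ψ : K → ℂ) (D.π c))) * (ψ : K → ℂ) q with hg
  have hgB : InB0 M g := InB0.of_expand _ fun q => rfl
  -- the second main theorem
  have key : ∀ v : D.C, ¬ 2 ∣ orderOf v →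
      ∑ χ : IrrCharacter G, (u χ : ℂ) * (χ : G → ℂ) (T.z * (v : G)) = (T.eps v : ℂ) * g (D.π v) := by
    intro v hv
    have h1 : ∀ χ : IrrCharacter G, (u χ : ℂ) * (χ : G → ℂ) (T.z * (v : G)) = (u χ : ℂ) *
        ∑ ψ ∈ Finset.univ.filter (fun ψ : IrrCharacter K => ψ ∈ principalBlock M K),
          classInner (fun c : D.C => (χ : G → ℂ) (T.z * (c : G))) (fun c => (T.eps c : ℂ) * (ψ : K → ℂ) (D.π c)) *
            ((T.eps v : ℂ) * (ψ : K → ℂ) (D.π v)) := by
      intro χ
      by_cases hχ : χ ∈ T.block hM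
      swap
      · rw [hu χ hχ, Int.cast_zero, zero_mul, zero_mul]
      have h := value_eq_sum_inducing hM (T.z_two hM) (T.block_spec hM).2.1 hv χ
      rw [if_pos hχ] at h
      rw [← h]
      congr 1
      symm
      let e := T.fl.res (H := D.C) le_rfl
      have he : ∀ c : D.C, e c = T.eps c := fun c => rfl
      refine Finset.sum_bij (fun ψ _ => twistIrrC e (pullIrr D.π D.surj ψ)) (fun ψ hψ => ?_) (fun a _ b _ hab => ?_)
        (fun ξ hξ => ?_) (fun ψ _ => rfl)
      · refine Finset.mem_filter.2 ⟨Finset.mem_univ _, (T.root_iff hM (T.z_two hM) le_rfl _).2 ?_⟩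
        show twistIrrC e⁻¹ (twistIrrC e (pullIrr D.π D.surj ψ)) ∈ principalBlock M D.C
        rw [(twistIrrC_inv e _).1]
        exact (pullIrr_mem hM D.π D.surj D.odd ψ).2 (Finset.mem_filter.1 hψ).2
      · have h' := congrArg (twistIrrC e⁻¹) hab
        rw [(twistIrrC_inv e _).1, (twistIrrC_inv e _).1] at h'
        refine Subtype.ext (funext fun q => ?_)
        obtain ⟨c, rfl⟩ := D.surj q
        exact congrFun (congrArg Subtype.val h') c
      · have hξ' : twistIrrC e⁻¹ ξ ∈ principalBlock M D.C :=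
          (T.root_iff hM (T.z_two hM) le_rfl ξ).1 (Finset.mem_filter.1 hξ).2
        obtain ⟨ψ, hψ, hval⟩ := IsIrr.exists_factor_quotient (twistIrrC e⁻¹ ξ).2 D.π.ker
          (fun l hl => principal_ker_of_coprime hM D.odd hξ' hl)
        let eq := QuotientGroup.quotientKerEquivOfSurjective D.π D.surj
        let ψ' : IrrCharacter K :=
          ⟨fun q => ψ (eq.symm q), IsIrr.comp_surjective eq.symm.toMonoidHom eq.symm.surjective hψ⟩
        have hex : pullIrr D.π D.surj ψ' = twistIrrC e⁻¹ ξ := Subtype.ext (funext fun c => by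
          show ψ (eq.symm (D.π c)) = _
          rw [show eq.symm (D.π c) = (c : D.C ⧸ D.π.ker) from eq.symm_apply_eq.2 rfl]
          exact hval c)
        exact ⟨ψ', Finset.mem_filter.2 ⟨Finset.mem_univ _,
          (pullIrr_mem hM D.π D.surj D.odd ψ').1 (hex.symm ▸ hξ')⟩, by rw [hex, (twistIrrC_inv e ξ).2]⟩
    rw [Finset.sum_congr rfl fun χ _ => h1 χ]
    simp only [hg, Finset.mul_sum, Finset.sum_mul]
    rw [Finset.sum_comm]
    exact Finset.sum_congr rfl fun ψ _ => Finset.sum_congr rfl fun χ _ => by ring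
  refine ⟨g, hgB, ?_, fun f hf hsupp => ?_⟩
  · have h := key 1 (by rw [orderOf_one]; decide)
    rw [map_one, map_one, Units.val_one, one_mul] at h
    rw [← h]
    simp only [OneMemClass.coe_one, mul_one]
  have hzc : ∀ k : K, Commute k D.zbar := D.zbar_central
  have hzz : D.zbar * D.zbar = 1 := Cfsg.Agent.Invol.BrauerL3.mul_self_of_two D.zbar_order
  -- the induced function lives on the section
  have hind : ∀ q : K, indFun N f q ≠ 0 → ¬ 2 ∣ orderOf (D.zbar * q) := fun q hq => by
    obtain ⟨x, hx, hne⟩ := ind_ne_zero N f hq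
    have h := hsupp _ hne
    rw [← Subgroup.orderOf_coe] at h
    have e : (((⟨D.zbar, hzN⟩ : N) * ⟨x⁻¹ * q * x, hx⟩ : N) : K) = MulAut.conj x⁻¹ (D.zbar * q) := by
      show D.zbar * (x⁻¹ * q * x) = _
      rw [MulAut.conj_apply, inv_inv, ← mul_assoc, ← mul_assoc, ← mul_assoc, ← (hzc x⁻¹).eq]
    rwa [e, MulEquiv.orderOf_eq] at h
  have hπz : D.π zC = D.zbar := rfl
  have hz2 : zC * zC = 1 := Subtype.ext (Cfsg.Agent.Invol.BrauerL3.mul_self_of_two T.ord)
  have hez : T.eps zC = 1 := T.eps_two ⟨1, by rw [← Subgroup.orderOf_coe]; exact T.ord.trans (pow_one 2).symm⟩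
  -- both sides are sums over `C`
  have hL : T.coefLin hM N u f = classInner (fun c : D.C => (T.eps c : ℂ) * indFun N f (D.π c))
      (fun c => ∑ χ : IrrCharacter G, (u χ : ℂ) * (χ : G → ℂ) c) := by
    have e : ∀ χ : IrrCharacter G, (u χ : ℂ) * T.tcoef hM (indFun N f) χ = (Nat.card D.C : ℂ)⁻¹ *
        ∑ c : D.C, (T.eps c : ℂ) * indFun N f (D.π c) * conj ((u χ : ℂ) * (χ : G → ℂ) c) := fun χ => by
      by_cases hχ : χ ∈ T.block hM
      · simp only [tcoef, if_pos hχ, classInner, map_mul, map_intCast, Finset.mul_sum]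
        exact Finset.sum_congr rfl fun c _ => by ring
      · rw [hu χ hχ]
        simp
    show ∑ χ, (u χ : ℂ) * T.tcoef hM (indFun N f) χ = _
    rw [Finset.sum_congr rfl fun χ _ => e χ, ← Finset.mul_sum, Finset.sum_comm]
    simp only [classInner, map_sum, Finset.mul_sum]
  rw [hL, ← classInner_indFun N f (χ := fun q => g (D.zbar * q)) fun q t => by
    show g (D.zbar * (t * q * t⁻¹)) = g (D.zbar * q)
    rw [← mul_assoc, ← mul_assoc, ← (hzc t).eq, mul_assoc t]
    exact hgB.1 _ _]
  show (Nat.card D.C : ℂ)⁻¹ * _ = (Nat.card K : ℂ)⁻¹ * _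
  rw [← D.sum_pi (fun q => indFun N f q * conj (g (D.zbar * q)))]
  congr 1
  refine Finset.sum_congr rfl fun c _ => ?_
  by_cases hne : indFun N f (D.π c) = 0
  · simp only [hne, mul_zero, zero_mul]
  have hodd : ¬ 2 ∣ orderOf (zC * c) := fun h => hind _ hne (by
    have := (D.two_dvd_iff (zC * c)).1 h
    rwa [map_mul, hπz] at this)
  have hv := key (zC * c) hodd
  have h1 : T.z * ((zC * c : D.C) : G) = (c : G) := by
    rw [Subgroup.coe_mul, ← mul_assoc]
    exact (congrArg (· * (c : G)) (congrArg Subtype.val hz2)).trans (one_mul _)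
  rw [h1, map_mul, map_mul, hez, one_mul, hπz] at hv
  dsimp only
  rw [hv, map_mul]
  linear_combination (indFun N f (D.π c) * conj (g (D.zbar * D.π c))) * unit_mul_conj T.eps c

end TData

end Cfsg.Agent.Invol.AbgOrder
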