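import Cfsg.Agent.Lib.Invol.AbgOrder.TwistEqs
import Cfsg.Agent.Lib.Invol.AbgOrder.TwistColumn
import Cfsg.Agent.Lib.Invol.AbgOrder.SdTheta

/-!
# No twisted component in the semidihedral case

The relations `d - a - i` and `b - c - i` are orthogonal to the vector of every function `1-S-R_θ`; hence their
combinations of characters vanish at `z`, which gives the two missing equations.
-/

set_option autoImplicit false
set_option linter.unusedSectionVars false
set_option linter.style.haveILetI false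
set_option maxHeartbeats 4000000

open scoped ComplexConjugate Classical

namespace Cfsg.Agent.Invol.AbgOrder

open Cfsg Cfsg.Agent.Char Cfsg.Agent.Block
open Cfsg.Agent.Invol.BrauerL3 (scal sv sv_self sv_of_ne sum_sv_mul IsSigned sum_mul_three gramSd valSd pairSd
  matSd exists_theta_two)

universe u v w x

theorem three_distinct {ι : Type*} [Fintype ι] {v : ι → ℤ} (hn : ∑ χ, v χ * v χ = 3) {x y z : ι × ℤ}
    (hx : IsSigned x) (hy : IsSigned y) (hz : IsSigned z) (hxy : x.1 ≠ y.1) (e : v = sv x + sv y + sv z) :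
    x.1 ≠ z.1 ∧ y.1 ≠ z.1 := by
  have h : ∑ χ, v χ * v χ = sco v x + sco v y + sco v z := by
    conv_lhs => enter [2, χ, 2]; rw [e]
    rw [sum_mul_three]
    rfl
  rw [hn] at h
  simp only [sco, e, Pi.add_apply, sv_self, sv_of_ne hxy, sv_of_ne hxy.symm] at h
  constructor <;> intro hc
  · rw [← hc, sv_self, sv_of_ne (x := z) (χ := y.1) (hc ▸ hxy.symm), sv_of_ne hxy] at h
    have e1 : sv z x.1 = z.2 := by rw [hc]; exact sv_self z
    rw [e1] at h
    rcases hx with p | p <;> rcases hy with q | q <;> rcases hz with r | r <;> rw [p, q, r] at h <;> omega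
  · rw [← hc, sv_self, sv_of_ne hxy.symm, sv_of_ne (x := z) (χ := x.1) (hc ▸ hxy)] at h
    have e1 : sv z y.1 = z.2 := by rw [hc]; exact sv_self z
    rw [e1] at h
    rcases hx with p | p <;> rcases hy with q | q <;> rcases hz with r | r <;> rw [p, q, r] at h <;> omega

namespace TVecs.SdShape

variable {ι : Type u} [Fintype ι] {Q : ℤ} {V : TVecs ι gramSd (valSd Q) (pairSd Q)} (S : SdShape V)

/-- The two relations. -/
noncomputable def rel : Fin 2 → ι → ℤ :=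
  ![sv S.d + sv (S.a.1, -S.a.2) + sv (S.i.1, -S.i.2), sv S.b + sv (S.c.1, -S.c.2) + sv (S.i.1, -S.i.2)]

theorem rel_sum (f : ι → ℤ) :
    ∑ χ, f χ * S.rel 0 χ = S.d.2 * f S.d.1 - S.a.2 * f S.a.1 - S.i.2 * f S.i.1 ∧
      ∑ χ, f χ * S.rel 1 χ = S.b.2 * f S.b.1 - S.c.2 * f S.c.1 - S.i.2 * f S.i.1 := by
  constructor <;>
    simp only [rel, Matrix.cons_val_zero, Matrix.cons_val_one, sum_mul_three] <;> ring

/-- A vector of norm three with the inner products of the third kind is orthogonal to the relations. -/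
theorem rel_orth {w : ι → ℤ} (hn : ∑ χ, w χ * w χ = 3) (hA : ∑ χ, w χ * V.v 0 χ = 2)
    (ho : ∑ χ, w χ * V.v 1 χ = 1) {l m : Fin 3} (hlm : l ≠ m) (hl : ∑ χ, w χ * V.v l.succ.succ χ = 2)
    (hm : ∑ χ, w χ * V.v m.succ.succ χ = 2) :
    ∀ j, ∑ χ, w χ * S.rel j χ = 0 := by
  obtain ⟨n1, n2, n3, n4, n5, n6, n7, n8, n9, n10⟩ := S.ne
  rw [S.vA, sum_mul_four] at hA
  rw [S.vo, sum_mul_three] at ho
  rw [S.vF l, sum_mul_three] at hl
  rw [S.vF m, sum_mul_three] at hm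
  change sco w S.d + sco w S.a + sco w S.b + sco w S.c = 2 at hA
  change sco w S.d + sco w S.b + sco w S.i = 1 at ho
  change sco w S.d + sco w S.a + sco w (S.e l) = 2 at hl
  change sco w S.d + sco w S.a + sco w (S.e m) = 2 at hm
  have g3 : ∀ k : Fin 3, gramSd k.succ.succ k.succ.succ = 3 ∧ gramSd k.succ.succ 0 = 2 ∧ gramSd k.succ.succ 1 = 1 := by
    decide
  have fd : ∀ k : Fin 3, S.d.1 ≠ (S.e k).1 ∧ S.a.1 ≠ (S.e k).1 := fun k =>
    three_distinct ((V.gram_eq _ _).trans (g3 k).1) S.hd S.ha (S.he k) n1 (S.vF k)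
  have hat := four_at S.vA n1 n2 n3 n5 n6 n8
  have eb : ∀ k : Fin 3, S.b.1 ≠ (S.e k).1 ∧ S.c.1 ≠ (S.e k).1 := fun k => by
    have h : V.v 0 (S.e k).1 = 0 := by
      have h' := V.gram_eq 0 k.succ.succ
      rw [S.vF k, sum_mul_three, hat.1, hat.2.1, S.hd.sq, S.ha.sq,
        show gramSd 0 k.succ.succ = 2 from (show ∀ k : Fin 3, gramSd 0 k.succ.succ = 2 by decide) k] at h'
      exact BrauerL3.mul_zero_of_small (S.he k).ne_zero (by omega)
    exact ⟨fun e => S.hb.ne_zero (by rw [← hat.2.2.1, e, h]), fun e => S.hc.ne_zero (by rw [← hat.2.2.2, e, h])⟩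
  have ee : (S.e l).1 ≠ (S.e m).1 := fun e => by
    have hml : gramSd l.succ.succ m.succ.succ = 2 :=
      (show ∀ l m : Fin 3, l ≠ m → gramSd l.succ.succ m.succ.succ = 2 by decide) l m hlm
    have h' := V.gram_eq l.succ.succ m.succ.succ
    have hat' := three_at (S.vF l) n1 (fd l).1 (fd l).2
    rw [S.vF m, sum_mul_three, hat'.1, hat'.2.1, S.hd.sq, S.ha.sq, ← e, hat'.2.2, hml] at h'
    rcases S.he m with p | p <;> rcases S.he l with r | r <;> rw [p, r] at h' <;> omega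
  have sd := sco_small hn.le S.hd
  have sa := sco_small hn.le S.ha
  have sb := sco_small hn.le S.hb
  have sc := sco_small hn.le S.hc
  have si := sco_small hn.le S.hi
  have key : sco w S.d + sco w S.a = 2 ∧ sco w S.b = 0 ∧ sco w S.c = 0 ∧ sco w S.i = 0 := by
    by_cases hs : sco w S.d + sco w S.a = 2
    · by_cases hb : sco w S.b = 0
      · omega
      · exact (four_sco hn.le n1 n2 n3 n5 n6 n8 (by omega) (by omega) hb (by omega)).elim
    · exfalso
      have he1 : sco w (S.e l) ≠ 0 := by omega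
      have he2 : sco w (S.e m) ≠ 0 := by omega
      have sl := sco_small hn.le (S.he l)
      by_cases hd : sco w S.d = 0
      · by_cases hb : sco w S.b = 0
        · exact four_sco hn.le ee (fd l).2.symm (eb l).2.symm (fd m).2.symm (eb m).2.symm n6 he1 he2 (by omega)
            (by omega)
        · exact four_sco hn.le ee (fd l).2.symm (eb l).1.symm (fd m).2.symm (eb m).1.symm n5 he1 he2 (by omega) hb
      · by_cases hb : sco w S.b = 0
        · exact four_sco hn.le ee (fd l).1.symm (eb l).2.symm (fd m).1.symm (eb m).2.symm n3 he1 he2 hd (by omega)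
        · exact four_sco hn.le ee (fd l).1.symm (eb l).1.symm (fd m).1.symm (eb m).1.symm n2 he1 he2 hd hb
  intro j
  obtain ⟨e0, e1⟩ := S.rel_sum w
  fin_cases j
  · show ∑ χ, w χ * S.rel 0 χ = 0
    rw [e0]
    change sco w S.d - sco w S.a - sco w S.i = 0
    omega
  · show ∑ χ, w χ * S.rel 1 χ = 0
    rw [e1]
    change sco w S.b - sco w S.c - sco w S.i = 0
    omega

/-- The five vectors themselves are orthogonal to the relations. -/
theorem rel_orth_self (i : Fin 5) : ∀ j, ∑ χ, V.v i χ * S.rel j χ = 0 := by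
  obtain ⟨n1, n2, n3, n4, n5, n6, n7, n8, n9, n10⟩ := S.ne
  by_cases h0 : i = 0
  · subst h0
    intro j
    obtain ⟨e0, e1⟩ := S.rel_sum (V.v 0)
    have hat := four_at S.vA n1 n2 n3 n5 n6 n8
    have hi : V.v 0 S.i.1 = 0 := four_other S.vA n4.symm n7.symm n9.symm n10.symm
    fin_cases j
    · show ∑ χ, V.v 0 χ * S.rel 0 χ = 0
      rw [e0, hat.1, hat.2.1, hi, S.hd.sq, S.ha.sq]; ring
    · show ∑ χ, V.v 0 χ * S.rel 1 χ = 0
      rw [e1, hat.2.2.1, hat.2.2.2, hi, S.hb.sq, S.hc.sq]; ring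
  by_cases h1 : i = 1
  · subst h1
    intro j
    obtain ⟨e0, e1⟩ := S.rel_sum (V.v 1)
    have hat := three_at S.vo n2 n4 n9
    have ha : V.v 1 S.a.1 = 0 := by
      rw [S.vo]; simp [sv, n1.symm, n5, n7]
    have hc : V.v 1 S.c.1 = 0 := by
      rw [S.vo]; simp [sv, n3.symm, n8.symm, n10]
    fin_cases j
    · show ∑ χ, V.v 1 χ * S.rel 0 χ = 0
      rw [e0, hat.1, hat.2.2, ha, S.hd.sq, S.hi.sq]; ring
    · show ∑ χ, V.v 1 χ * S.rel 1 χ = 0
      rw [e1, hat.2.1, hat.2.2, hc, S.hb.sq, S.hi.sq]; ring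
  obtain ⟨l, m, hlm, e1, e2, e3, e4⟩ : ∃ l m : Fin 3, l ≠ m ∧ gramSd i l.succ.succ = 2 ∧ gramSd i m.succ.succ = 2 ∧
      gramSd i 0 = 2 ∧ gramSd i 1 = 1 := by
    revert h0 h1 i
    decide
  exact S.rel_orth ((V.gram_eq i i).trans ((show ∀ i : Fin 5, i ≠ 0 → i ≠ 1 → gramSd i i = 3 by decide) i h0 h1))
    ((V.gram_eq i 0).trans e3) ((V.gram_eq i 1).trans e4) hlm ((V.gram_eq i _).trans e1) ((V.gram_eq i _).trans e2)

end TVecs.SdShape

variable {G : Type u} [Group G] [Fintype G] {X : Type v} [Group X] [Fintype X] {N : Subgroup X} {H : Type w}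
  [Group H] {K : Type x} [CommGroup K] {Q : ℤ} {M : Ideal AlgInt}

/-- **No twisted component in the semidihedral case.** -/
theorem TData.sd_twist_false [IsSimpleGroup G] (T : TData G X) {Y : NSys N H K Q} {S : Split Y}
    (Fr : Frm T.toPData S) (hQ4 : Q % 4 = 3) (hM : IsPModular 2 M) (hna : ¬ IsMulCommutative G) {a0 : ℕ}
    (ha0 : ∀ q : X, orderOf q = 2 → q ≠ T.toPData.zbar →
      Nat.card {c : T.toPData.C // T.π c = q ∧ orderOf c = 2} = a0)
    {x : T.toPData.C} (hx : ¬ 2 ∣ (Subgroup.centralizer ({x} : Set T.toPData.C)).index) (hne : T.eps x ≠ 1)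
    {p n : ℕ} (hp : p.Prime) (hn : 0 < n) (hQ : Q = (p : ℤ) ^ n ∨ Q = -(p : ℤ) ^ n)
    (hR : SdIndexR Q ((Nat.card T.toPData.C : ℚ) / (Nat.card G : ℚ) * ((a0 : ℚ) * (invol' T.toPData.zbar).card) ^ 2))
    (hcol : ∃ ρ : N → ℂ, ∀ f : N → ℂ, InB0 M f → ∃ c₁ c₂ : ℂ, ∀ v : N, Odd (orderOf v) → f v = c₁ + c₂ * ρ v) :
    False := by
  haveI : Fact (Nat.Prime 2) := ⟨Nat.prime_two⟩
  haveI := Y.T.finiteK
  haveI := Y.T.cyc
  haveI := Fintype.ofFinite (scal K Q)
  haveI := Fr.hN.normal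
  obtain ⟨P3⟩ := Y.exists_sd3 hQ4
  -- the vectors of a family
  have fam : ∀ T3 : Sd3 Y, ∃ (P : T.toPData.NFuns N M gramSd (fun _ => 1) (valSd Q) (pairSd Q))
      (V : TVecs (IrrCharacter G) gramSd (valSd Q) (pairSd Q)), (∀ i, InB0 M (P.f i)) ∧
      (∀ i g, P.f i (Y.π g) = ∑ j, (matSd i j : ℂ) * T3.vH j g) ∧
      SdIndexR Q V.R ∧
      (∀ χ : IrrCharacter G, (V.val χ : ℂ) = (χ : G → ℂ) T.z) ∧
      (∀ i χ, (V.v i χ : ℂ) = T.tcoef hM (indFun N (P.f i)) χ) := fun T3 => by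
    obtain ⟨P, hPB, hP⟩ := Fr.exists_sdFuns3 hQ4 hM T3
    obtain ⟨P', hP'⟩ := T.toPData.exists_pfuns Fr.hN P
    obtain ⟨V, hVR, hVd, hVv⟩ := T.exists_tvecs hM hna ha0 P' hx hne
    exact ⟨P, V, hPB, hP, by rw [hVR]; exact hR, fun χ => (hVd χ).2, fun i χ => by rw [hVv, hP']⟩
  obtain ⟨P, V, hPB, hP, hVR, hVval, hVv⟩ := fam P3
  obtain ⟨Sh⟩ := TVecs.sd_shape Q V
  -- a relation as a functional
  have hzero : ∀ j, ∀ f : N → ℂ, (∃ w : IrrCharacter G → ℤ, (∀ χ, (w χ : ℂ) = T.tcoef hM (indFun N f) χ) ∧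
      ∑ χ, w χ * Sh.rel j χ = 0) → T.coefLin hM N (Sh.rel j) f = 0 := by
    intro j f hw
    obtain ⟨w, hw, h0⟩ := hw
    show ∑ χ : IrrCharacter G, (Sh.rel j χ : ℂ) * T.tcoef hM (indFun N f) χ = 0
    simp only [← hw]
    have : ((∑ χ, w χ * Sh.rel j χ : ℤ) : ℂ) = 0 := by rw [h0, Int.cast_zero]
    push_cast at this
    rw [← this]
    exact Finset.sum_congr rfl fun χ _ => mul_comm _ _
  have hbase : ∀ j i, T.coefLin hM N (Sh.rel j) (P.f i) = 0 := fun j i =>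
    hzero j _ ⟨V.v i, hVv i, Sh.rel_orth_self i j⟩
  have hfun : ∀ {f f' : N → ℂ}, (∀ g, f (Y.π g) = f' (Y.π g)) → f = f' := fun {f f'} h => funext fun m => by
    obtain ⟨g, rfl⟩ := Y.surj m
    exact h g
  -- the function of a regular character
  have heK : (Y.e : K) * Y.e = 1 := congrArg Subtype.val Y.e_sq
  have hθ : ∀ θ : K →* ℂˣ, RegChar Q θ → ∃ f : N → ℂ, (∀ g, f (Y.π g) = 1 - Y.T.St g - Y.T.DS θ g) ∧
      IsClassFunction N f ∧ OddVanish f ∧ ∀ j, T.coefLin hM N (Sh.rel j) f = 0 := by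
    intro θ hθ
    have val : ∀ (T3 : Sd3 Y) (g : H) (P' : T.toPData.NFuns N M gramSd (fun _ => 1) (valSd Q) (pairSd Q)),
        (∀ i g, P'.f i (Y.π g) = ∑ j, (matSd i j : ℂ) * T3.vH j g) →
        P'.f 2 (Y.π g) = 1 - Y.T.St g - Y.T.DS T3.θa g ∧ P'.f 3 (Y.π g) = 1 - Y.T.St g - Y.T.DS T3.θb g ∧
          P'.f 4 (Y.π g) = 1 - Y.T.St g - Y.T.DS T3.θc g := fun T3 g P' h => by
      refine ⟨?_, ?_, ?_⟩ <;> rw [h] <;> simp [Fin.sum_univ_succ, matSd, Sd3.vH] <;> ring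
    -- a family with `θ` at `k`, sharing `0`, `1`, `l + 2`, `m + 2`
    have use : ∀ (T3 : Sd3 Y) (k : Fin 5) (l m : Fin 3), l ≠ m → gramSd k k = 3 → gramSd k 0 = 2 → gramSd k 1 = 1 →
        gramSd k l.succ.succ = 2 → gramSd k m.succ.succ = 2 →
        (∀ P' : T.toPData.NFuns N M gramSd (fun _ => 1) (valSd Q) (pairSd Q),
          (∀ i g, P'.f i (Y.π g) = ∑ j, (matSd i j : ℂ) * T3.vH j g) →
          (∀ g, P'.f k (Y.π g) = 1 - Y.T.St g - Y.T.DS θ g) ∧ P'.f 0 = P.f 0 ∧ P'.f 1 = P.f 1 ∧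
            P'.f l.succ.succ = P.f l.succ.succ ∧ P'.f m.succ.succ = P.f m.succ.succ) →
        ∃ f : N → ℂ, (∀ g, f (Y.π g) = 1 - Y.T.St g - Y.T.DS θ g) ∧
          IsClassFunction N f ∧ OddVanish f ∧ ∀ j, T.coefLin hM N (Sh.rel j) f = 0 := by
      intro T3 k l m hlm g3 g0 g1 gl gm hshare
      obtain ⟨P', V', hPB', hP', -, -, hVv'⟩ := fam T3
      obtain ⟨hk, e0, e1, el, em⟩ := hshare P' hP'
      have same : ∀ i, P'.f i = P.f i → V'.v i = V.v i := fun i h => funext fun χ => Int.cast_injective (α := ℂ) (by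
        rw [hVv', hVv, h])
      refine ⟨P'.f k, hk, (hPB' k).1, P'.odd k, fun j => hzero j _ ⟨V'.v k, hVv' k, ?_⟩⟩
      refine Sh.rel_orth ((V'.gram_eq k k).trans g3) ?_ ?_ hlm ?_ ?_ j
      · rw [← same 0 e0]; exact (V'.gram_eq k 0).trans g0
      · rw [← same 1 e1]; exact (V'.gram_eq k 1).trans g1
      · rw [← same _ el]; exact (V'.gram_eq k _).trans gl
      · rw [← same _ em]; exact (V'.gram_eq k _).trans gm
    have h01 : ∀ T3 : Sd3 Y, T3.lam = P3.lam →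
        ∀ P' : T.toPData.NFuns N M gramSd (fun _ => 1) (valSd Q) (pairSd Q),
        (∀ i g, P'.f i (Y.π g) = ∑ j, (matSd i j : ℂ) * T3.vH j g) → P'.f 0 = P.f 0 ∧ P'.f 1 = P.f 1 := by
      intro T3 hl P' hP'
      constructor <;> refine hfun fun g => ?_ <;> rw [hP', hP] <;>
        simp [Fin.sum_univ_succ, matSd, Sd3.vH, hl]
    have he2 : θ (Y.e : K) = 1 ∨ θ (Y.e : K) = -1 := by
      have h : ((θ (Y.e : K) : ℂˣ) : ℂ) * θ (Y.e : K) = 1 := by rw [← Units.val_mul, ← map_mul, heK, map_one, Units.val_one]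
      rcases mul_self_eq_one_iff.1 h with e | e
      · exact Or.inl (Units.ext e)
      · exact Or.inr (Units.ext (by rw [e]; rfl))
    rcases he2 with he | he
    · let T3 : Sd3 Y := { P3 with θa := θ, hra := hθ, hea := he }
      refine use T3 2 1 2 (by decide) rfl rfl rfl rfl rfl fun P' hP' => ⟨fun g => (val T3 g P' hP').1,
        (h01 T3 rfl P' hP').1, (h01 T3 rfl P' hP').2, hfun fun g => ?_, hfun fun g => ?_⟩
      · exact ((val T3 g P' hP').2.1).trans ((val P3 g P hP).2.1).symm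
      · exact ((val T3 g P' hP').2.2).trans ((val P3 g P hP).2.2).symm
    · by_cases hc : (∀ l, P3.θc l = θ l) ∨ ∀ l, P3.θc l = θ (l ^ Q)
      · refine ⟨P.f 4, fun g => ?_, (hPB 4).1, P.odd 4, fun j => hbase j 4⟩
        rw [(val P3 g P hP).2.2]
        congr 1
        rcases hc with hc | hc
        · rw [show P3.θc = θ from MonoidHom.ext hc]
        · -- the two characters give one irreducible
          have hDS : Y.T.DS P3.θc g = Y.T.DS θ g := by
            have hQ2 : ∀ l : K, (l ^ Q) ^ Q = l := fun l => by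
              have h : l ^ (Q ^ 2 - 1) = 1 := by rw [← Y.T.card, zpow_natCast, pow_card_eq_one']
              rw [← zpow_mul, show Q * Q = (Q ^ 2 - 1) + 1 by ring, zpow_add_one, h, one_mul]
            have hsc : ∀ a : scal K Q, (a : K) ^ Q = (a : K) := fun a => by
              have h : (a : K) ^ (Q - 1) = 1 := BrauerL3.mem_scal.1 a.2
              calc (a : K) ^ Q = (a : K) ^ (Q - 1) * a := by rw [← zpow_add_one, sub_add_cancel]
                _ = a := by rw [h, one_mul]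
            rcases Y.T.cover g with ⟨a, ha⟩ | ⟨⟨a, b⟩, ha⟩ | ⟨l, hl, ha⟩ <;> obtain ⟨c, rfl⟩ := isConj_iff.1 ha <;>
              rw [(Y.T.DS_irr _ P3.hrc.2).classFun, (Y.T.DS_irr _ hθ.2).classFun]
            · rw [Y.T.DS_U _ a P3.hrc.2, Y.T.DS_U _ a hθ.2]
              simp only [Cfsg.Agent.Block.SL2Char.cv, hc, hsc a]
            · by_cases e : a = b
              · subst e
                rw [Y.T.DS_sc _ a P3.hrc.2, Y.T.DS_sc _ a hθ.2]
                simp only [Cfsg.Agent.Block.SL2Char.cv, hc, hsc a]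
              · rw [Y.T.DS_D _ a b P3.hrc.2 e, Y.T.DS_D _ a b hθ.2 e]
            · rw [Y.T.DS_E _ l P3.hrc.2 hl, Y.T.DS_E _ l hθ.2 hl]
              simp only [Cfsg.Agent.Block.SL2Char.cv, hc, hQ2]
              ring
          exact hDS
      · push Not at hc
        let T3 : Sd3 Y := { P3 with θb := θ, hrb := hθ, heb := he, hne := hc.1, hne' := hc.2 }
        refine use T3 3 0 2 (by decide) rfl rfl rfl rfl rfl fun P' hP' => ⟨fun g => (val T3 g P' hP').2.1,
          (h01 T3 rfl P' hP').1, (h01 T3 rfl P' hP').2, hfun fun g => ?_, hfun fun g => ?_⟩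
        · exact ((val T3 g P' hP').1).trans ((val P3 g P hP).1).symm
        · exact ((val T3 g P' hP').2.2).trans ((val P3 g P hP).2.2).symm
  choose fθ hf1 hf2 hf3 hf4 using hθ
  let F : (K →* ℂˣ) → N → ℂ := fun θ => if h : RegChar Q θ then fθ θ h else 0
  -- the Steinberg character and the column
  obtain ⟨vv, hirr, hv, -⟩ := Y.exists_atoms3 hQ4 S P3
  have hσv : ∀ g, vv 1 (Y.π g) = Y.T.St g := fun g => hv 1 g
  obtain ⟨ρ, hρ⟩ := hcol
  have hσB : InB0 M (vv 1) := ⟨(hirr 1).classFun, fun ψ hψ =>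
    inner_zero_of_affine hM (hirr 1) (Y.St_reg S (hirr 1) hσv) (hirr 1) (a := 0) (b := 1)
      (fun g _ => by rw [zero_add, one_mul]) hψ⟩
  obtain ⟨s₁, s₂, hs⟩ := hρ _ hσB
  have hs2 : s₂ ≠ 0 := fun h => by
    have e1 := hs 1 (by rw [orderOf_one]; exact odd_one)
    obtain ⟨k, hk, hU⟩ := Y.T.U_pow 1
    have hU1 : Y.T.U 1 ^ k = 1 := by rw [hU, one_pow]; exact Y.T.D_one
    have e2 := hs (Y.π (Y.T.U 1)) (hk.of_dvd_nat ((orderOf_map_dvd _ _).trans (orderOf_dvd_of_pow_eq_one hU1)))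
    rw [← map_one Y.π, hσv, Y.T.St_one, h, zero_mul, add_zero] at e1
    rw [hσv, Y.T.St_U, h, zero_mul, add_zero, ← e1] at e2
    exact Y.T.ne_zero (by exact_mod_cast e2.symm)
  have hzN : T.toPData.zbar ∈ N := by rw [Fr.L.zbar_tau Fr.hN]; exact Subtype.coe_prop _
  have hzτ : S.τ (Y.e, Y.e) = (⟨T.toPData.zbar, hzN⟩ : N) := Subtype.ext (Fr.L.zbar_tau Fr.hN).symm
  have hval : ∀ j, ∑ χ : IrrCharacter G, (Sh.rel j χ : ℂ) * (χ : G → ℂ) T.z = 0 := by
    intro j
    have hu : ∀ χ, χ ∉ T.block hM → Sh.rel j χ = 0 := fun χ hχ => by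
      have h0 : ∀ i, V.v i χ = 0 := fun i => Int.cast_injective (α := ℂ) (by
        rw [hVv, T.tcoef_eq_zero hM _ hχ, Int.cast_zero])
      obtain ⟨n1, n2, n3, n4, n5, n6, n7, n8, n9, n10⟩ := Sh.ne
      have hat := four_at Sh.vA n1 n2 n3 n5 n6 n8
      have hχne : χ ≠ Sh.d.1 ∧ χ ≠ Sh.a.1 ∧ χ ≠ Sh.b.1 ∧ χ ≠ Sh.c.1 ∧ χ ≠ Sh.i.1 := by
        refine ⟨fun e => ?_, fun e => ?_, fun e => ?_, fun e => ?_, fun e => ?_⟩
        · exact Sh.hd.ne_zero (by rw [← hat.1, ← e, h0])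
        · exact Sh.ha.ne_zero (by rw [← hat.2.1, ← e, h0])
        · exact Sh.hb.ne_zero (by rw [← hat.2.2.1, ← e, h0])
        · exact Sh.hc.ne_zero (by rw [← hat.2.2.2, ← e, h0])
        · exact Sh.hi.ne_zero (by rw [← (three_at Sh.vo n2 n4 n9).2.2, ← e, h0])
      fin_cases j <;> simp [TVecs.SdShape.rel, sv, hχne]
    obtain ⟨g, hgB, hg1, hgL⟩ := T.exists_profile hM N hzN (Sh.rel j) hu
    rw [← hg1]
    set δ : N → ℂ := fun m => g (T.toPData.zbar * (m : X))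
    obtain ⟨c₁, c₂, hc⟩ := hρ _ (hgB.res hM N)
    have hzz : T.toPData.zbar * T.toPData.zbar = 1 := BrauerL3.mul_self_of_two T.toPData.zbar_order
    have h := Y.sd_zero hQ4 S (hirr 1) hσv P3.hlodd P3.hle P3.hl2 P3.hg (f0 := P.f 0) (f1 := P.f 1)
      (fun g => by rw [hP]; simp [Fin.sum_univ_succ, matSd, Sd3.vH]; ring)
      (fun g => by rw [hP]; simp [Fin.sum_univ_succ, matSd, Sd3.vH]; ring)
      (hPB 0).1 (hPB 1).1 (P.odd 0) (P.odd 1) (fθ := F)
      (fun θ h => by simp only [F, dif_pos h]; exact ⟨hf1 θ h, hf2 θ h, hf3 θ h⟩) (δ := δ)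
      (α := c₁ - c₂ * s₁ / s₂) (β := c₂ / s₂)
      (fun v hv => by
        have hv' : Odd (orderOf v) := Nat.not_even_iff_odd.1 fun h => hv h.two_dvd
        show g (T.toPData.zbar * ((S.τ (Y.e, Y.e) * v : N) : X)) = _
        rw [hzτ, Subgroup.coe_mul, ← mul_assoc, hzz, one_mul, hc v hv', hs v hv']
        field_simp
        ring)
      (T.coefLin hM N (Sh.rel j))
      (fun f hf hs' => hgL f hf fun m hm => by rw [← hzτ]; exact hs' m hm)
      (hbase j 0) (hbase j 1) (fun θ h => by simp only [F, dif_pos h]; exact hf4 θ h j)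
    have h' : g (T.toPData.zbar * ((S.τ (Y.e, Y.e) : N) : X)) = 0 := h
    rwa [hzτ, hzz] at h'
  have hrel : ∀ j, ∑ χ, V.val χ * Sh.rel j χ = 0 := fun j => Int.cast_injective (α := ℂ) (by
    push_cast
    rw [← hval j]
    exact Finset.sum_congr rfl fun χ _ => by rw [hVval, mul_comm])
  have v0 := hrel 0
  have v1 := hrel 1
  rw [(Sh.rel_sum V.val).1] at v0
  rw [(Sh.rel_sum V.val).2] at v1
  exact Sh.sd_false hp hn hQ hQ4 hVR (show V.vl Sh.d = V.vl Sh.a + V.vl Sh.i by simp only [TVecs.vl]; omega)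
    (show V.vl Sh.b = V.vl Sh.c + V.vl Sh.i by simp only [TVecs.vl]; omega)

end Cfsg.Agent.Invol.AbgOrder
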