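import Cfsg.Agent.Lib.Invol.AbgOrder.ProjVecs
import Cfsg.Agent.Lib.Invol.AbgOrder.OrdAlperin
import Cfsg.Agent.Lib.Char.Induce

/-!
# Projections of functions induced from a normal subgroup of odd index

`f` is a function on `N ≤ K`; the projection of `f^K` has value `f` on the roots whose section is not fused to other
sections of the support, and sums of values of `f` on the sections with a normal `2`-complement.
-/

set_option autoImplicit false
set_option linter.unusedSectionVars false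
set_option linter.style.haveILetI false

open scoped ComplexConjugate Classical

namespace Cfsg.Agent.Invol.AbgOrder

open Cfsg Cfsg.Agent.Char Cfsg.Agent.Block
open Cfsg.Agent.Invol.Wreath5Core (conj_of_same_image eq_one_of_ker)

universe u v

variable {G : Type u} [Group G] [Fintype G] {K : Type v} [Group K] [Fintype K]

/-- An average against a class function. -/
theorem sum_ind (N : Subgroup K) (f : N → ℂ) {P : K → ℂ} (hP : IsClassFunction K P) :
    (Nat.card K : ℂ)⁻¹ * ∑ a : K, indFun N f a * P a = (Nat.card N : ℂ)⁻¹ * ∑ k : N, f k * P k := by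
  rw [sum_indFun_mul N f hP, ← mul_assoc]
  congr 1
  have h : (N.index : ℂ) * (Nat.card N : ℂ) = (Nat.card K : ℂ) := by exact_mod_cast N.index_mul_card
  have h2 : (N.index : ℂ) ≠ 0 := Nat.cast_ne_zero.2 Subgroup.index_ne_zero_of_finite
  rw [← h, mul_inv, mul_comm (N.index : ℂ)⁻¹, inv_mul_cancel_right₀ h2]

theorem ind_ne_zero (N : Subgroup K) (f : N → ℂ) {a : K} (h : indFun N f a ≠ 0) :
    ∃ (x : K) (hx : x⁻¹ * a * x ∈ N), f ⟨x⁻¹ * a * x, hx⟩ ≠ 0 := by
  by_contra hno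
  push Not at hno
  exact h (indFun_eq_zero_of_not_conj N f hno)

theorem oddVanish_ind (N : Subgroup K) {f : N → ℂ} (hf : OddVanish f) : OddVanish (indFun N f) := by
  intro a ha
  by_contra h
  obtain ⟨x, hx, hne⟩ := ind_ne_zero N f h
  refine hne (hf _ ?_)
  have e : x⁻¹ * a * x = MulAut.conj x⁻¹ a := by simp
  rw [← Subgroup.orderOf_coe]
  show ¬ 2 ∣ orderOf (x⁻¹ * a * x)
  rwa [e, MulEquiv.orderOf_eq]

theorem gen_ind (N : Subgroup K) {f : N → ℂ} (hf : IsGeneralizedCharacter N f) :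
    IsGeneralizedCharacter K (indFun N f) := by
  obtain ⟨a, b, ha, hb, rfl⟩ := hf
  exact ⟨_, _, isCharacter_indFun N ha, isCharacter_indFun N hb, indFun_sub N a b⟩

namespace PData

variable (D : PData G K) (N : Subgroup K) {M : Ideal AlgInt}

theorem fused_conj {x : G} {y : K} (h : D.Fused x y) (t : K) : D.Fused x (t * y * t⁻¹) := by
  obtain ⟨c, rfl, hc⟩ := h
  obtain ⟨t, rfl⟩ := D.surj t
  exact ⟨t * c * t⁻¹, by simp, hc.trans (isConj_iff.2 ⟨(t : G), by simp⟩)⟩

theorem fused_conj_iff {x : G} {y : K} (t : K) : D.Fused x (t * y * t⁻¹) ↔ D.Fused x y := by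
  refine ⟨fun h => ?_, fun h => D.fused_conj h t⟩
  have := D.fused_conj h t⁻¹
  rwa [show t⁻¹ * (t * y * t⁻¹) * t⁻¹⁻¹ = y by group] at this

variable (hM : IsPModular 2 M)
include hM

/-- On the section of a root. -/
theorem gam_ind_root (hN : NHyp N) {f : N → ℂ} (hf : InB0 M f) {c x : D.C} (hx : IsPPart 2 c x)
    (hcN : D.π c ∈ N) (hle : Cz (x : G) ≤ D.C)
    (hvan : ∀ k y : N, IsPPart 2 k y → D.Fused (x : G) (y : K) → ¬ IsConj (D.π x) (y : K) → f k = 0) :
    D.gam M (indFun N f) (c : G) = f ⟨D.π c, hcN⟩ := by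
  haveI : Fact (Nat.Prime 2) := ⟨Nat.prime_two⟩
  haveI := hN.normal
  rw [D.gam_eq, Finset.sum_congr rfl (g := fun b : D.C => indFun N f (D.π b) * blockKer M (D.π c) (D.π b)),
    D.sum_pi (fun k => indFun N f k * blockKer M (D.π c) k),
    sum_ind N f (P := fun k => blockKer M (D.π c) k) (fun k t => blockKer_conj_right _ k t)]
  · rw [← sum_blockKer hf ⟨D.π c, hcN⟩]
    exact congrArg _ (Finset.sum_congr rfl fun k _ =>
      congrArg _ (hN.blockKer_sub hM ⟨D.π c, hcN⟩ k))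
  intro b _
  obtain ⟨y, hy⟩ := exists_pPart (p := 2) b
  by_cases hxy : IsConj (D.π x) (D.π y)
  · rw [D.blockKer_root hM hle hx hy hxy]
  · rw [blockKer_eq_zero hM (pPart_map D.π hx) (pPart_map D.π hy) hxy]
    by_cases h : IsConj (x : G) (y : G)
    · have h0 : indFun N f (D.π b) = 0 := by
        refine indFun_eq_zero_of_not_conj N f fun q hq => ?_
        have hk := pPart_conj (pPart_map D.π hy) q⁻¹
        rw [inv_inv] at hk
        have hyN : q⁻¹ * D.π y * q ∈ N := mem_of_two_power hN.odd (by obtain ⟨_, -, -, h, -⟩ := hk; exact h)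
        refine hvan ⟨_, hq⟩ ⟨_, hyN⟩ (pPart_coe.1 hk) ?_ fun hc => hxy (hc.trans ?_)
        · have := D.fused_conj (⟨y, rfl, h⟩ : D.Fused (x : G) (D.π y)) q⁻¹
          rwa [inv_inv] at this
        · exact isConj_iff.2 ⟨q, by group⟩
      rw [h0, zero_mul, zero_mul]
    · rw [blockKer_eq_zero hM (pPart_coe.2 hx) (pPart_coe.2 hy) h]

/-- On a section with a normal `2`-complement in the centraliser. -/
theorem gam_ind_nilp (f : N → ℂ) {g x : G} (hx : IsPPart 2 g x) {L : Subgroup (Cz x)} [L.Normal]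
    (hL : ¬ 2 ∣ Nat.card L) {k : ℕ} (hidx : L.index = 2 ^ k) :
    D.gam M (indFun N f) g = ((2 ^ (Nat.card (Cz x)).factorization 2 : ℕ) : ℂ) * (Nat.card N : ℂ)⁻¹ *
      ∑ a : N, if ∃ y : N, IsPPart 2 a y ∧ D.Fused x (y : K) then f a else 0 := by
  haveI : Fact (Nat.Prime 2) := ⟨Nat.prime_two⟩
  rw [D.gam_nilp hM _ hx hL hidx, mul_assoc, mul_assoc]
  congr 1
  have hP : IsClassFunction K (fun a => if ∃ y, IsPPart 2 a y ∧ D.Fused x y then (1 : ℂ) else 0) := by
    intro a t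
    refine if_congr ⟨fun ⟨y, hy, hf⟩ => ⟨t⁻¹ * y * t, ?_, ?_⟩, fun ⟨y, hy, hf⟩ => ⟨_, pPart_conj hy t,
      D.fused_conj hf t⟩⟩ rfl rfl
    · have := pPart_conj hy t⁻¹
      rwa [inv_inv, show t⁻¹ * (t * a * t⁻¹) * t = a by group] at this
    · have := D.fused_conj hf t⁻¹
      rwa [inv_inv] at this
  have h := sum_ind N f hP
  simp only [mul_ite, mul_one, mul_zero] at h
  rw [h]
  refine congrArg _ (Finset.sum_congr rfl fun a _ => if_congr ⟨fun ⟨y, hy, hf⟩ => ?_, fun ⟨y, hy, hf⟩ =>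
    ⟨y, pPart_coe.2 hy, hf⟩⟩ rfl rfl)
  obtain ⟨y', hy'⟩ := exists_pPart (p := 2) a
  have e : y = (y' : K) := pPart_unique hy (pPart_coe.2 hy')
  exact ⟨y', hy', e ▸ hf⟩

/-- The mean of the projection over a fibre. -/
noncomputable def favg (M : Ideal AlgInt) (f : K → ℂ) (a : K) : ℂ :=
  (Nat.card D.π.ker : ℂ)⁻¹ * ∑ c ∈ Finset.univ.filter (fun c : D.C => D.π c = a), D.gam M f c

omit hM in
theorem favg_eq (f : K → ℂ) {a : K} {v : ℂ} (h : ∀ c : D.C, D.π c = a → D.gam M f c = v) :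
    D.favg M f a = v := by
  rw [favg, Finset.sum_congr rfl fun c hc => h c (Finset.mem_filter.1 hc).2, Finset.sum_const, nsmul_eq_mul,
    ← mul_assoc]
  have hcard : (Finset.univ.filter (fun c : D.C => D.π c = a)).card = Nat.card D.π.ker := by
    obtain ⟨b, rfl⟩ := D.surj a
    rw [← Fintype.card_subtype, ← Nat.card_eq_fintype_card]
    refine (Nat.card_congr ⟨fun l => ⟨b * l, by simp [MonoidHom.mem_ker.1 l.2]⟩,
      fun c => ⟨b⁻¹ * c.1, by simp [MonoidHom.mem_ker, c.2]⟩, fun l => ?_, fun c => ?_⟩).symm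
    · exact Subtype.ext (inv_mul_cancel_left _ _)
    · exact Subtype.ext (mul_inv_cancel_left _ _)
  rw [hcard, inv_mul_cancel₀ (Nat.cast_ne_zero.2 Nat.card_pos.ne'), one_mul]

omit hM in
theorem favg_class (f : K → ℂ) : IsClassFunction K (D.favg M f) := by
  intro a t
  obtain ⟨t, rfl⟩ := D.surj t
  show _ * _ = _ * _
  refine congrArg _ (Finset.sum_bij' (fun c _ => t⁻¹ * c * t) (fun c _ => t * c * t⁻¹) ?_ ?_ ?_ ?_ ?_)
  · intro c hc
    simp only [Finset.mem_filter, Finset.mem_univ, true_and, map_mul, map_inv] at hc ⊢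
    rw [hc]; group
  · intro c hc
    simp only [Finset.mem_filter, Finset.mem_univ, true_and, map_mul, map_inv] at hc ⊢
    rw [hc]
  · intro c _; group
  · intro c _; group
  · intro c _
    have h := D.gam_classFun M f (c : G) (t : G)⁻¹
    simp only [inv_inv] at h
    exact h.symm

omit hM in
/-- Functions on `N` with the data of their projections. -/
structure NFuns (M : Ideal AlgInt) {k : ℕ} (gram : Fin k → Fin k → ℤ) (tr val : Fin k → ℤ) (pr : Fin k → ℚ) where
  /-- the functions -/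
  f : Fin k → N → ℂ
  /-- the values of the projections -/
  F : Fin k → N → ℂ
  gen : ∀ i, IsGeneralizedCharacter N (f i)
  odd : ∀ i, OddVanish (f i)
  value : ∀ i (n : N) (c : D.C), D.π c = n → (∃ j, f j n ≠ 0) ∨ (D.zbar ∈ Subgroup.zpowers (n : K) ∧
    ((n : K) = D.zbar ∨ ∃ a b : K, orderOf a = 2 ∧ orderOf b = 2 ∧ (n : K) = a * b)) →
    D.gam M (indFun N (f i)) c = F i n
  inner : ∀ i j, classInner (F i) (f j) = (gram i j : ℂ)
  inner_one : ∀ i, classInner (f i) (fun _ => 1) = (tr i : ℂ)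
  at_z : ∀ (i) (h : D.zbar ∈ N), F i ⟨D.zbar, h⟩ = (val i : ℂ)
  pair : ∀ i, pairK D.zbar (extendByZero N (F i)) = ((pr i * ((invol' D.zbar).card : ℚ) ^ 2 : ℚ) : ℂ)

variable {N} {k : ℕ} {gram : Fin k → Fin k → ℤ} {tr val : Fin k → ℤ} {pr : Fin k → ℚ}

omit hM in
/-- The data on `K`. -/
theorem exists_pfuns (hN : NHyp N) (P : D.NFuns N M gram tr val pr) :
    ∃ P' : D.PFuns M gram tr val pr, ∀ i, P'.f i = indFun N (P.f i) := by
  haveI : Fact (Nat.Prime 2) := ⟨Nat.prime_two⟩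
  haveI := hN.normal
  -- on a point of the support the mean is the value
  have hsupp : ∀ (n : N) (i : Fin k) (a : K), IsConj (n : K) a →
      ((∃ j, P.f j n ≠ 0) ∨ (D.zbar ∈ Subgroup.zpowers (n : K) ∧
        ((n : K) = D.zbar ∨ ∃ a b : K, orderOf a = 2 ∧ orderOf b = 2 ∧ (n : K) = a * b))) →
      (∀ c : D.C, D.π c = a → D.gam M (indFun N (P.f i)) c = P.F i n) ∧
        D.favg M (indFun N (P.f i)) a = P.F i n := by
    intro n i a hconj hn
    obtain ⟨t, ht⟩ := isConj_iff.1 hconj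
    obtain ⟨t, rfl⟩ := D.surj t
    have h1 : ∀ c : D.C, D.π c = a → D.gam M (indFun N (P.f i)) c = P.F i n := fun c hc => by
      rw [← P.value i n (t⁻¹ * c * t) (by simp only [map_mul, map_inv, hc, ← ht]; group) hn]
      have h := D.gam_classFun M (indFun N (P.f i)) (c : G) (t : G)⁻¹
      simp only [inv_inv] at h
      exact h.symm
    exact ⟨h1, D.favg_eq _ h1⟩
  have hinv : ∀ b : K, orderOf b = 2 → b ∈ N := fun b hb =>
    mem_of_two_power hN.odd ⟨1, by rw [hb, pow_one]⟩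
  have hzN : D.zbar ∈ N := hinv _ D.zbar_order
  refine ⟨⟨fun i => indFun N (P.f i), fun i => D.favg M (indFun N (P.f i)), fun i => gen_ind N (P.gen i),
    fun i => oddVanish_ind N (P.odd i), fun i c hc => ?_, fun i j => ?_, fun i => ?_, fun i => ?_, fun i => ?_⟩,
    fun i => rfl⟩
  · rcases hc with ⟨j, hj⟩ | hz | ⟨hz, a, b, ha, hb, rfl⟩
    · obtain ⟨x, hx, hne⟩ := ind_ne_zero N _ hj
      obtain ⟨h1, h2⟩ := hsupp ⟨_, hx⟩ i (D.π c) (isConj_iff.2 ⟨x, by group⟩) (Or.inl ⟨j, hne⟩)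
      rw [h2, h1 c rfl]
    · have e : D.π c = D.zbar := congrArg D.π (Subtype.ext hz)
      obtain ⟨h1, h2⟩ := hsupp ⟨_, hzN⟩ i (D.π c) (by rw [e]) (Or.inr ⟨Subgroup.mem_zpowers _, Or.inl rfl⟩)
      rw [h2, h1 c rfl]
    · have hm : D.π (a * b) ∈ N := by
        rw [map_mul]; exact mul_mem (hinv _ (D.pi_order_two ha)) (hinv _ (D.pi_order_two hb))
      obtain ⟨h1, h2⟩ := hsupp ⟨_, hm⟩ i (D.π (a * b)) (IsConj.refl _) (Or.inr ⟨(D.z_mem_zpowers_iff _).1 hz,
        Or.inr ⟨_, _, D.pi_order_two ha, D.pi_order_two hb, map_mul _ _ _⟩⟩)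
      rw [h2, h1 _ rfl]
  · rw [classInner_indFun_right N (P.f j) (D.favg_class _), ← P.inner]
    simp only [classInner]
    refine congrArg _ (Finset.sum_congr rfl fun n _ => ?_)
    by_cases h : P.f j n = 0
    · rw [h, map_zero, mul_zero, mul_zero]
    · rw [(hsupp n i n (IsConj.refl _) (Or.inl ⟨j, h⟩)).2]
  · rw [classInner_indFun N (P.f i) (fun _ _ => rfl)]
    exact P.inner_one i
  · rw [(hsupp ⟨_, hzN⟩ i D.zbar (IsConj.refl _) (Or.inr ⟨Subgroup.mem_zpowers _, Or.inl rfl⟩)).2]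
    exact P.at_z i hzN
  · rw [← P.pair i, pairK, pairK]
    refine Finset.sum_congr rfl fun a ha => Finset.sum_congr rfl fun b hb => ?_
    split_ifs with hz
    · simp only [invol', Finset.mem_filter] at ha hb
      have hm : a * b ∈ N := mul_mem (hinv _ ha.2.1) (hinv _ hb.2.1)
      rw [(hsupp ⟨_, hm⟩ i (a * b) (IsConj.refl _) (Or.inr ⟨hz, Or.inr ⟨a, b, ha.2.1, hb.2.1, rfl⟩⟩)).2,
        extendByZero_of_mem _ hm]
    · rfl

end PData

end Cfsg.Agent.Invol.AbgOrder
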