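import Cfsg.Agent.Lib.Invol.AbgOrder.TwistProj
import Cfsg.Agent.Lib.Invol.AbgOrder.ProjVecs

/-!
# The vectors of the twisted projections

The same inner products, values and sums over pairs as for the principal block, but no trivial character: an element
of the supports has degree at least two.
-/

set_option autoImplicit false
set_option linter.unusedSectionVars false
set_option linter.style.haveILetI false

open scoped ComplexConjugate Classical

namespace Cfsg.Agent.Invol.AbgOrder

open Cfsg Cfsg.Agent.Char Cfsg.Agent.Block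
open Cfsg.Agent.Invol.BrauerL3 (evalE mul_self_of_two)

universe u v

/-- Integral vectors with the properties of the twisted projections. -/
structure TVecs (ι : Type u) [Fintype ι] {k : ℕ} (gram : Fin k → Fin k → ℤ) (tv : Fin k → ℤ) (pr : Fin k → ℚ) where
  /-- degrees -/
  deg : ι → ℤ
  /-- values at the involution -/
  val : ι → ℤ
  deg_pos : ∀ χ, 0 < deg χ
  /-- the vectors -/
  v : Fin k → ι → ℤ
  no_linear : ∀ i χ, v i χ ≠ 0 → deg χ ≠ 1
  gram_eq : ∀ i j, ∑ χ, v i χ * v j χ = gram i j
  deg_sum : ∀ i, ∑ χ, v i χ * deg χ = 0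
  val_sum : ∀ i, ∑ χ, v i χ * val χ = tv i
  /-- the factor -/
  R : ℚ
  eq : ∀ i, evalE deg val (v i) = R * pr i

variable {G : Type u} [Group G] [Fintype G] {K : Type v} [Group K] [Fintype K] {M : Ideal AlgInt} {k : ℕ}
  {gram : Fin k → Fin k → ℤ} {tr val : Fin k → ℤ} {pr : Fin k → ℚ}

namespace TData

variable (T : TData G K)

/-- The vectors of the twisted projections. -/
theorem exists_tvecs [IsSimpleGroup G] (hM : IsPModular 2 M) (hna : ¬ IsMulCommutative G) {a0 : ℕ}
    (ha0 : ∀ q : K, orderOf q = 2 → q ≠ T.toPData.zbar →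
      Nat.card {c : T.toPData.C // T.π c = q ∧ orderOf c = 2} = a0)
    (P : T.toPData.PFuns M gram tr val pr) {x : T.toPData.C}
    (hx : ¬ 2 ∣ (Subgroup.centralizer ({x} : Set T.toPData.C)).index) (hne : T.eps x ≠ 1) :
    ∃ V : TVecs (IrrCharacter G) gram val pr,
      (V.R = (Nat.card T.toPData.C : ℚ) / (Nat.card G : ℚ) * ((a0 : ℚ) * (invol' T.toPData.zbar).card) ^ 2) ∧
      (∀ χ : IrrCharacter G, (V.deg χ : ℂ) = (χ : G → ℂ) 1 ∧ (V.val χ : ℂ) = (χ : G → ℂ) T.z) ∧
      (∀ i χ, (V.v i χ : ℂ) = T.tcoef hM (P.f i) χ) := by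
  choose vv hv using fun i => T.tcoef_int hM (P.gen i)
  choose vt hvt using fun χ : IrrCharacter G => char_involution_int χ (mul_self_of_two T.ord)
  have hgam : ∀ i (g : G), T.tgam hM (P.f i) g = ∑ χ : IrrCharacter G, (vv i χ : ℂ) * (χ : G → ℂ) g := fun i g => by
    simp only [tgam, hv]
  have hz2 : 2 ∣ orderOf (⟨T.z, T.toPData.z_mem⟩ : T.toPData.C) := by
    rw [← Subgroup.orderOf_coe]; show 2 ∣ orderOf T.z; rw [T.ord]
  refine ⟨{ deg := fun χ => (charDegree (χ : G → ℂ) : ℤ), val := vt,
            deg_pos := fun χ => by exact_mod_cast charDeg_pos χ,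
            v := vv,
            no_linear := fun i χ hi h => hi ?_,
            gram_eq := fun i j => ?_, deg_sum := fun i => ?_, val_sum := fun i => ?_,
            R := (Nat.card T.toPData.C : ℚ) / (Nat.card G : ℚ) * ((a0 : ℚ) * (invol' T.toPData.zbar).card) ^ 2,
            eq := fun i => ?_ }, rfl, fun χ => ⟨?_, (hvt χ).symm⟩, fun i χ => (hv i χ).symm⟩
  · have h' := hv i χ
    rw [OrdP.eq_trivial_of_deg hna (χ := χ) (by exact_mod_cast h), T.tcoef_eq_zero hM _ (T.trivial_notMem hM hx hne),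
      ← Int.cast_zero] at h'
    rw [OrdP.eq_trivial_of_deg hna (χ := χ) (by exact_mod_cast h)]
    exact (Int.cast_injective h').symm
  · have h := T.inner_tcoef hM (f := P.f i) (g := P.f j) (F := P.F i) (P.odd i) (P.odd j) fun c hc =>
      P.value i c (Or.inl ⟨j, hc⟩)
    simp only [hv, map_intCast, P.inner] at h
    exact_mod_cast h
  · have h := hgam i 1
    rw [T.tgam_odd hM (P.odd i) (by rw [orderOf_one]; decide)] at h
    have h' : ((∑ χ, vv i χ * (charDegree (χ : G → ℂ) : ℤ) : ℤ) : ℂ) = ((0 : ℤ) : ℂ) := by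
      push_cast; rw [h]
      exact Finset.sum_congr rfl fun χ _ => by rw [charDeg_spec']
    exact_mod_cast h'
  · have h := hgam i T.z
    rw [T.tgam_coe hM (P.odd i) (a := ⟨T.z, T.toPData.z_mem⟩) hz2,
      T.eps_two ⟨1, by rw [← Subgroup.orderOf_coe]; exact T.ord.trans (pow_one 2).symm⟩, Units.val_one, one_mul,
      P.value i ⟨T.z, T.toPData.z_mem⟩ (Or.inr (Or.inl rfl))] at h
    have h' : ((∑ χ, vv i χ * vt χ : ℤ) : ℂ) = (val i : ℂ) := by
      rw [← P.at_z i, PData.zbar, h]; push_cast
      exact Finset.sum_congr rfl fun χ _ => by rw [hvt]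
    exact_mod_cast h'
  · have h := T.tpairing hM ha0 (P.odd i) (F := P.F i) fun a b ha hb hc =>
      P.value i _ (Or.inr (Or.inr ⟨hc, a, b, ha, hb, rfl⟩))
    rw [P.pair] at h
    have h' : ((evalE (fun χ : IrrCharacter G => (charDegree (χ : G → ℂ) : ℤ)) vt (vv i) : ℚ) : ℂ) =
        (((Nat.card T.toPData.C : ℚ) / (Nat.card G : ℚ) * ((a0 : ℚ) * (invol' T.toPData.zbar).card) ^ 2 * pr i : ℚ) :
          ℂ) := by
      simp only [evalE]
      push_cast
      calc ∑ χ : IrrCharacter G, (vv i χ : ℂ) * (vt χ : ℂ) ^ 2 / (charDegree (χ : G → ℂ) : ℂ)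
          = _ := Finset.sum_congr rfl fun χ _ => by rw [← charDeg_spec', ← hvt, ← hv]
        _ = _ := h
        _ = _ := by push_cast; ring
    exact_mod_cast h'
  · push_cast
    exact (charDeg_spec' χ).symm

/-- A field automorphism fixing the character carries the coefficients to those of the image function. -/
theorem tcoef_gal (hM : IsPModular 2 M) (σ : RingAut ℂ) (hσ : ∀ a, σ (T.eps a : ℂ) = (T.eps a : ℂ)) {f g : K → ℂ}
    (hfi : IsGeneralizedCharacter K f) (hf : OddVanish f) (hg : OddVanish g) (hfg : ∀ q, σ (f q) = g q)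
    (χ : IrrCharacter G) : T.tcoef hM g (PrinCol.galIrr σ χ) = T.tcoef hM f χ := by
  have hinj : Function.Injective (PrinCol.galIrr (G := G) σ) := fun a b e =>
    Subtype.ext (funext fun x => σ.injective (congrFun (congrArg Subtype.val e) x))
  have hint : ∀ ξ, σ (T.tcoef hM f ξ) = T.tcoef hM f ξ := fun ξ => by
    obtain ⟨m, hm⟩ := T.tcoef_int hM hfi ξ
    rw [hm, map_intCast]
  have hint0 : ∀ ξ, σ (T.toPData.coef M f ξ) = T.toPData.coef M f ξ := fun ξ => by
    obtain ⟨m, hm⟩ := T.toPData.coef_int M hfi ξ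
    rw [hm, map_intCast]
  -- the projection
  have hgam : ∀ a : G, σ (T.toPData.gam M f a) = T.toPData.gam M g a := fun a => by
    have hco : ∀ ξ, T.toPData.coef M g (PrinCol.galIrr σ ξ) = T.toPData.coef M f ξ := fun ξ => by
      have hiff : PrinCol.galIrr σ ξ ∈ principalBlock M G ↔ ξ ∈ principalBlock M G := by
        refine ⟨fun h => ?_, PrinCol.galIrr_mem hM σ⟩
        have h2 := PrinCol.galIrr_mem hM σ⁻¹ h
        rwa [show PrinCol.galIrr σ⁻¹ (PrinCol.galIrr σ ξ) = ξ from
          Subtype.ext (funext fun x => σ.symm_apply_apply _)] at h2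
      rw [← hint0 ξ]
      simp only [PData.coef, hiff]
      split_ifs
      · have hinv : ∀ (η : IrrCharacter G) (c : T.toPData.C), conj ((η : G → ℂ) c) = (η : G → ℂ) (c : G)⁻¹ :=
          fun η c => (irr_apply_inv η _).symm
        simp only [classInner, hinv, map_mul, map_inv₀, map_natCast, map_sum, hfg]
        rfl
      · rw [map_zero]
    simp only [PData.gam, map_sum, map_mul, hint0]
    refine Fintype.sum_bijective _ (Finite.injective_iff_bijective.1 hinj) _ _ fun ξ => ?_
    rw [hco]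
    rfl
  have key : (fun a => σ (T.tgam hM f a)) = T.tgam hM g := by
    funext a
    by_cases ha : 2 ∣ orderOf a
    · obtain ⟨e, he, hea, -⟩ := unique_invol ha
      obtain ⟨t, ht⟩ := isConj_iff.1 (T.cls e he)
      have hc : t⁻¹ * a * t ∈ T.toPData.C := by
        refine Subgroup.mem_centralizer_singleton_iff.2 ?_
        obtain ⟨i, hi⟩ := Subgroup.mem_zpowers_iff.1 hea
        have h1 : Commute a e := hi ▸ (Commute.refl a).zpow_right i
        rw [← ht] at h1
        have h2 := (h1.map (MulAut.conj t⁻¹).toMonoidHom).eq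
        simpa [MulAut.conj_apply, mul_assoc] using h2
      rw [show a = t * ((⟨_, hc⟩ : T.toPData.C) : G) * t⁻¹ by group, T.tgam_classFun hM f _ t,
        T.tgam_classFun hM g _ t]
      have h2 : 2 ∣ orderOf (⟨_, hc⟩ : T.toPData.C) := by
        rw [← Subgroup.orderOf_coe]
        show 2 ∣ orderOf (t⁻¹ * a * t)
        rwa [show t⁻¹ * a * t = MulAut.conj t⁻¹ a by simp, MulEquiv.orderOf_eq]
      rw [T.tgam_coe hM hf h2, T.tgam_coe hM hg h2, map_mul, hσ, hgam]
    · rw [T.tgam_odd hM hf ha, T.tgam_odd hM hg ha, map_zero]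
  rw [← T.classInner_tgam hM g, ← key, show (fun a => σ (T.tgam hM f a)) =
    ∑ ξ : IrrCharacter G, T.tcoef hM f ξ • ((PrinCol.galIrr σ ξ : IrrCharacter G) : G → ℂ) from funext fun a => by
      simp only [tgam, map_sum, map_mul, hint, Finset.sum_apply, Pi.smul_apply, smul_eq_mul]
      rfl, classInner_sum_left, Finset.sum_eq_single χ]
  · rw [classInner_smul_left, classInner_self_irr (PrinCol.galIrr σ χ).2, mul_one]
  · intro ξ _ hne
    rw [classInner_smul_left, classInner_irr_ne (PrinCol.galIrr σ ξ).2 (PrinCol.galIrr σ χ).2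
      fun e => hne (hinj (Subtype.ext e)), mul_zero]
  · exact fun h => absurd (Finset.mem_univ _) h

end TData

end Cfsg.Agent.Invol.AbgOrder
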