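import Cfsg.Agent.Lib.Invol.AbgOrder.TwistEqs
import Cfsg.Agent.Lib.Invol.AbgOrder.TwistVecs
import Cfsg.Agent.Lib.Invol.AbgOrder.OrdWrFuns
import Cfsg.Agent.Lib.Invol.AbgOrder.OrdSub
import Cfsg.Agent.Lib.Char.FieldAut

/-!
# No twisted component in the wreathed case, from the data of the projections

An automorphism of the complex field fixes the roots of unity of one odd order and inverts those of one `2`-power
order: it fixes the twisting character and exchanges the fifth and the sixth function.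
-/

set_option autoImplicit false
set_option linter.unusedSectionVars false
set_option linter.style.haveILetI false
set_option maxHeartbeats 4000000

open scoped ComplexConjugate Classical

namespace Cfsg.Agent.Invol.AbgOrder

open Cfsg Cfsg.Agent.Char Cfsg.Agent.Block
open Cfsg.Agent.Invol.BrauerL3 (scal Tbl SgnIrr Funs funs_of_atoms invols)

universe u v w v'

/-- Roots of unity of coprime orders can be fixed and inverted at the same time. -/
theorem exists_fix_inv {m n : ℕ} (hm : m ≠ 0) (hn : n ≠ 0) (h : m.Coprime n) :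
    ∃ σ : RingAut ℂ, (∀ ζ : ℂ, ζ ^ m = 1 → σ ζ = ζ) ∧ ∀ ζ : ℂ, ζ ^ n = 1 → σ ζ = ζ⁻¹ := by
  obtain ⟨k, hk1, hk2⟩ := Nat.chineseRemainder h 1 (n - 1)
  have hkm : k.Coprime m := by rw [Nat.Coprime, hk1.gcd_eq, Nat.gcd_one_left]
  have hkn : k.Coprime n := by
    rw [Nat.Coprime, hk2.gcd_eq]
    have := (Nat.coprime_self_sub_right (Nat.one_le_iff_ne_zero.2 hn)).2 (Nat.coprime_one_right n)
    rwa [Nat.Coprime, Nat.gcd_comm] at this
  obtain ⟨σ, hσ⟩ := exists_ringAut_pow (m * n) k (Nat.pos_of_ne_zero (mul_ne_zero hm hn)) (hkm.mul_right hkn)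
  refine ⟨σ, fun ζ hζ => ?_, fun ζ hζ => ?_⟩
  · rw [hσ ζ (by rw [pow_mul, hζ, one_pow]), pow_eq_pow_mod k hζ, hk1, ← pow_eq_pow_mod 1 hζ, pow_one]
  · rw [hσ ζ (by rw [mul_comm, pow_mul, hζ, one_pow]), pow_eq_pow_mod k hζ, hk2, ← pow_eq_pow_mod (n - 1) hζ]
    refine eq_inv_of_mul_eq_one_left ?_
    rw [← pow_succ, Nat.sub_add_cancel (Nat.one_le_iff_ne_zero.2 hn), hζ]

/-- A field automorphism and induction. -/
theorem gal_indFun {X : Type u} [Group X] [Fintype X] (N : Subgroup X) (σ : RingAut ℂ) {f g : N → ℂ}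
    (h : ∀ n, σ (f n) = g n) (q : X) : σ (indFun N f q) = indFun N g q := by
  simp only [indFun, map_mul, map_inv₀, map_natCast, map_sum]
  refine congrArg _ (Finset.sum_congr rfl fun y _ => ?_)
  by_cases hm : y⁻¹ * q * y ∈ N
  · rw [extendByZero_of_mem _ hm, extendByZero_of_mem _ hm, h]
  · have hm' : ∀ a : N, (a : X) ≠ y⁻¹ * q * y := fun a e => hm (e ▸ a.2)
    rw [extendByZero, extendByZero, Function.extend_apply' _ _ _ (fun ⟨a, e⟩ => hm' a e),
      Function.extend_apply' _ _ _ (fun ⟨a, e⟩ => hm' a e), Pi.zero_apply, map_zero]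

/-- The Steinberg character is integral. -/
theorem tbl_St_int {H : Type v} [Group H] {K : Type w} [CommGroup K] {Q : ℤ} (T : Tbl H K Q) (g : H) :
    ∃ i : ℤ, T.St g = (i : ℂ) := by
  have key : ∀ r (i : ℤ), T.St r = (i : ℂ) → IsConj r g → ∃ i : ℤ, T.St g = (i : ℂ) := fun r i hr h => by
    obtain ⟨c, rfl⟩ := isConj_iff.1 h
    exact ⟨i, by rw [T.St_irr.classFun r c, hr]⟩
  rcases T.cover g with ⟨a, ha⟩ | ⟨⟨a, b⟩, ha⟩ | ⟨l, hl, ha⟩
  · exact key _ 0 (by rw [T.St_U, Int.cast_zero]) ha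
  · by_cases hab : a = b
    · subst hab; exact key _ Q (T.St_sc a) ha
    · exact key _ 1 (by rw [T.St_D a b hab, Int.cast_one]) ha
  · exact key _ (-1) (by rw [T.St_E l hl, Int.cast_neg, Int.cast_one]) ha

variable {K : Type w} [CommGroup K] {Q : ℤ}

/-- The values of the character on the scalars are roots of unity of `2`-power order. -/
theorem Mu.val_root [Finite (scal K Q)] (m : Mu K Q) (a : scal K Q) :
    (m.μ a : ℂ) ^ (2 ^ (Nat.card (scal K Q)).factorization 2) = 1 := by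
  set c := Nat.card (scal K Q) with hc
  have hc0 : c ≠ 0 := (Nat.card_pos (α := scal K Q)).ne'
  have hodd : Odd (orderOf (a ^ (2 ^ c.factorization 2))) := by
    refine Odd.of_dvd_nat (n := c / 2 ^ c.factorization 2)
      (Nat.odd_iff.2 (Nat.two_dvd_ne_zero.1 (Nat.not_dvd_ordCompl Nat.prime_two hc0))) ?_
    refine orderOf_dvd_of_pow_eq_one ?_
    rw [← pow_mul, Nat.mul_div_cancel' (Nat.ordProj_dvd _ _), hc, pow_card_eq_one']
  rw [← Units.val_pow_eq_pow_val, ← map_pow, m.odd _ hodd, Units.val_one]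

section Funs

variable {N : Type u} [Group N] [Fintype N] {H : Type v} [Group H]

/-- The functions of the projections, with the action of the automorphisms on the fifth and the sixth. -/
theorem Frm.exists_wrFuns_gal {G : Type v'} [Group G] [Fintype G] {X : Type u} [Group X] [Fintype X] {N : Subgroup X}
    {D : PData G X} {Y : NSys N H K Q} {S : Split Y} (F : Frm D S) [Fintype (scal K Q)] (hQ : Q % 4 = 1)
    {M : Ideal AlgInt} (hM : IsPModular 2 M) :
    ∃ P : D.NFuns N M gramWrF trWrF (valWrF Q) (prWrF Q), ∀ σ : RingAut ℂ,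
      (∀ ζ : ℂ, ζ ^ (2 ^ (Nat.card (scal K Q)).factorization 2) = 1 → σ ζ = ζ⁻¹) → ∀ n, σ (P.f 4 n) = P.f 5 n := by
  haveI := Y.finiteH
  haveI := Fintype.ofFinite H
  haveI := Y.T.cyc
  haveI := Y.T.finiteK
  obtain ⟨m, hm, he, heh⟩ := exists_Mu Y hQ
  obtain ⟨θ, v, hθ, hθ', hirr, hπ, horth, h0, hd, ha, hb, haff⟩ := Y.exists_atoms S m he heh
  have hinv : ∀ φ : N → ℂ, IsClassFunction N φ → ∑ i ∈ invols N, φ i =
      φ (S.τ (Y.e, Y.e)) + ((Q * (Q + 1) : ℤ) : ℂ) * φ (S.τ (1, Y.e)) := fun φ hφ => by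
    obtain ⟨c, hc⟩ := S.conj (Y.e, Y.e)
    obtain ⟨c', hc'⟩ := S.conj (1, Y.e)
    rw [← hc, ← hc', hφ, hφ]
    exact Y.T.sum_invols Y.π Y.surj Y.ker_central Y.ker_odd Y.e_ne Y.e_sq Y.T.exists_e.choose_spec.2.2.1 hφ
  obtain ⟨Fn, hFn⟩ := funs_of_atoms v _ _ _ matWrF Set.univ (S.τ (Y.e, Y.e)) (S.τ (1, Y.e)) (Q * (Q + 1))
    (((Q * (Q + 1) : ℤ) : ℚ) ^ 2 / Nat.card N) rfl (fun i l => ∑ j, matWrF i j * matWrF l j) trWrF (valWrF Q)
    (pr0WrF Q) hirr horth h0 hd ha hb hinv (fun _ _ => rfl) (by decide) (valWrF_eq Q)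
    (pr0WrF_eq Q Y.T.ne_zero Y.T.ne_one Y.T.ne_neg_one) fun _ _ _ => Set.mem_univ _
  have hcf : ∀ i, IsClassFunction N (Fn.f i) := fun i => IsGenChar.classFun (Fn.gen i)
  have hev : ∀ i p, p.1 ≠ p.2 → Fn.f i (S.τ p) = m.ev i p := fun i p hp => by
    rw [hFn]
    refine (Finset.sum_congr rfl fun j _ => ?_).trans (vWr_torus Y.T m θ hθ hθ' i hp)
    rw [S.val_tau (hirr j).classFun (hπ j)]
  refine (F.nfuns_of_funs hM Fn (gram := gramWrF) (pr := prWrF Q)
    (fun i => oddVanish_comb v (matWrF i) alWr beWr haff (matWrF_odd i).1 (matWrF_odd i).2 (hFn i))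
    (fun i => inB0_comb hM (hirr 1) (Y.St_reg S (hirr 1) (hπ 1)) v hirr (matWrF i) alWr beWr haff (hFn i))
    (fun i q hq hq1 hqa n hn => ?_) (fun i l => ?_) fun i => ?_).imp fun P hP σ hσ n => ?_
  · have hne : q.1 ≠ q.2 := fun e => hq1 <| by
      rcases hqa with h | h
      · exact Prod.ext h (e ▸ h)
      · exact Prod.ext (e.trans h) h
    obtain ⟨r, hr, hne', hχ⟩ := S.sec_param hq hne hn
    obtain ⟨c, rfl⟩ := isConj_iff.1 hr
    rw [hcf, hev i r hne']
    obtain ⟨e1, e2⟩ := hχ m.μ m.odd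
    rcases hqa with h | h
    · exact m.ev_axis i (Or.inl (by rw [e1, h, map_one]))
    · exact m.ev_axis i (Or.inr (by rw [e2, h, map_one]))
  · rw [Finset.sum_congr (s₁ := goods K Q) rfl fun p hp => by
      rw [hev i _ (good_r1 (mem_goods.1 hp).2).1, hev l _ (mem_goods.1 hp).2.1], m.sum_goods, m.card2_eq,
      Nat.cast_pow, inv_mul_cancel_left₀ (pow_ne_zero _ (Nat.cast_ne_zero.2 (by have := m.h0; omega))),
      ← gramWrF_eq i l]
    push_cast
    rfl
  · rw [Finset.sum_congr rfl fun p hp => hev i _ (good_r1 (mem_goods.1 (Finset.mem_filter.1 hp).1).2).1,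
      m.sum_goods_pair, hm, prWrF_sub Q Y.T.ne_zero Y.T.ne_neg_one]
    have hN := congrArg (fun z : ℤ => (z : ℂ)) Y.card_N
    push_cast at hN ⊢
    linear_combination (2 * (m.h : ℂ)) * (cardOdd K Q : ℂ) *
      ((![0, 0, 0, 0, 0, 0, 0, 1] : Fin 8 → ℤ) i : ℂ) * hN
  · rw [hP, hFn, hFn]
    obtain ⟨g, rfl⟩ := Y.surj n
    simp only [hπ, map_sum, map_mul, map_intCast]
    obtain ⟨i, hi⟩ := tbl_St_int Y.T g
    have hc : σ (m.μ (Y.T.dt g) : ℂ) = ((m.μ (Y.T.dt g))⁻¹ : ℂˣ) := by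
      rw [hσ _ (m.val_root _), Units.val_inv_eq_inv_val]
    simp [Fin.sum_univ_succ, matWrF, vWr, hi, hc]

end Funs

namespace TData

variable {G : Type v'} [Group G] [Fintype G] {X : Type u} [Group X] [Fintype X] {H : Type v} [Group H]

/-- **No twisted component in the wreathed case.** -/
theorem wr_twist_false [IsSimpleGroup G] (T : TData G X) {N : Subgroup X} {Y : NSys N H K Q} {S : Split Y}
    (Fr : Frm T.toPData S) (hQ : Q % 4 = 1) {M : Ideal AlgInt} (hM : IsPModular 2 M) (hna : ¬ IsMulCommutative G)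
    {a0 : ℕ} (ha0 : ∀ q : X, orderOf q = 2 → q ≠ T.toPData.zbar →
      Nat.card {c : T.toPData.C // T.π c = q ∧ orderOf c = 2} = a0)
    {x : T.toPData.C} (hx : ¬ 2 ∣ (Subgroup.centralizer ({x} : Set T.toPData.C)).index) (hne : T.eps x ≠ 1)
    (hR : ((Nat.card T.toPData.C : ℚ) / (Nat.card G : ℚ) * ((a0 : ℚ) * (invol' T.toPData.zbar).card) ^ 2) *
      ((Q : ℚ) ^ 2 + Q + 1) = ((Q : ℚ) + 1) ^ 2) : False := by
  haveI := Y.T.finiteK
  haveI := Fintype.ofFinite (scal K Q)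
  obtain ⟨P, hP⟩ := Fr.exists_wrFuns_gal hQ hM
  obtain ⟨P', hP'⟩ := T.toPData.exists_pfuns Fr.hN P
  obtain ⟨V, hVR, hVdeg, hVv⟩ := T.exists_tvecs hM hna ha0 P' hx hne
  -- the automorphism
  obtain ⟨σ, hσe, hσi⟩ := exists_fix_inv
    (Nat.ordCompl_pos 2 (Nat.card_pos (α := T.toPData.C)).ne').ne'
    (pow_ne_zero ((Nat.card (scal K Q)).factorization 2) two_ne_zero)
    ((Nat.coprime_ordCompl Nat.prime_two Nat.card_pos.ne').symm.pow_right _)
  have heps : ∀ a, σ (T.eps a : ℂ) = (T.eps a : ℂ) := fun a => hσe _ (by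
    rw [← Units.val_pow_eq_pow_val, orderOf_dvd_iff_pow_eq_one.1, Units.val_one]
    exact ((Nat.coprime_two_right.2 (T.eps_odd a)).pow_right _).dvd_of_dvd_mul_left
      ((orderOf_map_dvd T.eps a).trans ((orderOf_dvd_natCard a).trans
        (dvd_of_eq (Nat.ordProj_mul_ordCompl_eq_self _ 2).symm))))
  have hf : ∀ q, σ (P'.f 4 q) = P'.f 5 q := fun q => by
    rw [hP', hP']
    exact gal_indFun N σ (hP σ hσi) q
  let π : IrrCharacter G ≃ IrrCharacter G :=
    { toFun := PrinCol.galIrr σ.symm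
      invFun := PrinCol.galIrr σ
      left_inv := fun χ => Subtype.ext (funext fun g => σ.apply_symm_apply _)
      right_inv := fun χ => Subtype.ext (funext fun g => σ.symm_apply_apply _) }
  refine V.wr_false Q π (fun χ => Int.cast_injective (α := ℂ) ?_) (fun χ => Int.cast_injective (α := ℂ) ?_)
    (fun χ => Int.cast_injective (α := ℂ) ?_) hQ ?_ (by rw [hVR]; exact hR)
  · rw [hVv, hVv, ← T.tcoef_gal hM σ heps (P'.gen 4) (P'.odd 4) (P'.odd 5) hf (π χ)]
    exact congrArg _ (π.left_inv χ).symm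
  · rw [(hVdeg _).1]
    show σ.symm ((χ : G → ℂ) 1) = _
    rw [← (hVdeg χ).1, map_intCast]
  · rw [(hVdeg _).2]
    show σ.symm ((χ : G → ℂ) T.z) = _
    rw [← (hVdeg χ).2, map_intCast]
  · have := Y.T.big
    rw [Int.abs_eq_natAbs]
    omega

end TData

end Cfsg.Agent.Invol.AbgOrder
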