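import Cfsg.Agent.Lib.Invol.AbgOrder.FieldFusion
import Cfsg.Agent.Lib.Invol.AbgOrder.TwistSd
import Cfsg.Agent.Lib.Invol.AbgOrder.TwistWr
import Cfsg.Agent.Lib.Invol.AbgOrder.OrdChar
import Cfsg.Agent.Lib.Invol.AbgOrder.ColShape

/-!
# No field component

A non-trivial character of the field component of `C(z)` is invariant under fusion and twists the principal block; the
twisted equations are contradictory, so every field component is trivial.
-/

set_option autoImplicit false
set_option linter.unusedSectionVars false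
set_option linter.style.haveILetI false

open scoped Classical

namespace Cfsg.Agent.Invol.AbgOrder

open Cfsg Cfsg.Agent.Char Cfsg.Agent.Block
open Cfsg.Agent.Invol.BrauerL3 (scal MatModel)

universe u v w x y

attribute [local instance] oddCore_normal

/-- The noncentral involutions of the quotient. -/
theorem Shape0.card_invol' {G : Type u} [Group G] [Fintype G] {X : Type u} [Group X] [Fintype X] {F : Type v}
    [Field F] [Fintype F] {H : Type w} [Group H] {K : Type x} [CommGroup K] {Q : ℤ} (s : Shape0 X F H K Q)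
    (D : PData G X) :
    ((invol' D.zbar).card : ℤ) = Q * (Q + 1) ∧
      ∀ a b : X, orderOf a = 2 → a ≠ D.zbar → orderOf b = 2 → b ≠ D.zbar → IsConj a b := by
  obtain ⟨e, -, -, -, he2, hec, hu2, hucard, hcases⟩ := s.exists_invols
  have hzbar : D.zbar = s.π (s.M.T.D (e, e)) := s.central_unique D.zbar_order he2
    (Subgroup.mem_center_iff.2 fun k => (D.zbar_central k).eq) hec
  refine ⟨?_, fun a b ha ha' hb hb' => ?_⟩
  swap
  · rw [hzbar] at ha' hb'
    exact ((hcases a ha).resolve_left ha').symm.trans ((hcases b hb).resolve_left hb')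
  rw [← hucard, Nat.cast_inj, Nat.card_eq_fintype_card, Fintype.card_subtype]
  refine congrArg Finset.card (Finset.ext fun y => ?_)
  simp only [invol', Finset.mem_filter, Finset.mem_univ, true_and]
  refine ⟨fun h => (hcases y h.1).resolve_left (hzbar ▸ h.2), fun h => ?_⟩
  obtain ⟨c, rfl⟩ := isConj_iff.1 h
  refine ⟨by rw [← MulAut.conj_apply, MulEquiv.orderOf_eq, hu2], fun h' => ?_⟩
  have hc' : s.π (s.M.T.D (1, e)) = D.zbar := by
    calc _ = c⁻¹ * (c * s.π (s.M.T.D (1, e)) * c⁻¹) * c := by group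
      _ = c⁻¹ * D.zbar * c := by rw [h']
      _ = D.zbar := by rw [mul_assoc, ← (D.zbar_central c).eq, inv_mul_cancel_left]
  have h1 : Nat.card {y // IsConj (s.π (s.M.T.D (1, e))) y} = 1 := by
    refine Nat.card_eq_one_iff_unique.2 ⟨⟨fun a b => Subtype.ext ?_⟩, ⟨⟨_, IsConj.refl _⟩⟩⟩
    have key : ∀ y, IsConj D.zbar y → y = D.zbar := fun y hy => by
      obtain ⟨d, rfl⟩ := isConj_iff.1 hy
      rw [(D.zbar_central d).eq, mul_inv_cancel_right]
    rw [key a (hc' ▸ a.2), key b (hc' ▸ b.2)]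
  rw [h1, Nat.cast_one] at hucard
  have hbig := s.M.T.big
  rcases Int.eq_one_or_neg_one_of_mul_eq_one hucard.symm with h2 | h2 <;> omega

/-- The image of the model, as a shape of its own. -/
def Shape0.onRange {X : Type u} [Group X] {F : Type v} [Field F] [Fintype F] {H : Type w} [Group H] {K : Type x}
    [CommGroup K] {Q : ℤ} (s : Shape0 X F H K Q) : Shape0 s.π.range F H K Q where
  M := s.M
  π := s.π.rangeRestrict
  ker_central := by rw [MonoidHom.ker_rangeRestrict]; exact s.ker_central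
  ker_odd := by rw [MonoidHom.ker_rangeRestrict]; exact s.ker_odd
  ker_all := fun h hh ho => Subtype.ext (s.ker_all h hh ho)
  range_normal := by rw [MonoidHom.range_eq_top.2 s.π.rangeRestrict_surjective]; infer_instance
  f := 1
  Φ := 1
  σ := 1
  σ_odd := by rw [orderOf_one]; exact odd_one
  orderOf_f := by rw [orderOf_one, orderOf_one]
  gen := fun x => by
    obtain ⟨h, hh⟩ := s.π.rangeRestrict_surjective x
    exact ⟨h, 0, by rw [hh, pow_zero, mul_one]⟩
  disj := fun i _ => one_pow i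
  Φ_ι := fun t => by rw [smi_one]; rfl
  conj_f := fun h => by rw [one_mul, inv_one, mul_one]; rfl

variable {G : Type u} [Group G] [Fintype G] [IsSimpleGroup G] {F : Type v} [Field F] [Fintype F]
  {H : Type w} [Group H] {K : Type x} [CommGroup K] {Q : ℤ}

/-- **No field component.** -/
theorem CoreSetup.fld_free (S : Sylow 2 G) (cs : CoreSetup G F H K Q)
    (hzc : ∀ s ∈ (S : Subgroup G), s * cs.z = cs.z * s) {L : Type y} [Field L] {pp : ℕ} (MM : MatModel H L pp Q)
    {p n : ℕ} (hp : p.Prime) (hn : 0 < n) (hF : Fintype.card F = p ^ n)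
    (hQ : Q = (p : ℤ) ^ n ∨ Q = -(p : ℤ) ^ n)
    (hpar : (Cfsg.IsQuasiDihedral (S : Subgroup G) ∧ Q % 4 = 3) ∨
      (Cfsg.IsWreathed (S : Subgroup G) ∧ Q % 4 = 1))
    (hE : Cfsg.IsQuasiDihedral (S : Subgroup G) → EllBound cs.z Q) :
    ∀ a : G, a * cs.z = cs.z * a → cs.fld a = 1 := by
  intro a ha
  by_contra hne
  haveI : Fact (Nat.Prime 2) := ⟨Nat.prime_two⟩
  haveI : Fact p.Prime := ⟨hp⟩
  have hS : Cfsg.IsQuasiDihedral (S : Subgroup G) ∨ Cfsg.IsWreathed (S : Subgroup G) := hpar.imp And.left And.left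
  have hna := (simple_facts S hS).1
  have hFQ : Q = (Fintype.card F : ℤ) ∨ Q = -(Fintype.card F : ℤ) := by rw [hF]; push_cast; exact hQ
  set C := Subgroup.centralizer ({cs.z} : Set G) with hCdef
  set O := Cfsg.oddCore C with hOdef
  haveI := Fintype.ofFinite (C ⧸ O)
  haveI : Finite H := cs.s.M.finite
  haveI : Finite K := cs.s.M.T.finiteK
  haveI := Fintype.ofFinite (scal K Q)
  obtain ⟨M, hM⟩ := Char.exists_isPModular 2 Nat.prime_two
  have hz : orderOf cs.z = 2 := cs.toPreSetup.order_z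
  -- the character of the field component
  haveI : Finite (RingAut F) := Finite.of_injective (fun e => (e : F → F)) DFunLike.coe_injective
  let φ : C →* RingAut F := MonoidHom.mk' (fun c => cs.fld c) fun c d =>
    cs.fld_mul (mem_cent.1 c.2) (mem_cent.1 d.2)
  have hφ : ∀ c : C, φ c ∈ Subgroup.zpowers cs.s.σ := fun c => by
    obtain ⟨h, i, e⟩ := cs.s.gen (cs.q c)
    show cs.s.fldX (cs.q c) ∈ _
    rw [e, cs.s.fldX_form]
    exact Subgroup.pow_mem _ (Subgroup.mem_zpowers _) i
  have hamem : a ∈ C := mem_cent.2 ha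
  let φ' : C →* ↥(Subgroup.zpowers cs.s.σ) := φ.codRestrict _ hφ
  letI : CommGroup ↥(Subgroup.zpowers cs.s.σ) := IsCyclic.commGroup
  obtain ⟨ψ, hψ⟩ := CommGroup.exists_apply_ne_one_of_hasEnoughRootsOfUnity ↥(Subgroup.zpowers cs.s.σ) ℂ
    (a := φ' ⟨a, hamem⟩) fun h => hne (congrArg Subtype.val h)
  let ε : C →* ℂˣ := ψ.comp φ'
  have hεodd : ∀ c : C, Odd (orderOf (ε c)) := fun c => by
    refine cs.s.σ_odd.of_dvd_nat ((orderOf_map_dvd ψ (φ' c)).trans ?_)
    exact (orderOf_dvd_natCard _).trans (Nat.card_zpowers cs.s.σ).dvd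
  have hcls : ∀ i : G, orderOf i = 2 → IsConj i cs.z := fun i hi => one_class S hS i cs.z hi hz
  have hεfus : ∀ c d : C, IsConj (c : G) d → ε c = ε d := fun c d hcd => by
    obtain ⟨y, hy⟩ := isConj_iff.1 hcd
    show ψ (φ' c) = ψ (φ' d)
    refine congrArg ψ (Subtype.ext ?_)
    show cs.fld c = cs.fld d
    rw [← hy]
    exact (cs.fld_fusion hcls (mem_cent.1 c.2) (by rw [hy]; exact mem_cent.1 d.2)).symm
  have hoddO : ¬ 2 ∣ Nat.card O := fun h =>
    absurd (Nat.eq_one_of_dvd_coprimes (Grp.pPrimeCore_coprime (p := 2) (G := C)) h dvd_rfl) (by norm_num)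
  let T : TData G (C ⧸ O) :=
    { z := cs.z, ord := hz, π := QuotientGroup.mk' _, surj := QuotientGroup.mk'_surjective _,
      odd := by rw [QuotientGroup.ker_mk']; exact hoddO, eps := ε, fus := hεfus, eps_odd := hεodd,
      cls := fun i hi => (hcls i hi).symm }
  set D := T.toPData with hD
  -- an element centralising the Sylow subgroup
  have hle : (S : Subgroup G) ≤ C := fun s hs => mem_cent.2 (hzc s hs)
  let P : Sylow 2 C := S.subtype hle
  have hA : IsPGroup 2 (MulAut (P : Subgroup C)) := by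
    have hS' : IsPGroup 2 (MulAut (S : Subgroup G)) := by
      rcases hS with h | h
      · exact S3116.result S.isPGroup' (Or.inr h)
      · obtain ⟨_, _, _, _, h'⟩ := Invol.exists_wr h
        exact h'.isPGroup_mulAut
    exact hS'.of_equiv (MulAut.congr (Subgroup.subgroupOfEquivOfLe hle).symm)
  have hker : ¬ 2 ∣ ε.ker.index := fun h => by
    rw [Subgroup.index_ker] at h
    obtain ⟨r, hr⟩ := exists_prime_orderOf_dvd_card' 2 h
    obtain ⟨c, hc⟩ := r.2
    rw [← Subgroup.orderOf_coe, ← hc] at hr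
    exact Nat.not_even_iff_odd.2 (hεodd c) (by rw [hr]; exact even_two)
  obtain ⟨-, -, P', hP'⟩ := nhyp_of_aut ε.ker hker P hA
  obtain ⟨x, hx, hxne⟩ : ∃ x ∈ Subgroup.centralizer ((P' : Subgroup C) : Set C), ε x ≠ 1 := by
    by_contra hcon
    push Not at hcon
    have htop : (⊤ : Subgroup C) ≤ ε.ker := hP'.sup.ge.trans (sup_le le_rfl fun x hx => hcon x hx)
    exact hψ (MonoidHom.mem_ker.1 (htop (Subgroup.mem_top (⟨a, hamem⟩ : C))))
  have hxidx : ¬ 2 ∣ (Subgroup.centralizer ({x} : Set C)).index := fun h => P'.not_dvd_index (h.trans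
    (Subgroup.index_dvd_of_le fun s hs => Subgroup.mem_centralizer_singleton_iff.2
      (Subgroup.mem_centralizer_iff.1 hx s hs)))
  -- the frame
  set N := cs.s.π.range with hNdef
  haveI := cs.s.range_normal
  let S1 := cs.s.onRange
  have hko : Odd (Nat.card S1.π.ker) := S1.ker_odd
  have hcardH := cardH_eq cs.s.M hFQ
  let Y : NSys N H K Q :=
    { T := cs.s.M.T, π := S1.π, surj := cs.s.π.rangeRestrict_surjective, ker_central := S1.ker_central,
      ker_odd := hko, ker_all := S1.ker_all, cardH := hcardH,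
      comm := fun g hg x x' hx hx' => by
        obtain ⟨g, rfl⟩ := cs.s.π.rangeRestrict_surjective g
        obtain ⟨b, rfl⟩ := cs.s.π.rangeRestrict_surjective x
        obtain ⟨b', rfl⟩ := cs.s.π.rangeRestrict_surjective x'
        exact (MM.cent_comm
          (fun h => hg ((MM.center_iff _ cs.s.π.rangeRestrict_surjective S1.ker_central hko).2 h))
          (MM.lift_comm _ S1.ker_central hko hx) (MM.lift_comm _ S1.ker_central hko hx')).map _ }
  have hN : NHyp N := nhyp_of_shape S cs.z hzc hS cs.s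
  have hDcls : ∀ i : G, orderOf i = 2 → IsConj D.z i := T.cls
  obtain ⟨Sp₀⟩ := Y.exists_split
  obtain ⟨Y', Sp, L', -, -, gs, gt, hgs, hgt⟩ := exists_straight hN D hDcls Sp₀
  let Fr : Frm D Sp := ⟨hN, L', gs, gt, hgs, hgt⟩
  obtain ⟨hinv, hK1⟩ := cs.s.card_invol' D
  -- the core is centralised, so one lift over each involution
  obtain ⟨a0, -, ha0c, ha0i⟩ := D.exists_a0 hK1
  let w : C := ⟨cs.w, mem_cent.2 cs.wz⟩
  have hw2 : orderOf w = 2 := by
    refine orderOf_eq_prime (Subtype.ext (by show cs.w ^ 2 = 1; rw [sq, cs.w2])) fun h => ?_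
    have h1 : cs.w = 1 := congrArg Subtype.val h
    have h2 := cs.gz
    rw [h1, mul_inv_eq_iff_eq_mul, one_mul, mul_eq_left] at h2
    exact cs.z_ne h2
  have hwne : (w : G) ≠ cs.z := fun h => cs.z_ne (by
    have h2 := cs.gw
    rw [show cs.w = cs.z from h, show cs.g * cs.z * cs.g⁻¹ = cs.w from cs.gz, show cs.w = cs.z from h, cs.z2] at h2
    exact h2)
  have hlift : ((Subgroup.centralizer ({w} : Set C)).subgroupOf O).index = 1 := by
    rw [Subgroup.index_eq_one, Subgroup.subgroupOf_eq_top]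
    refine fun o ho => Subgroup.mem_centralizer_singleton_iff.2 (Subtype.ext ?_)
    exact (cs.w_O (o : G) (Subgroup.mem_map_of_mem _ ho)).symm
  have ha01 : a0 = 1 := by
    have h := ha0i w hw2 fun h => hwne (congrArg Subtype.val (D.eq_z hw2 h))
    rw [show D.π.ker = O from QuotientGroup.ker_mk' _] at h
    exact h.symm.trans hlift
  subst ha01
  have hC0 : (Nat.card C : ℚ) ≠ 0 := Nat.cast_ne_zero.2 Nat.card_pos.ne'
  have hGC : (Nat.card G : ℚ) = (C.index : ℚ) * Nat.card C := by exact_mod_cast C.index_mul_card.symm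
  have hi : ((invol' D.zbar).card : ℚ) = (Q : ℚ) * ((Q : ℚ) + 1) := by exact_mod_cast hinv
  have hidx0 : (C.index : ℚ) ≠ 0 := Nat.cast_ne_zero.2 Subgroup.index_ne_zero_of_finite
  set R := (Nat.card C : ℚ) / (Nat.card G : ℚ) * (((1 : ℕ) : ℚ) * (invol' D.zbar).card) ^ 2 with hRdef
  have hR : R * (C.index : ℚ) = ((Q : ℚ) * ((Q : ℚ) + 1)) ^ 2 := by
    rw [hRdef, hi, hGC]; field_simp; simp
  rcases hpar with ⟨hqd, h4⟩ | ⟨hwr, h4⟩
  · -- semidihedral
    obtain ⟨a0', -, ⟨-, ha0'⟩, hcases⟩ := semidihedral_witness hna S cs.z hz hzc hqd cs.s MM hp hn hQ hFQ h4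
      (hE hqd) hM
    obtain rfl : a0' = 1 := (ha0' w hw2 hwne).symm.trans hlift
    have h27 : 27 ≤ |Q| := by
      have hσn : orderOf cs.s.σ ∣ n := (Cfsg.Agent.Classical.PSLAut.card_ringAut (F := F) hF).2 ▸ orderOf_dvd_natCard _
      have hσ1 : orderOf cs.s.σ ≠ 1 := fun h => hne (by
        have := cs.s.fldX_pow (cs.q a)
        rwa [h, pow_one] at this)
      have hn3 : 3 ≤ n := by
        obtain ⟨k, hk⟩ := cs.s.σ_odd
        have := Nat.le_of_dvd hn hσn
        omega
      have h3 : 3 ≤ p := by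
        rcases hp.eq_two_or_odd with rfl | h
        · rcases hQ with e | e <;> obtain ⟨j, rfl⟩ := Nat.exists_eq_add_of_le (show 1 ≤ n by omega) <;>
            rw [pow_add] at e <;> omega
        · have := hp.two_le; omega
      have h := Nat.pow_le_pow_left h3 n
      have h' := Nat.pow_le_pow_right (show 1 ≤ 3 by norm_num) hn3
      have : |Q| = ((p ^ n : ℕ) : ℤ) := by rcases hQ with e | e <;> simp [e, abs_pow]
      omega
    refine T.sd_twist_false (S := Sp) Fr h4 hM hna ha0c hxidx hxne hp hn hQ ?_ ⟨S1.refSt, fun f hf => ?_⟩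
    · rcases hcases with ⟨-, e⟩ | ⟨-, -, e⟩ | ⟨e5, -⟩ | ⟨e9, -⟩
      · left
        have e' : (C.index : ℚ) = (Q : ℚ) ^ 2 * ((Q : ℚ) ^ 2 + Q + 1) := by
          have := congrArg (Int.cast : ℤ → ℚ) e
          push_cast at this
          simpa using this
        have hQ0 : (Q : ℚ) ≠ 0 := Int.cast_ne_zero.2 (by rintro rfl; simp at h27)
        rw [e'] at hR
        refine mul_left_cancel₀ (pow_ne_zero 2 hQ0) ?_
        linear_combination hR
      · refine Or.inr ⟨h27, ?_⟩
        have e' : (C.index : ℚ) = ((Q : ℚ) ^ 2 + Q - 1) * ((Q : ℚ) ^ 2 + 2 * Q) := by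
          have := congrArg (Int.cast : ℤ → ℚ) e
          push_cast at this
          simpa using this
        have hQ0 : (Q : ℚ) ≠ 0 := Int.cast_ne_zero.2 (by rintro rfl; simp at h27)
        rw [e'] at hR
        refine mul_left_cancel₀ hQ0 ?_
        linear_combination hR
      · rw [e5] at h27; norm_num at h27
      · rw [e9] at h27; norm_num at h27
    · haveI : DecidableEq F := Classical.decEq F
      refine S1.col_shape hM ?_ (hF ▸ ?_) hf
      · rw [show S1.π.range = ⊤ from MonoidHom.range_eq_top.2 cs.s.π.rangeRestrict_surjective]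
        obtain ⟨P⟩ := (Sylow.nonempty (p := 2) (G := N))
        exact ⟨inferInstance, by rw [Subgroup.index_top]; norm_num, P,
          by rw [Subgroup.index_top]; norm_num, le_top, P.not_dvd_index, by rw [top_sup_eq]⟩
      · exact hF ▸ cs.toPreSetup.odd_card
  · -- wreathed
    obtain ⟨a0', -, -, ⟨-, ha0'⟩, hcases⟩ := vecs_of_shape hna S cs.z hz hzc hS cs.s MM hFQ (Or.inr ⟨hwr, h4⟩) hM
    obtain rfl : a0' = 1 := (ha0' w hw2 hwne).symm.trans hlift
    rcases hcases with ⟨-, h3, -⟩ | ⟨-, -, V, π, hV, hπ, hπd, hπv, -⟩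
    · omega
    obtain ⟨E, hxb, hX⟩ := wrF_eqs Q V π hπ hπd hπv
    have hb := cs.s.M.T.big
    have hsol := (E.solve V.R_ne (by omega) (by omega) (by omega) hxb hX).R_eq
    refine T.wr_twist_false (S := Sp) Fr h4 hM hna ha0c hxidx hxne ?_
    have hRV : R = V.R := by
      refine mul_right_cancel₀ hidx0 (hR.trans ?_)
      refine mul_right_cancel₀ hC0 ?_
      have h := hV.R_eq
      rw [hGC] at h
      linear_combination -h
    show R * _ = _
    rw [hRV]
    linear_combination hsol

end Cfsg.Agent.Invol.AbgOrder
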