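import Cfsg.Agent.Lib.Invol.AbgOrder.FinalFrame
import Cfsg.Agent.Lib.Invol.SD16Core.Main

/-!
# The linear case of a field of three elements

The centraliser modulo its odd core is `GL(2, 3)`; the core is then trivial.
-/

set_option autoImplicit false
set_option linter.style.haveILetI false

namespace Cfsg.Agent.Invol.AbgOrder

open Subgroup

universe u

variable {G : Type u} [Group G] [Finite G]

attribute [local instance] oddCore_normal

/-- A field of prime order has no field automorphism but the identity. -/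
theorem sigma_eq_one {F : Type} [Field F] [Fintype F] {p : ℕ} (hp : p.Prime) (hF : Fintype.card F = p)
    (σ : RingAut F) : σ = 1 := by
  haveI := Fact.mk hp
  obtain ⟨-, hc⟩ := Classical.PSLAut.card_ringAut (F := F) (p := p) (f := 1) (by rw [hF, pow_one])
  haveI := (Nat.card_eq_one_iff_unique.1 hc).1
  exact Subsingleton.elim _ _

/-- Central elements of `GL(2, 3)` are involutions or trivial. -/
theorem center_sq_three {F : Type} [Field F] [Fintype F] (hF : Fintype.card F = 3) {h : GL (Fin 2) F}
    (hh : h ∈ Subgroup.center (GL (Fin 2) F)) : h ^ 2 = 1 := by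
  rw [Matrix.GeneralLinearGroup.center_eq_range_scalar] at hh
  obtain ⟨u, rfl⟩ := hh
  have hu : u ^ 2 = 1 := by
    classical
    have h1 : u ^ Fintype.card Fˣ = 1 := pow_card_eq_one
    rwa [Fintype.card_units, hF] at h1
  rw [← map_pow, hu, map_one]

/-- The linear step for a field of three elements. -/
theorem linear_three [IsSimpleGroup G] (hG : ¬ IsMulCommutative G) {z : G} (hz : orderOf z = 2)
    {F : Type} [Field F] [Fintype F] (hF : Fintype.card F = 3) {K : Type} [CommGroup K] {Q : ℤ}
    (s : Shape0 (CQ z) F (GL (Fin 2) F) K Q) : GLCent z F := by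
  haveI : Fact (Nat.Prime 3) := ⟨Nat.prime_three⟩
  have hf : s.f = 1 := orderOf_eq_one_iff.1 (by
    rw [s.orderOf_f, sigma_eq_one Nat.prime_three hF s.σ, orderOf_one])
  have hsurj : Function.Surjective s.π := fun x => by
    obtain ⟨h, i, rfl⟩ := s.gen x
    exact ⟨h, by rw [hf, one_pow, mul_one]⟩
  have hinj : Function.Injective s.π := by
    rw [← MonoidHom.ker_eq_bot_iff, Subgroup.eq_bot_iff_forall]
    intro h hh
    exact orderOf_eq_one_iff.1 (Nat.eq_one_of_dvd_coprimes (Nat.coprime_two_left.2 s.ker_odd)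
      (orderOf_dvd_of_pow_eq_one (center_sq_three hF (s.ker_central hh))) (s.π.ker.orderOf_dvd_natCard hh))
  let eX : CQ z ≃* GL (Fin 2) F := (MulEquiv.ofBijective s.π ⟨hinj, hsurj⟩).symm
  let r : F ≃+* ZMod 3 := (ZMod.ringEquivOfPrime F Nat.prime_three hF).symm
  let eQ : GL (Fin 2) F ≃* GL23.Q := Units.mapEquiv r.mapMatrix.toMulEquiv
  let π₀ : ↥(centralizer ({z} : Set G)) →* GL23.Q :=
    (eX.trans eQ).toMonoidHom.comp (QuotientGroup.mk' (Cfsg.oddCore ↥(centralizer ({z} : Set G))))
  have hπ₀ : π₀.ker = Cfsg.oddCore ↥(centralizer ({z} : Set G)) := by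
    ext x
    show eX.trans eQ (QuotientGroup.mk x) = 1 ↔ _
    rw [MulEquiv.map_eq_one_iff, QuotientGroup.eq_one_iff]
  have hodd : ¬ 2 ∣ Nat.card π₀.ker := by
    rw [hπ₀]
    exact fun h => Nat.not_even_iff_odd.2 (Nat.coprime_two_right.1 (Grp.pPrimeCore_coprime (p := 2)))
      (even_iff_two_dvd.2 h)
  obtain ⟨e⟩ := SD16Core.ker_eq_bot hG hz π₀
    ((eX.trans eQ).surjective.comp (QuotientGroup.mk'_surjective _)) hodd
  exact ⟨⊥, inferInstance, bot_le, by rw [Subgroup.card_bot]; exact odd_one,
    ⟨e.trans (eQ.symm.trans QuotientGroup.quotientBot.symm)⟩⟩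

end Cfsg.Agent.Invol.AbgOrder
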