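import Cfsg.Agent.Lib.Invol.AbgOrder.FinalPre
import Cfsg.Agent.Lib.Invol.AbgOrder.FinalCard
import Cfsg.Agent.Lib.Invol.AbgOrder.FinalCore
import Cfsg.Agent.Lib.Invol.AbgOrder.FinalThree
import Cfsg.Agent.Lib.Invol.AbgOrder.ColMain

/-!
# The unitary case of a field of three elements

A character of degree `6` and value `-2` at the involutions: the four-group has no fixed point on it, so the
character is trivial on the odd core, which is then trivial.
-/

set_option autoImplicit false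
set_option linter.style.haveILetI false
set_option linter.unusedSectionVars false

open scoped Classical

namespace Cfsg.Agent.Invol.AbgOrder

open Cfsg Cfsg.Agent.Char Cfsg.Agent.Block
open Cfsg.Agent.Invol.BrauerL3 (scal)

universe u v w x

attribute [local instance] oddCore_normal

/-- A four-group without fixed points annihilates every translate. -/
theorem four_sum {G : Type u} [Group G] {χ : G → ℂ} (hχ : IsCharacter G χ) {z w : G} (hz : z * z = 1)
    (hw : w * w = 1) (hzw : w * z = z * w) (h0 : χ 1 + χ z + χ w + χ (z * w) = 0) (h : G) :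
    χ h + χ (h * z) + χ (h * w) + χ (h * (z * w)) = 0 := by
  obtain ⟨n, ρ, rfl⟩ := hχ
  set E := (1 + ρ z) * (1 + ρ w) with hE
  have e : E = 1 + ρ z + ρ w + ρ (z * w) := by
    rw [hE, map_mul, mul_add, add_mul, add_mul, one_mul, one_mul, mul_one]
    abel
  have hsq : ∀ a : G, a * a = 1 → (1 + ρ a) * (1 + ρ a) = (2 : ℂ) • (1 + ρ a) := fun a ha => by
    rw [add_mul, mul_add, mul_add, one_mul, one_mul, mul_one, ← map_mul, ha, map_one, two_smul]
    abel
  have hc : (1 + ρ w) * (1 + ρ z) = (1 + ρ z) * (1 + ρ w) := by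
    rw [add_mul, mul_add, mul_add, add_mul, mul_add, mul_add, one_mul, one_mul, mul_one, mul_one, one_mul,
      ← map_mul, ← map_mul, hzw]
    abel
  have hidem : IsIdempotentElem ((1 / 4 : ℂ) • E) := by
    show ((1 / 4 : ℂ) • E) * ((1 / 4 : ℂ) • E) = (1 / 4 : ℂ) • E
    rw [smul_mul_assoc, mul_smul_comm, smul_smul, hE,
      show (1 + ρ z) * (1 + ρ w) * ((1 + ρ z) * (1 + ρ w)) =
        (1 + ρ z) * ((1 + ρ w) * (1 + ρ z)) * (1 + ρ w) by simp only [mul_assoc],
      hc, show (1 + ρ z) * ((1 + ρ z) * (1 + ρ w)) * (1 + ρ w) =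
        (1 + ρ z) * (1 + ρ z) * ((1 + ρ w) * (1 + ρ w)) by simp only [mul_assoc],
      hsq z hz, hsq w hw, smul_mul_assoc, mul_smul_comm, smul_smul, smul_smul]
    norm_num
  have htr : LinearMap.trace ℂ (Fin n → ℂ) ((1 / 4 : ℂ) • E) = 0 := by
    rw [map_smul, e, map_add, map_add, map_add, ← map_one ρ]
    exact smul_eq_zero_of_right _ h0
  have hz0 : E = 0 := by
    have h1 := LinearMap.IsIdempotentElem.eq_zero_of_trace_eq_zero hidem htr
    exact (smul_eq_zero.1 h1).resolve_left (by norm_num)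
  have h1 : LinearMap.trace ℂ (Fin n → ℂ) (ρ h * E) = 0 := by rw [hz0, mul_zero, map_zero]
  rw [e, mul_add, mul_add, mul_add, mul_one, ← map_mul, ← map_mul, ← map_mul, map_add, map_add, map_add] at h1
  exact h1

variable {G : Type u} [Group G] [Fintype G] [IsSimpleGroup G] {F : Type v} [Field F] [Fintype F] {H : Type w}
  [Group H] {K : Type x} [CommGroup K] {Q : ℤ} {z : G} {M : Ideal AlgInt}

/-- The value at the elements over the non-central involutions of the quotient. -/
theorem noncentral_value (hz : orderOf z = 2) (hcls : ∀ a b : G, orderOf a = 2 → orderOf b = 2 → IsConj a b)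
    (s : Shape0 (CQ z) F H K Q) (hQ : Q.natAbs = Fintype.card F) (h2 : ∃ j, (Q - 1).natAbs = 2 ^ j)
    (hσ : orderOf s.σ = 1) (hM : IsPModular 2 M) {χ : IrrCharacter G} (hχ : χ ∈ principalBlock M G)
    (g : ↥(Subgroup.centralizer ({z} : Set G))) (hg : orderOf (QuotientGroup.mk g : CQ z) = 2)
    (hne : (QuotientGroup.mk g : CQ z) ≠ (coreData z hz).zbar) : (χ : G → ℂ) (g : G) = (χ : G → ℂ) z := by
  haveI := Fintype.ofFinite (CQ z)
  set D := coreData z hz with hD
  let π : ↥(Subgroup.centralizer ({z} : Set G)) →* CQ z :=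
    QuotientGroup.mk' (Cfsg.oddCore ↥(Subgroup.centralizer ({z} : Set G)))
  obtain ⟨k⟩ := Frame.nonempty s hQ
  obtain ⟨f, -, hf⟩ : ∃ f : CQ z → ℂ, InB0 M f ∧ ∀ v : ↥(Subgroup.centralizer ({z} : Set G)),
      ¬ 2 ∣ orderOf v → (χ : G → ℂ) (z * (v : G)) = f (π v) := D.exists_section_fun hM hχ
  change orderOf (π g) = 2 at hg
  change π g ≠ D.zbar at hne
  have hg2 : g ^ 2 ∈ π.ker := by
    rw [MonoidHom.mem_ker]
    exact (π.map_pow g 2).trans (by rw [← hg, pow_orderOf_eq_one])
  obtain ⟨r, hr⟩ : Odd (orderOf (g ^ 2)) := by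
    refine Odd.of_dvd_nat (Nat.odd_iff.2 (Nat.two_dvd_ne_zero.1 (show ¬ 2 ∣ Nat.card π.ker from D.odd))) ?_
    exact π.ker.orderOf_dvd_natCard hg2
  set t := g ^ (2 * r + 1) with htdef
  set y := g ^ (2 * r + 2) with hydef
  have hty : t * y = g := by
    rw [htdef, hydef, ← pow_add, show 2 * r + 1 + (2 * r + 2) = 2 * (2 * r + 1) + 1 by ring, pow_succ, pow_mul,
      ← hr, pow_orderOf_eq_one, one_mul]
  have hyt : t * y = y * t := ((Commute.refl g).pow_pow _ _).eq
  have hyker : y ∈ π.ker := by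
    rw [hydef, show 2 * r + 2 = 2 * (r + 1) by ring, pow_mul]
    exact pow_mem hg2 _
  have hyodd : Odd (orderOf y) :=
    (Nat.odd_iff.2 (Nat.two_dvd_ne_zero.1 (show ¬ 2 ∣ Nat.card π.ker from D.odd))).of_dvd_nat (π.ker.orderOf_dvd_natCard hyker)
  have htπ : π t = π g := by
    rw [← hty]
    exact ((π.map_mul t y).trans (by rw [MonoidHom.mem_ker.1 hyker, mul_one])).symm
  have ht2 : orderOf t = 2 := by
    refine orderOf_eq_prime ?_ fun h => ?_
    · rw [htdef, ← pow_mul, mul_comm, pow_mul, ← hr, pow_orderOf_eq_one]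
    · have : π t = 1 := by rw [h]; exact π.map_one
      rw [← htπ, this, orderOf_one] at hg
      omega
  have htz : (t : G) ≠ z := fun h => hne (htπ.symm.trans (congrArg π (Subtype.ext h)))
  have htG : orderOf (t : G) = 2 := (Subgroup.orderOf_coe t).trans ht2
  obtain ⟨a, ha⟩ := isConj_iff.1 (hcls _ _ htG hz)
  have htc : Commute (t : G) z := mem_cent.1 t.2
  have hyc : Commute (y : G) z := mem_cent.1 y.2
  have hyt' : Commute (t : G) (y : G) := congrArg Subtype.val hyt
  have h1 : Commute (a * (y : G) * a⁻¹) z := by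
    have h := hyt'.symm.map (MulAut.conj a).toMonoidHom
    simp only [MulEquiv.coe_toMonoidHom, MulAut.conj_apply, ha] at h
    exact h
  have h2' : Commute (a * z * a⁻¹) z := by
    have h := htc.symm.map (MulAut.conj a).toMonoidHom
    simp only [MulEquiv.coe_toMonoidHom, MulAut.conj_apply, ha] at h
    exact h
  set y' : ↥(Subgroup.centralizer ({z} : Set G)) := ⟨a * (y : G) * a⁻¹, mem_cent.2 h1⟩
  set z' : ↥(Subgroup.centralizer ({z} : Set G)) := ⟨a * z * a⁻¹, mem_cent.2 h2'⟩
  have hz'2 : orderOf z' = 2 := by rw [Subgroup.orderOf_mk, ← MulAut.conj_apply, MulEquiv.orderOf_eq, hz]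
  have hz'z : (z' : G) ≠ z := fun h => htz ((MulAut.conj a).injective
    (show MulAut.conj a (t : G) = MulAut.conj a z by rw [MulAut.conj_apply, MulAut.conj_apply, ha]; exact h.symm))
  have hy'o : Odd (orderOf y') := by
    rw [Subgroup.orderOf_mk, ← MulAut.conj_apply, MulEquiv.orderOf_eq, Subgroup.orderOf_coe]
    exact hyodd
  have hcomm : Commute (π y') (π z') := (show Commute y' z' from Subtype.ext
    (hyc.map (MulAut.conj a).toMonoidHom)).map π
  obtain ⟨e, hne', hee, -, he2, hec, -, -, hcases⟩ := s.exists_invols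
  have hek : e = k.e := Subtype.ext ((k.e_uniq e (by rw [← Subgroup.coe_mul, hee]; rfl)).resolve_left
    fun h => hne' (Subtype.ext h))
  have hzbar : D.zbar = s.π (s.M.T.D (e, e)) :=
    s.central_unique D.zbar_order he2 (Subgroup.mem_center_iff.2 fun x => (D.zbar_central x).eq) hec
  obtain ⟨c, hc⟩ := isConj_iff.1 ((hcases _ (D.pi_order_two hz'2)).resolve_left fun h =>
    hz'z (congrArg Subtype.val (D.eq_z hz'2 (h.trans hzbar.symm)))).symm
  rw [hek] at hc
  have hy'1 : π y' = 1 := by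
    refine (MulAut.conj c).injective ?_
    rw [map_one]
    refine k.eq_one_of_odd h2 ?_ ?_ ?_
    · have h := hcomm.map (MulAut.conj c).toMonoidHom
      simp only [MulEquiv.coe_toMonoidHom, MulAut.conj_apply, show c * π z' * c⁻¹ = k.u from hc] at h
      exact h
    · have h := s.fldX_pow (MulAut.conj c (π y'))
      rwa [hσ, pow_one] at h
    · rw [MulEquiv.orderOf_eq]
      exact hy'o.of_dvd_nat (orderOf_map_dvd π y')
  have hcf := IsIrr.classFun χ.2 (g : G) a
  have e1 : a * (g : G) * a⁻¹ = z * (y' : G) := by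
    rw [← hty, Subgroup.coe_mul]
    show _ = z * (a * (y : G) * a⁻¹)
    calc _ = a * (t : G) * a⁻¹ * (a * (y : G) * a⁻¹) := by group
      _ = _ := by rw [ha]
  rw [e1] at hcf
  have h11 : (χ : G → ℂ) z = f 1 := by
    have h := hf 1 (by rw [orderOf_one]; norm_num)
    rw [OneMemClass.coe_one, mul_one] at h
    exact h.trans (congrArg f π.map_one)
  rw [← hcf, h11, ← hy'1]
  exact hf y' fun h => Nat.not_even_iff_odd.2 hy'o (even_iff_two_dvd.2 h)

/-- The odd core is trivial. -/
theorem core_trivial (hz : orderOf z = 2) (hcls : ∀ a b : G, orderOf a = 2 → orderOf b = 2 → IsConj a b)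
    (s : Shape0 (CQ z) F H K Q) (hQ : Q.natAbs = Fintype.card F) (h2 : ∃ j, (Q - 1).natAbs = 2 ^ j)
    (hσ : orderOf s.σ = 1) (hM : IsPModular 2 M) {χ : IrrCharacter G} (hχ : χ ∈ principalBlock M G)
    (hdeg : (χ : G → ℂ) 1 = 6) (hval : (χ : G → ℂ) z = -2) :
    Cfsg.oddCore ↥(Subgroup.centralizer ({z} : Set G)) = ⊥ := by
  haveI := Fintype.ofFinite (CQ z)
  set D := coreData z hz with hD
  let π : ↥(Subgroup.centralizer ({z} : Set G)) →* CQ z :=
    QuotientGroup.mk' (Cfsg.oddCore ↥(Subgroup.centralizer ({z} : Set G)))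
  obtain ⟨k⟩ := Frame.nonempty s hQ
  obtain ⟨e, hne', hee, -, he2, hec, hu2, hucard, -⟩ := s.exists_invols
  have hzbar : D.zbar = s.π (s.M.T.D (e, e)) :=
    s.central_unique D.zbar_order he2 (Subgroup.mem_center_iff.2 fun x => (D.zbar_central x).eq) hec
  obtain ⟨w₀, hw₀⟩ : ∃ w : ↥(Subgroup.centralizer ({z} : Set G)), π w = s.π (s.M.T.D (1, e)) := D.surj (s.π (s.M.T.D (1, e)))
  have hne : π w₀ ≠ D.zbar := by
    rw [hw₀, hzbar]
    intro h
    have h1 : s.π (s.M.T.D (e, 1)) = 1 := by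
      refine (mul_eq_right (b := s.π (s.M.T.D (1, e)))).1 ?_
      rw [← map_mul, ← map_mul, Prod.mk_mul_mk, mul_one, one_mul]
      exact h.symm
    haveI := s.M.finite
    haveI := Fintype.ofFinite H
    obtain ⟨d, hd, -⟩ := s.M.T.ker_eq s.π s.ker_central s.ker_odd (MonoidHom.mem_ker.2 h1)
    have h2 := s.M.T.D_inj hd
    exact hne' ((congrArg Prod.fst h2).trans (congrArg Prod.snd h2).symm)
  have hord : orderOf (π w₀) = 2 := by rw [hw₀]; exact hu2
  have hval' : ∀ g : ↥(Subgroup.centralizer ({z} : Set G)), orderOf (π g) = 2 → π g ≠ D.zbar →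
      (χ : G → ℂ) (g : G) = -2 := fun g h1 h2' => (noncentral_value hz hcls s hQ h2 hσ hM hχ g h1 h2').trans hval
  have hzz : z * z = 1 := by rw [← sq, ← hz, pow_orderOf_eq_one]
  obtain ⟨f, -, hf⟩ : ∃ f : CQ z → ℂ, InB0 M f ∧ ∀ v : ↥(Subgroup.centralizer ({z} : Set G)),
      ¬ 2 ∣ orderOf v → (χ : G → ℂ) (z * (v : G)) = f (π v) := D.exists_section_fun hM hχ
  -- the involution over the image
  have hw2 : w₀ ^ 2 ∈ π.ker := by
    rw [MonoidHom.mem_ker]
    exact (π.map_pow w₀ 2).trans (by rw [← hord, pow_orderOf_eq_one])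
  obtain ⟨r, hr⟩ : Odd (orderOf (w₀ ^ 2)) :=
    (Nat.odd_iff.2 (Nat.two_dvd_ne_zero.1 (show ¬ 2 ∣ Nat.card π.ker from D.odd))).of_dvd_nat (π.ker.orderOf_dvd_natCard hw2)
  set w := w₀ ^ (2 * r + 1) with hwdef
  have hwπ : π w = π w₀ := by
    refine (π.map_pow w₀ _).trans ?_
    rw [pow_succ, pow_mul, ← hord, pow_orderOf_eq_one, one_pow, one_mul]
  have hww : w * w = 1 := by rw [hwdef, ← pow_add, ← two_mul, pow_mul, ← hr, pow_orderOf_eq_one]
  set zC : ↥(Subgroup.centralizer ({z} : Set G)) := ⟨z, mem_cent.2 rfl⟩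
  have hzπ : π zC = D.zbar := rfl
  have hzb2 : D.zbar * D.zbar = 1 := by rw [← sq, ← D.zbar_order, pow_orderOf_eq_one]
  -- the values on the three cosets
  have key : ∀ o : ↥(Subgroup.centralizer ({z} : Set G)), o ∈ π.ker →
      (χ : G → ℂ) ((o : G) * z) = -2 ∧ (χ : G → ℂ) ((o : G) * (w : G)) = -2 ∧
        (χ : G → ℂ) ((o : G) * (z * (w : G))) = -2 := by
    intro o ho
    refine ⟨?_, ?_, ?_⟩
    · have hoo : Odd (orderOf o) :=
        (Nat.odd_iff.2 (Nat.two_dvd_ne_zero.1 (show ¬ 2 ∣ Nat.card π.ker from D.odd))).of_dvd_nat (π.ker.orderOf_dvd_natCard ho)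
      rw [show (o : G) * z = z * (o : G) from mem_cent.1 o.2,
        hf o fun h => Nat.not_even_iff_odd.2 hoo (even_iff_two_dvd.2 h), MonoidHom.mem_ker.1 ho, ← hval]
      have h := hf 1 (by rw [orderOf_one]; norm_num)
      rw [OneMemClass.coe_one, mul_one] at h
      exact ((congrArg f π.map_one.symm).trans h.symm)
    · refine hval' (o * w) ?_ ?_ <;>
        rw [show π (o * w) = π w₀ by
          refine (π.map_mul o w).trans ?_
          rw [MonoidHom.mem_ker.1 ho, one_mul, hwπ]]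
      · exact hord
      · exact hne
    · have hπ : π (o * (zC * w)) = D.zbar * π w₀ := by
        refine (π.map_mul o _).trans ?_
        rw [MonoidHom.mem_ker.1 ho, one_mul, ← hwπ]
        exact π.map_mul zC w
      refine hval' (o * (zC * w)) ?_ ?_ <;> rw [hπ]
      · refine orderOf_eq_prime ?_ fun h => ?_
        · rw [(D.zbar_central (π w₀)).symm.mul_pow, sq, hzb2, one_mul, ← hord, pow_orderOf_eq_one]
        · exact hne (mul_left_cancel (h.trans hzb2.symm))
      · intro h
        have h0 : π w₀ = 1 := mul_left_cancel (h.trans (mul_one _).symm)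
        rw [h0, orderOf_one] at hord
        omega
  rw [Subgroup.eq_bot_iff_forall]
  intro o ho
  have ho' : o ∈ π.ker := (SetLike.ext_iff.1 (QuotientGroup.ker_mk' _) o).2 ho
  have h1' := key 1 (one_mem _)
  rw [OneMemClass.coe_one, one_mul, one_mul, one_mul] at h1'
  obtain ⟨a1, a2, a3⟩ := h1'
  obtain ⟨b1, b2, b3⟩ := key o ho'
  have hs := four_sum (irr_isChar χ) hzz (congrArg Subtype.val hww) (mem_cent.1 w.2)
    (by rw [hdeg, a1, a2, a3]; norm_num) (o : G)
  rw [b1, b2, b3] at hs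
  refine Subtype.ext (faithful_of_ne (irr_isChar χ) (g := z) (by rw [hdeg, hval]; norm_num) ?_)
  rw [hdeg]
  linear_combination hs

/-- The unitary step for a field of three elements. -/
theorem unitary_three (hcls : ∀ a b : G, orderOf a = 2 → orderOf b = 2 → IsConj a b) (hz : orderOf z = 2)
    {F L : Type} [Field F] [Fintype F] [Field L] [Fintype L] (hF : Fintype.card F = 3) {K : Type x} [CommGroup K]
    (s : Shape0 (CQ z) F (Cfsg.GU 2 L (Fintype.card F)) K (-(Fintype.card F : ℤ))) (hM : IsPModular 2 M)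
    {χ : IrrCharacter G} (hχ : χ ∈ principalBlock M G) (hdeg : (χ : G → ℂ) 1 = 6) (hval : (χ : G → ℂ) z = -2) :
    GUCent z L (Fintype.card F) := by
  have hσ1 : s.σ = 1 := sigma_eq_one Nat.prime_three hF s.σ
  have hσ : orderOf s.σ = 1 := by rw [hσ1, orderOf_one]
  have hN : (-(Fintype.card F : ℤ) - 1).natAbs = 2 ^ 2 := by rw [hF]; rfl
  have hO := core_trivial hz hcls s (by simp) ⟨2, hN⟩ hσ hM hχ hdeg hval
  have hf : s.f = 1 := orderOf_eq_one_iff.1 (s.orderOf_f.trans hσ)
  have hsurj : Function.Surjective s.π := fun x => by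
    obtain ⟨h, i, rfl⟩ := s.gen x
    exact ⟨h, by rw [hf, one_pow, mul_one]⟩
  obtain ⟨k⟩ := Frame.nonempty s (by simp)
  haveI := s.M.finite
  haveI := Fintype.ofFinite (Cfsg.GU 2 L (Fintype.card F))
  haveI := s.M.T.finiteK
  have hinj : Function.Injective s.π := (injective_iff_map_eq_one _).2 fun h hh => by
    obtain ⟨a, rfl, hao⟩ := s.M.T.ker_eq s.π s.ker_central s.ker_odd (MonoidHom.mem_ker.2 hh)
    have ha : a = 1 := orderOf_eq_one_iff.1 (Nat.eq_one_of_dvd_coprimes
      ((Nat.coprime_two_right.2 hao).pow_right 2) dvd_rfl (by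
        obtain ⟨i, rfl⟩ := k.g_gen a
        refine (orderOf_pow_dvd i).trans ?_
        rw [k.ord_g, hN]))
    rw [ha]
    exact map_one _
  refine ⟨⊥, inferInstance, bot_le, by rw [Subgroup.card_bot]; exact odd_one, ⟨?_⟩⟩
  exact ((QuotientGroup.quotientBot.symm.trans (QuotientGroup.quotientMulEquivOfEq hO.symm)).trans
    (MulEquiv.ofBijective s.π ⟨hinj, hsurj⟩).symm).trans QuotientGroup.quotientBot.symm

end Cfsg.Agent.Invol.AbgOrder
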