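import Cfsg.Agent.Lib.Invol.AbgOrder.OrdVals

/-!
# Combinations of signed irreducible characters: principal block, odd elements and pairs

A signed irreducible character which is `a + b S` on the odd elements, `S` the Steinberg character, is in the
principal block, as `S` is.
-/

set_option autoImplicit false
set_option linter.unusedSectionVars false
set_option linter.style.haveILetI false

open scoped ComplexConjugate Classical

namespace Cfsg.Agent.Invol.AbgOrder

open Cfsg Cfsg.Agent.Char Cfsg.Agent.Block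
open Cfsg.Agent.Block.PrinCol (regTot regTot_eq_regSum mem_principal_iff)
open Cfsg.Agent.Invol.BrauerL3 (scal Tbl SgnIrr Funs pairSum invols mem_invols sum_invPairs)

universe u v w v'

/-- A signed irreducible character is `±` an irreducible one. -/
theorem exists_sign {Γ : Type u} [Group Γ] {v : Γ → ℂ} (h : SgnIrr Γ v) :
    ∃ (χ : IrrCharacter Γ) (s : ℂ), s * s = 1 ∧ conj s = s ∧ v = s • (χ : Γ → ℂ) := by
  rcases h with h | h
  · exact ⟨⟨v, h⟩, 1, one_mul 1, map_one _, (one_smul ℂ v).symm⟩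
  · exact ⟨⟨-v, h⟩, -1, by norm_num, by simp, by simp⟩

/-- Affine in a member of the principal block on the odd elements: orthogonal outside the block. -/
theorem inner_zero_of_affine {Γ : Type u} [Group Γ] [Fintype Γ] {M : Ideal AlgInt} (hM : IsPModular 2 M)
    {S v : Γ → ℂ} (hS : SgnIrr Γ S) (hSr : regTot 2 S ≠ 0) (hv : SgnIrr Γ v) {a b : ℂ}
    (hab : ∀ g : Γ, ¬ 2 ∣ orderOf g → v g = a + b * S g) {ψ : IrrCharacter Γ}
    (hψ : ψ ∉ principalBlock M Γ) : classInner v (ψ : Γ → ℂ) = 0 := by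
  haveI : Fact (Nat.Prime 2) := ⟨Nat.prime_two⟩
  obtain ⟨χS, sS, hsS, hsSc, rfl⟩ := exists_sign hS
  obtain ⟨χ, s, hs, hsc, rfl⟩ := exists_sign hv
  have hs0 : s ≠ 0 := fun e => by simp [e] at hs
  have hχS : χS ∈ principalBlock M Γ := (mem_principal_iff hM χS).2 fun h => hSr (by
    simp only [regTot] at h ⊢
    simp only [Pi.smul_apply, smul_eq_mul, ← Finset.mul_sum, h, mul_zero])
  by_cases hχ : χ ∈ principalBlock M Γ
  · rw [classInner_smul_left, classInner_irr_ne χ.2 ψ.2 fun e => hψ (Subtype.ext e ▸ hχ), mul_zero]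
  exfalso
  set R := Finset.univ.filter (fun x : Γ => ¬ 2 ∣ orderOf x) with hR
  have h1 : ∑ x ∈ R, (χ : Γ → ℂ) x = 0 := by
    by_contra h
    exact hχ ((mem_principal_iff hM χ).2 h)
  have h2 : ∑ x ∈ R, (χ : Γ → ℂ) x * conj ((χS : Γ → ℂ) x) = 0 := by
    rw [hR, ← regSum_eq_sum]
    exact reg_orth hM fun h => hχ (pblock_mem_of_sameBlock hM isPBlock_principalBlock hχS (sameBlock_symm h))
  have h3 : ∑ x ∈ R, (s * (χ : Γ → ℂ) x) * conj (s * (χ : Γ → ℂ) x) = 0 := by
    calc _ = ∑ x ∈ R, (s * conj a * (χ : Γ → ℂ) x +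
          s * conj b * sS * ((χ : Γ → ℂ) x * conj ((χS : Γ → ℂ) x))) := by
          refine Finset.sum_congr rfl fun x hx => ?_
          have h := hab x (Finset.mem_filter.1 hx).2
          simp only [Pi.smul_apply, smul_eq_mul] at h
          conv_lhs => arg 2; rw [h]
          simp only [map_add, map_mul, hsSc]
          ring
      _ = 0 := by
          rw [Finset.sum_add_distrib, ← Finset.mul_sum, ← Finset.mul_sum, h1, h2, mul_zero, mul_zero, add_zero]
  have h4 : ∑ x ∈ R, Complex.normSq (s * (χ : Γ → ℂ) x) = 0 := by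
    simp only [Complex.mul_conj] at h3
    exact_mod_cast h3
  have h5 := (Finset.sum_eq_zero_iff_of_nonneg fun x _ => Complex.normSq_nonneg _).1 h4 1
    (Finset.mem_filter.2 ⟨Finset.mem_univ _, by rw [orderOf_one]; decide⟩)
  exact mul_ne_zero hs0 (IsIrr.one_ne_zero χ.2) (Complex.normSq_eq_zero.1 h5)

/-- A combination of such characters. -/
theorem inB0_comb {Γ : Type u} [Group Γ] [Fintype Γ] {M : Ideal AlgInt} (hM : IsPModular 2 M) {k : ℕ}
    {S : Γ → ℂ} (hS : SgnIrr Γ S) (hSr : regTot 2 S ≠ 0) (v : Fin k → Γ → ℂ) (hv : ∀ j, SgnIrr Γ (v j))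
    (c al be : Fin k → ℤ) (hab : ∀ j g, ¬ 2 ∣ orderOf g → v j g = (al j : ℂ) + be j * S g) {f : Γ → ℂ}
    (hf : ∀ x, f x = ∑ j, (c j : ℂ) * v j x) : InB0 M f := by
  refine ⟨fun g t => ?_, fun ψ hψ => ?_⟩
  · rw [hf, hf]
    exact Finset.sum_congr rfl fun j _ => by rw [(hv j).classFun]
  · rw [show f = ∑ j, (c j : ℂ) • v j from funext fun x => by simp [hf, Finset.sum_apply],
      classInner_sum_left]
    exact Finset.sum_eq_zero fun j _ => by
      rw [classInner_smul_left, inner_zero_of_affine hM hS hSr (hv j) (hab j) hψ, mul_zero]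

theorem oddVanish_comb {Γ : Type u} [Group Γ] {k : ℕ} {S : Γ → ℂ} (v : Fin k → Γ → ℂ) (c al be : Fin k → ℤ)
    (hab : ∀ j g, ¬ 2 ∣ orderOf g → v j g = (al j : ℂ) + be j * S g) (h1 : ∑ j, c j * al j = 0)
    (h2 : ∑ j, c j * be j = 0) {f : Γ → ℂ} (hf : ∀ x, f x = ∑ j, (c j : ℂ) * v j x) : OddVanish f := by
  intro g hg
  rw [hf]
  simp only [hab _ g hg, mul_add, Finset.sum_add_distrib, ← mul_assoc, ← Finset.sum_mul]
  have e1 : ((∑ j, c j * al j : ℤ) : ℂ) = 0 := by rw [h1, Int.cast_zero]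
  have e2 : ((∑ j, c j * be j : ℤ) : ℂ) = 0 := by rw [h2, Int.cast_zero]
  push_cast at e1 e2
  rw [e1, e2, zero_mul, add_zero]

variable {N : Type u} [Group N] [Fintype N] {H : Type v} [Group H] {K : Type w} [CommGroup K] {Q : ℤ}

namespace NSys

variable (Y : NSys N H K Q)
include Y

/-- An element of odd order lifts to one. -/
theorem exists_odd_lift {n : N} (hn : ¬ 2 ∣ orderOf n) : ∃ h, Y.π h = n ∧ Odd (orderOf h) := by
  haveI := Y.finiteH
  obtain ⟨h, rfl⟩ := Y.surj n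
  obtain ⟨i, o, ho, hio⟩ := Nat.exists_eq_two_pow_mul_odd (orderOf_pos h).ne'
  have hc : Nat.Coprime (2 ^ i) (orderOf (Y.π h)) := ((Nat.prime_two.coprime_iff_not_dvd).2 hn).pow_left i
  obtain ⟨c, h1, h2⟩ := Nat.chineseRemainder hc 0 1
  obtain ⟨d, rfl⟩ := Nat.modEq_zero_iff_dvd.1 h1
  refine ⟨h ^ (2 ^ i * d), ?_, ho.of_dvd_nat (orderOf_dvd_of_pow_eq_one ?_)⟩
  · rw [map_pow]
    conv_rhs => rw [← pow_one (Y.π h)]
    exact pow_eq_pow_iff_modEq.2 h2
  · rw [← pow_mul, show 2 ^ i * d * o = 2 ^ i * o * d by ring, ← hio, pow_mul, pow_orderOf_eq_one, one_pow]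

theorem odd_D {a b : scal K Q} (h : Odd (orderOf (Y.T.D (a, b)))) : Odd (orderOf a) ∧ Odd (orderOf b) := by
  rw [orderOf_injective _ Y.T.D_inj, Prod.orderOf] at h
  exact ⟨h.of_dvd_nat (Nat.dvd_lcm_left _ _), h.of_dvd_nat (Nat.dvd_lcm_right _ _)⟩

theorem odd_U {a : scal K Q} (h : Odd (orderOf (Y.T.U a))) : Odd (orderOf a) := by
  obtain ⟨k, hk, hU⟩ := Y.T.U_pow a
  have h1 := h.of_dvd_nat (orderOf_pow_dvd k)
  rw [hU, orderOf_injective _ Y.T.D_inj, Prod.orderOf, Nat.lcm_self] at h1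
  refine (hk.mul h1).of_dvd_nat (orderOf_dvd_of_pow_eq_one ?_)
  rw [pow_mul, pow_orderOf_eq_one]

/-- A function of the classes that is affine on the representatives of odd order is affine there. -/
theorem affine_of_reps {ψ S : N → ℂ} (hψ : IsClassFunction N ψ) (hS : IsClassFunction N S) {vH SH : H → ℂ}
    (hv : ∀ g, ψ (Y.π g) = vH g) (hSv : ∀ g, S (Y.π g) = SH g) {a b : ℂ}
    (hU : ∀ x, Odd (orderOf x) → vH (Y.T.U x) = a + b * SH (Y.T.U x))
    (hsc : ∀ x, Odd (orderOf x) → vH (Y.T.D (x, x)) = a + b * SH (Y.T.D (x, x)))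
    (hD : ∀ x y, x ≠ y → Odd (orderOf x) → Odd (orderOf y) → vH (Y.T.D (x, y)) = a + b * SH (Y.T.D (x, y)))
    (hE : ∀ l, l ∉ scal K Q → Odd (orderOf l) → vH (Y.T.E l) = a + b * SH (Y.T.E l))
    (n : N) (hn : ¬ 2 ∣ orderOf n) : ψ n = a + b * S n := by
  obtain ⟨h, rfl, ho⟩ := Y.exists_odd_lift hn
  have key : ∀ r, IsConj r h → (Odd (orderOf r) → vH r = a + b * SH r) →
      ψ (Y.π h) = a + b * S (Y.π h) := fun r hr hval => by
    obtain ⟨c, rfl⟩ := isConj_iff.1 hr
    rw [map_mul, map_mul, map_inv, hψ, hS, hv, hSv]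
    refine hval ?_
    rwa [← MulAut.conj_apply, MulEquiv.orderOf_eq] at ho
  rcases Y.T.cover h with ⟨x, hx⟩ | ⟨⟨x, y⟩, hx⟩ | ⟨l, hl, hx⟩
  · exact key _ hx fun h => hU x (Y.odd_U h)
  · refine key _ hx fun h => ?_
    obtain ⟨h1, h2⟩ := Y.odd_D h
    by_cases e : x = y
    · subst e; exact hsc x h1
    · exact hD x y e h1 h2
  · exact key _ hx fun h => hE l hl (by rwa [orderOf_injective _ Y.T.E_inj] at h)

/-- The Steinberg character has an odd sum over the odd elements. -/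
theorem St_reg (S : Split Y) {ψ : N → ℂ} (hψ : SgnIrr N ψ) (hv : ∀ g, ψ (Y.π g) = Y.T.St g) :
    regTot 2 ψ ≠ 0 := by
  haveI : Fact (Nat.Prime 2) := ⟨Nat.prime_two⟩
  have hval : ∀ n : N, ∃ z : ℤ, ψ n = z := fun n => by
    obtain ⟨h, rfl⟩ := Y.surj n
    rw [hv]
    rcases Y.T.cover h with ⟨x, hx⟩ | ⟨⟨x, y⟩, hx⟩ | ⟨l, hl, hx⟩ <;> obtain ⟨c, rfl⟩ := isConj_iff.1 hx <;>
      rw [Y.T.St_irr.classFun]
    · exact ⟨0, by rw [Y.T.St_U]; simp⟩
    · by_cases e : x = y
      · subst e; exact ⟨Q, by rw [Y.T.St_sc]⟩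
      · exact ⟨1, by rw [Y.T.St_D x y e]; simp⟩
    · exact ⟨-1, by rw [Y.T.St_E l hl]; simp⟩
  choose z hz using hval
  set u := S.τ (1, Y.e) with hu
  have huu : u * u = 1 := BrauerL3.mul_self_of_two S.uN_order
  have hui : u⁻¹ = u := inv_eq_of_mul_eq_one_right huu
  set R := Finset.univ.filter (fun x : N => ¬ 2 ∣ orderOf x) with hR
  intro h
  have h0 : ∑ x ∈ R, z x = 0 := by
    have : ((∑ x ∈ R, z x : ℤ) : ℂ) = 0 := by
      push_cast; rw [← h, regTot]; exact Finset.sum_congr rfl fun x _ => (hz x).symm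
    exact_mod_cast this
  set R' := R.filter (fun x => u * x * u⁻¹ = x) with hR'
  have h1 : ∑ x ∈ R.filter (fun x => ¬ u * x * u⁻¹ = x), (z x : ZMod 2) = 0 := by
    refine Finset.sum_involution (fun x _ => u * x * u⁻¹) (fun x hx => ?_) (fun x hx _ => ?_) (fun x hx => ?_)
      (fun x hx => ?_)
    · have e : z (u * x * u⁻¹) = z x := by
        have := hψ.classFun x u
        rw [hz, hz] at this
        exact_mod_cast this
      rw [e, ← two_mul, show (2 : ZMod 2) = 0 from rfl, zero_mul]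
    · exact (Finset.mem_filter.1 hx).2
    · simp only [hR, Finset.mem_filter, Finset.mem_univ, true_and] at hx ⊢
      refine ⟨by rw [← MulAut.conj_apply, MulEquiv.orderOf_eq]; exact hx.1, fun e => hx.2 ?_⟩
      exact mul_left_cancel (mul_right_cancel e)
    · show u * (u * x * u⁻¹) * u⁻¹ = x
      rw [hui, ← mul_assoc, ← mul_assoc, huu, one_mul, mul_assoc, huu, mul_one]
  -- the values on the torus are odd
  have h2 : ∀ x ∈ R', (z x : ZMod 2) = 1 := fun x hx => by
    simp only [hR', hR, Finset.mem_filter, Finset.mem_univ, true_and] at hx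
    obtain ⟨p, rfl⟩ := (S.mem_iff x).1 (mul_inv_eq_iff_eq_mul.1 hx.2).symm
    obtain ⟨c, hc⟩ := S.conj p
    have e : (z (S.τ p) : ℂ) = Y.T.St (Y.T.D p) := by rw [← hz, ← hc, hψ.classFun, hv]
    by_cases hd : p.1 = p.2
    · rw [show p = (p.1, p.1) from Prod.ext rfl hd.symm, Y.T.St_sc] at e
      have e' : z (S.τ p) = Q := by
        rw [show p = (p.1, p.1) from Prod.ext rfl hd.symm]; exact_mod_cast e
      obtain ⟨k, hk⟩ := Y.T.odd
      rw [e', hk]
      push_cast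
      rw [show (2 : ZMod 2) = 0 from rfl, zero_mul, zero_add]
    · rw [show p = (p.1, p.2) from rfl, Y.T.St_D _ _ hd] at e
      have e' : z (S.τ p) = 1 := by exact_mod_cast e
      rw [e', Int.cast_one]
  have h3 : (R'.card : ZMod 2) = 0 := by
    have := congrArg (fun m : ℤ => (m : ZMod 2)) h0
    push_cast at this
    rw [← Finset.sum_filter_add_sum_filter_not R (fun x => u * x * u⁻¹ = x), h1, add_zero, ← hR',
      Finset.sum_congr rfl h2, Finset.sum_const, nsmul_one] at this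
    exact this
  -- the odd elements centralising `u` form a set of odd size
  have h4 : ((R'.erase 1).card : ZMod 2) = 0 := by
    rw [Finset.cast_card]
    refine Finset.sum_involution (fun x _ => x⁻¹) (fun _ _ => by rw [← two_mul, show (2 : ZMod 2) = 0 from rfl,
      zero_mul]) (fun x hx _ => ?_) (fun x hx => ?_) (fun x _ => inv_inv x)
    · simp only [Finset.mem_erase, hR', hR, Finset.mem_filter, Finset.mem_univ, true_and] at hx
      intro e
      refine hx.1 (orderOf_eq_one_iff.1 ?_)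
      rcases (Nat.dvd_prime Nat.prime_two).1 (orderOf_dvd_of_pow_eq_one
        (show x ^ 2 = 1 by rw [sq, ← inv_eq_iff_mul_eq_one]; exact e)) with h | h
      · exact h
      · exact absurd (h ▸ dvd_rfl) hx.2.1
    · simp only [Finset.mem_erase, hR', hR, Finset.mem_filter, Finset.mem_univ, true_and, orderOf_inv,
        inv_eq_one, ne_eq] at hx ⊢
      exact ⟨hx.1, hx.2.1, by rw [← conj_inv, hx.2.2]⟩
  have h5 : (1 : N) ∈ R' := by simp [hR', hR]
  rw [← Finset.card_erase_add_one h5, Nat.cast_add, h4, Nat.cast_one, zero_add] at h3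
  exact one_ne_zero h3

end NSys

namespace Split

variable {Y : NSys N H K Q} (S : Split Y)
include S

/-- Values on the torus are the values upstairs. -/
theorem val_tau {ψ : N → ℂ} (hψ : IsClassFunction N ψ) {vH : H → ℂ} (hv : ∀ g, ψ (Y.π g) = vH g)
    (p : scal K Q × scal K Q) : ψ (S.τ p) = vH (Y.T.D p) := by
  obtain ⟨c, hc⟩ := S.conj p
  rw [← hc, hψ, hv]

/-- A section off the diagonal: torus elements with the given `2`-part. -/
theorem sec_param {q : scal K Q × scal K Q} (ht : Two q) (hq : q.1 ≠ q.2) {n : N}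
    (h : ∃ y, IsPPart 2 n y ∧ IsConj (S.τ q) y) :
    ∃ r, IsConj (S.τ r) n ∧ r.1 ≠ r.2 ∧ ∀ χ : scal K Q →* ℂˣ, (∀ x, Odd (orderOf x) → χ x = 1) →
      χ r.1 = χ q.1 ∧ χ r.2 = χ q.2 := by
  haveI := Y.T.finiteK
  obtain ⟨y, ⟨v, hv, hc, -, hvo⟩, hcy⟩ := h
  obtain ⟨d, hd⟩ := isConj_iff.1 hcy
  have hv' : Commute (d⁻¹ * v * d) (S.τ q) := by
    rw [← hd] at hc
    have h1 := (hc.map (MulAut.conj d⁻¹).toMonoidHom).symm
    simp only [MulEquiv.coe_toMonoidHom, MulAut.conj_apply, inv_inv] at h1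
    rwa [show d⁻¹ * (d * S.τ q * d⁻¹) * d = S.τ q by group] at h1
  obtain ⟨w, hw⟩ := S.mem_of_commute hq hv'
  have hwo : Odd (orderOf (S.τ w)) := by
    rw [hw, show d⁻¹ * v * d = MulAut.conj d⁻¹ v by simp, MulEquiv.orderOf_eq]
    exact Nat.not_even_iff_odd.1 fun h => hvo h.two_dvd
  obtain ⟨h1, h2⟩ := S.eq_one_iff.1 (show S.τ (w ^ orderOf (S.τ w)) = 1 by rw [map_pow, pow_orderOf_eq_one])
  simp only [Prod.pow_fst, Prod.pow_snd] at h1 h2
  have hodd : ∀ {x : scal K Q}, Odd (orderOf (x ^ orderOf (S.τ w))) → Odd (orderOf x) := fun {x} hx => by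
    refine (hwo.mul hx).of_dvd_nat (orderOf_dvd_of_pow_eq_one ?_)
    rw [pow_mul, pow_orderOf_eq_one]
  have hw1 : Odd (orderOf w.1) := hodd h2
  have hw2 : Odd (orderOf w.2) := hodd (h1 ▸ h2)
  refine ⟨q * w, isConj_iff.2 ⟨d, ?_⟩, fun e => hq ?_, fun χ hχ => ?_⟩
  · rw [map_mul, hw, ← hv, ← hd]; group
  · -- two parts of different orders
    simp only [Prod.fst_mul, Prod.snd_mul] at e
    have e2 : q.1 * q.2⁻¹ = w.2 * w.1⁻¹ := by
      rw [← div_eq_mul_inv, ← div_eq_mul_inv, div_eq_div_iff_mul_eq_mul, e, mul_comm]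
    obtain ⟨k, hk⟩ := ht
    have e3 : q.1 * q.2⁻¹ = 1 := by
      rw [← orderOf_eq_one_iff]
      refine Nat.eq_one_of_dvd_coprimes (a := 2 ^ k) (b := orderOf w.2 * orderOf w.1) ?_ ?_ ?_
      · exact (Nat.coprime_two_left.2 (hw2.mul hw1)).pow_left k
      · refine orderOf_dvd_of_pow_eq_one ?_
        rw [mul_pow, inv_pow, show q.1 ^ 2 ^ k = 1 from congrArg Prod.fst hk,
          show q.2 ^ 2 ^ k = 1 from congrArg Prod.snd hk, inv_one, mul_one]
      · refine orderOf_dvd_of_pow_eq_one ?_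
        rw [e2, mul_pow, inv_pow, pow_mul, pow_orderOf_eq_one, one_pow, one_mul, mul_comm, pow_mul,
          pow_orderOf_eq_one, one_pow, inv_one]
    exact mul_inv_eq_one.1 e3
  · simp [hχ _ hw1, hχ _ hw2]

theorem card_invol : ((invol' (S.τ (Y.e, Y.e))).card : ℤ) = Q * (Q + 1) := by
  haveI := Y.finiteH
  haveI := Fintype.ofFinite H
  obtain ⟨e', hne, hee, heu, -⟩ := Y.T.exists_e
  have h := Y.T.sum_invols Y.π Y.surj Y.ker_central Y.ker_odd hne hee heu (φ := fun _ => (1 : ℂ)) (fun _ _ => rfl)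
  have he : invol' (S.τ (Y.e, Y.e)) = (invols N).erase (S.τ (Y.e, Y.e)) := by
    ext a
    simp [invol', mem_invols, and_comm]
  have hc := Finset.card_erase_add_one (s := invols N) (mem_invols.2 S.zN_order)
  rw [Finset.sum_const, nsmul_one, mul_one] at h
  rw [he]
  have h' : ((invols N).card : ℤ) = 1 + Q * (Q + 1) := by
    have : (((invols N).card : ℤ) : ℂ) = ((1 + Q * (Q + 1) : ℤ) : ℂ) := by push_cast at h ⊢; exact h
    exact_mod_cast this
  omega

/-- The pairs left out carry no value. -/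
theorem pairK_eq {f : N → ℂ} (hf : OddVanish f) (hu : ∀ n, IsConj (S.τ (1, Y.e)) n → f n = 0) :
    pairK (S.τ (Y.e, Y.e)) f = ∑ a ∈ invols N, ∑ b ∈ invols N, f (a * b) := by
  haveI : Fact (Nat.Prime 2) := ⟨Nat.prime_two⟩
  set zN := S.τ (Y.e, Y.e) with hz
  have hzc : ∀ a : N, Commute zN a := fun a => (Subgroup.mem_center_iff.1 (S.diag_central _) a).symm
  have hz2 := BrauerL3.mul_self_of_two S.zN_order
  have hzb : ∀ b : N, orderOf b = 2 → f (zN * b) = 0 := by
    intro b hb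
    by_cases hbz : b = zN
    · rw [hbz, hz2]; exact hf 1 (by rw [orderOf_one]; decide)
    · rcases S.invol_cases hb with h | h
      · exact absurd h hbz
      · obtain ⟨c, rfl⟩ := isConj_iff.1 h
        refine hu _ ?_
        refine (conj_sw' : IsConj (S.τ (1, Y.e)) (S.τ (Y.e, 1))).trans (isConj_iff.2 ⟨c, ?_⟩)
        rw [show ((Y.e, 1) : scal K Q × scal K Q) = (Y.e, Y.e) * (1, Y.e) by
          rw [Prod.mk_mul_mk, mul_one, Y.e_sq], map_mul, ← mul_assoc, ← (hzc c).eq]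
        simp only [mul_assoc, hz]
  have key : ∀ a b : N, orderOf a = 2 → orderOf b = 2 → a ≠ zN → b ≠ zN →
      zN ∉ Subgroup.zpowers (a * b) → f (a * b) = 0 := by
    intro a b ha hb haz hbz hnz
    by_contra hne
    have hev : 2 ∣ orderOf (a * b) := by
      by_contra h
      exact hne (hf _ h)
    obtain ⟨k, hk, hkm, -⟩ := unique_invol hev
    have hkz : k ≠ zN := fun e => hnz (e ▸ hkm)
    have hai : a * (a * b) * a⁻¹ = (a * b)⁻¹ := by
      rw [mul_inv_rev, inv_eq_of_mul_eq_one_right (BrauerL3.mul_self_of_two ha),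
        inv_eq_of_mul_eq_one_right (BrauerL3.mul_self_of_two hb), ← mul_assoc a a b, BrauerL3.mul_self_of_two ha,
        one_mul]
    have hka : Commute a k := by
      obtain ⟨i, hi⟩ := Subgroup.mem_zpowers_iff.1 hkm
      refine mul_inv_eq_iff_eq_mul.1 ?_
      rw [← hi, ← conj_zpow, hai, inv_zpow, hi, inv_eq_of_mul_eq_one_right (BrauerL3.mul_self_of_two hk)]
    have hkab : Commute (a * b) k := by
      obtain ⟨i, hi⟩ := Subgroup.mem_zpowers_iff.1 hkm
      exact hi ▸ Commute.self_zpow _ i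
    have hkb : Commute b k := by
      have := hka.inv_left.mul_left hkab
      rwa [inv_mul_cancel_left] at this
    rcases S.invol_cases hk with h | h
    · exact hkz h
    obtain ⟨c, hc⟩ := isConj_iff.1 h
    have hnc : k ∉ Subgroup.center N := fun hz' => S.uN_noncentral (by
      have e : S.τ (1, Y.e) = k := by
        calc S.τ (1, Y.e) = c⁻¹ * k * c := by rw [← hc]; group
          _ = k := by rw [Subgroup.mem_center_iff.1 hz' c⁻¹, inv_mul_cancel_right]
      rw [e]; exact hz')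
    have hab : Commute a b := Y.comm k hnc a b hka hkb
    have h2 : orderOf (a * b) = 2 := by
      refine orderOf_eq_prime ?_ fun e => ?_
      · rw [hab.mul_pow, sq, sq, BrauerL3.mul_self_of_two ha, BrauerL3.mul_self_of_two hb, one_mul]
      · rw [e, orderOf_one] at hev
        omega
    rcases S.invol_cases h2 with h | h
    · exact hnz (h ▸ Subgroup.mem_zpowers _)
    · exact hne (hu _ h)
  have he : invol' zN = (invols N).erase zN := by
    ext a
    simp [invol', mem_invols, and_comm]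
  rw [pairK, he, ← Finset.add_sum_erase (invols N) _ (mem_invols.2 S.zN_order), Finset.sum_eq_zero
    (s := invols N) fun b hb => hzb b (mem_invols.1 hb), zero_add]
  refine Finset.sum_congr rfl fun a ha => ?_
  obtain ⟨haz, ha⟩ := Finset.mem_erase.1 ha
  rw [← Finset.add_sum_erase (invols N) _ (mem_invols.2 S.zN_order), ← (hzc a).eq, hzb a (mem_invols.1 ha), zero_add]
  refine Finset.sum_congr rfl fun b hb => ?_
  obtain ⟨hbz, hb⟩ := Finset.mem_erase.1 hb
  split_ifs with h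
  · rfl
  · exact (key a b (mem_invols.1 ha) (mem_invols.1 hb) haz hbz h).symm
  where conj_sw' : IsConj (S.τ (1, Y.e)) (S.τ (Y.e, 1)) := isConj_iff.2 ⟨S.s, S.swap 1 Y.e⟩

end Split

/-- `NFuns` from `Funs` and the corrections on the torus. -/
theorem Frm.nfuns_of_funs {G : Type v'} [Group G] [Fintype G] {X : Type u} [Group X] [Fintype X] {N : Subgroup X}
    {D : PData G X} {H : Type v} [Group H] {Y : NSys N H K Q} {S : Split Y} (F : Frm D S) [Fintype (scal K Q)]
    {M : Ideal AlgInt} (hM : IsPModular 2 M) {k : ℕ} {gram0 gram : Fin k → Fin k → ℤ} {tr val : Fin k → ℤ}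
    {pr0 pr : Fin k → ℚ}
    (Fn : Funs N Set.univ (S.τ (Y.e, Y.e)) (((Q * (Q + 1) : ℤ) : ℚ) ^ 2 / Nat.card N) gram0 tr val pr0)
    (hodd : ∀ i, OddVanish (Fn.f i)) (hB : ∀ i, InB0 M (Fn.f i))
    (haxis : ∀ i, ∀ q : scal K Q × scal K Q, Two q → q ≠ 1 → q.1 = 1 ∨ q.2 = 1 →
      ∀ n, Sec n (S.τ q) → Fn.f i n = 0)
    (hcor : ∀ i j, ((gram0 i j : ℤ) : ℂ) +
      (card2 K Q : ℂ)⁻¹ * ∑ p ∈ goods K Q, Fn.f i (S.τ (r1 p)) * conj (Fn.f j (S.τ p)) = (gram i j : ℂ))
    (hpcor : ∀ i, (Nat.card N : ℂ) * (cardOdd K Q : ℂ) ^ 2 *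
        ∑ p ∈ (goods K Q).filter (fun p => p.2 = p.1⁻¹), Fn.f i (S.τ (r1 p)) =
      (Nat.card (scal K Q) : ℂ) * (((pr i - pr0 i) * ((Q * (Q + 1) : ℤ) : ℚ) ^ 2 : ℚ) : ℂ)) :
    ∃ P : D.NFuns N M gram tr val pr, P.f = Fn.f := by
  haveI : Fact (Nat.Prime 2) := ⟨Nat.prime_two⟩
  refine F.exists_nfuns hM Fn.f Fn.gen hodd hB haxis (fun i j => by rw [Fn.inner]; exact hcor i j) Fn.inner_one
    Fn.at_t fun i => ?_
  have hu : ∀ n, IsConj (S.τ (1, Y.e)) n → Fn.f i n = 0 := fun n hn => by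
    refine haxis i (1, Y.e) F.L.two_1e (fun h => Y.e_ne (congrArg Prod.snd h)) (Or.inl rfl) n ⟨n, ?_, hn⟩
    obtain ⟨c, rfl⟩ := isConj_iff.1 hn
    obtain ⟨j, hj⟩ := two_power_tau S F.L.two_1e
    exact ⟨1, mul_one _, Commute.one_right _, ⟨j, by rw [← MulAut.conj_apply, MulEquiv.orderOf_eq, hj]⟩,
      by rw [orderOf_one]; decide⟩
  have hcard : (((invol' (S.τ (Y.e, Y.e))).card : ℕ) : ℚ) = ((Q * (Q + 1) : ℤ) : ℚ) := by
    rw [← S.card_invol]; push_cast; rfl
  have hP : pairK (S.τ (Y.e, Y.e)) (Fn.f i) = ((pr0 i * ((Q * (Q + 1) : ℤ) : ℚ) ^ 2 : ℚ) : ℂ) := by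
    rw [S.pairK_eq (hodd i) hu, ← sum_invPairs]
    have h := Fn.pair i
    rw [pairSum, inv_mul_eq_iff_eq_mul₀ (Nat.cast_ne_zero.2 Nat.card_pos.ne')] at h
    rw [h]
    push_cast
    field_simp
  rw [hP, hpcor i, hcard]
  push_cast
  ring

end Cfsg.Agent.Invol.AbgOrder
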