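import Cfsg.Agent.Lib.Invol.AbgOrder.OrdNSys
import Cfsg.Agent.Lib.Invol.AbgOrder.ProjPair

/-!
# Pairs of involutions with product in a section of the split torus
-/

set_option autoImplicit false
set_option linter.unusedSectionVars false
set_option linter.style.haveILetI false

open scoped Classical

namespace Cfsg.Agent.Invol.AbgOrder

open Cfsg Cfsg.Agent.Block
open Cfsg.Agent.Invol.BrauerL3 (scal)

universe u v w

/-- A sum over a section by its elements with a given `2`-part. -/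
theorem sum_sec_conj {N : Type u} [Group N] [Fintype N] (y : N) (Φ : N → ℂ) (hΦ : IsClassFunction N Φ) :
    (Nat.card (Subgroup.centralizer ({y} : Set N)) : ℂ) *
        ∑ x : N, (if ∃ y', IsPPart 2 x y' ∧ IsConj y y' then Φ x else 0) =
      (Nat.card N : ℂ) * ∑ x : N, if IsPPart 2 x y then Φ x else 0 := by
  haveI : Fact (Nat.Prime 2) := ⟨Nat.prime_two⟩
  have hC : ∀ x : N, (∑ c : N, if IsPPart 2 (c * x * c⁻¹) y then Φ (c * x * c⁻¹) else 0) =
      (Nat.card (Subgroup.centralizer ({y} : Set N)) : ℂ) *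
        if ∃ y', IsPPart 2 x y' ∧ IsConj y y' then Φ x else 0 := by
    intro x
    obtain ⟨y₀, hy₀⟩ := exists_pPart (p := 2) x
    have hiff : ∀ c : N, IsPPart 2 (c * x * c⁻¹) y ↔ c * y₀ * c⁻¹ = y := fun c =>
      ⟨fun h => pPart_unique (pPart_conj hy₀ c) h, fun h => h ▸ pPart_conj hy₀ c⟩
    have hiff' : (∃ y', IsPPart 2 x y' ∧ IsConj y y') ↔ IsConj y y₀ :=
      ⟨fun ⟨y', h, h'⟩ => by rwa [pPart_unique hy₀ h], fun h => ⟨y₀, hy₀, h⟩⟩
    simp only [hiff, hiff']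
    by_cases h : IsConj y y₀
    · obtain ⟨d, hd⟩ := isConj_iff.1 h
      rw [if_pos h]
      have e : ∀ c : N, c * y₀ * c⁻¹ = y ↔ c * d ∈ Subgroup.centralizer ({y} : Set N) := fun c => by
        rw [Subgroup.mem_centralizer_singleton_iff, ← hd]
        constructor
        · intro hh
          calc c * d * y = c * (d * y * d⁻¹) * c⁻¹ * (c * d) := by group
            _ = y * (c * d) := by rw [hh]
        · intro hh
          calc c * (d * y * d⁻¹) * c⁻¹ = c * d * y * (c * d)⁻¹ := by group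
            _ = y := by rw [hh, mul_inv_cancel_right]
      calc (∑ c : N, if c * y₀ * c⁻¹ = y then Φ (c * x * c⁻¹) else 0)
          = ∑ c : N, if c * d ∈ Subgroup.centralizer ({y} : Set N) then Φ x else 0 :=
            Finset.sum_congr rfl fun c _ => by rw [hΦ]; exact if_congr (e c) rfl rfl
        _ = ∑ c : N, if c ∈ Subgroup.centralizer ({y} : Set N) then Φ x else 0 :=
            Equiv.sum_comp (Equiv.mulRight d) fun c => if c ∈ Subgroup.centralizer ({y} : Set N) then Φ x else 0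
        _ = _ := by rw [← Finset.sum_filter, Finset.sum_const, nsmul_eq_mul, ← Fintype.card_subtype,
            Nat.card_eq_fintype_card]
    · rw [if_neg h, mul_zero]
      refine Finset.sum_eq_zero fun c _ => if_neg fun hc => h ?_
      exact (isConj_iff.2 ⟨c, hc⟩ : IsConj y₀ y).symm
  rw [Finset.mul_sum, ← Finset.sum_congr rfl fun x _ => hC x, Finset.sum_comm,
    Finset.sum_congr rfl fun c _ => show (∑ x : N, if IsPPart 2 (c * x * c⁻¹) y then Φ (c * x * c⁻¹) else 0) =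
      ∑ x : N, if IsPPart 2 x y then Φ x else 0 from
        (MulAut.conj c).toEquiv.sum_comp fun x => if IsPPart 2 x y then Φ x else 0,
    Finset.sum_const, Finset.card_univ, nsmul_eq_mul, Nat.card_eq_fintype_card]

/-- The number of scalars of odd order. -/
noncomputable def cardOdd (K : Type w) [CommGroup K] (Q : ℤ) : ℕ :=
  Nat.card {a : scal K Q // Odd (orderOf a)}

variable {N : Type u} [Group N] [Fintype N] {H : Type v} [Group H] {K : Type w} [CommGroup K] {Q : ℤ}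
  {Y : NSys N H K Q}

namespace Split

variable (S : Split Y)
include S

theorem odd_sqrt {d : scal K Q} (hd : Odd (orderOf d)) : ∃ h, h * h = d ∧ Odd (orderOf h) := by
  obtain ⟨k, hk⟩ := id hd
  refine ⟨d ^ (k + 1), ?_, hd.of_dvd_nat (orderOf_pow_dvd _)⟩
  rw [← pow_add, show k + 1 + (k + 1) = orderOf d + 1 by omega, pow_succ, pow_orderOf_eq_one, one_mul]

theorem central_param {p : scal K Q × scal K Q} (h : S.s * S.τ p * S.s⁻¹ = S.τ p) : p.1 = p.2 := by
  rw [show p = (p.1, p.2) from rfl, S.swap] at h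
  have h1 : S.τ ((p.2, p.1) * (p.1, p.2)⁻¹) = 1 := by rw [map_mul, map_inv, h, mul_inv_cancel]
  obtain ⟨h2, h3⟩ := S.eq_one_iff.1 h1
  simp only [Prod.fst_mul, Prod.snd_mul, Prod.fst_inv, Prod.snd_inv] at h2 h3
  have h4 : (p.2 * p.1⁻¹) ^ 2 = 1 := by
    rw [sq]
    nth_rewrite 2 [h2]
    rw [mul_mul_mul_comm, ← mul_inv, mul_comm p.2 p.1, mul_inv_cancel]
  have h5 : p.2 * p.1⁻¹ = 1 := orderOf_eq_one_iff.1 <| by
    rcases (Nat.dvd_prime Nat.prime_two).1 (orderOf_dvd_of_pow_eq_one h4) with h | h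
    · exact h
    · rw [h] at h3; exact absurd h3 (by decide)
  exact (mul_inv_eq_one.1 h5).symm

/-- An involution inducing the swap. -/
theorem exists_inverter : ∃ a : N, a * a = 1 ∧ (∃ q, a = S.s * S.τ q) ∧
    ∀ p, a * S.τ p * a⁻¹ = S.τ (p.2, p.1) := by
  have hs2 : Commute (S.s * S.s) (S.τ (1, Y.e)) := mul_inv_eq_iff_eq_mul.1 (by
    calc S.s * S.s * S.τ (1, Y.e) * (S.s * S.s)⁻¹ = S.s * (S.s * S.τ (1, Y.e) * S.s⁻¹) * S.s⁻¹ := by group
      _ = _ := by rw [S.swap, S.swap])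
  obtain ⟨q, hq⟩ := (S.mem_iff _).1 hs2
  have hd := S.central_param (p := q) (by rw [hq]; group)
  have e : q = (q.1, q.1) := Prod.ext rfl hd.symm
  refine ⟨S.s * S.τ (q.1⁻¹, 1), ?_, ⟨_, rfl⟩, fun p => ?_⟩
  · calc S.s * S.τ (q.1⁻¹, 1) * (S.s * S.τ (q.1⁻¹, 1))
        = (S.s * S.τ (q.1⁻¹, 1) * S.s⁻¹) * (S.s * S.s) * S.τ (q.1⁻¹, 1) := by group
      _ = 1 := by
          rw [S.swap, ← hq, ← map_mul, ← map_mul, e]
          simp [← Prod.one_eq_mk]
  · calc S.s * S.τ (q.1⁻¹, 1) * S.τ p * (S.s * S.τ (q.1⁻¹, 1))⁻¹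
        = S.s * (S.τ (q.1⁻¹, 1) * S.τ p * (S.τ (q.1⁻¹, 1))⁻¹) * S.s⁻¹ := by group
      _ = _ := by
          rw [← map_mul, ← map_inv, ← map_mul, mul_inv_cancel_comm]
          exact S.swap p.1 p.2

/-- The torus elements inverted by the swap. -/
theorem card_inverted : Nat.card {t : N // ∃ q, S.τ q = t ∧ S.s * t * S.s⁻¹ = t⁻¹} = Nat.card (scal K Q) := by
  refine (Nat.card_congr (Equiv.ofBijective
    (fun a : scal K Q => (⟨S.τ (a, a⁻¹), _, rfl, by rw [S.swap, ← map_inv, Prod.inv_mk, inv_inv]⟩ :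
      {t : N // ∃ q, S.τ q = t ∧ S.s * t * S.s⁻¹ = t⁻¹})) ⟨fun a b h => ?_, ?_⟩)).symm
  · have h1 : S.τ ((a, a⁻¹) * (b, b⁻¹)⁻¹) = 1 := by
      rw [map_mul, map_inv, mul_inv_eq_one]
      exact congrArg Subtype.val h
    obtain ⟨h2, h3⟩ := S.eq_one_iff.1 h1
    simp only [Prod.fst_mul, Prod.snd_mul, Prod.fst_inv, Prod.snd_inv, inv_inv] at h2 h3
    have h4 : (a * b⁻¹) ^ 2 = 1 := by
      rw [sq]
      nth_rewrite 2 [h2]
      rw [mul_mul_mul_comm, mul_inv_cancel, one_mul, inv_mul_cancel]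
    rcases (Nat.dvd_prime Nat.prime_two).1 (orderOf_dvd_of_pow_eq_one h4) with h | h
    · exact mul_inv_eq_one.1 (orderOf_eq_one_iff.1 h)
    · rw [h] at h3; exact absurd h3 (by decide)
  · rintro ⟨_, q, rfl, hq⟩
    rw [show q = (q.1, q.2) from rfl, S.swap, eq_inv_iff_mul_eq_one, ← map_mul] at hq
    obtain ⟨h, hh, hho⟩ := S.odd_sqrt (S.eq_one_iff.1 hq).2
    refine ⟨q.1 * h⁻¹, Subtype.ext ?_⟩
    have e : q = (q.1 * h⁻¹, (q.1 * h⁻¹)⁻¹) * (h, h) := by
      refine Prod.ext (by simp) ?_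
      simp only [Prod.mk_mul_mk, mul_inv_rev, inv_inv]
      rw [mul_right_comm, hh]
      show q.2 = q.2 * q.1 * q.1⁻¹
      rw [mul_inv_cancel_right]
    show S.τ _ = S.τ q
    conv_rhs => rw [e, map_mul, (S.eq_one_iff (p := (h, h))).2 ⟨rfl, hho⟩, mul_one]

/-- The involutions inducing the swap. -/
theorem card_inverters :
    Nat.card {a : N // a * a = 1 ∧ ∃ q, a = S.s * S.τ q} = Nat.card (scal K Q) := by
  obtain ⟨a₀, h₀, ⟨q₀, hq₀⟩, hact⟩ := S.exists_inverter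
  have hact' : ∀ q, S.s * S.τ q * S.s⁻¹ = a₀ * S.τ q * a₀⁻¹ := fun q => by rw [hact]; exact S.swap q.1 q.2
  have ha₀i : a₀⁻¹ = a₀ := inv_eq_of_mul_eq_one_right h₀
  rw [← S.card_inverted]
  refine Nat.card_congr ⟨fun a => ⟨a₀ * a, ?_⟩, fun t => ⟨a₀ * t, ?_⟩, fun a => Subtype.ext ?_,
    fun t => Subtype.ext ?_⟩
  · obtain ⟨a, ha, q, rfl⟩ := a
    have e : a₀ * (S.s * S.τ q) = S.τ (q₀⁻¹ * q) := by
      rw [map_mul, map_inv]
      calc a₀ * (S.s * S.τ q) = a₀⁻¹ * S.s * S.τ q := by rw [ha₀i, mul_assoc]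
        _ = _ := by rw [hq₀]; group
    refine ⟨_, e.symm, ?_⟩
    show S.s * (a₀ * (S.s * S.τ q)) * S.s⁻¹ = (a₀ * (S.s * S.τ q))⁻¹
    rw [e, hact', ← e, mul_inv_rev a₀, inv_eq_of_mul_eq_one_right ha, ha₀i, ← mul_assoc, h₀, one_mul]
  · obtain ⟨t, q, rfl, ht⟩ := t
    rw [hact', ha₀i] at ht
    refine ⟨?_, q₀ * q, by rw [map_mul, hq₀, mul_assoc]⟩
    show a₀ * S.τ q * (a₀ * S.τ q) = 1
    rw [← mul_assoc, ht, inv_mul_cancel]
  · show a₀ * (a₀ * (a : N)) = a
    rw [← mul_assoc, h₀, one_mul]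
  · show a₀ * (a₀ * (t : N)) = t
    rw [← mul_assoc, h₀, one_mul]

/-- The odd torus elements inverted by the swap. -/
theorem card_inverted_odd :
    Nat.card {t : N // (∃ q, S.τ q = t) ∧ Odd (orderOf t) ∧ S.s * t * S.s⁻¹ = t⁻¹} = cardOdd K Q := by
  haveI := Y.T.finiteK
  refine (Nat.card_congr (Equiv.ofBijective
    (fun a : {a : scal K Q // Odd (orderOf a)} => (⟨S.τ (a.1, a.1⁻¹), ⟨_, rfl⟩,
      a.2.of_dvd_nat ((orderOf_map_dvd _ _).trans (by rw [Prod.orderOf, orderOf_inv, Nat.lcm_self])),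
      by rw [S.swap, ← map_inv, Prod.inv_mk, inv_inv]⟩ :
      {t : N // (∃ q, S.τ q = t) ∧ Odd (orderOf t) ∧ S.s * t * S.s⁻¹ = t⁻¹})) ⟨fun a b h => ?_, ?_⟩)).symm
  · have h1 : S.τ ((a.1, a.1⁻¹) * (b.1, b.1⁻¹)⁻¹) = 1 := by
      rw [map_mul, map_inv, mul_inv_eq_one]
      exact congrArg Subtype.val h
    obtain ⟨h2, h3⟩ := S.eq_one_iff.1 h1
    simp only [Prod.fst_mul, Prod.snd_mul, Prod.fst_inv, Prod.snd_inv, inv_inv] at h2 h3
    have h4 : (a.1 * b.1⁻¹) ^ 2 = 1 := by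
      rw [sq]
      nth_rewrite 2 [h2]
      rw [mul_mul_mul_comm, mul_inv_cancel, one_mul, inv_mul_cancel]
    rcases (Nat.dvd_prime Nat.prime_two).1 (orderOf_dvd_of_pow_eq_one h4) with h | h
    · exact Subtype.ext (mul_inv_eq_one.1 (orderOf_eq_one_iff.1 h))
    · rw [h] at h3; exact absurd h3 (by decide)
  · rintro ⟨_, ⟨q, rfl⟩, ho, hq⟩
    rw [show q = (q.1, q.2) from rfl, S.swap, eq_inv_iff_mul_eq_one, ← map_mul] at hq
    obtain ⟨h, hh, hho⟩ := S.odd_sqrt (S.eq_one_iff.1 hq).2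
    have e : q = (q.1 * h⁻¹, (q.1 * h⁻¹)⁻¹) * (h, h) := by
      refine Prod.ext (by simp) ?_
      simp only [Prod.mk_mul_mk, mul_inv_rev, inv_inv]
      rw [mul_right_comm, hh]
      show q.2 = q.2 * q.1 * q.1⁻¹
      rw [mul_inv_cancel_right]
    set a := q.1 * h⁻¹ with ha
    have e' : S.τ (a, a⁻¹) = S.τ q := by
      conv_rhs => rw [e, map_mul, (S.eq_one_iff (p := (h, h))).2 ⟨rfl, hho⟩, mul_one]
    have hao : Odd (orderOf a) := by
      have h1 : S.τ ((a, a⁻¹) ^ orderOf (S.τ q)) = 1 := by rw [map_pow, e', pow_orderOf_eq_one]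
      obtain ⟨h2, -⟩ := S.eq_one_iff.1 h1
      rw [Prod.pow_fst, Prod.pow_snd, inv_pow, eq_inv_iff_mul_eq_one, ← mul_pow, ← pow_two, ← pow_mul,
        mul_comm 2, pow_mul] at h2
      -- so the power has order at most two, and is then trivial
      obtain ⟨-, h3⟩ := S.eq_one_iff.1 h1
      rw [Prod.pow_fst] at h3
      have h5 : a ^ orderOf (S.τ q) = 1 := orderOf_eq_one_iff.1 <| by
        rcases (Nat.dvd_prime Nat.prime_two).1 (orderOf_dvd_of_pow_eq_one h2) with h | h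
        · exact h
        · rw [h] at h3; exact absurd h3 (by decide)
      exact ho.of_dvd_nat (orderOf_dvd_of_pow_eq_one h5)
    exact ⟨⟨a, hao⟩, Subtype.ext e'⟩

theorem card_range : Nat.card S.τ.range * cardOdd K Q = Nat.card (scal K Q) ^ 2 := by
  haveI := Y.T.finiteK
  have h1 : Nat.card S.τ.ker = cardOdd K Q := (Nat.card_congr (Equiv.ofBijective
    (fun a : {a : scal K Q // Odd (orderOf a)} =>
      (⟨(a.1, a.1), MonoidHom.mem_ker.2 ((S.eq_one_iff (p := (a.1, a.1))).2 ⟨rfl, a.2⟩)⟩ : S.τ.ker))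
    ⟨fun a b h => Subtype.ext (congrArg (fun x : S.τ.ker => x.1.1) h), fun ⟨p, hp⟩ => by
      obtain ⟨h, ho⟩ := S.eq_one_iff.1 (MonoidHom.mem_ker.1 hp)
      exact ⟨⟨p.1, ho⟩, Subtype.ext (Prod.ext rfl h)⟩⟩)).symm
  rw [← h1, ← Subgroup.index_ker, Subgroup.index_mul_card, Nat.card_prod, sq]

end Split

theorem NSys.card_N (Y : NSys N H K Q) :
    (Nat.card N : ℤ) * (cardOdd K Q : ℤ) = Q * (Q ^ 2 - 1) * (Q - 1) := by
  haveI := Y.finiteH
  haveI := Fintype.ofFinite H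
  haveI := Y.T.finiteK
  have h1 : Nat.card Y.π.ker = cardOdd K Q := (Nat.card_congr (Equiv.ofBijective
    (fun a : {a : scal K Q // Odd (orderOf a)} => (⟨Y.T.D (a.1, a.1), MonoidHom.mem_ker.2
      (Y.ker_all _ (Y.T.D_center _) (by rw [orderOf_injective _ Y.T.D_inj, Prod.orderOf, Nat.lcm_self]; exact a.2))⟩ :
      Y.π.ker))
    ⟨fun a b h => Subtype.ext (congrArg Prod.fst (Y.T.D_inj (congrArg Subtype.val h))), fun ⟨g, hg⟩ => by
      obtain ⟨a, ha, hao⟩ := Y.T.ker_eq Y.π Y.ker_central Y.ker_odd hg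
      exact ⟨⟨a, hao⟩, Subtype.ext ha.symm⟩⟩)).symm
  rw [← Y.cardH, ← h1, ← Y.π.ker.index_mul_card, Subgroup.index_ker, MonoidHom.range_eq_top.2 Y.surj,
    Subgroup.card_top]
  push_cast
  rfl

namespace Split

variable (S : Split Y)
include S

/-- The pairs of involutions with product in a section off the diagonal. -/
theorem pairs_sec {p : scal K Q × scal K Q} (hp : p.1 ≠ p.2) (hp2 : p * p ≠ 1) (ht : Two p) :
    (Nat.card S.τ.range : ℂ) *
        ∑ a ∈ invol' (S.τ (Y.e, Y.e)), ∑ b ∈ invol' (S.τ (Y.e, Y.e)),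
          (if ∃ y', IsPPart 2 (a * b) y' ∧ IsConj (S.τ p) y' then (1 : ℂ) else 0) =
      if p.2 = p.1⁻¹ then (Nat.card N : ℂ) * Nat.card (scal K Q) * cardOdd K Q else 0 := by
  haveI : Fact (Nat.Prime 2) := ⟨Nat.prime_two⟩
  set zN := S.τ (Y.e, Y.e) with hzN
  have hzc : ∀ c : N, c * zN * c⁻¹ = zN := fun c => by
    rw [Subgroup.mem_center_iff.1 (S.diag_central _) c, mul_inv_cancel_right]
  let I : N → ℂ := fun x => ∑ a ∈ invol' zN, if a * x ∈ invol' zN then 1 else 0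
  have hI : IsClassFunction N I := fun x c => by
    have hmem : ∀ a, c⁻¹ * a * c ∈ invol' zN ↔ a ∈ invol' zN := fun a => by
      simp only [invol', Finset.mem_filter, Finset.mem_univ, true_and]
      rw [show orderOf (c⁻¹ * a * c) = orderOf a by
        rw [show c⁻¹ * a * c = MulAut.conj c⁻¹ a by simp, MulEquiv.orderOf_eq],
        show c⁻¹ * a * c = c⁻¹ * a * c⁻¹⁻¹ by rw [inv_inv]]
      refine and_congr_right fun _ => not_congr ⟨fun h => ?_, fun h => by rw [h, hzc]⟩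
      calc a = c * (c⁻¹ * a * c⁻¹⁻¹) * c⁻¹ := by group
        _ = zN := by rw [h, hzc]
    refine Finset.sum_bij' (fun a _ => c⁻¹ * a * c) (fun a _ => c * a * c⁻¹) (fun a ha => (hmem a).2 ha)
      (fun a ha => (hmem _).1 (by rwa [show c⁻¹ * (c * a * c⁻¹) * c = a by group])) (fun a _ => by group)
      (fun a _ => by group) (fun a _ => if_congr ?_ rfl rfl)
    rw [← hmem, show c⁻¹ * (a * (c * x * c⁻¹)) * c = c⁻¹ * a * c * x by group]
  have h1 : (∑ a ∈ invol' zN, ∑ b ∈ invol' zN,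
      (if ∃ y', IsPPart 2 (a * b) y' ∧ IsConj (S.τ p) y' then (1 : ℂ) else 0)) =
      ∑ x : N, if ∃ y', IsPPart 2 x y' ∧ IsConj (S.τ p) y' then I x else 0 := by
    have e : ∀ a : N, (∑ b ∈ invol' zN, (if ∃ y', IsPPart 2 (a * b) y' ∧ IsConj (S.τ p) y' then (1 : ℂ) else 0)) =
        ∑ x : N, if ∃ y', IsPPart 2 x y' ∧ IsConj (S.τ p) y' then (if a⁻¹ * x ∈ invol' zN then (1 : ℂ) else 0)
          else 0 := fun a => by
      rw [← Finset.sum_filter_add_sum_filter_not Finset.univ (fun x : N => a⁻¹ * x ∈ invol' zN),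
        Finset.sum_eq_zero (s := Finset.univ.filter (¬ a⁻¹ * · ∈ _)) (fun x hx => by
          rw [if_neg (Finset.mem_filter.1 hx).2, ite_self]), add_zero]
      refine Finset.sum_bij' (fun b _ => a * b) (fun x _ => a⁻¹ * x) (fun b hb => ?_) (fun x hx => ?_)
        (fun b _ => inv_mul_cancel_left a b) (fun x _ => mul_inv_cancel_left a x) (fun b hb => ?_)
      · exact Finset.mem_filter.2 ⟨Finset.mem_univ _, by rwa [inv_mul_cancel_left]⟩
      · exact (Finset.mem_filter.1 hx).2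
      · simp [hb]
    rw [Finset.sum_congr rfl fun a _ => e a, Finset.sum_comm]
    refine Finset.sum_congr rfl fun x _ => ?_
    split_ifs
    · refine Finset.sum_congr rfl fun a ha => if_congr ?_ rfl rfl
      simp only [invol', Finset.mem_filter, Finset.mem_univ, true_and] at ha
      rw [inv_eq_of_mul_eq_one_right (BrauerL3.mul_self_of_two ha.1)]
    · exact Finset.sum_const_zero
  -- the centraliser of the `2`-part is the torus
  have hCz : Subgroup.centralizer ({S.τ p} : Set N) = S.τ.range := by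
    ext x
    rw [Subgroup.mem_centralizer_singleton_iff]
    exact ⟨fun h => S.mem_of_commute hp h, by rintro ⟨r, rfl⟩; rw [← map_mul, ← map_mul, mul_comm]⟩
  have h2 := sum_sec_conj (S.τ p) I hI
  rw [hCz] at h2
  rw [h1, h2]
  -- the pairs `(x, a)`
  have key : ∀ x a : N, IsPPart 2 x (S.τ p) → a ∈ invol' zN → a * x ∈ invol' zN →
      p.2 = p.1⁻¹ ∧ (∃ q, a = S.s * S.τ q) ∧
        ∃ o, o * S.τ p = x ∧ (∃ q, S.τ q = o) ∧ Odd (orderOf o) ∧ S.s * o * S.s⁻¹ = o⁻¹ := by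
    intro x a hx ha hax
    simp only [invol', Finset.mem_filter, Finset.mem_univ, true_and] at ha hax
    have hai : a⁻¹ = a := inv_eq_of_mul_eq_one_right (BrauerL3.mul_self_of_two ha.1)
    have hinv : a * x * a⁻¹ = x⁻¹ := by
      rw [eq_inv_iff_mul_eq_one, hai]
      simpa [mul_assoc] using BrauerL3.mul_self_of_two hax.1
    have hy : a * S.τ p * a⁻¹ = (S.τ p)⁻¹ := by
      refine pPart_unique (pPart_conj hx a) ?_
      rw [hinv]
      obtain ⟨y, hxy, hc, ⟨k, hk⟩, hy⟩ := hx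
      exact ⟨y⁻¹, by rw [← hxy, mul_inv_rev]; exact hc.inv_inv.eq, hc.inv_inv,
        ⟨k, by rw [orderOf_inv, hk]⟩, by rwa [orderOf_inv]⟩
    have hpi : p.2 = p.1⁻¹ := by
      have hti : Two p⁻¹ := by
        obtain ⟨k, hk⟩ := ht
        exact ⟨k, by rw [inv_pow, hk, inv_one]⟩
      rcases S.conj_range hp (isConj_iff.2 ⟨a, hy.trans (map_inv _ p).symm⟩) with h | h
      · exact absurd (inv_eq_iff_mul_eq_one.1 (S.inj_two hti ht h)) hp2
      · have h' := S.inj_two hti (by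
          obtain ⟨k, hk⟩ := ht
          exact ⟨k, Prod.ext (congrArg Prod.snd hk) (congrArg Prod.fst hk)⟩) h
        exact (congrArg Prod.fst h').symm
    have hswp : S.s * S.τ p * S.s⁻¹ = (S.τ p)⁻¹ := by
      rw [← map_inv, show p = (p.1, p.2) from rfl, S.swap, Prod.inv_mk, hpi, inv_inv]
    -- `s⁻¹ a` centralises the `2`-part
    obtain ⟨q, hq⟩ := S.mem_of_commute hp (x := S.s⁻¹ * a) (mul_inv_eq_iff_eq_mul.1 (by
      calc S.s⁻¹ * a * S.τ p * (S.s⁻¹ * a)⁻¹ = S.s⁻¹ * (a * S.τ p * a⁻¹) * S.s := by group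
        _ = S.τ p := by rw [hy, ← hswp]; group))
    refine ⟨hpi, ⟨q, by rw [hq, mul_inv_cancel_left]⟩, ?_⟩
    obtain ⟨o, hxo, hc, -, hoo⟩ := hx
    obtain ⟨q', hq'⟩ := S.mem_of_commute hp hc.symm
    refine ⟨o, by rw [← hxo, hc.eq], ⟨q', hq'⟩, Nat.not_even_iff_odd.1 fun h => hoo h.two_dvd, ?_⟩
    have hqq : S.τ q * o = o * S.τ q := by rw [← hq', ← map_mul, ← map_mul, mul_comm]
    have ha' : a = S.s * S.τ q := by rw [hq, mul_inv_cancel_left]
    have h3 : a * o * a⁻¹ = o⁻¹ := by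
      have h4 : a * (S.τ p * o) * a⁻¹ = (o * S.τ p)⁻¹ := by rw [hxo, hinv, ← hc.eq, hxo]
      rw [← conj_mul, hy, mul_inv_rev] at h4
      exact mul_left_cancel h4
    rw [ha', mul_inv_rev] at h3
    calc S.s * o * S.s⁻¹ = S.s * (S.τ q * o * (S.τ q)⁻¹) * S.s⁻¹ := by rw [hqq, mul_inv_cancel_right]
      _ = o⁻¹ := by rw [← h3]; group
  by_cases hpi : p.2 = p.1⁻¹
  · rw [if_pos hpi, mul_assoc]
    congr 1
    have hW := S.card_inverters
    have hO := S.card_inverted_odd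
    have hswp : S.s * S.τ p * S.s⁻¹ = (S.τ p)⁻¹ := by
      rw [← map_inv, show p = (p.1, p.2) from rfl, S.swap, Prod.inv_mk, hpi, inv_inv]
    have hcount : Nat.card {v : N × N // IsPPart 2 v.1 (S.τ p) ∧ v.2 ∈ invol' zN ∧ v.2 * v.1 ∈ invol' zN} =
        Nat.card (scal K Q) * cardOdd K Q := by
      rw [← hW, ← hO, ← Nat.card_prod]
      refine (Nat.card_congr (Equiv.ofBijective (fun w => (⟨(w.2.1 * S.τ p, w.1.1), ?_⟩ :
        {v : N × N // IsPPart 2 v.1 (S.τ p) ∧ v.2 ∈ invol' zN ∧ v.2 * v.1 ∈ invol' zN})) ⟨?_, ?_⟩)).symm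
      · obtain ⟨⟨a, ha, q, rfl⟩, ⟨o, ⟨q', rfl⟩, ho, hso⟩⟩ := w
        have hp' : IsPPart 2 (S.τ q' * S.τ p) (S.τ p) := by
          obtain ⟨k, hk⟩ := ht
          obtain ⟨i, -, hi⟩ := (Nat.dvd_prime_pow Nat.prime_two).1
            (orderOf_dvd_of_pow_eq_one (show S.τ p ^ 2 ^ k = 1 by rw [← map_pow, hk, map_one]))
          exact ⟨S.τ q', (Commute.all p q').map S.τ, (Commute.all p q').map S.τ, ⟨i, hi⟩,
            fun h => Nat.not_even_iff_odd.2 ho (even_iff_two_dvd.2 h)⟩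
        have hact : ∀ r, S.s * S.τ q * S.τ r * (S.s * S.τ q)⁻¹ = S.s * S.τ r * S.s⁻¹ := fun r => by
          rw [mul_assoc S.s, ← map_mul, mul_comm q, map_mul, mul_inv_rev, ← mul_assoc S.s]
          group
        have hni : ∀ w : N, w * w = 1 → (∀ r, w * S.τ r * w⁻¹ = S.s * S.τ r * S.s⁻¹) → w ∈ invol' zN := by
          intro w hw hwr
          simp only [invol', Finset.mem_filter, Finset.mem_univ, true_and]
          have hne : ∀ t ∈ Subgroup.center N, w ≠ t := fun t htc e => hp (by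
            refine S.central_param (p := p) ?_
            rw [← hwr, e, ← Subgroup.mem_center_iff.1 htc, mul_inv_cancel_right])
          exact ⟨orderOf_eq_prime (by rw [sq, hw]) (hne 1 (one_mem _)), hne _ (S.diag_central _)⟩
        refine ⟨hp', hni _ ha hact, hni _ ?_ fun r => ?_⟩
        · -- the product is an involution
          set a := S.s * S.τ q
          set x := S.τ q' * S.τ p
          have e1 : a * x * a⁻¹ = x⁻¹ := by
            rw [← conj_mul, hact, hact, hso, hswp, ← mul_inv_rev]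
            exact congrArg Inv.inv ((Commute.all p q').map S.τ).eq
          calc a * x * (a * x) = (a * x * a⁻¹) * (a * a) * x := by group
            _ = 1 := by rw [e1, ha, mul_one, inv_mul_cancel]
        · show S.s * S.τ q * (S.τ q' * S.τ p) * S.τ r * (S.s * S.τ q * (S.τ q' * S.τ p))⁻¹ = _
          rw [← hact r, show S.s * S.τ q * (S.τ q' * S.τ p) * S.τ r * (S.s * S.τ q * (S.τ q' * S.τ p))⁻¹ =
              S.s * S.τ q * ((S.τ q' * S.τ p) * S.τ r * (S.τ q' * S.τ p)⁻¹) * (S.s * S.τ q)⁻¹ by group,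
            ← map_mul, ← map_inv, ← map_mul, ← map_mul, mul_inv_cancel_comm]
      · rintro ⟨a, o⟩ ⟨a', o'⟩ h
        simp only [Subtype.mk.injEq, Prod.mk.injEq] at h
        exact Prod.ext (Subtype.ext h.2) (Subtype.ext (mul_right_cancel h.1))
      · rintro ⟨⟨x, a⟩, hx, ha, hax⟩
        obtain ⟨-, ⟨q, hq⟩, o, hox, hoq, hoo, hso⟩ := key x a hx ha hax
        have ha2 : a * a = 1 := by
          simp only [invol', Finset.mem_filter] at ha
          exact BrauerL3.mul_self_of_two ha.2.1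
        exact ⟨(⟨a, ha2, q, hq⟩, ⟨o, hoq, hoo, hso⟩), Subtype.ext (Prod.ext hox rfl)⟩
    rw [← Nat.cast_mul, ← hcount, Nat.card_eq_fintype_card, Fintype.card_subtype, ← Finset.sum_boole,
      Fintype.sum_prod_type]
    refine Finset.sum_congr rfl fun x _ => ?_
    split_ifs with hx
    · show (∑ a ∈ invol' zN, _) = _
      rw [← Finset.sum_filter_add_sum_filter_not Finset.univ (· ∈ invol' zN), Finset.sum_eq_zero
        (s := Finset.univ.filter (¬ · ∈ _)) fun a ha => if_neg fun h => (Finset.mem_filter.1 ha).2 h.2.1, add_zero,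
        Finset.filter_univ_mem]
      exact Finset.sum_congr rfl fun a ha => if_congr (by simp [hx, ha]) rfl rfl
    · exact (Finset.sum_eq_zero fun a _ => if_neg fun h => hx h.1).symm
  · rw [if_neg hpi, Finset.sum_eq_zero, mul_zero]
    intro x _
    split_ifs with hx
    · exact Finset.sum_eq_zero fun a ha => if_neg fun hax => hpi (key x a hx ha hax).1
    · rfl

end Split

end Cfsg.Agent.Invol.AbgOrder
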