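import Cfsg.Agent.Lib.Invol.AbgOrder.OrdLift
import Cfsg.Agent.Lib.Invol.AbgOrder.OrdSub

/-!
# Fusion of the torus, and the sections with a normal `2`-complement

A `2`-element of the torus outside the diagonal and the axes has the lifted subgroup as a Sylow subgroup of its
centraliser, central in its normaliser; it is fused to the three images under the rotation and their swaps.
-/

set_option autoImplicit false
set_option linter.unusedSectionVars false
set_option linter.style.haveILetI false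

open scoped Classical

namespace Cfsg.Agent.Invol.AbgOrder

open Cfsg Cfsg.Agent.Char Cfsg.Agent.Block
open Cfsg.Agent.Invol.BrauerL3 (scal)
open Cfsg.Agent.Invol.Wreath5Core (conj_of_same_image eq_one_of_ker)

universe u v v' w

/-- Burnside's normal complement for a self-centralising `2`-subgroup central in its normaliser. -/
theorem exists_compl {Γ : Type u} [Group Γ] [Finite Γ] (A : Subgroup Γ) (hA : IsPGroup 2 A)
    (hmax : ∀ g : Γ, (∃ k : ℕ, orderOf g = 2 ^ k) → (∀ a ∈ A, Commute g a) → g ∈ A)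
    (hcent : ∀ g ∈ Subgroup.normalizer (A : Set Γ), ∀ a ∈ A, Commute g a) :
    ∃ (L : Subgroup Γ) (_ : L.Normal) (k : ℕ), ¬ 2 ∣ Nat.card L ∧ L.index = 2 ^ k ∧
      2 ^ (Nat.card Γ).factorization 2 = Nat.card A := by
  haveI : Fact (Nat.Prime 2) := ⟨Nat.prime_two⟩
  obtain ⟨P, hP⟩ := hA.exists_le_sylow
  have hPA : (P : Subgroup Γ) = A := by
    by_contra hne
    haveI : Group.IsNilpotent ↥(P : Subgroup Γ) := P.isPGroup'.isNilpotent
    have hlt : A.subgroupOf (P : Subgroup Γ) < ⊤ :=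
      lt_top_iff_ne_top.2 fun e => hne (le_antisymm (Subgroup.subgroupOf_eq_top.1 e) hP)
    obtain ⟨g, hg, hgA⟩ := SetLike.exists_of_lt (Group.normalizerCondition_of_isNilpotent _ hlt)
    refine hgA (Subgroup.mem_subgroupOf.2 (hmax g ?_ (hcent g ?_)))
    · obtain ⟨k, hk⟩ := IsPGroup.iff_orderOf.1 P.isPGroup' g
      exact ⟨k, by rw [Subgroup.orderOf_coe, hk]⟩
    · exact Subgroup.mem_normalizer_fintype fun x hx => (Subgroup.mem_normalizer_iff.1 hg ⟨x, hP hx⟩).1 hx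
  have hN : Subgroup.normalizer (P : Set Γ) ≤ Subgroup.centralizer (P : Set Γ) := fun g hg => by
    rw [Subgroup.mem_centralizer_iff]
    intro a ha
    have e : (P : Set Γ) = (A : Set Γ) := congrArg (fun B : Subgroup Γ => (B : Set Γ)) hPA
    rw [e] at hg ha
    exact (hcent g hg a ha).symm.eq
  have hcard : Nat.card A = 2 ^ (Nat.card Γ).factorization 2 := hPA ▸ P.card_eq_multiplicity
  exact ⟨(MonoidHom.transferSylow P hN).ker, MonoidHom.normal_ker _, (Nat.card Γ).factorization 2,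
    MonoidHom.not_dvd_card_ker_transferSylow P hN,
    (MonoidHom.ker_transferSylow_isComplement' P hN).symm.index_eq_card.trans P.card_eq_multiplicity, hcard.symm⟩

variable {K : Type w} [CommGroup K] {Q : ℤ}

/-- The rotation. -/
def r1 (p : scal K Q × scal K Q) : scal K Q × scal K Q := (p.2⁻¹, p.1 * p.2⁻¹)

/-- Its square. -/
def r2 (p : scal K Q × scal K Q) : scal K Q × scal K Q := (p.2 * p.1⁻¹, p.1⁻¹)

/-- The swap. -/
def sw (p : scal K Q × scal K Q) : scal K Q × scal K Q := (p.2, p.1)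

/-- Off the diagonal and the axes. -/
def Good (p : scal K Q × scal K Q) : Prop := p.1 ≠ p.2 ∧ p.1 ≠ 1 ∧ p.2 ≠ 1

/-- The six images. -/
def Orb (p q : scal K Q × scal K Q) : Prop :=
  q = p ∨ q = r1 p ∨ q = r2 p ∨ q = sw p ∨ q = sw (r1 p) ∨ q = sw (r2 p)

variable {p q : scal K Q × scal K Q}

theorem two_r1 (h : Two p) : Two (r1 p) :=
  h.comp fun _ h1 h2 => ⟨by show p.2⁻¹ ^ _ = 1; rw [inv_pow, h2, inv_one],
    by show (p.1 * p.2⁻¹) ^ _ = 1; rw [mul_pow, h1, inv_pow, h2, inv_one, one_mul]⟩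

theorem two_r2 (h : Two p) : Two (r2 p) :=
  h.comp fun _ h1 h2 => ⟨by show (p.2 * p.1⁻¹) ^ _ = 1; rw [mul_pow, h2, inv_pow, h1, inv_one, one_mul],
    by show p.1⁻¹ ^ _ = 1; rw [inv_pow, h1, inv_one]⟩

theorem r1_r1 (p : scal K Q × scal K Q) : r1 (r1 p) = r2 p := by
  ext <;> simp [r1, r2]

theorem r1_r2 (p : scal K Q × scal K Q) : r1 (r2 p) = p := by
  ext <;> simp [r1, r2]

theorem r2_r1 (p : scal K Q × scal K Q) : r2 (r1 p) = p := by
  ext <;> simp [r1, r2]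

theorem r2_r2 (p : scal K Q × scal K Q) : r2 (r2 p) = r1 p := by
  ext <;> simp [r1, r2]

theorem r1_sw (p : scal K Q × scal K Q) : r1 (sw p) = sw (r2 p) := by
  ext <;> simp [r1, r2, sw, mul_comm]

theorem r2_sw (p : scal K Q × scal K Q) : r2 (sw p) = sw (r1 p) := by
  ext <;> simp [r1, r2, sw, mul_comm]

theorem sw_sw (p : scal K Q × scal K Q) : sw (sw p) = p := rfl

theorem good_sw (h : Good p) : Good (sw p) := ⟨h.1.symm, h.2.2, h.2.1⟩

theorem good_r1 (h : Good p) : Good (r1 p) := by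
  refine ⟨fun e => h.2.1 ?_, fun e => h.2.2 (inv_eq_one.1 e), fun e => h.1 (mul_inv_eq_one.1 e)⟩
  have e' : p.2⁻¹ = p.1 * p.2⁻¹ := e
  exact right_eq_mul.1 e'

theorem good_r2 (h : Good p) : Good (r2 p) := r1_r1 p ▸ good_r1 (good_r1 h)

theorem Orb.r1 (h : Orb p q) : Orb p (AbgOrder.r1 q) := by
  rcases h with rfl | rfl | rfl | rfl | rfl | rfl <;> simp [Orb, r1_r1, r1_r2, r1_sw, r2_r1, r2_r2]

theorem Orb.r2 (h : Orb p q) : Orb p (AbgOrder.r2 q) := r1_r1 q ▸ h.r1.r1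

theorem Orb.sw (h : Orb p q) : Orb p (AbgOrder.sw q) := by
  rcases h with rfl | rfl | rfl | rfl | rfl | rfl <;> simp [Orb, sw_sw]

/-- For a good parameter the three images differ, also up to the swap. -/
theorem good_apart {p : scal K Q × scal K Q} (hp : Good p) (ht : Two p) :
    r1 p ≠ p ∧ r2 p ≠ p ∧ r1 p ≠ sw p ∧ r2 p ≠ sw p := by
  obtain ⟨a, b⟩ := p
  obtain ⟨-, ha, hb⟩ := hp
  obtain ⟨k, hk⟩ := ht
  have hcube : ∀ c : scal K Q, c ^ 2 ^ k = 1 → c ^ 3 = 1 → c = 1 := fun c h1 h3 => by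
    rw [← orderOf_eq_one_iff]
    exact Nat.eq_one_of_dvd_coprimes (Nat.Coprime.pow_left k (by decide : Nat.Coprime 2 3))
      (orderOf_dvd_of_pow_eq_one h1) (orderOf_dvd_of_pow_eq_one h3)
  refine ⟨fun e => ?_, fun e => ?_, fun e => ?_, fun e => ?_⟩ <;>
    simp only [r1, r2, sw, Prod.mk.injEq] at e <;> obtain ⟨e1, e2⟩ := e
  · refine hb (hcube b (congrArg Prod.snd hk) ?_)
    rw [← e1, ← mul_inv, inv_eq_iff_eq_inv] at e2
    have e3 : b * b = b⁻¹ := by simpa using e2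
    rw [pow_three, e3, mul_inv_cancel]
  · refine ha (hcube a (congrArg Prod.fst hk) ?_)
    rw [← e2, ← mul_inv, inv_eq_iff_eq_inv] at e1
    have e3 : a * a = a⁻¹ := by simpa using e1
    rw [pow_three, e3, mul_inv_cancel]
  · exact hb (inv_eq_one.1 (mul_eq_left.1 e2))
  · exact ha (inv_eq_one.1 (mul_eq_left.1 e1))

variable {H : Type v} [Group H] {G : Type v'} [Group G] [Fintype G] {X : Type u} [Group X] [Fintype X]
  {N : Subgroup X} {Y : NSys N H K Q} {D : PData G X}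

/-- The torus with its lift and the two elements inducing the swap and the transposition. -/
structure Frm (D : PData G X) (S : Split Y) where
  hN : NHyp N
  L : Lift D S
  gs : G
  gt : G
  hgs : L.Acts gs (fun p => (p.2, p.1))
  hgt : L.Acts gt (fun p => (p.1 * p.2⁻¹, p.2⁻¹))

variable {S : Split Y}

/-- The order of the `2`-part of the torus. -/
noncomputable def card2 (K : Type w) [CommGroup K] (Q : ℤ) : ℕ := Nat.card {p : scal K Q × scal K Q // Two p}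

/-- The `2`-part of a section. -/
def Sec (n : N) (y : N) : Prop := ∃ y' : N, IsPPart 2 n y' ∧ IsConj y y'

theorem sec_iff {n x y : N} (hx : IsPPart 2 n x) : Sec n y ↔ IsConj y x := by
  haveI : Fact (Nat.Prime 2) := ⟨Nat.prime_two⟩
  exact ⟨fun ⟨y', hy', hc⟩ => by rwa [pPart_unique hx hy'], fun h => ⟨x, hx, h⟩⟩

theorem exists_param {n : N} (hn : ∃ k : ℕ, orderOf n = 2 ^ k) {p : scal K Q × scal K Q}
    (h : IsConj (S.τ p) n) : ∃ q, Two q ∧ IsConj (S.τ q) n := by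
  obtain ⟨c, hc⟩ := isConj_iff.1 h
  obtain ⟨k, hk⟩ := hn
  obtain ⟨q, hq, e⟩ := S.exists_two (p := p) ⟨k, by rw [← hk, ← hc, orderOf_conj_eq]⟩
  exact ⟨q, hq, e.symm ▸ h⟩

theorem two_power_tau (S : Split Y) {p : scal K Q × scal K Q} (hp : Two p) :
    ∃ k : ℕ, orderOf (S.τ p) = 2 ^ k := by
  obtain ⟨k, hk⟩ := hp
  obtain ⟨i, -, hi⟩ := (Nat.dvd_prime_pow Nat.prime_two).1
    (orderOf_dvd_of_pow_eq_one (show S.τ p ^ 2 ^ k = 1 by rw [← map_pow, hk, map_one]))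
  exact ⟨i, hi⟩

theorem conj_sw (S : Split Y) (p : scal K Q × scal K Q) : IsConj (S.τ p) (S.τ (sw p)) :=
  isConj_iff.2 ⟨S.s, S.swap p.1 p.2⟩

/-- The constant one is in the principal block. -/
theorem inB0_one {M : Ideal AlgInt} (hM : IsPModular 2 M) {Γ : Type u} [Group Γ] [Fintype Γ] :
    InB0 M (fun _ : Γ => (1 : ℂ)) := by
  haveI : Fact (Nat.Prime 2) := ⟨Nat.prime_two⟩
  refine ⟨fun _ _ => rfl, fun ψ hψ => classInner_irr_ne (trivialIrr Γ).2 ψ.2 fun h => hψ ?_⟩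
  rw [show ψ = trivialIrr Γ from Subtype.ext h.symm]
  exact trivial_mem_principalBlock hM

namespace Frm

variable (F : Frm D S)
include F

/-- The element inducing the rotation. -/
def gr : G := F.gs * F.gt

theorem hgr : F.L.Acts F.gr r1 :=
  F.L.acts_mul F.hgs F.hgt fun p hp => hp.comp fun _ h1 h2 =>
    ⟨by show (p.1 * p.2⁻¹) ^ _ = 1; rw [mul_pow, h1, inv_pow, h2, inv_one, one_mul],
      by show p.2⁻¹ ^ _ = 1; rw [inv_pow, h2, inv_one]⟩

theorem hgr2 : F.L.Acts (F.gr * F.gr) r2 := fun p hp => by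
  rw [F.L.acts_mul F.hgr F.hgr (fun _ => two_r1) p hp, Function.comp_apply, r1_r1]

theorem invol_images : r1 ((1, Y.e) : scal K Q × scal K Q) = (Y.e, Y.e) ∧
    r2 ((Y.e, 1) : scal K Q × scal K Q) = (Y.e, Y.e) := by
  have he : Y.e⁻¹ = Y.e := inv_eq_of_mul_eq_one_right Y.e_sq
  constructor <;> simp [r1, r2, he]

/-- The elements of the normaliser fixing a good element act trivially. -/
theorem cent {p : scal K Q × scal K Q} (hp : Good p) (ht : Two p) {g : G}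
    (hg : g ∈ Subgroup.normalizer (F.L.A : Set G)) (hfix : g * F.L.ℓ p * g⁻¹ = F.L.ℓ p) : F.L.Acts g id := by
  obtain ⟨q, hq, e⟩ := F.L.conj_eq hg (Y.e, Y.e)
  have hee := F.L.two_e
  have hqq : q * q = 1 := F.L.inj (hq.mul hq) Two.one (by
    rw [map_mul, ← e, conj_mul, ← map_mul, Prod.mk_mul_mk, Y.e_sq]
    simp [← Prod.one_eq_mk])
  have hq1 : q ≠ 1 := fun h => by
    rw [h, map_one, conj_eq_one_iff, ← map_one F.L.ℓ] at e
    exact Y.e_ne (congrArg Prod.fst (F.L.inj hee Two.one e))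
  obtain ⟨h1, h2, h3, h4⟩ := good_apart hp ht
  have key : ∀ (r : G) (θ : scal K Q × scal K Q → scal K Q × scal K Q), F.L.Acts r θ →
      (∀ p, Two p → Two (θ p)) → r * F.L.ℓ q * r⁻¹ = F.L.ℓ (Y.e, Y.e) →
      (θ p = p ∧ F.L.Acts (r * g) id) ∨ θ p = sw p := by
    intro r θ hr hθ hrq
    have hc : r * g * F.L.ℓ (Y.e, Y.e) * (r * g)⁻¹ = F.L.ℓ (Y.e, Y.e) := by
      rw [show r * g * F.L.ℓ (Y.e, Y.e) * (r * g)⁻¹ = r * (g * F.L.ℓ (Y.e, Y.e) * g⁻¹) * r⁻¹ by group, e, hrq]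
    have hC : r * g ∈ D.C := Subgroup.mem_centralizer_singleton_iff.2 (by
      rw [← F.L.z_eq F.hN]; exact mul_inv_eq_iff_eq_mul.1 hc)
    have hp' : r * g * F.L.ℓ p * (r * g)⁻¹ = F.L.ℓ (θ p) := by
      rw [show r * g * F.L.ℓ p * (r * g)⁻¹ = r * (g * F.L.ℓ p * g⁻¹) * r⁻¹ by group, hfix, hr p ht]
    rcases F.L.stab F.hN hC (mul_mem (F.L.norm_of_acts hr) hg) with h | h
    · exact Or.inl ⟨F.L.inj (hθ p ht) ht (hp'.symm.trans (h p ht)), h⟩
    · exact Or.inr (F.L.inj (hθ p ht) ht.swap (hp'.symm.trans (h p ht)))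
  rcases F.L.invol_param hqq hq1 with rfl | rfl | rfl
  · rcases key 1 id (fun p _ => by simp) (fun p hp => hp) (by simp) with ⟨-, h⟩ | h
    · simpa using h
    · exact absurd (congrArg Prod.fst h) hp.1
  · rcases key _ _ F.hgr (fun _ => two_r1) (by rw [F.hgr _ F.L.two_1e, F.invol_images.1]) with ⟨h, -⟩ | h
    · exact absurd h h1
    · exact absurd h h3
  · rcases key _ _ F.hgr2 (fun _ => two_r2) (by rw [F.hgr2 _ F.L.two_e1, F.invol_images.2]) with ⟨h, -⟩ | h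
    · exact absurd h h2
    · exact absurd h h4

theorem card_A : Nat.card F.L.A = card2 K Q := by
  refine (Nat.card_congr (Equiv.ofBijective (fun p : {p // Two p} => (⟨F.L.ℓ p.1, p.1, rfl⟩ : F.L.A))
    ⟨fun a b h => Subtype.ext (F.L.inj a.2 b.2 (congrArg Subtype.val h)), ?_⟩)).symm
  rintro ⟨x, p, rfl⟩
  obtain ⟨q, hq, e⟩ := F.L.red p
  exact ⟨⟨q, hq⟩, Subtype.ext e⟩

/-- The centraliser in `G` of a good element. -/
theorem compl {p : scal K Q × scal K Q} (hp : Good p) (ht : Two p) :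
    ∃ (L : Subgroup (Cz (F.L.ℓ p))) (_ : L.Normal) (k : ℕ), ¬ 2 ∣ Nat.card L ∧ L.index = 2 ^ k ∧
      2 ^ (Nat.card (Cz (F.L.ℓ p))).factorization 2 = card2 K Q := by
  have hle : F.L.A ≤ Cz (F.L.ℓ p) := by
    rintro _ ⟨q, rfl⟩
    exact Subgroup.mem_centralizer_singleton_iff.2 (by rw [← map_mul, ← map_mul, mul_comm])
  refine (exists_compl (F.L.A.subgroupOf (Cz (F.L.ℓ p)))
    (F.L.isPGroup_A.comap_subtype) (fun g hg hc => ?_) (fun g hg a ha => ?_)).imp fun L ⟨hL, k, h1, h2, h3⟩ =>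
      ⟨hL, k, h1, h2, h3.trans ((Nat.card_congr (Subgroup.subgroupOfEquivOfLe hle).toEquiv).trans F.card_A)⟩
  · -- an element centralising the subgroup
    have hc' : ∀ r, Commute (g : G) (F.L.ℓ r) := fun r =>
      congrArg Subtype.val (hc ⟨_, hle ⟨r, rfl⟩⟩ ⟨r, rfl⟩).eq
    have hgC : (g : G) ∈ D.C := Subgroup.mem_centralizer_singleton_iff.2 (by
      rw [← F.L.z_eq F.hN]; exact hc' _)
    haveI := F.hN.normal
    obtain ⟨j, hj⟩ := hg
    obtain ⟨i, -, hi⟩ := (Nat.dvd_prime_pow Nat.prime_two).1 ((orderOf_map_dvd D.π ⟨(g : G), hgC⟩).trans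
      (dvd_of_eq (show orderOf (⟨(g : G), hgC⟩ : D.C) = 2 ^ j by rw [Subgroup.orderOf_mk, Subgroup.orderOf_coe, hj])))
    have hcm : Commute (⟨_, mem_of_two_power F.hN.odd ⟨i, hi⟩⟩ : N) (S.τ (1, Y.e)) := Subtype.ext (by
      show D.π ⟨g, hgC⟩ * (S.τ (1, Y.e) : X) = (S.τ (1, Y.e) : X) * D.π ⟨g, hgC⟩
      rw [← F.L.proj _ F.L.two_1e, ← map_mul, ← map_mul]
      exact congrArg D.π (Subtype.ext (hc' _).eq))
    obtain ⟨r, hr⟩ := (S.mem_iff _).1 hcm
    obtain ⟨r', hr', e⟩ := S.exists_two (p := r) ⟨i, by rw [hr, ← Subgroup.orderOf_coe]; exact hi⟩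
    -- the quotient by the lift is in the kernel
    have hcm2 : Commute (⟨(g : G), hgC⟩ : D.C) (⟨F.L.ℓ r', F.L.mem r'⟩ : D.C)⁻¹ :=
      Commute.inv_right (show Commute (⟨(g : G), hgC⟩ : D.C) ⟨F.L.ℓ r', F.L.mem r'⟩ from Subtype.ext (hc' r').eq)
    obtain ⟨j', hj'⟩ := hr'
    have hd : ((⟨(g : G), hgC⟩ : D.C) * (⟨F.L.ℓ r', F.L.mem r'⟩ : D.C)⁻¹) ^ 2 ^ (j + j') = 1 := by
      refine Subtype.ext ?_
      rw [hcm2.mul_pow, inv_pow]
      simp only [Subgroup.coe_mul, Subgroup.coe_inv, SubmonoidClass.coe_pow, OneMemClass.coe_one]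
      rw [pow_add, pow_mul, ← hj, ← Subgroup.orderOf_coe, pow_orderOf_eq_one, one_pow, mul_comm (orderOf _),
        pow_mul, ← map_pow F.L.ℓ, hj', map_one, one_pow, inv_one, one_mul]
    obtain ⟨i', -, hi'⟩ := (Nat.dvd_prime_pow Nat.prime_two).1 (orderOf_dvd_of_pow_eq_one hd)
    have h := eq_one_of_ker D.π D.odd ⟨i', hi'⟩ (by
      rw [map_mul, map_inv, F.L.proj r' ⟨j', hj'⟩, e, hr]
      exact mul_inv_cancel _)
    rw [mul_inv_eq_one] at h
    exact ⟨r', (congrArg Subtype.val h).symm⟩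
  · -- an element normalising it
    have hfix : (g : G) * F.L.ℓ p * (g : G)⁻¹ = F.L.ℓ p := by
      rw [Subgroup.mem_centralizer_singleton_iff.1 g.2, mul_inv_cancel_right]
    have hgn : (g : G) ∈ Subgroup.normalizer (F.L.A : Set G) := F.L.norm_of_conj fun r =>
      (Subgroup.mem_normalizer_iff.1 hg ⟨_, hle ⟨r, rfl⟩⟩).1 ⟨r, rfl⟩
    obtain ⟨r, hr⟩ := ha
    obtain ⟨r', hr', e⟩ := F.L.red r
    refine Subtype.ext ?_
    show (g : G) * (a : G) = (a : G) * (g : G)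
    have h := F.cent hp ht hgn hfix r' hr'
    rw [id, e, hr] at h
    exact mul_inv_eq_iff_eq_mul.1 h

variable {M : Ideal AlgInt} (hM : IsPModular 2 M)
include hM

/-- A function in the principal block on a section of the torus. -/
theorem sec_sum {p : scal K Q × scal K Q} (hp : p.1 ≠ p.2) (_ht : Two p) {f : N → ℂ} (hf : InB0 M f) {n : N}
    (hn : Sec n (S.τ p)) :
    f n = (card2 K Q : ℂ) * (Nat.card N : ℂ)⁻¹ * ∑ k : N, if Sec k (S.τ p) then f k else 0 := by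
  haveI : Fact (Nat.Prime 2) := ⟨Nat.prime_two⟩
  obtain ⟨x, hx, hcx⟩ := hn
  obtain ⟨c, hc⟩ := isConj_iff.1 hcx
  -- the centraliser in `N` is abelian
  let T : Subgroup (Cz (S.τ p)) := (S.τ.comp (powMonoidHom (Y.exists_two_part.choose_spec.choose))).range.subgroupOf _
  obtain ⟨-, -, hTr, hTp, -, -⟩ := Y.exists_two_part.choose_spec.choose_spec
  set r := Y.exists_two_part.choose_spec.choose
  have hcomm : ∀ a b : Cz (S.τ p), Commute a b := fun a b => Subtype.ext (S.range_comm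
    (S.mem_of_commute hp (Subgroup.mem_centralizer_singleton_iff.1 a.2))
    (S.mem_of_commute hp (Subgroup.mem_centralizer_singleton_iff.1 b.2))).eq
  have hTle : ∀ q, S.τ q ∈ Cz (S.τ p) := fun q =>
    Subgroup.mem_centralizer_singleton_iff.2 (by rw [← map_mul, ← map_mul, mul_comm])
  have hT : IsPGroup 2 T := fun ⟨a, q, hq⟩ => by
    obtain ⟨j, hj⟩ := hTp q
    exact ⟨j, Subtype.ext (Subtype.ext (by
      show (a : N) ^ 2 ^ j = 1
      rw [show (a : N) = S.τ (q ^ r) from hq.symm, ← map_pow, hj, map_one]))⟩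
  obtain ⟨L, hL, k, h1, h2, h3⟩ := exists_compl T hT (fun g hg _ => by
      obtain ⟨q, hq⟩ := S.mem_of_commute hp (Subgroup.mem_centralizer_singleton_iff.1 g.2)
      obtain ⟨j, hj⟩ := hg
      obtain ⟨q', hq', e⟩ := S.exists_two (p := q) ⟨j, by rw [hq, Subgroup.orderOf_coe, hj]⟩
      exact ⟨q', by show S.τ (q' ^ r) = (g : N); rw [hTr q' hq', e, hq]⟩)
    (fun g _ a _ => hcomm g a)
  have hcard : Nat.card T = card2 K Q := by
    refine (Nat.card_congr (Equiv.ofBijective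
      (fun q : {q // Two q} => (⟨⟨S.τ q.1, hTle _⟩, q.1, by show S.τ (q.1 ^ r) = S.τ q.1; rw [hTr q.1 q.2]⟩ : T))
      ⟨fun a b h => Subtype.ext (S.inj_two a.2 b.2 (congrArg (fun w : T => ((w : Cz (S.τ p)) : N)) h)), ?_⟩)).symm
    rintro ⟨⟨a, ha⟩, q, hq⟩
    exact ⟨⟨q ^ r, hTp q⟩, Subtype.ext (Subtype.ext hq)⟩
  have key : ∀ k : N, f k * blockKer M n k = (card2 K Q : ℂ) * if Sec k (S.τ p) then f k else 0 := by
    intro k
    obtain ⟨y, hy⟩ := exists_pPart (p := 2) k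
    have hn' : IsPPart 2 (c⁻¹ * n * c) (S.τ p) := by
      have := pPart_conj hx c⁻¹
      rwa [inv_inv, show c⁻¹ * x * c = S.τ p by rw [← hc]; group] at this
    rw [show blockKer M n k = blockKer M (c⁻¹ * n * c) k by
      rw [← blockKer_conj_left n k c⁻¹, inv_inv]]
    simp only [sec_iff hy]
    split_ifs with h
    · rw [blockKer_nilp hM hn' hy h h1 h2, h3, hcard, mul_comm]
    · rw [blockKer_eq_zero hM hn' hy h, mul_zero, mul_zero]
  conv_lhs => rw [← sum_blockKer hf n, Finset.sum_congr rfl fun k _ => key k, ← Finset.mul_sum]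
  ring

/-- The number of elements of such a section. -/
theorem sec_card {p : scal K Q × scal K Q} (hp : p.1 ≠ p.2) (ht : Two p) :
    (card2 K Q : ℂ) * (Nat.card N : ℂ)⁻¹ * ∑ k : N, (if Sec k (S.τ p) then 1 else 0 : ℂ) = 1 := by
  refine (F.sec_sum hM hp ht (inB0_one hM) (n := S.τ p) ⟨S.τ p, ?_, IsConj.refl _⟩).symm
  exact ⟨1, mul_one _, Commute.one_right _, two_power_tau S ht, by rw [orderOf_one]; decide⟩

omit hM in
/-- A `2`-element of the torus has an image with `z` among the powers. -/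
theorem exists_root {p : scal K Q × scal K Q} (ht : Two p) (h1 : p ≠ 1) :
    ∃ q, (q = p ∨ q = r1 p ∨ q = r2 p) ∧ Two q ∧ D.z ∈ Subgroup.zpowers (F.L.ℓ q) := by
  obtain ⟨j, hj⟩ : ∃ j : ℕ, p ^ 2 ^ j * p ^ 2 ^ j = 1 ∧ p ^ 2 ^ j ≠ 1 := by
    obtain ⟨k, hk⟩ := ht
    induction k with
    | zero => exact absurd (by simpa using hk) h1
    | succ k ih =>
      by_cases h : p ^ 2 ^ k = 1
      · exact ih h
      · exact ⟨k, by rw [← pow_add, ← two_mul, ← pow_succ', hk], h⟩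
  have hmem : ∀ (θ : scal K Q × scal K Q → scal K Q × scal K Q) (g : G), F.L.Acts g θ →
      θ (p ^ 2 ^ j) = (Y.e, Y.e) → D.z ∈ Subgroup.zpowers (F.L.ℓ (θ p)) := by
    intro θ g hg h
    rw [← F.L.z_eq F.hN, ← h, ← hg _ (ht.npow _), map_pow, ← conj_pow, hg p ht]
    exact pow_mem (Subgroup.mem_zpowers _) _
  rcases F.L.invol_param hj.1 hj.2 with h | h | h
  · exact ⟨p, Or.inl rfl, ht, hmem id 1 (fun p _ => by simp) h⟩
  · exact ⟨_, Or.inr (Or.inl rfl), two_r1 ht, hmem r1 _ F.hgr (by rw [h]; exact F.invol_images.1)⟩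
  · exact ⟨_, Or.inr (Or.inr rfl), two_r2 ht, hmem r2 _ F.hgr2 (by rw [h]; exact F.invol_images.2)⟩

omit hM in
theorem fused_rot {p : scal K Q × scal K Q} (ht : Two p) :
    D.Fused (F.L.ℓ p) (S.τ p : X) ∧ D.Fused (F.L.ℓ p) (S.τ (r1 p) : X) ∧
      D.Fused (F.L.ℓ p) (S.τ (r2 p) : X) :=
  ⟨⟨_, F.L.proj p ht, IsConj.refl _⟩, ⟨_, F.L.proj _ (two_r1 ht), isConj_iff.2 ⟨_, F.hgr p ht⟩⟩,
    ⟨_, F.L.proj _ (two_r2 ht), isConj_iff.2 ⟨_, F.hgr2 p ht⟩⟩⟩

omit hM in
/-- Two conjugate elements of the centraliser with `z` among their powers have conjugate images. -/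
theorem conj_roots {a b : D.C} (hab : IsConj (a : G) (b : G)) (ha : D.z ∈ Subgroup.zpowers (a : G))
    (hb : D.z ∈ Subgroup.zpowers (b : G)) : IsConj (D.π a) (D.π b) := by
  obtain ⟨g, hg⟩ := isConj_iff.1 hab
  have hz : g * D.z * g⁻¹ ∈ Subgroup.zpowers (b : G) := by
    obtain ⟨i, hi⟩ := Subgroup.mem_zpowers_iff.1 ha
    rw [← hg, ← hi]
    exact Subgroup.mem_zpowers_iff.2 ⟨i, conj_zpow⟩
  obtain ⟨u, -, -, huniq⟩ := unique_invol (two_dvd_of_mem D.ord hb)
  have e : g * D.z * g⁻¹ = D.z :=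
    (huniq _ ((orderOf_conj_eq g D.z).trans D.ord) hz).trans (huniq _ D.ord hb).symm
  refine isConj_iff.2 ⟨D.π ⟨g, Subgroup.mem_centralizer_singleton_iff.2 (mul_inv_eq_iff_eq_mul.1 e)⟩, ?_⟩
  rw [← map_inv, ← map_mul, ← map_mul]
  exact congrArg D.π (Subtype.ext hg)

omit hM in
/-- What a `2`-element of the torus is fused to. -/
theorem fused_iff {p : scal K Q × scal K Q} (ht : Two p) (h1 : p ≠ 1) {y : N} (hy : ∃ k : ℕ, orderOf y = 2 ^ k) :
    D.Fused (F.L.ℓ p) (y : X) ↔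
      IsConj (S.τ p) y ∨ IsConj (S.τ (r1 p)) y ∨ IsConj (S.τ (r2 p)) y := by
  haveI := F.hN.normal
  constructor
  · rintro ⟨c, hcy, hconj⟩
    obtain ⟨p₀, hp₀, hp₀2, hz₀⟩ := F.exists_root ht h1
    have hp₀c : IsConj (F.L.ℓ p₀) (c : G) := by
      rcases hp₀ with rfl | rfl | rfl
      · exact hconj
      · exact (isConj_iff.2 ⟨_, F.hgr p ht⟩ : IsConj (F.L.ℓ p) _).symm.trans hconj
      · exact (isConj_iff.2 ⟨_, F.hgr2 p ht⟩ : IsConj (F.L.ℓ p) _).symm.trans hconj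
    have horb : Orb p p₀ := by rcases hp₀ with rfl | rfl | rfl <;> simp [Orb]
    by_cases hs : ∃ q, IsConj (S.τ q) y
    · obtain ⟨q, hq⟩ := hs
      obtain ⟨q, hq2, hq⟩ := exists_param hy hq
      obtain ⟨t, ht'⟩ := isConj_iff.1 (N.subtype.map_isConj hq)
      -- the lifts are conjugate
      obtain ⟨c', hc', hconj'⟩ := D.fused_conj
        (⟨⟨F.L.ℓ q, F.L.mem q⟩, F.L.proj q hq2, IsConj.refl _⟩ : D.Fused (F.L.ℓ q) (S.τ q : X)) t
      rw [show t * (S.τ q : X) * t⁻¹ = (y : X) from ht'] at hc'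
      have h2k : ∀ x : D.C, IsConj (F.L.ℓ p) (x : G) ∨ IsConj (F.L.ℓ q) (x : G) → ∃ k : ℕ, orderOf x = 2 ^ k := by
        rintro x (h | h) <;> obtain ⟨s, hs⟩ := isConj_iff.1 h
        · obtain ⟨k, hk⟩ := F.L.two_power p
          exact ⟨k, by rw [← Subgroup.orderOf_coe, ← hs, orderOf_conj_eq, hk]⟩
        · obtain ⟨k, hk⟩ := F.L.two_power q
          exact ⟨k, by rw [← Subgroup.orderOf_coe, ← hs, orderOf_conj_eq, hk]⟩
      obtain ⟨l, -, hl⟩ := conj_of_same_image D.π D.odd (h2k c' (Or.inr hconj')) (h2k c (Or.inl hconj))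
        (hc'.trans hcy.symm)
      have hqc : IsConj (F.L.ℓ q) (c : G) := hconj'.trans (isConj_iff.2 ⟨(l : G), congrArg Subtype.val hl⟩)
      have hq1 : q ≠ 1 := fun e => h1 (F.L.inj ht Two.one (by
        rw [map_one]
        obtain ⟨s, hs⟩ := isConj_iff.1 (hconj.trans hqc.symm)
        rw [e, map_one, conj_eq_one_iff] at hs
        exact hs))
      obtain ⟨q₀, hq₀, hq₀2, hzq⟩ := F.exists_root hq2 hq1
      have hq₀c : IsConj (F.L.ℓ q₀) (c : G) := by
        rcases hq₀ with rfl | rfl | rfl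
        · exact hqc
        · exact (isConj_iff.2 ⟨_, F.hgr q hq2⟩ : IsConj (F.L.ℓ q) _).symm.trans hqc
        · exact (isConj_iff.2 ⟨_, F.hgr2 q hq2⟩ : IsConj (F.L.ℓ q) _).symm.trans hqc
      have hX := F.conj_roots (a := ⟨_, F.L.mem p₀⟩) (b := ⟨_, F.L.mem q₀⟩) (hp₀c.trans hq₀c.symm) hz₀ hzq
      rw [F.L.proj _ hp₀2, F.L.proj _ hq₀2, F.hN.isConj_iff_mem (two_power_tau S hp₀2)] at hX
      have horb₀ : Orb p q₀ := by
        by_cases hd : p₀.1 = p₀.2
        · obtain ⟨s, hs⟩ := isConj_iff.1 hX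
          rw [show p₀ = (p₀.1, p₀.1) from Prod.ext rfl hd.symm,
            Subgroup.mem_center_iff.1 (S.diag_central _) s, mul_inv_cancel_right,
            ← show p₀ = (p₀.1, p₀.1) from Prod.ext rfl hd.symm] at hs
          rw [← S.inj_two hp₀2 hq₀2 hs]
          exact horb
        · rcases S.conj_range hd hX with h | h
          · rw [S.inj_two hq₀2 hp₀2 h]; exact horb
          · rw [S.inj_two hq₀2 hp₀2.swap h]; exact horb.sw
      have horbq : Orb p q := by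
        rcases hq₀ with rfl | rfl | rfl
        · exact horb₀
        · exact r2_r1 q ▸ horb₀.r2
        · exact r1_r2 q ▸ horb₀.r1
      rcases horbq with rfl | rfl | rfl | rfl | rfl | rfl
      · exact Or.inl hq
      · exact Or.inr (Or.inl hq)
      · exact Or.inr (Or.inr hq)
      · exact Or.inl ((conj_sw S _).trans hq)
      · exact Or.inr (Or.inl ((conj_sw S _).trans hq))
      · exact Or.inr (Or.inr ((conj_sw S _).trans hq))
    · exfalso
      obtain ⟨k, hk⟩ := hy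
      have hy1 : y ≠ 1 := fun e => hs ⟨1, by rw [map_one, e]⟩
      have hk0 : k ≠ 0 := fun e => hy1 (orderOf_eq_one_iff.1 (by rw [hk, e, pow_zero]))
      have hzy := S.zN_mem_of_nonsplit (hk ▸ dvd_pow_self 2 hk0) fun q hq => hs ⟨q, hq⟩
      have hzc : D.z ∈ Subgroup.zpowers (c : G) := by
        rw [D.z_mem_zpowers_iff, hcy, F.L.zbar_tau F.hN]
        obtain ⟨i, hi⟩ := Subgroup.mem_zpowers_iff.1 hzy
        exact Subgroup.mem_zpowers_iff.2 ⟨i, by rw [← Subgroup.coe_zpow, hi]⟩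
      have hX := F.conj_roots (a := ⟨_, F.L.mem p₀⟩) (b := c) hp₀c hz₀ hzc
      rw [F.L.proj _ hp₀2, hcy, F.hN.isConj_iff_mem (two_power_tau S hp₀2)] at hX
      exact hs ⟨p₀, hX⟩
  · intro h
    obtain ⟨f0, f1, f2⟩ := F.fused_rot ht
    have key : ∀ {y' : N}, IsConj y' y → D.Fused (F.L.ℓ p) (y' : X) → D.Fused (F.L.ℓ p) (y : X) := by
      intro y' hc hf
      obtain ⟨s, hs⟩ := isConj_iff.1 hc
      rw [← hs]
      simpa using D.fused_conj hf (s : X)
    rcases h with h | h | h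
    exacts [key h f0, key h f1, key h f2]

omit hM in
/-- A root outside the conjugates of the torus is fused only to its conjugates. -/
theorem fused_nonsplit {x : D.C} (hx : ∃ k : ℕ, orderOf x = 2 ^ k) {n : N} (hn : (n : X) = D.π x)
    (hns : ∀ q, ¬ IsConj (S.τ q) n) {y : N} (hy : ∃ k : ℕ, orderOf y = 2 ^ k)
    (hf : D.Fused (x : G) (y : X)) : IsConj n y := by
  haveI := F.hN.normal
  obtain ⟨k, hk⟩ := hx
  have hn2 : ∃ i : ℕ, orderOf n = 2 ^ i := by
    obtain ⟨i, -, hi⟩ := (Nat.dvd_prime_pow Nat.prime_two).1 (hk ▸ orderOf_map_dvd D.π x)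
    exact ⟨i, by rw [← Subgroup.orderOf_coe, hn, hi]⟩
  obtain ⟨c, hcy, hxc⟩ := hf
  have hroot : ∀ {m : N} {a : D.C}, (m : X) = D.π a → (∃ i : ℕ, orderOf m = 2 ^ i) →
      (∀ q, ¬ IsConj (S.τ q) m) → D.z ∈ Subgroup.zpowers (a : G) := by
    intro m a hm hm2 hms
    obtain ⟨i, hi⟩ := hm2
    have hi0 : i ≠ 0 := fun e => hms 1 (by
      rw [map_one, orderOf_eq_one_iff.1 (hi.trans (by rw [e, pow_zero]))])
    have hzy := S.zN_mem_of_nonsplit (hi ▸ dvd_pow_self 2 hi0) hms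
    rw [D.z_mem_zpowers_iff, ← hm, F.L.zbar_tau F.hN]
    obtain ⟨j, hj⟩ := Subgroup.mem_zpowers_iff.1 hzy
    exact Subgroup.mem_zpowers_iff.2 ⟨j, by rw [← Subgroup.coe_zpow, hj]⟩
  by_cases hs : ∃ q, IsConj (S.τ q) y
  · exfalso
    obtain ⟨q, hq⟩ := hs
    obtain ⟨q, hq2, hq⟩ := exists_param hy hq
    obtain ⟨t, ht'⟩ := isConj_iff.1 (N.subtype.map_isConj hq)
    -- then `x` would be fused to the torus
    have hq1 : q ≠ 1 := by
      intro e
      rw [e, map_one, isConj_one_right] at hq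
      have hcc : c = 1 := by
        refine eq_one_of_ker D.π D.odd ?_ (by rw [hcy, hq]; rfl)
        obtain ⟨s, hs⟩ := isConj_iff.1 hxc
        exact ⟨k, by rw [← Subgroup.orderOf_coe, ← hs, orderOf_conj_eq, Subgroup.orderOf_coe, hk]⟩
      rw [hcc, OneMemClass.coe_one, isConj_one_left] at hxc
      refine hns 1 ?_
      have : n = 1 := Subtype.ext (by rw [hn, show x = 1 from Subtype.ext hxc, map_one]; rfl)
      rw [map_one, this]
    obtain ⟨c', hc', hconj'⟩ := D.fused_conj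
      (⟨⟨F.L.ℓ q, F.L.mem q⟩, F.L.proj q hq2, IsConj.refl _⟩ : D.Fused (F.L.ℓ q) (S.τ q : X)) t
    rw [show t * (S.τ q : X) * t⁻¹ = (y : X) from ht'] at hc'
    have hc2 : ∃ i : ℕ, orderOf c = 2 ^ i := by
      obtain ⟨s, hs⟩ := isConj_iff.1 hxc
      exact ⟨k, by rw [← Subgroup.orderOf_coe, ← hs, orderOf_conj_eq, Subgroup.orderOf_coe, hk]⟩
    have hc'2 : ∃ i : ℕ, orderOf c' = 2 ^ i := by
      obtain ⟨s, hs⟩ := isConj_iff.1 hconj'
      obtain ⟨i, hi⟩ := F.L.two_power q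
      exact ⟨i, by rw [← Subgroup.orderOf_coe, ← hs, orderOf_conj_eq, hi]⟩
    obtain ⟨l, -, hl⟩ := conj_of_same_image D.π D.odd hc'2 hc2 (hc'.trans hcy.symm)
    have hqx : D.Fused (F.L.ℓ q) (n : X) := ⟨x, hn.symm,
      hconj'.trans ((isConj_iff.2 ⟨(l : G), congrArg Subtype.val hl⟩ : IsConj (c' : G) (c : G)).trans hxc.symm)⟩
    rcases (F.fused_iff hq2 hq1 hn2).1 hqx with h | h | h <;> exact hns _ h
  · have hX := F.conj_roots hxc (hroot hn hn2 hns)
      (hroot hcy.symm hy fun q hq => hs ⟨q, hq⟩)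
    rwa [← hn, hcy, F.hN.isConj_iff_mem hn2] at hX

end Frm

end Cfsg.Agent.Invol.AbgOrder
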