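import Cfsg.Agent.Lib.Invol.BrauerL3.Torus

/-!
# Quotients of `GL(2, q)` and `GU(2, q)` by the odd scalars: the split torus and the `2`-elements
-/

set_option autoImplicit false
set_option linter.unusedSectionVars false
set_option linter.style.haveILetI false

open scoped Classical

namespace Cfsg.Agent.Invol.AbgOrder

open Cfsg
open Cfsg.Agent.Invol.BrauerL3 (Tbl scal mem_scal)

universe u v w

/-- The quotient of a group with a table by all its odd scalars, centralisers of non-central elements being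
abelian. -/
structure NSys (N : Type u) [Group N] [Fintype N] (H : Type v) [Group H] (K : Type w) [CommGroup K] (Q : ℤ) where
  T : Tbl H K Q
  π : H →* N
  surj : Function.Surjective π
  ker_central : π.ker ≤ Subgroup.center H
  ker_odd : Odd (Nat.card π.ker)
  ker_all : ∀ h ∈ Subgroup.center H, Odd (orderOf h) → π h = 1
  cardH : (Nat.card H : ℤ) = Q * (Q ^ 2 - 1) * (Q - 1)
  comm : ∀ g : N, g ∉ Subgroup.center N → ∀ x x' : N, Commute x g → Commute x' g → Commute x x'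

variable {N : Type u} [Group N] [Fintype N] {H : Type v} [Group H] {K : Type w} [CommGroup K] {Q : ℤ}

namespace NSys

variable (Y : NSys N H K Q)

include Y in
theorem finiteH : Finite H := by
  refine Nat.finite_of_card_ne_zero fun h => ?_
  have h' := Y.cardH
  rw [h, Nat.cast_zero] at h'
  have h0 := Y.T.ne_zero
  have h1 := Y.T.ne_one
  have h2 : Q ^ 2 - 1 = (Q - 1) * (Q + 1) := by ring
  rw [h2] at h'
  exact mul_ne_zero (mul_ne_zero h0 (mul_ne_zero (sub_ne_zero.2 h1) (by have := Y.T.ne_neg_one; omega)))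
    (sub_ne_zero.2 h1) h'.symm

/-- The scalar of order two. -/
noncomputable def e : scal K Q := Y.T.exists_e.choose

theorem e_ne : Y.e ≠ 1 := Y.T.exists_e.choose_spec.1

theorem e_sq : Y.e * Y.e = 1 := Y.T.exists_e.choose_spec.2.1

theorem e_unique {a : scal K Q} (h : a * a = 1) : a = 1 ∨ a = Y.e :=
  (Y.T.exists_e.choose_spec.2.2.1 a (congrArg Subtype.val h)).imp (fun h => Subtype.ext h) fun h => Subtype.ext h

end NSys

/-- The split torus with its swap. -/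
structure Split (Y : NSys N H K Q) where
  /-- the torus map -/
  τ : scal K Q × scal K Q →* N
  /-- the swap -/
  s : N
  mem_iff : ∀ x : N, Commute x (τ (1, Y.e)) ↔ ∃ p, τ p = x
  conj : ∀ p, ∃ c, c * Y.π (Y.T.D p) * c⁻¹ = τ p
  swap : ∀ a b, s * τ (a, b) * s⁻¹ = τ (b, a)

/-- The parameters of `2`-power order. -/
def Two (p : scal K Q × scal K Q) : Prop := ∃ k : ℕ, p ^ 2 ^ k = 1

namespace Split

variable {Y : NSys N H K Q} (S : Split Y)
include S

theorem eq_one_iff {p : scal K Q × scal K Q} : S.τ p = 1 ↔ p.1 = p.2 ∧ Odd (orderOf p.1) := by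
  obtain ⟨c, hc⟩ := S.conj p
  rw [← hc, conj_eq_one_iff]
  refine ⟨fun h => ?_, fun ⟨h, ho⟩ => Y.ker_all _ ?_ ?_⟩
  · obtain ⟨a, ha, hao⟩ := Y.T.ker_eq Y.π Y.ker_central Y.ker_odd (MonoidHom.mem_ker.2 h)
    obtain rfl := Y.T.D_inj ha
    exact ⟨rfl, hao⟩
  · rw [show p = (p.1, p.1) from Prod.ext rfl h.symm]
    exact Y.T.D_center _
  · rw [orderOf_injective _ Y.T.D_inj, Prod.orderOf, h, Nat.lcm_self, ← h]
    exact ho

theorem diag_central (a : scal K Q) : S.τ (a, a) ∈ Subgroup.center N := by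
  obtain ⟨c, hc⟩ := S.conj (a, a)
  have h : Y.π (Y.T.D (a, a)) ∈ Subgroup.center N := Subgroup.mem_center_iff.2 fun y => by
    obtain ⟨g, rfl⟩ := Y.surj y
    rw [← map_mul, ← map_mul, Subgroup.mem_center_iff.1 (Y.T.D_center a) g]
  rw [← hc, Subgroup.mem_center_iff.1 h c, mul_inv_cancel_right]
  exact h

theorem central_iff {a b : scal K Q} : S.τ (a, b) ∈ Subgroup.center N ↔ a = b := by
  refine ⟨fun h => ?_, fun h => h ▸ S.diag_central a⟩
  have h1 : S.τ ((b, a) * (a, b)⁻¹) = 1 := by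
    rw [map_mul, map_inv, ← S.swap a b, Subgroup.mem_center_iff.1 h S.s, mul_inv_cancel_right, mul_inv_cancel]
  obtain ⟨h2, h3⟩ := S.eq_one_iff.1 h1
  simp only [Prod.fst_mul, Prod.snd_mul, Prod.fst_inv, Prod.snd_inv] at h2 h3
  have h4 : (b * a⁻¹) ^ 2 = 1 := by
    rw [sq]
    nth_rewrite 2 [h2]
    rw [mul_mul_mul_comm, ← mul_inv, mul_comm b a, mul_inv_cancel]
  have h5 : b * a⁻¹ = 1 := orderOf_eq_one_iff.1 <| by
    rcases (Nat.dvd_prime Nat.prime_two).1 (orderOf_dvd_of_pow_eq_one h4) with h | h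
    · exact h
    · rw [h] at h3; exact absurd h3 (by decide)
  exact (mul_inv_eq_one.1 h5).symm

theorem zN_order : orderOf (S.τ (Y.e, Y.e)) = 2 := by
  refine orderOf_eq_prime (by rw [sq, ← map_mul, Prod.mk_mul_mk, Y.e_sq]; exact map_one _) fun h => ?_
  obtain ⟨-, ho⟩ := S.eq_one_iff.1 h
  rw [orderOf_eq_prime (by rw [sq, Y.e_sq] : Y.e ^ 2 = 1) Y.e_ne] at ho
  exact absurd ho (by decide)

theorem uN_noncentral : S.τ (1, Y.e) ∉ Subgroup.center N := fun h => Y.e_ne (S.central_iff.1 h).symm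

theorem uN_order : orderOf (S.τ (1, Y.e)) = 2 :=
  orderOf_eq_prime (by rw [sq, ← map_mul, Prod.mk_mul_mk, Y.e_sq, one_mul]; exact map_one _) fun h =>
    Y.e_ne (S.eq_one_iff.1 h).1.symm

/-- The centraliser of a non-central torus element is the torus. -/
theorem mem_of_commute {p : scal K Q × scal K Q} (hp : p.1 ≠ p.2) {x : N} (h : Commute x (S.τ p)) :
    ∃ r, S.τ r = x :=
  (S.mem_iff x).1 (Y.comm (S.τ p) (fun hc => hp (S.central_iff.1 hc)) x _ h ((Commute.all (1, Y.e) p).map S.τ))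

theorem range_comm {x y : N} (hx : ∃ p, S.τ p = x) (hy : ∃ p, S.τ p = y) : Commute x y := by
  obtain ⟨p, rfl⟩ := hx
  obtain ⟨r, rfl⟩ := hy
  exact (Commute.all p r).map S.τ

/-- The involutions of `N`. -/
theorem invol_cases {x : N} (hx : orderOf x = 2) : x = S.τ (Y.e, Y.e) ∨ IsConj (S.τ (1, Y.e)) x := by
  haveI := Y.finiteH
  obtain ⟨g, hg, rfl⟩ := Y.T.orderOf_two_lift Y.π Y.surj Y.ker_central Y.ker_odd hx
  obtain ⟨c, hc⟩ := S.conj (Y.e, Y.e)
  obtain ⟨c', hc'⟩ := S.conj (1, Y.e)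
  rcases Y.T.invol_cases (e := Y.e) Y.T.exists_e.choose_spec.2.2.1 hg with rfl | hu
  · left
    have h : Y.π (Y.T.D (Y.e, Y.e)) ∈ Subgroup.center N := Subgroup.mem_center_iff.2 fun y => by
      obtain ⟨g, rfl⟩ := Y.surj y
      rw [← map_mul, ← map_mul, Subgroup.mem_center_iff.1 (Y.T.D_center Y.e) g]
    rw [← hc, Subgroup.mem_center_iff.1 h c, mul_inv_cancel_right]
  · exact Or.inr ((isConj_iff.2 ⟨c', hc'⟩ : IsConj _ (S.τ (1, Y.e))).symm.trans (Y.π.map_isConj hu))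

/-- The involutions of the torus. -/
theorem range_invol {p : scal K Q × scal K Q} (h : orderOf (S.τ p) = 2) :
    S.τ p = S.τ (Y.e, Y.e) ∨ S.τ p = S.τ (1, Y.e) ∨ S.τ p = S.τ (Y.e, 1) := by
  have h2 : S.τ (p * p) = 1 := by rw [map_mul, ← sq, ← h, pow_orderOf_eq_one]
  obtain ⟨e1, ho⟩ := S.eq_one_iff.1 h2
  obtain ⟨k, hk⟩ := ho
  set d := (p * p).1 ^ (k + 1) with hd
  have hdd : d * d = (p * p).1 := by
    rw [hd, ← pow_add, show k + 1 + (k + 1) = orderOf (p * p).1 + 1 by omega, pow_succ, pow_orderOf_eq_one,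
      one_mul]
  have hdo : Odd (orderOf d) := Odd.of_dvd_nat ⟨k, hk⟩ (orderOf_pow_dvd _)
  have e : S.τ p = S.τ (p * (d, d)⁻¹) := by
    rw [map_mul, map_inv, (S.eq_one_iff (p := (d, d))).2 ⟨rfl, hdo⟩, inv_one, mul_one]
  have h1 : (p.1 * d⁻¹) * (p.1 * d⁻¹) = 1 := by
    rw [mul_mul_mul_comm, ← mul_inv, hdd]; exact mul_inv_cancel (p * p).1
  have h1' : (p.2 * d⁻¹) * (p.2 * d⁻¹) = 1 := by
    rw [mul_mul_mul_comm, ← mul_inv, hdd, e1]; exact mul_inv_cancel (p * p).2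
  have e' : p * (d, d)⁻¹ = (p.1 * d⁻¹, p.2 * d⁻¹) := rfl
  rw [e, e'] at h ⊢
  rcases Y.e_unique h1 with a | a <;> rcases Y.e_unique h1' with b | b <;> rw [a, b] at h ⊢
  · rw [show ((1 : scal K Q), (1 : scal K Q)) = 1 from rfl, map_one, orderOf_one] at h
    omega
  · exact Or.inr (Or.inl rfl)
  · exact Or.inr (Or.inr rfl)
  · exact Or.inl rfl

/-- Conjugate non-central torus elements differ by the swap. -/
theorem conj_range {p r : scal K Q × scal K Q} (hp : p.1 ≠ p.2) (h : IsConj (S.τ p) (S.τ r)) :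
    S.τ r = S.τ p ∨ S.τ r = S.τ (p.2, p.1) := by
  obtain ⟨c, hc⟩ := isConj_iff.1 h
  have hr : r.1 ≠ r.2 := fun e => hp <| S.central_iff.1 <| by
    have hz : S.τ r ∈ Subgroup.center N := by
      rw [show r = (r.1, r.1) from Prod.ext rfl e.symm]; exact S.diag_central _
    have e2 : S.τ p = S.τ r := by
      calc S.τ p = c⁻¹ * S.τ r * c := by rw [← hc]; group
        _ = S.τ r := by rw [Subgroup.mem_center_iff.1 hz c⁻¹, inv_mul_cancel_right]
    rw [← e2] at hz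
    exact hz
  have hu : Commute (c * S.τ (1, Y.e) * c⁻¹) (S.τ r) := by
    have := ((Commute.all (1, Y.e) p).map S.τ).map (MulAut.conj c).toMonoidHom
    simpa [hc] using this
  obtain ⟨m, hm⟩ := S.mem_of_commute hr hu
  have ho : orderOf (S.τ m) = 2 := by rw [hm, ← MulAut.conj_apply, MulEquiv.orderOf_eq, S.uN_order]
  have hnz : S.τ m ≠ S.τ (Y.e, Y.e) := fun e => S.uN_noncentral <| by
    have hz := S.diag_central Y.e
    rw [← e, hm] at hz
    have h2 := Subgroup.Normal.conj_mem (inferInstance : (Subgroup.center N).Normal) _ hz c⁻¹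
    simpa [mul_assoc] using h2
  rcases S.range_invol ho with e | e | e
  · exact absurd e hnz
  · left
    obtain ⟨n, hn⟩ := (S.mem_iff c).1 (mul_inv_eq_iff_eq_mul.1 (hm.symm.trans e))
    rw [← hc, ← hn, ← map_inv, ← map_mul, ← map_mul, mul_inv_cancel_comm]
  · right
    have hs : Commute (S.s * c) (S.τ (1, Y.e)) := by
      refine mul_inv_eq_iff_eq_mul.1 ?_
      calc S.s * c * S.τ (1, Y.e) * (S.s * c)⁻¹ = S.s * (c * S.τ (1, Y.e) * c⁻¹) * S.s⁻¹ := by group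
        _ = _ := by rw [← hm, e, S.swap]
    obtain ⟨n, hn⟩ := (S.mem_iff _).1 hs
    have h2 : S.s * S.τ r * S.s⁻¹ = S.τ p := by
      calc S.s * S.τ r * S.s⁻¹ = (S.s * c) * S.τ p * (S.s * c)⁻¹ := by rw [← hc]; group
        _ = _ := by rw [← hn, ← map_inv, ← map_mul, ← map_mul, mul_inv_cancel_comm]
    have e3 := S.swap r.1 r.2
    rw [show (r.1, r.2) = r from rfl, h2] at e3
    have e4 : S.s * S.τ p * S.s⁻¹ = S.s * S.τ (r.2, r.1) * S.s⁻¹ := by rw [e3]
    rw [S.swap r.2 r.1, show (r.1, r.2) = r from rfl, show p = (p.1, p.2) from rfl, S.swap] at e4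
    exact e4.symm

/-- A `2`-element outside the conjugates of the torus has the central involution among its powers. -/
theorem zN_mem_of_nonsplit {x : N} (hx : 2 ∣ orderOf x) (hns : ∀ p, ¬ IsConj (S.τ p) x) :
    S.τ (Y.e, Y.e) ∈ Subgroup.zpowers x := by
  obtain ⟨k, hk⟩ := hx
  have hpos := orderOf_pos x
  have ho : orderOf (x ^ k) = 2 := by
    rw [orderOf_pow' x (by omega), Nat.gcd_eq_right (Dvd.intro_left 2 hk.symm), hk, Nat.mul_div_cancel _ (by omega)]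
  rcases S.invol_cases ho with h | h
  · exact h ▸ pow_mem (Subgroup.mem_zpowers x) k
  · exfalso
    obtain ⟨c, hc⟩ := isConj_iff.1 h
    have hcm : Commute (c⁻¹ * x * c) (S.τ (1, Y.e)) := by
      have h1 : Commute x (c * S.τ (1, Y.e) * c⁻¹) := hc ▸ Commute.self_pow x k
      have h2 := h1.map (MulAut.conj c⁻¹).toMonoidHom
      simp only [MulEquiv.coe_toMonoidHom, MulAut.conj_apply, inv_inv] at h2
      rwa [show c⁻¹ * (c * S.τ (1, Y.e) * c⁻¹) * c = S.τ (1, Y.e) by group] at h2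
    obtain ⟨p, hp⟩ := (S.mem_iff _).1 hcm
    exact hns p (isConj_iff.2 ⟨c, by rw [hp]; group⟩)

theorem inj_two {p r : scal K Q × scal K Q} (hp : Two p) (hr : Two r) (h : S.τ p = S.τ r) : p = r := by
  obtain ⟨k, hk⟩ := hp
  obtain ⟨l, hl⟩ := hr
  have h1 : S.τ (p * r⁻¹) = 1 := by rw [map_mul, map_inv, h, mul_inv_cancel]
  obtain ⟨e1, ho⟩ := S.eq_one_iff.1 h1
  have h2 : (p * r⁻¹) ^ (2 ^ k * 2 ^ l) = 1 := by
    rw [mul_pow, inv_pow, pow_mul, hk, one_pow, mul_comm (2 ^ k), pow_mul, hl, one_pow, inv_one, mul_one]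
  have h3 : (p * r⁻¹).1 = 1 := by
    rw [← orderOf_eq_one_iff]
    refine Nat.eq_one_of_dvd_coprimes ?_ dvd_rfl
      (orderOf_dvd_of_pow_eq_one (by rw [← Prod.pow_fst, pow_add, h2]; rfl) : orderOf (p * r⁻¹).1 ∣ 2 ^ (k + l))
    exact (Nat.coprime_two_right.2 ho).pow_right _
  refine mul_inv_eq_one.1 (Prod.ext h3 ?_)
  rw [← e1, h3]
  rfl

end Split

namespace NSys

variable (Y : NSys N H K Q)

include Y in
/-- An exponent cutting out the `2`-part of the scalars. -/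
theorem exists_r : ∃ ν m r : ℕ, Odd m ∧ Nat.card (scal K Q) = 2 ^ ν * m ∧ 1 ≤ ν ∧ m ∣ r ∧
    ∀ a : scal K Q, a ^ 2 ^ ν = 1 → a ^ r = a := by
  haveI := Y.T.finiteK
  haveI := Y.T.cyc
  obtain ⟨ν, m, hm, hnm⟩ := Nat.exists_eq_two_pow_mul_odd (Nat.card_pos (α := scal K Q)).ne'
  have hν : 1 ≤ ν := by
    by_contra h
    have h0 : ν = 0 := by omega
    rw [h0, pow_zero, one_mul] at hnm
    have hd := orderOf_dvd_natCard Y.e
    rw [orderOf_eq_prime (by rw [sq, Y.e_sq] : Y.e ^ 2 = 1) Y.e_ne, hnm] at hd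
    exact (Nat.not_even_iff_odd.2 hm) (even_iff_two_dvd.2 hd)
  obtain ⟨r, h1, h2⟩ := Nat.chineseRemainder ((Nat.coprime_two_left.2 hm).pow_left ν) 1 0
  refine ⟨ν, m, r, hm, hnm, hν, Nat.modEq_zero_iff_dvd.1 h2, fun a ha => ?_⟩
  conv_rhs => rw [← pow_one a]
  exact pow_eq_pow_iff_modEq.2 (h1.of_dvd (orderOf_dvd_of_pow_eq_one ha))

end NSys

namespace Split

variable {Y : NSys N H K Q} (S : Split Y)
include S

/-- A `2`-element of the torus has a parameter of `2`-power order. -/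
theorem exists_two {p : scal K Q × scal K Q} (hp : ∃ k : ℕ, orderOf (S.τ p) = 2 ^ k) :
    ∃ q, Two q ∧ S.τ q = S.τ p := by
  obtain ⟨ν, m, r, hm, hnm, -, hmr, hr⟩ := Y.exists_r
  obtain ⟨k, hk⟩ := hp
  haveI := Y.T.finiteK
  have hS : ∀ a : scal K Q, a ^ (2 ^ ν * m) = 1 := fun a => hnm ▸ pow_card_eq_one'
  refine ⟨p ^ r, ⟨ν, ?_⟩, ?_⟩
  · obtain ⟨j, rfl⟩ := hmr
    rw [← pow_mul, show m * j * 2 ^ ν = 2 ^ ν * m * j by ring, pow_mul, show p ^ (2 ^ ν * m) = 1 from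
      Prod.ext (hS _) (hS _), one_pow]
  · rw [map_pow]
    conv_rhs => rw [← pow_one (S.τ p)]
    refine pow_eq_pow_iff_modEq.2 ?_
    have h1 : orderOf (S.τ p) ∣ 2 ^ ν := by
      have h2 : orderOf (S.τ p) ∣ 2 ^ ν * m := orderOf_dvd_of_pow_eq_one (by
        rw [← map_pow, show p ^ (2 ^ ν * m) = 1 from Prod.ext (hS _) (hS _), map_one])
      rw [hk] at h2 ⊢
      exact Nat.Coprime.dvd_of_dvd_mul_right ((Nat.coprime_two_left.2 hm).pow_left k) h2
    obtain ⟨g, hg⟩ : ∃ g : scal K Q, orderOf g = 2 ^ ν := by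
      haveI := Y.T.cyc
      obtain ⟨g, hg⟩ := IsCyclic.exists_ofOrder_eq_natCard (α := scal K Q)
      exact ⟨g ^ m, by rw [orderOf_pow_of_dvd hm.pos.ne' (by rw [hg, hnm]; exact dvd_mul_left _ _), hg, hnm,
        Nat.mul_div_cancel _ hm.pos]⟩
    have h3 := hr g (by rw [← hg, pow_orderOf_eq_one])
    conv_rhs at h3 => rw [← pow_one g]
    exact (pow_eq_pow_iff_modEq.1 h3).of_dvd (hg ▸ h1)

end Split

/-- The split torus exists. -/
theorem NSys.exists_split (Y : NSys N H K Q) : Nonempty (Split Y) := by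
  haveI := Y.finiteH
  haveI := Fintype.ofFinite H
  set T := Y.T
  have hord : ∀ p : scal K Q × scal K Q, p * p = 1 → p ≠ 1 → orderOf (T.D p) = 2 := fun p hp hp1 => by
    refine orderOf_eq_prime (by rw [sq, ← map_mul, hp, map_one]) fun h => hp1 (T.D_inj ?_)
    rw [h, map_one]
  have hto := T.orderOf_two_map Y.π Y.ker_odd (hord (Y.e, Y.e) (Prod.ext Y.e_sq Y.e_sq)
    fun h => Y.e_ne (congrArg Prod.fst h))
  have huo := T.orderOf_two_map Y.π Y.ker_odd (hord (1, Y.e) (Prod.ext (one_mul 1) Y.e_sq)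
    fun h => Y.e_ne (congrArg Prod.snd h))
  have htc : Y.π (T.D (Y.e, Y.e)) ∈ Subgroup.center N := Subgroup.mem_center_iff.2 fun y => by
    obtain ⟨g, rfl⟩ := Y.surj y
    rw [← map_mul, ← map_mul, Subgroup.mem_center_iff.1 (T.D_center Y.e) g]
  have hne : Y.π (T.D (1, Y.e)) ≠ Y.π (T.D (Y.e, Y.e)) := fun h => by
    have h2 := T.map_inj_invol Y.π Y.ker_central Y.ker_odd
      (by rw [← map_mul, Prod.mk_mul_mk, one_mul, Y.e_sq]; exact map_one _)
      (by rw [← map_mul, Prod.mk_mul_mk, Y.e_sq]; exact map_one _) h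
    exact Y.e_ne (congrArg Prod.fst (T.D_inj h2)).symm
  obtain ⟨c, hc⟩ := isConj_iff.1 (T.D_swap 1 Y.e)
  have hs : Y.π c * Y.π (T.D (1, Y.e)) * (Y.π c)⁻¹ = Y.π (T.D (Y.e, Y.e)) * Y.π (T.D (1, Y.e)) := by
    rw [← map_inv, ← map_mul, ← map_mul, hc, ← map_mul, ← map_mul T.D, Prod.mk_mul_mk, mul_one, Y.e_sq]
  obtain ⟨τ, hτ⟩ := T.exists_torus Y.π Y.cardH Y.surj Y.ker_central Y.ker_odd hto htc huo hne hs
  refine ⟨⟨τ.τ, Y.π c, fun x => ⟨fun hx => ?_, ?_⟩, hτ, τ.swap⟩⟩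
  · refine (τ.mem_iff x).1 (Y.comm (τ.τ (1, Y.e)) (fun h => ?_) x _ hx ((τ.mem_iff _).2 ⟨_, rfl⟩).symm)
    obtain ⟨a, ha⟩ := (τ.central_iff _).1 h
    have h1 := τ.ker_diag ((1, Y.e) * (a, a)⁻¹) (by rw [map_mul, map_inv, ha, mul_inv_cancel])
    simp only [Prod.fst_mul, Prod.snd_mul, Prod.fst_inv, Prod.snd_inv] at h1
    exact Y.e_ne (mul_right_cancel h1).symm
  · rintro ⟨p, rfl⟩
    exact (Commute.all p (1, Y.e)).map τ.τ

/-- The twist by a power of the determinant on the `2`-part of the scalars. -/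
theorem Split.exists_twist {Y : NSys N H K Q} (S : Split Y) (c : ℤ) :
    ∃ (Y' : NSys N H K Q) (S' : Split Y') (r : ℕ), Y'.T = Y.T ∧
      (∀ g, ∃ a, Y'.π g = Y.π (g * Y.T.D (a, a)) ∧ (Y.T.dt g = 1 → a = 1)) ∧
      (∀ a : scal K Q, (∃ k : ℕ, a ^ 2 ^ k = 1) → a ^ r = a) ∧
      ∀ a b, S'.τ (a, b) = S.τ (a * ((a * b) ^ r) ^ c, b * ((a * b) ^ r) ^ c) := by
  haveI := Y.finiteH
  haveI := Y.T.finiteK
  obtain ⟨ν, m, r, hm, hnm, hν, hmr, hr⟩ := Y.exists_r
  let χ : scal K Q →* scal K Q := (zpowGroupHom c).comp (powMonoidHom r)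
  have hχ : ∀ a, χ a = (a ^ r) ^ c := fun a => rfl
  have hS : ∀ a : scal K Q, a ^ (2 ^ ν * m) = 1 := fun a => hnm ▸ pow_card_eq_one'
  have hodd : ∀ a : scal K Q, Odd (orderOf a) → χ a = 1 := fun a ha => by
    obtain ⟨j, rfl⟩ := hmr
    rw [hχ, pow_mul, BrauerL3.odd_pow_eq_one ha (hS a) rfl, one_pow, one_zpow]
  have hinj : ∀ a : scal K Q, a * χ (a * a) = 1 → a = 1 := fun a ha => by
    have h2 : a ^ 2 ^ ν = 1 := by
      have h1 : (χ (a * a)) ^ 2 ^ ν = 1 := by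
        obtain ⟨j, rfl⟩ := hmr
        rw [hχ, ← zpow_natCast, ← zpow_mul, mul_comm c, zpow_mul, zpow_natCast, ← pow_mul,
          show m * j * 2 ^ ν = 2 ^ ν * m * j by ring, pow_mul, hS, one_pow, one_zpow]
      have := congrArg (· ^ 2 ^ ν) ha
      simpa only [mul_pow, h1, one_pow, mul_one] using this
    rw [hχ, hr _ (by rw [mul_pow, h2, one_mul]), ← zpow_two, ← zpow_mul] at ha
    have h3 : (orderOf a : ℤ) ∣ 1 + 2 * c := by rw [orderOf_dvd_iff_zpow_eq_one, zpow_one_add, ha]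
    obtain ⟨i, -, hi⟩ := (Nat.dvd_prime_pow Nat.prime_two).1 (orderOf_dvd_of_pow_eq_one h2)
    rcases i with _ | i
    · exact orderOf_eq_one_iff.1 (by rw [hi, pow_zero])
    · exfalso
      rw [hi] at h3
      push_cast at h3
      obtain ⟨j, hj⟩ := (dvd_pow_self (2 : ℤ) (Nat.succ_ne_zero i)).trans h3
      omega
  have hcen : ∀ x, Y.T.D (x, x) ∈ Subgroup.center H := Y.T.D_center
  let ω : H →* H := MonoidHom.mk' (fun g => g * Y.T.D (χ (Y.T.dt g), χ (Y.T.dt g))) fun g g' => by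
    rw [map_mul, map_mul, ← Prod.mk_mul_mk, map_mul]
    calc g * g' * (Y.T.D (χ (Y.T.dt g), χ (Y.T.dt g)) * Y.T.D (χ (Y.T.dt g'), χ (Y.T.dt g'))) =
        g * (g' * Y.T.D (χ (Y.T.dt g), χ (Y.T.dt g))) * Y.T.D (χ (Y.T.dt g'), χ (Y.T.dt g')) := by
          simp only [mul_assoc]
      _ = g * (Y.T.D (χ (Y.T.dt g), χ (Y.T.dt g)) * g') * Y.T.D (χ (Y.T.dt g'), χ (Y.T.dt g')) := by
          rw [Subgroup.mem_center_iff.1 (hcen _) g']
      _ = _ := by simp only [mul_assoc]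
  have hωa : ∀ g, ω g = g * Y.T.D (χ (Y.T.dt g), χ (Y.T.dt g)) := fun g => rfl
  have hωD : ∀ a b, ω (Y.T.D (a, b)) = Y.T.D (a * χ (a * b), b * χ (a * b)) := fun a b => by
    rw [hωa, Y.T.dt_D, ← map_mul, Prod.mk_mul_mk]
  have hωinj : Function.Injective ω := (injective_iff_map_eq_one ω).2 fun g hg => by
    rw [hωa] at hg
    have hgc : g ∈ Subgroup.center H := by
      rw [eq_inv_of_mul_eq_one_left hg]; exact inv_mem (hcen _)
    obtain ⟨a, rfl⟩ := Y.T.central g hgc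
    rw [Y.T.dt_D, ← map_mul, ← map_one Y.T.D] at hg
    rw [hinj a (congrArg Prod.fst (Y.T.D_inj hg))]
    exact map_one _
  have hfix : ∀ g ∈ Subgroup.center H, Odd (orderOf g) → ω g = g := fun g hg ho => by
    obtain ⟨a, rfl⟩ := Y.T.central g hg
    have hao : Odd (orderOf a) := by
      rw [orderOf_injective _ Y.T.D_inj, Prod.orderOf, Nat.lcm_self] at ho; exact ho
    rw [hωa, Y.T.dt_D, hodd _ (hao.of_dvd_nat (by rw [← sq]; exact orderOf_pow_dvd 2)), ← Prod.one_eq_mk, map_one,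
      mul_one]
  have hker : (Y.π.comp ω).ker = Y.π.ker := by
    ext g
    simp only [MonoidHom.mem_ker, MonoidHom.comp_apply]
    refine ⟨fun h => ?_, fun h => ?_⟩
    · have h1 := hfix _ (Y.ker_central (MonoidHom.mem_ker.2 h))
        (Y.ker_odd.of_dvd_nat (Y.π.ker.orderOf_dvd_natCard (MonoidHom.mem_ker.2 h)))
      rwa [hωinj h1] at h
    · rwa [hfix _ (Y.ker_central (MonoidHom.mem_ker.2 h))
        (Y.ker_odd.of_dvd_nat (Y.π.ker.orderOf_dvd_natCard (MonoidHom.mem_ker.2 h)))]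
  let Y' : NSys N H K Q :=
    { T := Y.T
      π := Y.π.comp ω
      surj := Y.surj.comp (Finite.injective_iff_surjective.1 hωinj)
      ker_central := hker ▸ Y.ker_central
      ker_odd := by rw [hker]; exact Y.ker_odd
      ker_all := fun h hc ho => by rw [MonoidHom.comp_apply, hfix h hc ho]; exact Y.ker_all h hc ho
      cardH := Y.cardH
      comm := Y.comm }
  let P : scal K Q × scal K Q →* scal K Q × scal K Q :=
    MonoidHom.mk' (fun p => (p.1 * χ (p.1 * p.2), p.2 * χ (p.1 * p.2))) fun p p' => by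
      ext <;> simp only [Prod.fst_mul, Prod.snd_mul, map_mul, Prod.mk_mul_mk] <;> ac_rfl
  have hP : Function.Surjective P := Finite.injective_iff_surjective.1 ((injective_iff_map_eq_one P).2 fun p hp => by
    have h1 := congrArg Prod.fst hp
    have h2 := congrArg Prod.snd hp
    change p.1 * χ (p.1 * p.2) = 1 at h1
    change p.2 * χ (p.1 * p.2) = 1 at h2
    have h12 : p.1 = p.2 := mul_right_cancel (h1.trans h2.symm)
    rw [← h12] at h1
    exact Prod.ext (hinj _ h1) (h12 ▸ hinj _ h1))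
  have hee : (Y'.e : scal K Q) = Y.e := rfl
  have hmem : ∀ x : N, Commute x ((S.τ.comp P) (1, Y'.e)) ↔ ∃ p, (S.τ.comp P) p = x := by
    intro x
    constructor
    · intro hx
      have hne : (P (1, Y'.e)).1 ≠ (P (1, Y'.e)).2 := fun h =>
        Y.e_ne (mul_right_cancel (h : (1 : scal K Q) * _ = Y.e * _)).symm
      obtain ⟨q, hq⟩ := S.mem_of_commute hne hx
      obtain ⟨q', rfl⟩ := hP q
      exact ⟨q', hq⟩
    · rintro ⟨p, rfl⟩
      exact (Commute.all p (1, Y'.e)).map _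
  refine ⟨Y', ⟨S.τ.comp P, S.s, hmem, fun p => ?_, fun a b => ?_⟩, r, rfl,
    fun g => ⟨χ (Y.T.dt g), rfl, fun h => by rw [h, map_one]⟩, fun a ⟨k, hk⟩ => ?_, fun a b => rfl⟩
  · obtain ⟨d, hd⟩ := S.conj (P p)
    refine ⟨d, ?_⟩
    show d * Y.π (ω (Y.T.D p)) * d⁻¹ = S.τ (P p)
    rw [← hd, show p = (p.1, p.2) from rfl, hωD]
    rfl
  · show S.s * S.τ (P (a, b)) * S.s⁻¹ = S.τ (P (b, a))
    refine (S.swap _ _).trans (congrArg S.τ ?_)
    show (b * χ (a * b), a * χ (a * b)) = (b * χ (b * a), a * χ (b * a))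
    rw [mul_comm a b]
  · refine hr a (orderOf_dvd_iff_pow_eq_one.1 ?_)
    exact Nat.Coprime.dvd_of_dvd_mul_right
      (((Nat.coprime_two_left.2 hm).pow_left k).coprime_dvd_left (orderOf_dvd_of_pow_eq_one hk))
      (hnm ▸ orderOf_dvd_natCard a)

end Cfsg.Agent.Invol.AbgOrder
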