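import Cfsg.Agent.Lib.Invol.AbgOrder.OrdAlperin
import Cfsg.Agent.Lib.Invol.AbgOrder.OrdNSys
import Cfsg.Agent.Lib.Invol.AbgOrder.ProjPair
import Cfsg.Agent.Lib.Invol.Sylow

/-!
# The split torus lifted to the group, and the permutations of its three involutions

A homocyclic `2`-subgroup `A` of `C(z)` over the `2`-part of the split torus; elements of `N_G(A)` act on it as the
swap and, after a twist by a power of the determinant, as `(a, b) ↦ (a / b, 1 / b)`.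
-/

set_option autoImplicit false
set_option linter.unusedSectionVars false
set_option linter.style.haveILetI false

open scoped Classical

namespace Cfsg.Agent.Invol.AbgOrder

open Cfsg
open Cfsg.Agent.Invol.BrauerL3 (Tbl scal)
open Cfsg.Agent.Invol.Wreath5Core (conj_of_same_image eq_one_of_ker)

universe u v v' w

variable {K : Type w} [CommGroup K] {Q : ℤ}

namespace Two

variable {p q : scal K Q × scal K Q}

theorem one : Two (1 : scal K Q × scal K Q) := ⟨0, one_pow _⟩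

theorem mul (hp : Two p) (hq : Two q) : Two (p * q) := by
  obtain ⟨k, hk⟩ := hp
  obtain ⟨l, hl⟩ := hq
  exact ⟨k + l, by rw [mul_pow, pow_add, pow_mul, hk, one_pow, mul_comm (2 ^ k), pow_mul, hl, one_pow, one_mul]⟩

theorem inv (hp : Two p) : Two p⁻¹ := by
  obtain ⟨k, hk⟩ := hp
  exact ⟨k, by rw [inv_pow, hk, inv_one]⟩

theorem npow (hp : Two p) (n : ℕ) : Two (p ^ n) := by
  obtain ⟨k, hk⟩ := hp
  exact ⟨k, by rw [← pow_mul, mul_comm, pow_mul, hk, one_pow]⟩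

theorem comp {p' : scal K Q × scal K Q} (hp : Two p)
    (h : ∀ k : ℕ, p.1 ^ 2 ^ k = 1 → p.2 ^ 2 ^ k = 1 → p'.1 ^ 2 ^ k = 1 ∧ p'.2 ^ 2 ^ k = 1) : Two p' := by
  obtain ⟨k, hk⟩ := hp
  obtain ⟨h1, h2⟩ := h k (congrArg Prod.fst hk) (congrArg Prod.snd hk)
  exact ⟨k, Prod.ext h1 h2⟩

theorem swap (hp : Two p) : Two (p.2, p.1) := hp.comp fun _ h1 h2 => ⟨h2, h1⟩

end Two

variable {N₀ : Type u} [Group N₀] [Fintype N₀] {H : Type v} [Group H]

/-- The `2`-part of the scalars. -/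
theorem NSys.exists_two_part (Y : NSys N₀ H K Q) : ∃ ν r : ℕ, 1 ≤ ν ∧
    (∀ p : scal K Q × scal K Q, Two p ↔ p ^ 2 ^ ν = 1) ∧ (∀ p : scal K Q × scal K Q, Two p → p ^ r = p) ∧
    (∀ p : scal K Q × scal K Q, Two (p ^ r)) ∧ (∀ a : scal K Q, a ^ 2 ^ ν = 1 → a ^ r = a) ∧
    ∃ γ : scal K Q, orderOf γ = 2 ^ ν := by
  obtain ⟨ν, m, r, hm, hnm, hν, hmr, hr⟩ := Y.exists_r
  haveI := Y.T.finiteK
  haveI := Y.T.cyc
  have hS : ∀ a : scal K Q, a ^ (2 ^ ν * m) = 1 := fun a => hnm ▸ pow_card_eq_one'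
  have h1 : ∀ p : scal K Q × scal K Q, Two p → p ^ 2 ^ ν = 1 := by
    rintro p ⟨k, hk⟩
    refine orderOf_dvd_iff_pow_eq_one.1 ?_
    have h : orderOf p ∣ 2 ^ ν * m := orderOf_dvd_of_pow_eq_one (Prod.ext (hS _) (hS _))
    exact (((Nat.coprime_two_left.2 hm).pow_left k).coprime_dvd_left
      (orderOf_dvd_of_pow_eq_one hk)).dvd_of_dvd_mul_right h
  obtain ⟨g, hg⟩ := IsCyclic.exists_ofOrder_eq_natCard (α := scal K Q)
  refine ⟨ν, r, hν, fun p => ⟨h1 p, fun h => ⟨ν, h⟩⟩, fun p hp => Prod.ext (hr _ (congrArg Prod.fst (h1 p hp)))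
    (hr _ (congrArg Prod.snd (h1 p hp))), fun p => ⟨ν, ?_⟩, hr, g ^ m, ?_⟩
  · obtain ⟨j, rfl⟩ := hmr
    rw [← pow_mul, show m * j * 2 ^ ν = 2 ^ ν * m * j by ring, pow_mul, show p ^ (2 ^ ν * m) = 1 from
      Prod.ext (hS _) (hS _), one_pow]
  · rw [orderOf_pow_of_dvd hm.pos.ne' (by rw [hg, hnm]; exact dvd_mul_left _ _), hg, hnm,
      Nat.mul_div_cancel _ hm.pos]

/-- In a cyclic group an element killed by `n` is a power of one of order `n`. -/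
theorem mem_zpowers_of_pow {α : Type u} [Group α] [Finite α] [IsCyclic α] {g a : α} {n : ℕ} (hn : 0 < n)
    (hg : orderOf g = n) (ha : a ^ n = 1) : a ∈ Subgroup.zpowers g := by
  haveI := Fintype.ofFinite α
  have hsub : (Finset.univ.filter fun b : α => b ∈ Subgroup.zpowers g) ⊆ Finset.univ.filter fun b : α => b ^ n = 1 :=
    fun b hb => by
      obtain ⟨i, rfl⟩ := Subgroup.mem_zpowers_iff.1 (Finset.mem_filter.1 hb).2
      refine Finset.mem_filter.2 ⟨Finset.mem_univ _, ?_⟩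
      rw [← zpow_natCast, zpow_comm, zpow_natCast, ← hg, pow_orderOf_eq_one, one_zpow]
  have hcard : (Finset.univ.filter fun b : α => b ∈ Subgroup.zpowers g).card = n := by
    rw [← hg, ← Nat.card_zpowers, Nat.card_eq_fintype_card, Fintype.card_subtype]
  have heq := Finset.eq_of_subset_of_card_le hsub ((IsCyclic.card_pow_eq_one_le hn).trans hcard.ge)
  have hm : a ∈ Finset.univ.filter fun b : α => b ^ n = 1 := Finset.mem_filter.2 ⟨Finset.mem_univ _, ha⟩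
  exact (Finset.mem_filter.1 (heq ▸ hm : a ∈ Finset.univ.filter fun b : α => b ∈ Subgroup.zpowers g)).2

variable {G : Type v'} [Group G] [Fintype G] {X : Type u} [Group X] [Fintype X]

namespace PData

variable (D : PData G X)

/-- Two `2`-subgroups of the centraliser over one subgroup are conjugate over it. -/
theorem conj_lift {A A' : Subgroup G} (hA : IsPGroup 2 A) (hA' : IsPGroup 2 A') (hAC : A ≤ D.C) (hAC' : A' ≤ D.C)
    (hmap : (A'.subgroupOf D.C).map D.π ≤ (A.subgroupOf D.C).map D.π) :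
    ∃ l : D.C, D.π l ∈ (A.subgroupOf D.C).map D.π ∧ ∀ a ∈ A', (l : G) * a * (l : G)⁻¹ ∈ A := by
  haveI : Fact (Nat.Prime 2) := ⟨Nat.prime_two⟩
  set R := (A.subgroupOf D.C).map D.π with hR
  set L := R.comap D.π with hL
  have hle : A.subgroupOf D.C ≤ L := fun a ha => Subgroup.mem_map_of_mem _ ha
  have hle' : A'.subgroupOf D.C ≤ L := fun a ha => hmap (Subgroup.mem_map_of_mem _ ha)
  obtain ⟨P, hP⟩ := ((hA.comap_subtype (K := D.C)).comap_subtype (K := L)).exists_le_sylow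
  -- the subgroup over `R` is a Sylow subgroup
  have hPA : ∀ x : L, x ∈ (P : Subgroup L) → ((x : D.C) : G) ∈ A := by
    intro x hx
    obtain ⟨a, ha, hax⟩ := (x.2 : (x : D.C) ∈ L)
    have haL : a ∈ L := hle ha
    have hd : (x * (⟨a, haL⟩ : L)⁻¹) ∈ (P : Subgroup L) := mul_mem hx (inv_mem (hP (by exact ha)))
    obtain ⟨j, hj⟩ := IsPGroup.iff_orderOf.1 P.isPGroup' ⟨_, hd⟩
    have h1 : ((x * (⟨a, haL⟩ : L)⁻¹ : L) : D.C) = 1 := eq_one_of_ker D.π D.odd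
      ⟨j, by simp only [Subgroup.orderOf_mk] at hj; simp only [Subgroup.orderOf_coe]; exact hj⟩ (by
        rw [Subgroup.coe_mul, Subgroup.coe_inv, map_mul, map_inv]
        show D.π x * (D.π a)⁻¹ = 1
        rw [hax, mul_inv_cancel])
    rw [Subgroup.coe_mul, Subgroup.coe_inv, mul_inv_eq_one] at h1
    rw [h1]
    exact ha
  obtain ⟨g, hg⟩ := exists_conj_subset_sylow ((hA'.comap_subtype (K := D.C)).comap_subtype (K := L)) P
  exact ⟨(g : D.C), g.2, fun a ha => hPA _ (hg ⟨⟨a, hAC' ha⟩, hle' (by exact ha)⟩ ha)⟩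

end PData

/-- A homocyclic subgroup over the `2`-part of the torus. -/
structure Lift (D : PData G X) {N : Subgroup X} {Y : NSys N H K Q} (S : Split Y) where
  /-- the lift -/
  ℓ : scal K Q × scal K Q →* G
  mem : ∀ p, ℓ p ∈ D.C
  proj : ∀ p, Two p → D.π ⟨ℓ p, mem p⟩ = (S.τ p : X)
  red : ∀ p, ∃ q, Two q ∧ ℓ q = ℓ p

variable {D : PData G X} {N : Subgroup X} {Y : NSys N H K Q} {S : Split Y}

theorem exists_lift_torus (D : PData G X) (S : Split Y) : Nonempty (Lift D S) := by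
  haveI : Fact (Nat.Prime 2) := ⟨Nat.prime_two⟩
  obtain ⟨ν, r, -, hT, hTr, hTp, -, -⟩ := Y.exists_two_part
  let ρ : scal K Q × scal K Q →* X := N.subtype.comp (S.τ.comp (powMonoidHom r))
  have hρa : ∀ p, ρ p = (S.τ (p ^ r) : X) := fun p => rfl
  set L := ρ.range.comap D.π with hL
  let ψ : L →* ρ.range := (D.π.comp L.subtype).codRestrict ρ.range fun x => x.2
  have hψ : Function.Surjective ψ := fun ⟨x, hx⟩ => by
    obtain ⟨c, hc⟩ := D.surj x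
    exact ⟨⟨c, show D.π c ∈ ρ.range from hc ▸ hx⟩, Subtype.ext hc⟩
  have h2 : IsPGroup 2 ρ.range := by
    rintro ⟨x, p, rfl⟩
    refine ⟨ν, Subtype.ext ?_⟩
    show ρ p ^ 2 ^ ν = 1
    rw [← map_pow, hρa, ← pow_mul, mul_comm, pow_mul, (hT _).1 (hTp p), map_one, OneMemClass.coe_one]
  have hker : Nat.Coprime (Nat.card ψ.ker) ψ.ker.index := by
    rw [Subgroup.index_ker, MonoidHom.range_eq_top.2 hψ, Subgroup.card_top]
    obtain ⟨j, hj⟩ := IsPGroup.iff_card.1 h2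
    rw [hj]
    refine Nat.Coprime.pow_right _ (Nat.coprime_comm.1 (Nat.prime_two.coprime_iff_not_dvd.2 fun h => ?_))
    obtain ⟨a, ha⟩ := exists_prime_orderOf_dvd_card' (G := ψ.ker) 2 h
    refine D.odd ?_
    have hb : ((a : L) : D.C) ∈ D.π.ker := congrArg Subtype.val (MonoidHom.mem_ker.1 a.2)
    have h1 := D.π.ker.orderOf_dvd_natCard hb
    rwa [Subgroup.orderOf_coe, Subgroup.orderOf_coe, ha] at h1
  obtain ⟨P, hP⟩ := Subgroup.exists_right_complement'_of_coprime hker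
  have hinj : Function.Injective (ψ.comp P.subtype) := (injective_iff_map_eq_one _).2 fun x hx =>
    Subtype.ext (Subgroup.mem_bot.1 (hP.disjoint.le_bot ⟨MonoidHom.mem_ker.2 hx, x.2⟩))
  have hbij : Function.Bijective (ψ.comp P.subtype) := by
    refine hinj.bijective_of_nat_card_le ?_
    rw [← hP.symm.index_eq_card, Subgroup.index_ker, MonoidHom.range_eq_top.2 hψ, Subgroup.card_top]
  let e := (MulEquiv.ofBijective _ hbij).symm
  let ℓ : scal K Q × scal K Q →* D.C := L.subtype.comp (P.subtype.comp (e.toMonoidHom.comp ρ.rangeRestrict))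
  have hℓ : ∀ p, D.π (ℓ p) = ρ p := fun p =>
    congrArg Subtype.val (MulEquiv.apply_symm_apply (MulEquiv.ofBijective _ hbij) (ρ.rangeRestrict p))
  refine ⟨⟨D.C.subtype.comp ℓ, fun p => (ℓ p).2, fun p hp => ?_, fun p => ⟨p ^ r, hTp p, ?_⟩⟩⟩
  · show D.π (ℓ p) = _
    rw [hℓ, hρa, hTr p hp]
  · refine congrArg D.C.subtype (congrArg (L.subtype.comp (P.subtype.comp e.toMonoidHom)) (Subtype.ext ?_))
    show ρ (p ^ r) = ρ p
    rw [hρa, hρa, hTr _ (hTp p)]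

namespace Lift

variable (L : Lift D S)
include L

/-- The subgroup. -/
abbrev A : Subgroup G := L.ℓ.range

/-- `g` acts as `θ`. -/
def Acts (g : G) (θ : scal K Q × scal K Q → scal K Q × scal K Q) : Prop :=
  ∀ p, Two p → g * L.ℓ p * g⁻¹ = L.ℓ (θ p)

theorem A_le : L.A ≤ D.C := by rintro _ ⟨p, rfl⟩; exact L.mem p

theorem isPGroup_A : IsPGroup 2 L.A := by
  rintro ⟨x, p, rfl⟩
  obtain ⟨q, ⟨k, hk⟩, hq⟩ := L.red p
  exact ⟨k, Subtype.ext (by show L.ℓ p ^ 2 ^ k = 1; rw [← hq, ← map_pow, hk, map_one])⟩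

theorem inj {p q : scal K Q × scal K Q} (hp : Two p) (hq : Two q) (h : L.ℓ p = L.ℓ q) : p = q := by
  refine S.inj_two hp hq (Subtype.ext ?_)
  rw [← L.proj p hp, ← L.proj q hq]
  simp only [h]

theorem two_power (p : scal K Q × scal K Q) : ∃ k : ℕ, orderOf (L.ℓ p) = 2 ^ k := by
  obtain ⟨q, ⟨k, hk⟩, hq⟩ := L.red p
  obtain ⟨i, -, hi⟩ := (Nat.dvd_prime_pow Nat.prime_two).1
    (orderOf_dvd_of_pow_eq_one (show L.ℓ p ^ 2 ^ k = 1 by rw [← hq, ← map_pow, hk, map_one]))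
  exact ⟨i, hi⟩

/-- Elements of the subgroup are determined by their images. -/
theorem eq_of_proj {x : G} (hx : x ∈ L.A) (hxC : x ∈ D.C) {q : scal K Q × scal K Q} (hq : Two q)
    (h : D.π ⟨x, hxC⟩ = (S.τ q : X)) : x = L.ℓ q := by
  obtain ⟨p, rfl⟩ := hx
  obtain ⟨p', hp', e⟩ := L.red p
  rw [← e]
  refine congrArg L.ℓ (S.inj_two hp' hq (Subtype.ext ?_))
  rw [← L.proj p' hp', ← h]
  simp only [e]

theorem two_e : Two ((Y.e, Y.e) : scal K Q × scal K Q) :=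
  ⟨1, by rw [pow_one, sq, Prod.mk_mul_mk, Y.e_sq]; rfl⟩

theorem two_1e : Two ((1, Y.e) : scal K Q × scal K Q) :=
  ⟨1, by rw [pow_one, sq, Prod.mk_mul_mk, Y.e_sq, one_mul]; rfl⟩

theorem two_e1 : Two ((Y.e, 1) : scal K Q × scal K Q) := (L.two_1e).swap

theorem invol_param {q : scal K Q × scal K Q} (h : q * q = 1) (hq : q ≠ 1) :
    q = (Y.e, Y.e) ∨ q = (1, Y.e) ∨ q = (Y.e, 1) := by
  rcases Y.e_unique (congrArg Prod.fst h) with a | a <;> rcases Y.e_unique (congrArg Prod.snd h) with b | b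
  · exact absurd (Prod.ext a b) hq
  · exact Or.inr (Or.inl (Prod.ext a b))
  · exact Or.inr (Or.inr (Prod.ext a b))
  · exact Or.inl (Prod.ext a b)

theorem orderOf_invol {q : scal K Q × scal K Q} (ht : Two q) (h : q * q = 1) (hq : q ≠ 1) :
    orderOf (L.ℓ q) = 2 :=
  orderOf_eq_prime (by rw [sq, ← map_mul, h, map_one]) fun e => hq (L.inj ht Two.one (by rw [e, map_one]))

theorem zbar_eq : D.zbar = (S.τ (Y.e, Y.e) : X) → L.ℓ (Y.e, Y.e) = D.z := fun h => by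
  have h1 : orderOf (⟨L.ℓ (Y.e, Y.e), L.mem _⟩ : D.C) = 2 := by
    rw [Subgroup.orderOf_mk]
    exact L.orderOf_invol L.two_e (Prod.ext Y.e_sq Y.e_sq) fun h => Y.e_ne (congrArg Prod.fst h)
  exact congrArg Subtype.val (D.eq_z h1 ((L.proj _ L.two_e).trans h.symm))

theorem conj_eq {g : G} (hg : g ∈ Subgroup.normalizer (L.A : Set G)) (p : scal K Q × scal K Q) :
    ∃ q, Two q ∧ g * L.ℓ p * g⁻¹ = L.ℓ q := by
  obtain ⟨q, hq⟩ := (Subgroup.mem_normalizer_iff.1 hg (L.ℓ p)).1 ⟨p, rfl⟩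
  obtain ⟨q', hq', e⟩ := L.red q
  exact ⟨q', hq', hq.symm.trans e.symm⟩

theorem norm_of_conj {g : G} (h : ∀ p, g * L.ℓ p * g⁻¹ ∈ L.A) : g ∈ Subgroup.normalizer (L.A : Set G) :=
  Subgroup.mem_normalizer_fintype fun x hx => by
    obtain ⟨p, rfl⟩ := hx
    exact h p

theorem norm_of_acts {g : G} {θ : scal K Q × scal K Q → scal K Q × scal K Q} (h : L.Acts g θ) :
    g ∈ Subgroup.normalizer (L.A : Set G) :=
  L.norm_of_conj fun p => by
    obtain ⟨q, hq, e⟩ := L.red p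
    exact ⟨θ q, by rw [← e, h q hq]⟩

theorem acts_mul {g g' : G} {θ θ' : scal K Q × scal K Q → scal K Q × scal K Q} (h : L.Acts g θ)
    (h' : L.Acts g' θ') (hθ' : ∀ p, Two p → Two (θ' p)) : L.Acts (g * g') (θ ∘ θ') := fun p hp => by
  rw [Function.comp_apply, ← h _ (hθ' p hp), ← h' p hp]
  group

end Lift

variable (hN : NHyp N)

namespace Lift

variable (L : Lift D S)
include L hN

theorem zbar_tau : D.zbar = (S.τ (Y.e, Y.e) : X) := by
  haveI := hN.normal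
  obtain ⟨z', hz'⟩ : ∃ z' : N, (z' : X) = D.zbar :=
    ⟨⟨D.zbar, mem_of_two_power hN.odd ⟨1, by rw [D.zbar_order, pow_one]⟩⟩, rfl⟩
  have ho : orderOf z' = 2 := by rw [← Subgroup.orderOf_coe, hz', D.zbar_order]
  rcases S.invol_cases ho with h | h
  · rw [← hz', h]
  · exfalso
    refine S.uN_noncentral ?_
    obtain ⟨c, hc⟩ := isConj_iff.1 h
    refine Subgroup.mem_center_iff.2 fun y => ?_
    have hzc : ∀ y : N, y * z' = z' * y := fun y =>
      Subtype.ext (by simp only [Subgroup.coe_mul, hz']; exact (D.zbar_central _).eq)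
    have e : S.τ (1, Y.e) = z' := by
      calc S.τ (1, Y.e) = c⁻¹ * z' * c := by rw [← hc]; group
        _ = z' := by rw [hzc, inv_mul_cancel_right]
    rw [e]
    exact hzc y

theorem z_eq : L.ℓ (Y.e, Y.e) = D.z := L.zbar_eq (L.zbar_tau hN)

/-- The elements of the centraliser normalising the subgroup act as `1` or as the swap. -/
theorem stab {g : G} (hgC : g ∈ D.C) (hg : g ∈ Subgroup.normalizer (L.A : Set G)) :
    L.Acts g id ∨ L.Acts g (fun p => (p.2, p.1)) := by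
  have hkey : ∀ p, Two p → g * L.ℓ p * g⁻¹ = L.ℓ p ∨ g * L.ℓ p * g⁻¹ = L.ℓ (p.2, p.1) := by
    intro p hp
    obtain ⟨q, hq, e⟩ := L.conj_eq hg p
    have hπ : D.π ⟨g, hgC⟩ * (S.τ p : X) * (D.π ⟨g, hgC⟩)⁻¹ = (S.τ q : X) := by
      rw [← L.proj p hp, ← L.proj q hq, ← map_inv, ← map_mul, ← map_mul]
      exact congrArg D.π (Subtype.ext e)
    obtain ⟨k, hk⟩ := hp
    obtain ⟨i, -, hi⟩ := (Nat.dvd_prime_pow Nat.prime_two).1
      (orderOf_dvd_of_pow_eq_one (show S.τ p ^ 2 ^ k = 1 by rw [← map_pow, hk, map_one]))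
    have hc : IsConj (S.τ p) (S.τ q) := (hN.isConj_iff_mem ⟨i, hi⟩).1 (isConj_iff.2 ⟨_, hπ⟩)
    have hp : Two p := ⟨k, hk⟩
    rw [e]
    by_cases hd : p.1 = p.2
    · left
      refine congrArg L.ℓ (S.inj_two hq hp ?_)
      obtain ⟨c, hc⟩ := isConj_iff.1 hc
      rw [← hc, show p = (p.1, p.1) from Prod.ext rfl hd.symm,
        Subgroup.mem_center_iff.1 (S.diag_central _) c, mul_inv_cancel_right]
    · exact (S.conj_range hd hc).imp (fun h => congrArg L.ℓ (S.inj_two hq hp h))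
        fun h => congrArg L.ℓ (S.inj_two hq hp.swap h)
  have h1e := L.two_1e
  have hsw : ∀ p q : scal K Q × scal K Q, ((p * q).2, (p * q).1) = (p.2, p.1) * (q.2, q.1) := fun _ _ => rfl
  have hne : L.ℓ (Y.e, 1) ≠ L.ℓ (1, Y.e) := fun h => Y.e_ne (congrArg Prod.fst (L.inj L.two_e1 h1e h))
  rcases hkey _ h1e with h | h
  · left
    intro p hp
    rcases hkey p hp with h' | h'
    · exact h'
    · rcases hkey _ (hp.mul h1e) with h2 | h2
      · rw [map_mul, ← conj_mul, h] at h2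
        exact mul_right_cancel h2
      · exfalso
        rw [hsw, map_mul, map_mul, ← conj_mul, h, h'] at h2
        exact hne (mul_left_cancel h2).symm
  · right
    intro p hp
    rcases hkey p hp with h' | h'
    · rcases hkey _ (hp.mul h1e) with h2 | h2
      · exfalso
        rw [map_mul, ← conj_mul, h, h'] at h2
        exact hne (mul_left_cancel h2)
      · rw [hsw, map_mul, map_mul, ← conj_mul, h] at h2
        exact mul_right_cancel h2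
    · exact h'

/-- An element of the normaliser fixing two involutions acts trivially. -/
theorem faithful {g : G} (hg : g ∈ Subgroup.normalizer (L.A : Set G))
    (hz : g * L.ℓ (Y.e, Y.e) * g⁻¹ = L.ℓ (Y.e, Y.e)) (hu : g * L.ℓ (1, Y.e) * g⁻¹ = L.ℓ (1, Y.e)) :
    L.Acts g id := by
  have hgC : g ∈ D.C := Subgroup.mem_centralizer_singleton_iff.2 (by
    rw [← L.z_eq hN]; exact mul_inv_eq_iff_eq_mul.1 hz)
  refine (L.stab hN hgC hg).resolve_right fun h => ?_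
  rw [h _ L.two_1e] at hu
  exact Y.e_ne (congrArg Prod.fst (L.inj L.two_e1 L.two_1e hu))

omit hN in
/-- An element moving the three involutions has no fixed point. -/
theorem no_fix {g : G} (hz : g * L.ℓ (Y.e, Y.e) * g⁻¹ ≠ L.ℓ (Y.e, Y.e))
    (hu : g * L.ℓ (1, Y.e) * g⁻¹ ≠ L.ℓ (1, Y.e)) (hu' : g * L.ℓ (Y.e, 1) * g⁻¹ ≠ L.ℓ (Y.e, 1))
    {p : scal K Q × scal K Q} (hp : Two p) (h : g * L.ℓ p * g⁻¹ = L.ℓ p) : p = 1 := by
  obtain ⟨k, hk⟩ := hp
  induction k generalizing p with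
  | zero => simpa using hk
  | succ k ih =>
    have h2 : g * L.ℓ (p * p) * g⁻¹ = L.ℓ (p * p) := by rw [map_mul, ← conj_mul, h]
    have e := ih h2 (by rw [← sq, ← pow_mul, ← pow_succ', hk])
    by_contra hne
    rcases L.invol_param e hne with rfl | rfl | rfl
    · exact hz h
    · exact hu h
    · exact hu' h

/-- The swap is induced. -/
theorem exists_swap : ∃ g ∈ D.C, L.Acts g (fun p => (p.2, p.1)) := by
  obtain ⟨⟨c, hc⟩, hcs⟩ := D.surj (S.s : X)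
  set A' := L.A.map (MulAut.conj c).toMonoidHom with hA'
  have hA'C : A' ≤ D.C := by
    rintro _ ⟨a, ha, rfl⟩
    exact mul_mem (mul_mem hc (L.A_le ha)) (inv_mem hc)
  have himg : ∀ p, Two p → ∀ hm, D.π ⟨c * L.ℓ p * c⁻¹, hm⟩ = (S.τ (p.2, p.1) : X) := fun p hp hm => by
    rw [← S.swap p.1 p.2]
    simp only [Subgroup.coe_mul, Subgroup.coe_inv]
    rw [← L.proj p hp, ← hcs, ← map_inv, ← map_mul, ← map_mul]
    exact congrArg D.π (Subtype.ext rfl)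
  obtain ⟨l, hl, hlA⟩ := D.conj_lift L.isPGroup_A (L.isPGroup_A.map _) L.A_le hA'C (by
    rintro _ ⟨⟨x, hx⟩, hx', rfl⟩
    obtain ⟨a, ⟨p, rfl⟩, rfl⟩ := hx'
    obtain ⟨q, hq, e⟩ := L.red p
    refine ⟨⟨L.ℓ (q.2, q.1), L.mem _⟩, ⟨_, rfl⟩, ?_⟩
    rw [L.proj _ hq.swap, ← himg q hq (mul_mem (mul_mem hc (L.mem q)) (inv_mem hc))]
    exact congrArg D.π (Subtype.ext (by show c * L.ℓ q * c⁻¹ = c * L.ℓ p * c⁻¹; rw [e])))
  refine ⟨(l : G) * c, mul_mem l.2 hc, fun p hp => ?_⟩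
  have hm : c * L.ℓ p * c⁻¹ ∈ D.C := mul_mem (mul_mem hc (L.mem p)) (inv_mem hc)
  have h1 : (l : G) * (c * L.ℓ p * c⁻¹) * (l : G)⁻¹ ∈ L.A := hlA _ ⟨_, ⟨p, rfl⟩, rfl⟩
  rw [show (l : G) * c * L.ℓ p * ((l : G) * c)⁻¹ = (l : G) * (c * L.ℓ p * c⁻¹) * (l : G)⁻¹ by group]
  refine L.eq_of_proj h1 (mul_mem (mul_mem l.2 hm) (inv_mem l.2)) hp.swap ?_
  obtain ⟨⟨a, haC⟩, ⟨a', ha'⟩, hla⟩ := hl
  obtain ⟨q, hq, e⟩ := L.red a'
  have hla' : D.π l = (S.τ q : X) := by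
    rw [← hla, ← L.proj q hq]
    exact congrArg D.π (Subtype.ext (ha'.symm.trans e.symm))
  calc D.π ⟨(l : G) * (c * L.ℓ p * c⁻¹) * (l : G)⁻¹, _⟩ = D.π l * D.π ⟨c * L.ℓ p * c⁻¹, hm⟩ * (D.π l)⁻¹ := by
        rw [← map_inv, ← map_mul, ← map_mul]; rfl
    _ = _ := by
        rw [hla', himg p hp hm, ← Subgroup.coe_inv, ← Subgroup.coe_mul, ← Subgroup.coe_mul, ← map_inv, ← map_mul,
          ← map_mul, mul_inv_cancel_comm]

/-- Some element of the normaliser carries `u` to `z`. -/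
theorem exists_move (hcls : ∀ i : G, orderOf i = 2 → IsConj D.z i) :
    ∃ g ∈ Subgroup.normalizer (L.A : Set G), g * L.ℓ (Y.e, 1) * g⁻¹ = D.z := by
  haveI := hN.normal
  have hu2 : orderOf (L.ℓ (Y.e, 1)) = 2 :=
    L.orderOf_invol L.two_e1 (Prod.ext Y.e_sq (one_mul 1)) fun h => Y.e_ne (congrArg Prod.fst h)
  obtain ⟨g, hg⟩ := isConj_iff.1 (hcls _ hu2).symm
  have hgC : ∀ p, g * L.ℓ p * g⁻¹ ∈ D.C := fun p => Subgroup.mem_centralizer_singleton_iff.2 (by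
    rw [← hg, conj_mul, conj_mul, ← map_mul, ← map_mul, mul_comm])
  -- the image of the other involution
  have hw2 : orderOf (⟨g * L.ℓ (Y.e, Y.e) * g⁻¹, hgC _⟩ : D.C) = 2 := by
    rw [Subgroup.orderOf_mk, orderOf_conj_eq,
      L.orderOf_invol L.two_e (Prod.ext Y.e_sq Y.e_sq) fun h => Y.e_ne (congrArg Prod.fst h)]
  have hwN : D.π ⟨g * L.ℓ (Y.e, Y.e) * g⁻¹, hgC _⟩ ∈ N :=
    mem_of_two_power hN.odd ⟨1, by rw [D.pi_order_two hw2, pow_one]⟩
  have hnN : ∀ p, D.π ⟨g * L.ℓ p * g⁻¹, hgC p⟩ ∈ N := fun p => by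
    obtain ⟨k, hk⟩ := L.two_power p
    obtain ⟨i, -, hi⟩ := (Nat.dvd_prime_pow Nat.prime_two).1 ((orderOf_map_dvd D.π ⟨g * L.ℓ p * g⁻¹, hgC p⟩).trans
      (dvd_of_eq (show orderOf (⟨g * L.ℓ p * g⁻¹, hgC p⟩ : D.C) = 2 ^ k by
        rw [Subgroup.orderOf_mk, orderOf_conj_eq, hk])))
    exact mem_of_two_power hN.odd ⟨i, hi⟩
  obtain ⟨n, hn⟩ : ∃ n : N, n * S.τ (1, Y.e) * n⁻¹ = ⟨_, hwN⟩ := by
    rcases S.invol_cases (x := (⟨_, hwN⟩ : N))
      (by rw [← Subgroup.orderOf_coe]; exact D.pi_order_two hw2) with h | h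
    · exfalso
      have e : g * L.ℓ (Y.e, Y.e) * g⁻¹ = D.z :=
        congrArg Subtype.val (D.eq_z hw2 ((congrArg Subtype.val h).trans (L.zbar_tau hN).symm))
      rw [← hg] at e
      exact Y.e_ne (congrArg Prod.snd (L.inj L.two_e L.two_e1 (mul_left_cancel (mul_right_cancel e))))
    · exact isConj_iff.1 h
  obtain ⟨⟨c, hc⟩, hcn⟩ := D.surj ((n : X)⁻¹)
  -- the images lie in the `2`-part of the torus
  have himg : ∀ p, ∃ q, Two q ∧ ∀ hm, D.π ⟨(c * g) * L.ℓ p * (c * g)⁻¹, hm⟩ = (S.τ q : X) := by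
    intro p
    set x : N := ⟨_, hnN p⟩ with hx
    have hcom : Commute (n⁻¹ * x * n) (S.τ (1, Y.e)) := by
      have h0 : Commute x ⟨_, hwN⟩ := Subtype.ext (by
        show D.π _ * D.π _ = D.π _ * D.π _
        rw [← map_mul, ← map_mul]
        exact congrArg D.π (Subtype.ext (by
          show g * L.ℓ p * g⁻¹ * (g * L.ℓ (Y.e, Y.e) * g⁻¹) = g * L.ℓ (Y.e, Y.e) * g⁻¹ * (g * L.ℓ p * g⁻¹)
          rw [conj_mul, conj_mul, ← map_mul, ← map_mul, mul_comm])))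
      rw [← hn] at h0
      have h1 := h0.map (MulAut.conj n⁻¹).toMonoidHom
      simp only [MulEquiv.coe_toMonoidHom, MulAut.conj_apply, inv_inv] at h1
      rwa [show n⁻¹ * (n * S.τ (1, Y.e) * n⁻¹) * n = S.τ (1, Y.e) by group] at h1
    obtain ⟨q, hq⟩ := (S.mem_iff _).1 hcom
    obtain ⟨q', hq', e'⟩ := S.exists_two (p := q) (by
      obtain ⟨k, hk⟩ := L.two_power p
      obtain ⟨i, -, hi⟩ := (Nat.dvd_prime_pow Nat.prime_two).1 ((orderOf_map_dvd D.π ⟨g * L.ℓ p * g⁻¹, hgC p⟩).trans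
        (dvd_of_eq (show orderOf (⟨g * L.ℓ p * g⁻¹, hgC p⟩ : D.C) = 2 ^ k by
          rw [Subgroup.orderOf_mk, orderOf_conj_eq, hk])))
      refine ⟨i, ?_⟩
      rw [hq, show n⁻¹ * x * n = n⁻¹ * x * (n⁻¹)⁻¹ by rw [inv_inv], orderOf_conj_eq, ← Subgroup.orderOf_coe]
      exact hi)
    refine ⟨q', hq', fun hm => ?_⟩
    rw [e', hq, Subgroup.coe_mul, Subgroup.coe_mul, Subgroup.coe_inv]
    calc D.π ⟨(c * g) * L.ℓ p * (c * g)⁻¹, hm⟩
        = D.π ⟨c, hc⟩ * D.π ⟨g * L.ℓ p * g⁻¹, hgC p⟩ * (D.π ⟨c, hc⟩)⁻¹ := by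
          rw [← map_inv, ← map_mul, ← map_mul]
          exact congrArg D.π (Subtype.ext (by
            show (c * g) * L.ℓ p * (c * g)⁻¹ = c * (g * L.ℓ p * g⁻¹) * c⁻¹; group))
      _ = _ := by rw [hcn, inv_inv]
  set A' := L.A.map (MulAut.conj (c * g)).toMonoidHom with hA'
  have hA'C : A' ≤ D.C := by
    rintro _ ⟨a, ⟨p, rfl⟩, rfl⟩
    show (c * g) * L.ℓ p * (c * g)⁻¹ ∈ D.C
    rw [show (c * g) * L.ℓ p * (c * g)⁻¹ = c * (g * L.ℓ p * g⁻¹) * c⁻¹ by group]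
    exact mul_mem (mul_mem hc (hgC p)) (inv_mem hc)
  obtain ⟨l, -, hlA⟩ := D.conj_lift L.isPGroup_A (L.isPGroup_A.map _) L.A_le hA'C (by
    rintro _ ⟨⟨x, hx⟩, hx', rfl⟩
    obtain ⟨a, ⟨p, rfl⟩, rfl⟩ := hx'
    obtain ⟨q, hq, e⟩ := himg p
    exact ⟨⟨L.ℓ q, L.mem q⟩, ⟨_, rfl⟩, (L.proj q hq).trans (e _).symm⟩)
  refine ⟨(l : G) * (c * g), L.norm_of_conj fun p => ?_, ?_⟩
  · rw [show (l : G) * (c * g) * L.ℓ p * ((l : G) * (c * g))⁻¹ = l * ((c * g) * L.ℓ p * (c * g)⁻¹) * (l : G)⁻¹ by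
      group]
    exact hlA _ ⟨_, ⟨p, rfl⟩, rfl⟩
  · rw [show (l : G) * (c * g) * L.ℓ (Y.e, 1) * ((l : G) * (c * g))⁻¹ =
      l * (c * (g * L.ℓ (Y.e, 1) * g⁻¹) * c⁻¹) * (l : G)⁻¹ by group, hg,
      Subgroup.mem_centralizer_singleton_iff.1 hc, mul_inv_cancel_right,
      Subgroup.mem_centralizer_singleton_iff.1 l.2, mul_inv_cancel_right]

/-- An element fixing `u'` and exchanging `z` and `u`, of which the square acts trivially. -/
theorem exists_transpose (hcls : ∀ i : G, orderOf i = 2 → IsConj D.z i) :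
    ∃ g ∈ Subgroup.normalizer (L.A : Set G), g * L.ℓ (Y.e, 1) * g⁻¹ = L.ℓ (Y.e, 1) ∧
      g * L.ℓ (1, Y.e) * g⁻¹ = L.ℓ (Y.e, Y.e) ∧ g * L.ℓ (Y.e, Y.e) * g⁻¹ = L.ℓ (1, Y.e) ∧
      L.Acts (g * g) id := by
  obtain ⟨g1, hg1, hgz⟩ := L.exists_move hN hcls
  obtain ⟨s, hsC, hs⟩ := L.exists_swap hN
  have hsn := L.norm_of_acts hs
  set g := g1⁻¹ * s * g1 with hgdef
  have hgn : g ∈ Subgroup.normalizer (L.A : Set G) := mul_mem (mul_mem (inv_mem hg1) hsn) hg1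
  have hfix : g * L.ℓ (Y.e, 1) * g⁻¹ = L.ℓ (Y.e, 1) := by
    rw [show g * L.ℓ (Y.e, 1) * g⁻¹ = g1⁻¹ * (s * (g1 * L.ℓ (Y.e, 1) * g1⁻¹) * s⁻¹) * g1 by rw [hgdef]; group,
      hgz, Subgroup.mem_centralizer_singleton_iff.1 hsC, mul_inv_cancel_right, ← hgz]
    group
  have hsq : L.Acts (g * g) id := fun p hp => by
    obtain ⟨q, hq, e⟩ := L.conj_eq hg1 p
    have h1 := L.acts_mul hs hs (fun q hq => hq.swap) q hq
    simp only [Function.comp_apply, Prod.mk.eta] at h1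
    rw [id, show g * g * L.ℓ p * (g * g)⁻¹ = g1⁻¹ * (s * s * (g1 * L.ℓ p * g1⁻¹) * (s * s)⁻¹) * g1 by
      rw [hgdef]; group, e, h1, ← e]
    group
  obtain ⟨q, hq, e⟩ := L.conj_eq hgn (1, Y.e)
  have hqq : q * q = 1 := L.inj (hq.mul hq) Two.one (by
    rw [map_mul, ← e, conj_mul, ← map_mul, Prod.mk_mul_mk, Y.e_sq, one_mul]
    simp [← Prod.one_eq_mk])
  have hq1 : q ≠ 1 := fun h => by
    rw [h, map_one, conj_eq_one_iff, ← map_one L.ℓ] at e
    exact Y.e_ne (congrArg Prod.snd (L.inj L.two_1e Two.one e))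
  have hz : g * L.ℓ (1, Y.e) * g⁻¹ = L.ℓ (Y.e, Y.e) := by
    rcases L.invol_param hqq hq1 with rfl | rfl | rfl
    · exact e
    · exfalso
      -- trivial action would make the swap trivial
      have hz : g * L.ℓ (Y.e, Y.e) * g⁻¹ = L.ℓ (Y.e, Y.e) := by
        rw [show ((Y.e, Y.e) : scal K Q × scal K Q) = (Y.e, 1) * (1, Y.e) by rw [Prod.mk_mul_mk, mul_one, one_mul],
          map_mul, ← conj_mul, hfix, e]
      have hid := L.faithful hN hgn hz e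
      obtain ⟨q, hq, e'⟩ := L.conj_eq (inv_mem hg1) (1, Y.e)
      have h1 := hid q hq
      rw [id, ← e', hgdef] at h1
      have h2 : s * L.ℓ (1, Y.e) * s⁻¹ = L.ℓ (1, Y.e) := by
        calc s * L.ℓ (1, Y.e) * s⁻¹ =
            g1 * (g1⁻¹ * s * g1 * (g1⁻¹ * L.ℓ (1, Y.e) * g1⁻¹⁻¹) * (g1⁻¹ * s * g1)⁻¹) * g1⁻¹ := by group
          _ = g1 * (g1⁻¹ * L.ℓ (1, Y.e) * g1⁻¹⁻¹) * g1⁻¹ := by rw [h1]
          _ = _ := by group
      rw [hs _ L.two_1e] at h2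
      exact Y.e_ne (congrArg Prod.fst (L.inj L.two_e1 L.two_1e h2))
    · exfalso
      rw [← hfix] at e
      exact Y.e_ne (congrArg Prod.fst (L.inj L.two_1e L.two_e1 (mul_left_cancel (mul_right_cancel e)))).symm
  refine ⟨g, hgn, hfix, hz, ?_, hsq⟩
  have h := hsq _ L.two_1e
  rw [id, show g * g * L.ℓ (1, Y.e) * (g * g)⁻¹ = g * (g * L.ℓ (1, Y.e) * g⁻¹) * g⁻¹ by group, hz] at h
  exact h

end Lift

include hN in
/-- Coordinates in which the transposition fixing `(a, 1)` is `(a, b) ↦ (a / b, 1 / b)`. -/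
theorem exists_straight (D : PData G X) (hcls : ∀ i : G, orderOf i = 2 → IsConj D.z i) (S : Split Y) :
    ∃ (Y' : NSys N H K Q) (S' : Split Y') (L' : Lift D S'), Y'.T = Y.T ∧
      (∀ g, ∃ a, Y'.π g = Y.π (g * Y.T.D (a, a)) ∧ (Y.T.dt g = 1 → a = 1)) ∧
      ∃ gs gt : G, L'.Acts gs (fun p => (p.2, p.1)) ∧ L'.Acts gt (fun p => (p.1 * p.2⁻¹, p.2⁻¹)) := by
  obtain ⟨L⟩ := exists_lift_torus D S
  obtain ⟨s, hsC, hs⟩ := L.exists_swap hN
  obtain ⟨t, htn, htu', htu, htz, htt⟩ := L.exists_transpose hN hcls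
  have hsn := L.norm_of_acts hs
  -- `st` has no fixed point
  set g := s * t with hgdef
  have hg : ∀ x, g * x * g⁻¹ = s * (t * x * t⁻¹) * s⁻¹ := fun x => by rw [hgdef]; group
  have hgz : g * L.ℓ (Y.e, Y.e) * g⁻¹ = L.ℓ (Y.e, 1) := by rw [hg, htz, hs _ L.two_1e]
  have hgu : g * L.ℓ (1, Y.e) * g⁻¹ = L.ℓ (Y.e, Y.e) := by rw [hg, htu, hs _ L.two_e]
  have hgu' : g * L.ℓ (Y.e, 1) * g⁻¹ = L.ℓ (1, Y.e) := by rw [hg, htu', hs _ L.two_e1]
  have hgn : g ∈ Subgroup.normalizer (L.A : Set G) := mul_mem hsn htn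
  have hg3 : L.Acts (g * g * g) id := by
    refine L.faithful hN (mul_mem (mul_mem hgn hgn) hgn) ?_ ?_ <;>
      rw [show ∀ x, g * g * g * x * (g * g * g)⁻¹ = g * (g * (g * x * g⁻¹) * g⁻¹) * g⁻¹ from fun x => by group]
    · rw [hgz, hgu', hgu]
    · rw [hgu, hgz, hgu']
  have hne1 : L.ℓ (Y.e, 1) ≠ L.ℓ (Y.e, Y.e) := fun h => Y.e_ne (congrArg Prod.snd (L.inj L.two_e1 L.two_e h)).symm
  have hne2 : L.ℓ (Y.e, Y.e) ≠ L.ℓ (1, Y.e) := fun h => Y.e_ne (congrArg Prod.fst (L.inj L.two_e L.two_1e h))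
  have hne3 : L.ℓ (1, Y.e) ≠ L.ℓ (Y.e, 1) := fun h => Y.e_ne (congrArg Prod.fst (L.inj L.two_1e L.two_e1 h)).symm
  -- a generator fixed by `t`
  obtain ⟨ν, r, hν, hT, hTr, hTp, hr, γ, hγ⟩ := Y.exists_two_part
  have hγ1 : Two ((1, γ) : scal K Q × scal K Q) := (hT _).2 (by
    rw [Prod.pow_mk, one_pow, ← hγ, pow_orderOf_eq_one]; rfl)
  have hγe : γ ^ 2 ^ (ν - 1) = Y.e := by
    refine (Y.e_unique ?_).resolve_left fun h => ?_
    · rw [← pow_add, ← two_mul, ← pow_succ', Nat.sub_add_cancel hν, ← hγ, pow_orderOf_eq_one]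
    · have := Nat.le_of_dvd (pow_pos two_pos _) (hγ ▸ orderOf_dvd_of_pow_eq_one h)
      have := Nat.pow_lt_pow_right (one_lt_two) (show ν - 1 < ν by omega)
      omega
  obtain ⟨q₁, hq₁, e₁⟩ := L.conj_eq htn (1, γ)
  set q := (1, γ) * q₁ with hqdef
  have hq : Two q := hγ1.mul hq₁
  have htq : t * L.ℓ q * t⁻¹ = L.ℓ q := by
    rw [hqdef, map_mul, ← conj_mul, e₁]
    have h := htt _ hγ1
    rw [id, show t * t * L.ℓ (1, γ) * (t * t)⁻¹ = t * (t * L.ℓ (1, γ) * t⁻¹) * t⁻¹ by group, e₁] at h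
    rw [h, ← map_mul, ← map_mul, mul_comm]
  have hqpow : q ^ 2 ^ (ν - 1) = (Y.e, 1) := by
    have e2 : q₁ ^ 2 ^ (ν - 1) = (Y.e, Y.e) := L.inj (hq₁.npow _) L.two_e (by
      rw [map_pow, ← e₁, conj_pow, ← map_pow, Prod.pow_mk, one_pow, hγe, htu])
    rw [hqdef, mul_pow, e2, Prod.pow_mk, one_pow, hγe, Prod.mk_mul_mk, one_mul, Y.e_sq]
  -- the twist
  set γ' := q.1 * q.2⁻¹ with hγ'def
  have hqν : q.1 ^ 2 ^ ν = 1 ∧ q.2 ^ 2 ^ ν = 1 :=
    ⟨congrArg Prod.fst ((hT _).1 hq), congrArg Prod.snd ((hT _).1 hq)⟩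
  have hγ'o : orderOf γ' = 2 ^ ν := by
    obtain ⟨j, hj⟩ : ∃ j, ν = j + 1 := ⟨ν - 1, by omega⟩
    rw [hj]
    refine orderOf_eq_prime_pow ?_ ?_
    · rw [hγ'def, mul_pow, inv_pow, show q.1 ^ 2 ^ j = Y.e from ?_, show q.2 ^ 2 ^ j = 1 from ?_, inv_one, mul_one]
      · exact Y.e_ne
      · simpa [hj] using congrArg Prod.snd hqpow
      · simpa [hj] using congrArg Prod.fst hqpow
    · rw [← hj, hγ'def, mul_pow, inv_pow, hqν.1, hqν.2, inv_one, mul_one]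
  haveI := Y.T.finiteK
  haveI := Y.T.cyc
  obtain ⟨c, hc⟩ := Subgroup.mem_zpowers_iff.1 (mem_zpowers_of_pow (pow_pos two_pos ν) hγ'o hqν.2)
  obtain ⟨Y', S', r', hT', hrel, hr', hτ⟩ := S.exists_twist c
  have hpar : ∀ a : scal K Q, a ^ 2 ^ ν = 1 → ∃ k : ℕ, a ^ 2 ^ k = 1 := fun a h => ⟨ν, h⟩
  let P : scal K Q × scal K Q →* scal K Q × scal K Q :=
    MonoidHom.mk' (fun p => (p.1 * ((p.1 * p.2) ^ r') ^ c, p.2 * ((p.1 * p.2) ^ r') ^ c)) fun p p' => by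
      ext <;> simp only [Prod.fst_mul, Prod.snd_mul, Prod.mk_mul_mk, mul_mul_mul_comm p.1 p'.1, mul_pow,
        mul_zpow] <;> ac_rfl
  have hPa : ∀ p, P p = (p.1 * ((p.1 * p.2) ^ r') ^ c, p.2 * ((p.1 * p.2) ^ r') ^ c) := fun p => rfl
  have hPtwo : ∀ p, Two p → Two (P p) := fun p hp => by
    obtain ⟨k, hk⟩ := hp
    exact ⟨k, by rw [← map_pow, hk, map_one]⟩
  let L' : Lift D S' :=
    { ℓ := L.ℓ.comp P
      mem := fun p => L.mem _
      proj := fun p hp => (L.proj _ (hPtwo p hp)).trans (by rw [show p = (p.1, p.2) from rfl, hτ]; rfl)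
      red := fun p => ⟨p ^ r, hTp p, by
        obtain ⟨q', hq', e⟩ := L.red (P p)
        rw [MonoidHom.comp_apply, MonoidHom.comp_apply, map_pow, map_pow, ← e, ← map_pow, hTr q' hq']⟩ }
  have hP : P (γ', 1) = q := by
    rw [hPa, mul_one, one_mul, hr' γ' (hpar _ (by rw [← hγ'o, pow_orderOf_eq_one])), hc, hγ'def]
    simp
  have hP' : P (1, γ') = (q.2, q.1) := by
    rw [hPa, one_mul, one_mul, hr' γ' (hpar _ (by rw [← hγ'o, pow_orderOf_eq_one])), hc, hγ'def]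
    simp
  refine ⟨Y', S', L', hT', hrel, s, t, fun p hp => ?_, fun p hp => ?_⟩
  · show s * L.ℓ (P p) * s⁻¹ = L.ℓ (P (p.2, p.1))
    rw [hs _ (hPtwo p hp), hPa, hPa]
    simp only [mul_comm p.2 p.1]
  · -- on the two generators
    have h1 : t * L.ℓ (P (γ', 1)) * t⁻¹ = L.ℓ (P (γ', 1)) := by rw [hP, htq]
    have h2 : t * L.ℓ (P (1, γ')) * t⁻¹ = L.ℓ (P (γ'⁻¹, γ'⁻¹)) := by
      obtain ⟨y₁, hy₁, e₁⟩ := L.conj_eq hgn q
      obtain ⟨y₂, hy₂, e₂⟩ := L.conj_eq hgn y₁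
      have hy : g * L.ℓ y₂ * g⁻¹ = L.ℓ q := by
        have h := hg3 q hq
        rw [id, show g * g * g * L.ℓ q * (g * g * g)⁻¹ = g * (g * (g * L.ℓ q * g⁻¹) * g⁻¹) * g⁻¹ by group, e₁,
          e₂] at h
        exact h
      have hsum : q * y₁ * y₂ = 1 := by
        refine L.no_fix (g := g) ?_ ?_ ?_ ((hq.mul hy₁).mul hy₂) ?_
        · rw [hgz]; exact hne1
        · rw [hgu]; exact hne2
        · rw [hgu']; exact hne3
        · rw [map_mul, map_mul, ← conj_mul, ← conj_mul, e₁, e₂, hy]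
          simp only [← map_mul]
          rw [mul_assoc q, mul_comm q]
      have hy1 : y₁ = (q.2, q.1) := L.inj hy₁ hq.swap (by rw [← e₁, hg, htq, hs _ hq])
      rw [hP', show ((γ'⁻¹, γ'⁻¹) : scal K Q × scal K Q) = ((γ', 1) * (1, γ'))⁻¹ by simp, map_inv P, map_mul P, hP,
        hP', ← hy1, ← eq_inv_of_mul_eq_one_right hsum]
      obtain ⟨w, hw, ew⟩ := L.conj_eq htn y₁
      rw [ew]
      -- `s` carries it to `y₂`
      have hw2 : (w.2, w.1) = y₂ := L.inj hw.swap hy₂ (by rw [← hs w hw, ← ew, ← e₂, hg])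
      have hy2 : (y₂.2, y₂.1) = y₂ := by
        rw [eq_inv_of_mul_eq_one_right hsum, hy1]
        ext <;> simp [mul_comm]
      rw [← hw2] at hy2 ⊢
      simpa using congrArg L.ℓ hy2
    obtain ⟨i, hi⟩ := Subgroup.mem_zpowers_iff.1
      (mem_zpowers_of_pow (pow_pos two_pos ν) hγ'o (congrArg Prod.fst ((hT p).1 hp)))
    obtain ⟨j, hj⟩ := Subgroup.mem_zpowers_iff.1
      (mem_zpowers_of_pow (pow_pos two_pos ν) hγ'o (congrArg Prod.snd ((hT p).1 hp)))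
    show t * L.ℓ (P p) * t⁻¹ = L.ℓ (P (p.1 * p.2⁻¹, p.2⁻¹))
    have hp' : p = (γ', 1) ^ i * (1, γ') ^ j := Prod.ext (by simp [hi]) (by simp [hj])
    rw [show (p.1 * p.2⁻¹, p.2⁻¹) = (γ', (1 : scal K Q)) ^ i * (γ'⁻¹, γ'⁻¹) ^ j from
      Prod.ext (by simp [← hi, ← hj, inv_zpow]) (by simp [← hj, inv_zpow]), hp', map_mul, map_zpow, map_zpow,
      map_mul, map_zpow, map_zpow, ← conj_mul, ← conj_zpow, ← conj_zpow, h1, h2, map_mul, map_zpow, map_zpow,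
      map_mul, map_zpow, map_zpow]

end Cfsg.Agent.Invol.AbgOrder
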