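import Cfsg.Agent.Lib.Invol.AbgOrder.OrdAtoms

/-!
# Functions supported on the elements with the central involution among their powers

For such functions the projection keeps the values on the sections of their support, so the inner products of the
vectors are the inner products on `N`.
-/

set_option autoImplicit false
set_option linter.unusedSectionVars false
set_option linter.style.haveILetI false

open scoped ComplexConjugate Classical

namespace Cfsg.Agent.Invol.AbgOrder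

open Cfsg Cfsg.Agent.Char Cfsg.Agent.Block
open Cfsg.Agent.Invol.BrauerL3 (scal)

universe u v w x

/-- A `2`-element among the powers of an element is among those of its `2`-part. -/
theorem mem_zpowers_pPart {A : Type u} [Group A] {a b y : A} (hb : IsPPart 2 a b) (hy : ∃ j : ℕ, orderOf y = 2 ^ j)
    (h : y ∈ Subgroup.zpowers a) : y ∈ Subgroup.zpowers b := by
  obtain ⟨v, hv, hvc, -, hvo⟩ := hb
  obtain ⟨j, hj⟩ := hy
  obtain ⟨n, rfl⟩ := Subgroup.mem_zpowers_iff.1 h
  set o := orderOf v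
  have h1 : (a ^ n) ^ o = b ^ (n * (o : ℤ)) := by
    rw [← zpow_natCast, ← zpow_mul, ← hv, hvc.mul_zpow, mul_comm n, zpow_mul v, zpow_natCast, pow_orderOf_eq_one,
      one_zpow, mul_one]
  have hco : Nat.Coprime o (orderOf (a ^ n)) := by
    rw [hj]
    exact (Nat.coprime_two_right.2 (Nat.odd_iff.2 (Nat.two_dvd_ne_zero.1 hvo))).pow_right j
  obtain ⟨m, hm⟩ := exists_pow_eq_self_of_coprime hco
  refine Subgroup.mem_zpowers_iff.2 ⟨n * (o : ℤ) * (m : ℤ), ?_⟩
  rw [zpow_mul, ← h1, zpow_natCast, hm]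

/-- The involution among the powers of a `2`-element is one of them. -/
theorem eq_half_pow {A : Type u} [Group A] {y z : A} {i : ℕ} (hy : orderOf y = 2 ^ i) (hz : orderOf z = 2)
    (h : z ∈ Subgroup.zpowers y) : z = y ^ 2 ^ (i - 1) := by
  have hfin : IsOfFinOrder y := orderOf_pos_iff.1 (by rw [hy]; exact pow_pos two_pos _)
  obtain ⟨n, hn⟩ := hfin.mem_powers_iff_mem_zpowers.2 h
  change y ^ n = z at hn
  subst hn
  obtain ⟨i, rfl⟩ : ∃ i', i = i' + 1 := by
    refine ⟨i - 1, ?_⟩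
    rcases i with _ | i
    · rw [pow_zero, orderOf_eq_one_iff] at hy
      simp [hy] at hz
    · rfl
  have h2 : (y ^ n) ^ 2 = 1 := by rw [← hz]; exact pow_orderOf_eq_one _
  rw [← pow_mul, ← orderOf_dvd_iff_pow_eq_one, hy, pow_succ] at h2
  obtain ⟨r, rfl⟩ := Nat.dvd_of_mul_dvd_mul_right two_pos h2
  have hsq : (y ^ 2 ^ i) ^ 2 = 1 := by rw [← pow_mul, ← pow_succ, ← hy, pow_orderOf_eq_one]
  rcases Nat.even_or_odd' r with ⟨t, rfl | rfl⟩
  · exfalso
    rw [pow_mul, pow_mul, hsq, one_pow, orderOf_one] at hz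
    omega
  · rw [Nat.add_sub_cancel, pow_mul, pow_succ, pow_mul, hsq, one_pow, one_mul]

variable {G : Type u} [Group G] [Fintype G] {K : Type v} [Group K] [Fintype K]

namespace PData

variable (D : PData G K) (N : Subgroup K) {M : Ideal AlgInt}

/-- Generalised characters of the principal block, zero off the elements with the involution among their powers. -/
structure RootFun (M : Ideal AlgInt) (f : N → ℂ) : Prop where
  gen : IsGeneralizedCharacter N f
  odd : OddVanish f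
  inB0 : InB0 M f
  supp : ∀ n, f n ≠ 0 → D.zbar ∈ Subgroup.zpowers (n : K)

variable (hM : IsPModular 2 M)
include hM

/-- The projection on a section with the involution among the powers. -/
theorem gam_rootFun (hN : NHyp N) {f : N → ℂ} (hf : D.RootFun N M f) {c : D.C} (hcN : D.π c ∈ N)
    (hc : D.zbar ∈ Subgroup.zpowers (D.π c)) : D.gam M (indFun N f) (c : G) = f ⟨D.π c, hcN⟩ := by
  haveI : Fact (Nat.Prime 2) := ⟨Nat.prime_two⟩
  obtain ⟨x, hx⟩ := exists_pPart (p := 2) c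
  have hzb : ∃ j : ℕ, orderOf D.zbar = 2 ^ j := ⟨1, D.zbar_order⟩
  have hzx : D.z ∈ Subgroup.zpowers (x : G) :=
    (D.z_mem_zpowers_iff x).2 (mem_zpowers_pPart (pPart_map D.π hx) hzb hc)
  have hle : Cz (x : G) ≤ D.C := fun a ha => by
    have ha' : Commute a (x : G) := Subgroup.mem_centralizer_singleton_iff.1 ha
    obtain ⟨m, hm⟩ := Subgroup.mem_zpowers_iff.1 hzx
    refine Subgroup.mem_centralizer_singleton_iff.2 ?_
    rw [← hm]
    exact (ha'.zpow_right m).eq
  refine D.gam_ind_root N hM hN hf.inB0 hx hcN hle fun k y hy hfus hnc => ?_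
  by_contra hne
  refine hnc ?_
  have hzy : D.zbar ∈ Subgroup.zpowers (y : K) := mem_zpowers_pPart (pPart_coe.2 hy) hzb (hf.supp k hne)
  obtain ⟨c', hc', hconj⟩ := hfus
  have hzc : D.z ∈ Subgroup.zpowers (c' : G) := (D.z_mem_zpowers_iff c').2 (by rw [hc']; exact hzy)
  obtain ⟨g, hg⟩ := isConj_iff.1 hconj
  obtain ⟨-, -, -, hx2, -⟩ := id hx
  obtain ⟨i, hi⟩ := hx2
  have hxo : orderOf (x : G) = 2 ^ i := by rw [Subgroup.orderOf_coe, hi]
  have hco : orderOf (c' : G) = 2 ^ i := by rw [← hg, ← MulAut.conj_apply, MulEquiv.orderOf_eq, hxo]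
  have hgz : g * D.z * g⁻¹ = D.z := by
    conv_lhs => rw [eq_half_pow hxo D.ord hzx, ← conj_pow, hg]
    exact (eq_half_pow hco D.ord hzc).symm
  have hgC : g ∈ D.C := Subgroup.mem_centralizer_singleton_iff.2 (mul_inv_eq_iff_eq_mul.1 hgz)
  rw [← hc']
  exact isConj_iff.2 ⟨D.π ⟨g, hgC⟩, by
    rw [← map_inv, ← map_mul, ← map_mul]
    exact congrArg D.π (Subtype.ext hg)⟩

/-- The function is invariant in `K`. -/
theorem rootFun_conj (hN : NHyp N) {f : N → ℂ} (hf : D.RootFun N M f) (n : N) (t : K)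
    (h : t * (n : K) * t⁻¹ ∈ N) : f ⟨t * (n : K) * t⁻¹, h⟩ = f n := by
  have hz : ∀ y r : K, D.zbar ∈ Subgroup.zpowers y → D.zbar ∈ Subgroup.zpowers (r * y * r⁻¹) := fun y r hy => by
    obtain ⟨m, hm⟩ := Subgroup.mem_zpowers_iff.1 hy
    refine Subgroup.mem_zpowers_iff.2 ⟨m, ?_⟩
    rw [conj_zpow, hm, (D.zbar_central r).eq, mul_inv_cancel_right]
  by_cases hn : D.zbar ∈ Subgroup.zpowers (n : K)
  · obtain ⟨c, hc⟩ := D.surj (n : K)
    obtain ⟨r, rfl⟩ := D.surj t
    have h1 := D.gam_rootFun N hM hN hf (c := c) (by rw [hc]; exact n.2) (by rw [hc]; exact hn)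
    have h2 := D.gam_rootFun N hM hN hf (c := r * c * r⁻¹) (by rw [map_mul, map_mul, map_inv, hc]; exact h)
      (by rw [map_mul, map_mul, map_inv, hc]; exact hz _ _ hn)
    rw [Subgroup.coe_mul, Subgroup.coe_mul, Subgroup.coe_inv, D.gam_classFun] at h2
    rw [h1] at h2
    convert h2.symm using 2 <;> exact Subtype.ext (by simp [hc])
  · have hn' : ¬ D.zbar ∈ Subgroup.zpowers (t * (n : K) * t⁻¹) := fun h' => hn (by
      have := hz _ t⁻¹ h'
      rwa [show t⁻¹ * (t * (n : K) * t⁻¹) * t⁻¹⁻¹ = n by group] at this)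
    rw [not_not.1 (mt (hf.supp _) hn), not_not.1 (mt (hf.supp _) hn')]

/-- Inner products. -/
theorem inner_rootFun (hN : NHyp N) {f g : N → ℂ} (hf : D.RootFun N M f) (hg : D.RootFun N M g) :
    ∑ χ : IrrCharacter G, D.coef M (indFun N f) χ * conj (D.coef M (indFun N g) χ) = classInner f g := by
  haveI := hN.normal
  have hmem : ∀ (t n : K), t * n * t⁻¹ ∈ N ↔ n ∈ N := fun t n =>
    ⟨fun h => by simpa [mul_assoc] using hN.normal.conj_mem _ h t⁻¹, fun h => hN.normal.conj_mem _ h t⟩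
  rw [D.inner_coef hM (F := extendByZero N f) fun c hc => by
    obtain ⟨r, hr, hne⟩ := ind_ne_zero N g hc
    have hcN : D.π c ∈ N := by
      have e : r⁻¹ * D.π c * r = r⁻¹ * D.π c * r⁻¹⁻¹ := by rw [inv_inv]
      rw [e] at hr
      exact (hmem _ _).1 hr
    rw [extendByZero_of_mem _ hcN]
    refine D.gam_rootFun N hM hN hf hcN ?_
    obtain ⟨m, hm⟩ := Subgroup.mem_zpowers_iff.1 (hg.supp _ hne)
    refine Subgroup.mem_zpowers_iff.2 ⟨m, ?_⟩
    calc D.π c ^ m = r * (r⁻¹ * D.π c * r) ^ m * r⁻¹ := by rw [← conj_zpow]; group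
      _ = D.zbar := by rw [hm, (D.zbar_central r).eq, mul_inv_cancel_right]]
  have hP : IsClassFunction K (fun a => conj (extendByZero N f a)) := fun a t => by
    show conj _ = conj _
    by_cases ha : a ∈ N
    · rw [extendByZero_of_mem _ ha, extendByZero_of_mem _ ((hmem t a).2 ha), D.rootFun_conj N hM hN hf ⟨a, ha⟩ t]
    · have h0 : ∀ b : K, b ∉ N → extendByZero N f b = 0 := fun b hb => by
        rw [extendByZero, Function.extend_apply' _ _ _ (fun ⟨a, e⟩ => hb (e ▸ a.2)), Pi.zero_apply]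
      rw [h0 _ ha, h0 _ fun h => ha ((hmem t a).1 h)]
  have h := congrArg (starRingEnd ℂ) (sum_ind N g hP)
  simp only [map_mul, map_inv₀, map_natCast, map_sum, Complex.conj_conj] at h
  simp only [classInner]
  rw [show (∑ a : K, extendByZero N f a * conj (indFun N g a)) = ∑ a : K, conj (indFun N g a) * extendByZero N f a from
    Finset.sum_congr rfl fun a _ => mul_comm _ _, h]
  refine congrArg _ (Finset.sum_congr rfl fun k _ => ?_)
  rw [extendByZero_of_mem _ k.2, mul_comm]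

omit hM in
/-- The sum of a character over a fibre. -/
noncomputable def fsum (χ : G → ℂ) (a : K) : ℂ :=
  ∑ c ∈ Finset.univ.filter (fun c : D.C => D.π c = a), χ c

omit hM in
theorem fsum_class (χ : IrrCharacter G) : IsClassFunction K (fun a => conj (D.fsum (χ : G → ℂ) a)) := by
  intro a t
  obtain ⟨t, rfl⟩ := D.surj t
  show conj _ = conj _
  refine congrArg _ (Finset.sum_bij' (fun c _ => t⁻¹ * c * t) (fun c _ => t * c * t⁻¹) ?_ ?_ ?_ ?_ ?_)
  · intro c hc
    simp only [Finset.mem_filter, Finset.mem_univ, true_and, map_mul, map_inv] at hc ⊢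
    rw [hc]; group
  · intro c hc
    simp only [Finset.mem_filter, Finset.mem_univ, true_and, map_mul, map_inv] at hc ⊢
    rw [hc]
  · intro c _; group
  · intro c _; group
  · intro c _
    rw [Subgroup.coe_mul, Subgroup.coe_mul, Subgroup.coe_inv]
    have h := irr_classFun χ (c : G) (t : G)⁻¹
    rw [inv_inv] at h
    exact h.symm

omit hM in
/-- A coefficient as a sum over `N`. -/
theorem coef_ind (f : N → ℂ) {χ : IrrCharacter G} (hχ : χ ∈ principalBlock M G) :
    D.coef M (indFun N f) χ = (Nat.card D.π.ker : ℂ)⁻¹ * ((Nat.card N : ℂ)⁻¹ *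
      ∑ n : N, f n * conj (D.fsum (χ : G → ℂ) n)) := by
  rw [coef, if_pos hχ, classInner, ← sum_ind N f (D.fsum_class χ), D.card_C, Nat.cast_mul, mul_inv,
    ← Finset.sum_fiberwise Finset.univ (fun c : D.C => D.π c) (fun c => indFun N f (D.π c) * conj ((χ : G → ℂ) c)),
    mul_comm (Nat.card K : ℂ)⁻¹, mul_assoc]
  refine congrArg _ (congrArg _ (Finset.sum_congr rfl fun a _ => ?_))
  rw [fsum, map_sum, Finset.mul_sum]
  exact Finset.sum_congr rfl fun c hc => by rw [(Finset.mem_filter.1 hc).2]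

omit hM in
theorem coef_ind_zero (f : N → ℂ) {χ : IrrCharacter G} (hχ : χ ∈ principalBlock M G)
    (h : D.coef M (indFun N f) χ = 0) : ∑ n : N, f n * conj (D.fsum (χ : G → ℂ) n) = 0 := by
  rw [D.coef_ind N f hχ, mul_eq_zero, mul_eq_zero, inv_eq_zero, inv_eq_zero, Nat.cast_eq_zero,
    Nat.cast_eq_zero] at h
  rcases h with h | h | h
  · exact absurd h Nat.card_pos.ne'
  · exact absurd h Nat.card_pos.ne'
  · exact h

/-- The vector of a root function. -/
theorem exists_rootVec (hN : NHyp N) {f : N → ℂ} (hf : D.RootFun N M f) :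
    ∃ v : IrrCharacter G → ℤ, (∀ χ, (v χ : ℂ) = D.coef M (indFun N f) χ) ∧
      (v (trivialIrr G) : ℂ) = classInner f (fun _ => 1) := by
  choose v hv using fun χ => D.coef_int M (gen_ind N hf.gen) χ
  refine ⟨v, fun χ => (hv χ).symm, ?_⟩
  rw [← hv, D.coef_trivial hM]
  have h := sum_ind N f (P := fun _ : K => (1 : ℂ)) (fun _ _ => rfl)
  simp only [mul_one] at h
  simpa [classInner] using h

end PData

section Support

variable {X : Type v} [Group X] [Fintype X] {N : Subgroup X} {H : Type w} [Group H] {L : Type x} [CommGroup L]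
  {Q : ℤ} {Y : NSys N H L Q} (S : Split Y)

/-- The support from the representatives. -/
theorem root_of_reps {φ : N → ℂ} (hφ : IsClassFunction N φ) (hodd : OddVanish φ)
    (hD : ∀ a b : scal L Q, a ≠ b → φ (Y.π (Y.T.D (a, b))) ≠ 0 → ∃ m : ℕ, a ^ m = Y.e ∧ b ^ m = Y.e) (n : N)
    (hn : φ n ≠ 0) : (S.τ (Y.e, Y.e) : X) ∈ Subgroup.zpowers (n : X) := by
  haveI := Y.T.finiteK
  suffices h : S.τ (Y.e, Y.e) ∈ Subgroup.zpowers n by
    obtain ⟨m, hm⟩ := Subgroup.mem_zpowers_iff.1 h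
    exact Subgroup.mem_zpowers_iff.2 ⟨m, by rw [← hm, Subgroup.coe_zpow]⟩
  obtain ⟨g, rfl⟩ := Y.surj n
  have hc := Subgroup.mem_center_iff.1 (S.diag_central Y.e)
  have hee : Y.π (Y.T.D (Y.e, Y.e)) = S.τ (Y.e, Y.e) := by
    obtain ⟨d, hd⟩ := S.conj (Y.e, Y.e)
    calc Y.π (Y.T.D (Y.e, Y.e)) = d⁻¹ * (d * Y.π (Y.T.D (Y.e, Y.e)) * d⁻¹) * d := by group
      _ = _ := by rw [hd, hc d⁻¹, mul_assoc, inv_mul_cancel, mul_one]
  have key : ∀ r, IsConj r g → (φ (Y.π r) ≠ 0 → ∃ m : ℕ, r ^ m = Y.T.D (Y.e, Y.e)) →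
      S.τ (Y.e, Y.e) ∈ Subgroup.zpowers (Y.π g) := fun r hr h => by
    obtain ⟨d, rfl⟩ := isConj_iff.1 hr
    rw [map_mul, map_mul, map_inv] at hn ⊢
    rw [hφ] at hn
    obtain ⟨m, hm⟩ := h hn
    refine Subgroup.mem_zpowers_iff.2 ⟨(m : ℤ), ?_⟩
    rw [zpow_natCast, conj_pow, ← map_pow, hm, hee, hc (Y.π d), mul_inv_cancel_right]
  have hnz : ∀ r, Odd (orderOf r) → φ (Y.π r) = 0 := fun r hr => hodd _ fun h =>
    Nat.not_even_iff_odd.2 hr (even_iff_two_dvd.2 (h.trans (orderOf_map_dvd Y.π r)))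
  have hhalf : ∀ a : scal L Q, ¬ Odd (orderOf a) → a ^ (orderOf a / 2) = Y.e := fun a ha => Subtype.ext (by
    rw [SubmonoidClass.coe_pow, ← Subgroup.orderOf_coe]
    exact Y.T.exists_e.choose_spec.2.2.2 _ (by rw [Subgroup.orderOf_coe]; exact Nat.not_odd_iff_even.1 ha))
  rcases Y.T.cover g with ⟨a, ha⟩ | ⟨⟨a, b⟩, ha⟩ | ⟨l, hl, ha⟩
  · refine key _ ha fun h => ?_
    obtain ⟨k, hk, hU⟩ := Y.T.U_pow a
    have hao : ¬ Odd (orderOf a) := fun ho => h (hnz _ ((hk.mul ho).of_dvd_nat (orderOf_dvd_of_pow_eq_one (by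
      rw [pow_mul, hU, ← map_pow, Prod.pow_mk, ← pow_mul, mul_comm, pow_mul, pow_orderOf_eq_one, one_pow]
      exact map_one _))))
    refine ⟨k * (orderOf a / 2), ?_⟩
    rw [pow_mul, hU, ← map_pow, Prod.pow_mk, ← pow_mul, mul_comm, pow_mul, hhalf a hao]
    obtain ⟨t, rfl⟩ := hk
    rw [pow_succ, pow_mul, sq, Y.e_sq, one_pow, one_mul]
  · refine key _ ha fun h => ?_
    by_cases hab : a = b
    · subst hab
      have hao : ¬ Odd (orderOf a) := fun ho => h (hnz _ (by
        rw [orderOf_injective _ Y.T.D_inj, Prod.orderOf, Nat.lcm_self]; exact ho))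
      exact ⟨orderOf a / 2, by rw [← map_pow, Prod.pow_mk, hhalf a hao]⟩
    · obtain ⟨m, h1, h2⟩ := hD a b hab h
      exact ⟨m, by rw [← map_pow, Prod.pow_mk, h1, h2]⟩
  · refine key _ ha fun h => ?_
    have hlo : ¬ Odd (orderOf l) := fun ho => h (hnz _ (by rwa [orderOf_injective _ Y.T.E_inj]))
    refine ⟨orderOf l / 2, ?_⟩
    rw [← map_pow, Y.T.exists_e.choose_spec.2.2.2 l (Nat.not_odd_iff_even.1 hlo)]
    exact Y.T.E_eq Y.e

end Support

end Cfsg.Agent.Invol.AbgOrder
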