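import Cfsg.Agent.Lib.Invol.AbgOrder.OrdFus
import Cfsg.Agent.Lib.Invol.AbgOrder.OrdCount

/-!
# The values of the projections

`f` is in the principal block of `N` and vanishes on the odd elements and on the sections of the axes.  Its projection
agrees with `f` except on the sections of the torus off the diagonal and the axes, where the other two images under
the rotation are added.
-/

set_option autoImplicit false
set_option linter.unusedSectionVars false
set_option linter.style.haveILetI false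

open scoped ComplexConjugate Classical

namespace Cfsg.Agent.Invol.AbgOrder

open Cfsg Cfsg.Agent.Char Cfsg.Agent.Block
open Cfsg.Agent.Invol.BrauerL3 (scal)
open Cfsg.Agent.Invol.Wreath5Core (conj_of_same_image eq_one_of_ker)

universe u v v' w

/-- An involution among the powers is one among the powers of the `2`-part. -/
theorem invol_mem_pPart {Γ : Type u} [Group Γ] [Finite Γ] {g y z : Γ} (hy : IsPPart 2 g y) (hz : orderOf z = 2)
    (h : z ∈ Subgroup.zpowers g) : z ∈ Subgroup.zpowers y := by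
  obtain ⟨v, hv, hc, -, hvo⟩ := hy
  obtain ⟨i, rfl⟩ := Subgroup.mem_zpowers_iff.1 h
  obtain ⟨k, hk⟩ : Odd (orderOf v) := Nat.not_even_iff_odd.1 fun he => hvo he.two_dvd
  refine Subgroup.mem_zpowers_iff.2 ⟨i * (orderOf v : ℤ), ?_⟩
  have hv1 : v ^ (i * (orderOf v : ℤ)) = 1 := by
    rw [mul_comm, zpow_mul, zpow_natCast, pow_orderOf_eq_one, one_zpow]
  calc y ^ (i * (orderOf v : ℤ)) = g ^ (i * (orderOf v : ℤ)) := by rw [← hv, hc.mul_zpow, hv1, mul_one]
    _ = (g ^ i) ^ orderOf v := by rw [zpow_mul, zpow_natCast]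
    _ = g ^ i := by rw [hk, pow_succ, pow_mul, ← hz, pow_orderOf_eq_one, one_pow, one_mul]

theorem pPart_mem_zpowers {Γ : Type u} [Group Γ] [Finite Γ] {g y : Γ} (hy : IsPPart 2 g y) :
    y ∈ Subgroup.zpowers g := by
  haveI : Fact (Nat.Prime 2) := ⟨Nat.prime_two⟩
  obtain ⟨a, b, h1, h2, h3, h4, h5, -⟩ := exists_pPart_zpowers (p := 2) g
  rw [pPart_unique hy ⟨b, h1, h2, h3, h4⟩]
  exact h5

variable {K : Type w} [CommGroup K] {Q : ℤ} {H : Type v} [Group H] {G : Type v'} [Group G] [Fintype G]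
  {X : Type u} [Group X] [Fintype X] {N : Subgroup X} {Y : NSys N H K Q} {D : PData G X} {S : Split Y}

/-- The two other values. -/
def rotSum (S : Split Y) (f : N → ℂ) (p : scal K Q × scal K Q) : ℂ := f (S.τ (r1 p)) + f (S.τ (r2 p))

/-- The difference between the projection and the function. -/
noncomputable def cor (S : Split Y) (f : N → ℂ) (n : N) : ℂ :=
  if h : ∃ p, Two p ∧ Good p ∧ Sec n (S.τ p) then rotSum S f h.choose else 0

theorem cf_sw (S : Split Y) {f : N → ℂ} (hf : IsClassFunction N f) (p : scal K Q × scal K Q) :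
    f (S.τ (sw p)) = f (S.τ p) := by
  rw [sw, ← S.swap p.1 p.2, hf]

theorem rotSum_sw (S : Split Y) {f : N → ℂ} (hf : IsClassFunction N f) (p : scal K Q × scal K Q) :
    rotSum S f (sw p) = rotSum S f p := by
  rw [rotSum, rotSum, r1_sw, r2_sw, cf_sw S hf, cf_sw S hf, add_comm]

theorem two_sw {p : scal K Q × scal K Q} (h : Two p) : Two (sw p) := h.swap

theorem sec_unique (S : Split Y) {p q : scal K Q × scal K Q} (hp : Two p) (hg : Good p) (hq : Two q) {n : N}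
    (h1 : Sec n (S.τ p)) (h2 : Sec n (S.τ q)) : q = p ∨ q = sw p := by
  obtain ⟨y, hy, hcy⟩ := h1
  rw [sec_iff hy] at h2
  exact (S.conj_range hg.1 (hcy.trans h2.symm)).imp (S.inj_two hq hp) (S.inj_two hq (two_sw hp))

theorem sec_sw (S : Split Y) {p : scal K Q × scal K Q} {n : N} (h : Sec n (S.τ p)) : Sec n (S.τ (sw p)) := by
  obtain ⟨y, hy, hc⟩ := h
  exact ⟨y, hy, (conj_sw S p).symm.trans hc⟩

theorem cor_eq (S : Split Y) {f : N → ℂ} (hf : IsClassFunction N f) {p : scal K Q × scal K Q} (hp : Two p)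
    (hg : Good p) {n : N} (h : Sec n (S.τ p)) : cor S f n = rotSum S f p := by
  have hex : ∃ p, Two p ∧ Good p ∧ Sec n (S.τ p) := ⟨p, hp, hg, h⟩
  rw [cor, dif_pos hex]
  rcases sec_unique S hp hg hex.choose_spec.1 h hex.choose_spec.2.2 with e | e <;> rw [e]
  exact rotSum_sw S hf p

theorem cor_eq_zero (S : Split Y) (f : N → ℂ) {n : N}
    (h : ∀ p, Two p → Good p → ¬ Sec n (S.τ p)) : cor S f n = 0 :=
  dif_neg fun ⟨p, h1, h2, h3⟩ => h p h1 h2 h3

variable [Fintype (scal K Q)]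

/-- The parameters off the diagonal and the axes. -/
noncomputable def goods (K : Type w) [CommGroup K] (Q : ℤ) [Fintype (scal K Q)] :
    Finset (scal K Q × scal K Q) :=
  Finset.univ.filter fun p => Two p ∧ Good p

theorem mem_goods {p : scal K Q × scal K Q} : p ∈ goods K Q ↔ Two p ∧ Good p := by simp [goods]

theorem sum_goods_sw (φ : scal K Q × scal K Q → ℂ) : ∑ p ∈ goods K Q, φ (sw p) = ∑ p ∈ goods K Q, φ p :=
  Finset.sum_bij' (fun p _ => sw p) (fun p _ => sw p)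
    (fun p hp => mem_goods.2 ⟨two_sw (mem_goods.1 hp).1, good_sw (mem_goods.1 hp).2⟩)
    (fun p hp => mem_goods.2 ⟨two_sw (mem_goods.1 hp).1, good_sw (mem_goods.1 hp).2⟩) (fun p _ => sw_sw p)
    (fun p _ => sw_sw p) fun p _ => rfl

theorem cor_sum (S : Split Y) {f : N → ℂ} (hf : IsClassFunction N f) (n : N) :
    2 * cor S f n = ∑ p ∈ goods K Q, if Sec n (S.τ p) then rotSum S f p else 0 := by
  by_cases h : ∃ p, Two p ∧ Good p ∧ Sec n (S.τ p)
  · obtain ⟨p, hp, hg, hs⟩ := h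
    have hset : (goods K Q).filter (fun q => Sec n (S.τ q)) = {p, sw p} := by
      ext q
      simp only [Finset.mem_filter, mem_goods, Finset.mem_insert, Finset.mem_singleton]
      refine ⟨fun h => sec_unique S hp hg h.1.1 hs h.2, ?_⟩
      rintro (rfl | rfl)
      · exact ⟨⟨hp, hg⟩, hs⟩
      · exact ⟨⟨two_sw hp, good_sw hg⟩, sec_sw S hs⟩
    have hne : p ≠ sw p := fun e => hg.1 (congrArg Prod.fst e)
    rw [← Finset.sum_filter, hset, Finset.sum_pair hne, rotSum_sw S hf, cor_eq S hf hp hg hs, two_mul]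
  · push Not at h
    rw [cor_eq_zero S f h, mul_zero, Finset.sum_eq_zero]
    exact fun p hp => if_neg (h p (mem_goods.1 hp).1 (mem_goods.1 hp).2)

omit [Fintype (scal K Q)] in
theorem exists_pow_e (Y : NSys N H K Q) {a : scal K Q} (h : ∃ k : ℕ, a ^ 2 ^ k = 1) (h1 : a ≠ 1) :
    ∃ j : ℕ, a ^ 2 ^ j = Y.e := by
  obtain ⟨k, hk⟩ := h
  induction k with
  | zero => exact absurd (by simpa using hk) h1
  | succ k ih =>
    by_cases h : a ^ 2 ^ k = 1
    · exact ih h
    · exact ⟨k, (Y.e_unique (by rw [← pow_add, ← two_mul, ← pow_succ', hk])).resolve_left h⟩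

namespace Frm

variable (F : Frm D S) {M : Ideal AlgInt} (hM : IsPModular 2 M)
include F

/-- The projection on a section off the diagonal and the axes. -/
theorem gam_good (hM : IsPModular 2 M) {f : N → ℂ} (hf : InB0 M f) {n : N} {c x : D.C} (hx : IsPPart 2 c x)
    {y : N} (hy : IsPPart 2 n y) (hxy : D.π x = (y : X)) (hx2 : ∃ k : ℕ, orderOf x = 2 ^ k)
    {p : scal K Q × scal K Q} (hp : Two p) (hg : Good p) (hs : Sec n (S.τ p)) :
    D.gam M (indFun N f) c = f n + cor S f n := by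
  haveI : Fact (Nat.Prime 2) := ⟨Nat.prime_two⟩
  obtain ⟨d, hd⟩ := isConj_iff.1 ((sec_iff hy).1 hs)
  obtain ⟨t, ht⟩ := D.surj ((d : X)⁻¹)
  have hℓ2 : ∃ k : ℕ, orderOf (⟨F.L.ℓ p, F.L.mem p⟩ : D.C) = 2 ^ k := by
    obtain ⟨k, hk⟩ := F.L.two_power p
    exact ⟨k, by rw [Subgroup.orderOf_mk, hk]⟩
  obtain ⟨l, -, hl⟩ := conj_of_same_image D.π D.odd (t := t * x * t⁻¹) (t' := ⟨F.L.ℓ p, F.L.mem p⟩)
    (by obtain ⟨k, hk⟩ := hx2; exact ⟨k, by rw [← MulAut.conj_apply, MulEquiv.orderOf_eq, hk]⟩) hℓ2 (by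
      rw [map_mul, map_mul, map_inv, ht, hxy, inv_inv, F.L.proj p hp, ← hd]
      simp only [Subgroup.coe_mul, Subgroup.coe_inv]
      group)
  have hg' : IsPPart 2 ((l * t : D.C) * (c : G) * ((l * t : D.C) : G)⁻¹) (F.L.ℓ p) := by
    have h := pPart_coe.2 (pPart_conj hx (l * t))
    rw [show (l * t) * x * (l * t)⁻¹ = l * (t * x * t⁻¹) * l⁻¹ by group, hl] at h
    exact h
  rw [← D.gam_classFun M (indFun N f) (c : G) ((l * t : D.C) : G)]
  obtain ⟨L, hL, k, h1, h2, h3⟩ := F.compl hg hp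
  rw [D.gam_ind_nilp N hM f hg' h1 h2, h3, cor_eq S hf.1 hp hg hs, rotSum]
  have hcond : ∀ a : N, (∃ y : N, IsPPart 2 a y ∧ D.Fused (F.L.ℓ p) (y : X)) ↔
      Sec a (S.τ p) ∨ Sec a (S.τ (r1 p)) ∨ Sec a (S.τ (r2 p)) := by
    intro a
    have hp1 : p ≠ 1 := fun e => hg.1 (by rw [e]; rfl)
    obtain ⟨y', hy'⟩ := exists_pPart (p := 2) a
    have h2' : ∃ k : ℕ, orderOf y' = 2 ^ k := by obtain ⟨_, -, -, h, -⟩ := hy'; exact h
    simp only [sec_iff hy', ← F.fused_iff hp hp1 h2']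
    exact ⟨fun ⟨w, hw, hf'⟩ => (pPart_unique hy' hw).symm ▸ hf', fun h => ⟨y', hy', h⟩⟩
  have hsplit : ∀ a : N, (if ∃ y : N, IsPPart 2 a y ∧ D.Fused (F.L.ℓ p) (y : X) then f a else 0) =
      (if Sec a (S.τ p) then f a else 0) + (if Sec a (S.τ (r1 p)) then f a else 0) +
        (if Sec a (S.τ (r2 p)) then f a else 0) := by
    intro a
    obtain ⟨e1, e2, e3, e4⟩ := good_apart hg hp
    obtain ⟨e5, -, e6, -⟩ := good_apart (good_r1 hg) (two_r1 hp)
    have d1 : ¬ (Sec a (S.τ p) ∧ Sec a (S.τ (r1 p))) := fun ⟨u, v⟩ =>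
      (sec_unique S hp hg (two_r1 hp) u v).elim e1 e3
    have d2 : ¬ (Sec a (S.τ p) ∧ Sec a (S.τ (r2 p))) := fun ⟨u, v⟩ =>
      (sec_unique S hp hg (two_r2 hp) u v).elim e2 e4
    have d3 : ¬ (Sec a (S.τ (r1 p)) ∧ Sec a (S.τ (r2 p))) := fun ⟨u, v⟩ => by
      rw [r1_r1] at e5 e6
      exact (sec_unique S (two_r1 hp) (good_r1 hg) (two_r2 hp) u v).elim e5 e6
    simp only [hcond]
    by_cases a1 : Sec a (S.τ p) <;> by_cases a2 : Sec a (S.τ (r1 p)) <;> by_cases a3 : Sec a (S.τ (r2 p)) <;>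
      simp_all
  rw [Finset.sum_congr rfl fun a _ => hsplit a, Finset.sum_add_distrib, Finset.sum_add_distrib, mul_add, mul_add]
  have hsec : ∀ q, Two q → Sec (S.τ q) (S.τ q) := fun q hq =>
    ⟨S.τ q, ⟨1, mul_one _, Commute.one_right _, two_power_tau S hq, by rw [orderOf_one]; decide⟩, IsConj.refl _⟩
  rw [← F.sec_sum hM hg.1 hp hf hs, ← F.sec_sum hM (good_r1 hg).1 (two_r1 hp) hf (hsec _ (two_r1 hp)),
    ← F.sec_sum hM (good_r2 hg).1 (two_r2 hp) hf (hsec _ (two_r2 hp))]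
  ring

omit [Fintype (scal K Q)] in
/-- The central involution is a power on a root. -/
theorem zN_mem_root {n y : N} (hy : IsPPart 2 n y) (hy2 : ∃ k : ℕ, orderOf y = 2 ^ k) (hy1 : y ≠ 1)
    (hgood : ¬ ∃ p, Two p ∧ Good p ∧ Sec n (S.τ p))
    (hax : ∀ q : scal K Q × scal K Q, Two q → q ≠ 1 → q.1 = 1 ∨ q.2 = 1 → ¬ Sec n (S.τ q)) :
    S.τ (Y.e, Y.e) ∈ Subgroup.zpowers y := by
  by_cases hs : ∃ q, IsConj (S.τ q) y
  · obtain ⟨q, hq⟩ := hs
    obtain ⟨q, hq2, hq⟩ := exists_param hy2 hq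
    have hs : Sec n (S.τ q) := ⟨y, hy, hq⟩
    have hq1 : q ≠ 1 := fun e => hy1 (by rw [e, map_one, isConj_one_right] at hq; exact hq)
    by_cases hd : q.1 = q.2
    · -- central
      obtain ⟨s, hs'⟩ := isConj_iff.1 hq
      rw [show q = (q.1, q.1) from Prod.ext rfl hd.symm,
        Subgroup.mem_center_iff.1 (S.diag_central _) s, mul_inv_cancel_right] at hs'
      obtain ⟨j, hj⟩ := exists_pow_e Y (a := q.1) (hq2.elim fun k hk => ⟨k, congrArg Prod.fst hk⟩)
        fun e => hq1 (Prod.ext e (hd.symm.trans e))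
      rw [← hs']
      refine Subgroup.mem_zpowers_iff.2 ⟨((2 ^ j : ℕ) : ℤ), ?_⟩
      rw [zpow_natCast, ← map_pow, Prod.pow_mk, hj]
    · exfalso
      by_cases hg : Good q
      · exact hgood ⟨q, hq2, hg, hs⟩
      · refine hax q hq2 hq1 ?_ hs
        simp only [Good, ne_eq, not_and_or, not_not] at hg
        exact hg.resolve_left hd
  · obtain ⟨k, hk⟩ := hy2
    have hk0 : k ≠ 0 := fun e => hy1 (orderOf_eq_one_iff.1 (by rw [hk, e, pow_zero]))
    exact S.zN_mem_of_nonsplit (hk ▸ dvd_pow_self 2 hk0) fun q hq => hs ⟨q, hq⟩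

omit [Fintype (scal K Q)] in
/-- What is fused to a root carries no value of the function. -/
theorem root_van {f : N → ℂ}
    (haxis : ∀ q : scal K Q × scal K Q, Two q → q ≠ 1 → q.1 = 1 ∨ q.2 = 1 → ∀ n, Sec n (S.τ q) → f n = 0)
    {n y : N} (hy : IsPPart 2 n y) (hy2 : ∃ k : ℕ, orderOf y = 2 ^ k) (hy1 : y ≠ 1)
    (hgood : ¬ ∃ p, Two p ∧ Good p ∧ Sec n (S.τ p))
    (hax : ∀ q : scal K Q × scal K Q, Two q → q ≠ 1 → q.1 = 1 ∨ q.2 = 1 → ¬ Sec n (S.τ q))
    {x : D.C} (hx2 : ∃ k : ℕ, orderOf x = 2 ^ k) (hxy : D.π x = (y : X))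
    {k y' : N} (hk : IsPPart 2 k y') (hfus : D.Fused (x : G) (y' : X)) (hnc : ¬ IsConj (D.π x) (y' : X)) :
    f k = 0 := by
  have hy'2 : ∃ j : ℕ, orderOf y' = 2 ^ j := by obtain ⟨_, -, -, h, -⟩ := hk; exact h
  rw [hxy] at hnc
  by_cases hs : ∃ q, IsConj (S.τ q) y
  · obtain ⟨q, hq⟩ := hs
    obtain ⟨q, hq2, hq⟩ := exists_param hy2 hq
    have hq1 : q ≠ 1 := fun e => hy1 (by rw [e, map_one, isConj_one_right] at hq; exact hq)
    have hd : q.1 = q.2 := by
      by_contra hd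
      by_cases hg : Good q
      · exact hgood ⟨q, hq2, hg, y, hy, hq⟩
      · refine hax q hq2 hq1 ?_ ⟨y, hy, hq⟩
        simp only [Good, ne_eq, not_and_or, not_not] at hg
        exact hg.resolve_left hd
    obtain ⟨s, hs'⟩ := isConj_iff.1 hq
    have hqe : q = (q.1, q.1) := Prod.ext rfl hd.symm
    rw [hqe, Subgroup.mem_center_iff.1 (S.diag_central _) s, mul_inv_cancel_right, ← hqe] at hs'
    obtain ⟨l, -, hl⟩ := conj_of_same_image D.π D.odd (t := ⟨F.L.ℓ q, F.L.mem q⟩) (t' := x)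
      (by obtain ⟨j, hj⟩ := F.L.two_power q; exact ⟨j, by rw [Subgroup.orderOf_mk, hj]⟩) hx2
      (by rw [F.L.proj q hq2, hs', hxy])
    obtain ⟨d, hd', hxd⟩ := hfus
    have hfus' : D.Fused (F.L.ℓ q) (y' : X) :=
      ⟨d, hd', (isConj_iff.2 ⟨(l : G), congrArg Subtype.val hl⟩ : IsConj (F.L.ℓ q) (x : G)).trans hxd⟩
    rcases (F.fused_iff hq2 hq1 hy'2).1 hfus' with h | h | h
    · exact absurd (N.subtype.map_isConj (hs' ▸ h)) hnc
    · refine haxis (r1 q) (two_r1 hq2) (fun e => hq1 (by rw [← r2_r1 q, e]; simp [r2])) (Or.inr ?_) k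
        ⟨y', hk, h⟩
      show q.1 * q.2⁻¹ = 1
      rw [hd, mul_inv_cancel]
    · refine haxis (r2 q) (two_r2 hq2) (fun e => hq1 (by rw [← r1_r2 q, e]; simp [r1])) (Or.inl ?_) k
        ⟨y', hk, h⟩
      show q.2 * q.1⁻¹ = 1
      rw [hd, mul_inv_cancel]
  · exact absurd (N.subtype.map_isConj (F.fused_nonsplit hx2 (n := y) hxy.symm
      (fun q hq => hs ⟨q, hq⟩) hy'2 hfus)) hnc

/-- The value of the projection. -/
theorem gam_value (hM : IsPModular 2 M) {f : N → ℂ} (hf : InB0 M f)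
    (haxis : ∀ q : scal K Q × scal K Q, Two q → q ≠ 1 → q.1 = 1 ∨ q.2 = 1 → ∀ n, Sec n (S.τ q) → f n = 0)
    {n : N} {c : D.C} (hc : D.π c = (n : X)) (hodd : 2 ∣ orderOf n)
    (hax : ∀ q : scal K Q × scal K Q, Two q → q ≠ 1 → q.1 = 1 ∨ q.2 = 1 → ¬ Sec n (S.τ q)) :
    D.gam M (indFun N f) c = f n + cor S f n := by
  haveI : Fact (Nat.Prime 2) := ⟨Nat.prime_two⟩
  obtain ⟨x, hx⟩ := exists_pPart (p := 2) c
  obtain ⟨y, hy⟩ := exists_pPart (p := 2) n
  have hxy : D.π x = (y : X) := by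
    have h := pPart_map D.π hx
    rw [hc] at h
    exact pPart_unique h (pPart_coe.2 hy)
  have hx2 : ∃ k : ℕ, orderOf x = 2 ^ k := by obtain ⟨_, -, -, h, -⟩ := hx; exact h
  have hy2 : ∃ k : ℕ, orderOf y = 2 ^ k := by obtain ⟨_, -, -, h, -⟩ := hy; exact h
  have hy1 : y ≠ 1 := by
    intro e
    obtain ⟨v, hv, -, -, hvo⟩ := hy
    rw [e, one_mul] at hv
    exact hvo (hv.symm ▸ hodd)
  by_cases hgood : ∃ p, Two p ∧ Good p ∧ Sec n (S.τ p)
  · obtain ⟨p, hp, hg, hs⟩ := hgood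
    exact F.gam_good hM hf hx hy hxy hx2 hp hg hs
  · -- a root
    rw [cor_eq_zero S f (fun p h1 h2 h3 => hgood ⟨p, h1, h2, h3⟩), add_zero]
    have hzy : D.z ∈ Subgroup.zpowers (x : G) := by
      rw [D.z_mem_zpowers_iff, hxy, F.L.zbar_tau F.hN]
      obtain ⟨i, hi⟩ := Subgroup.mem_zpowers_iff.1 (F.zN_mem_root hy hy2 hy1 hgood hax)
      exact Subgroup.mem_zpowers_iff.2 ⟨i, by rw [← Subgroup.coe_zpow, hi]⟩
    have hle : Cz (x : G) ≤ D.C := by
      intro g hg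
      obtain ⟨i, hi⟩ := Subgroup.mem_zpowers_iff.1 hzy
      refine Subgroup.mem_centralizer_singleton_iff.2 ?_
      rw [← hi]
      exact (Commute.zpow_right (Subgroup.mem_centralizer_singleton_iff.1 hg) i).eq
    have hcN : D.π c ∈ N := hc ▸ n.2
    rw [D.gam_ind_root N hM F.hN hf hx hcN hle ?_]
    · exact congrArg f (Subtype.ext hc)
    intro k y' hk hfus hnc
    exact F.root_van haxis hy hy2 hy1 hgood hax hx2 hxy hk hfus hnc

omit [Fintype (scal K Q)] in
/-- The involutions of `N` and of `X`. -/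
theorem invol_N : (invol' D.zbar).card = (invol' (S.τ (Y.e, Y.e))).card ∧
    ∀ Φ : X → ℂ, ∑ a ∈ invol' D.zbar, Φ a = ∑ a ∈ invol' (S.τ (Y.e, Y.e)), Φ (a : X) := by
  haveI := F.hN.normal
  have hz := F.L.zbar_tau F.hN
  have hmem : ∀ a : X, orderOf a = 2 → a ∈ N := fun a ha => mem_of_two_power F.hN.odd ⟨1, by rw [ha, pow_one]⟩
  have hmap : invol' D.zbar = (invol' (S.τ (Y.e, Y.e))).map ⟨Subtype.val, Subtype.val_injective⟩ := by
    ext a
    simp only [invol', Finset.mem_filter, Finset.mem_univ, true_and, Finset.mem_map, Function.Embedding.coeFn_mk]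
    constructor
    · rintro ⟨h1, h2⟩
      exact ⟨⟨a, hmem a h1⟩, ⟨by rw [← Subgroup.orderOf_coe]; exact h1,
        fun e => h2 (by rw [hz, ← e])⟩, rfl⟩
    · rintro ⟨b, ⟨h1, h2⟩, rfl⟩
      exact ⟨by rw [Subgroup.orderOf_coe]; exact h1, fun e => h2 (Subtype.ext (e.trans hz))⟩
  exact ⟨by rw [hmap, Finset.card_map], fun Φ => by rw [hmap, Finset.sum_map]; rfl⟩

omit [Fintype (scal K Q)] in
theorem pairK_N (f : N → ℂ) : pairK D.zbar (extendByZero N f) = pairK (S.τ (Y.e, Y.e)) f := by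
  rw [pairK, pairK, F.invol_N.2]
  refine Finset.sum_congr rfl fun a _ => ?_
  rw [F.invol_N.2]
  refine Finset.sum_congr rfl fun b _ => ?_
  rw [← Subgroup.coe_mul, extendByZero_of_mem _ (a * b).2, F.L.zbar_tau F.hN]
  refine if_congr ?_ rfl rfl
  simp only [Subgroup.mem_zpowers_iff]
  exact exists_congr fun i => ⟨fun h => Subtype.ext (by rw [Subgroup.coe_zpow]; exact h),
    fun h => by rw [← Subgroup.coe_zpow, h]⟩

omit [Fintype (scal K Q)] in
/-- The pairs with product in a section and the central involution among its powers. -/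
theorem pairs_z {p : scal K Q × scal K Q} (ht : Two p) (hg : Good p) :
    (Nat.card S.τ.range : ℂ) * ∑ a ∈ invol' (S.τ (Y.e, Y.e)), ∑ b ∈ invol' (S.τ (Y.e, Y.e)),
      (if S.τ (Y.e, Y.e) ∈ Subgroup.zpowers (a * b) then (if Sec (a * b) (S.τ p) then (1 : ℂ) else 0) else 0) =
      if p.2 = p.1⁻¹ then (Nat.card N : ℂ) * Nat.card (scal K Q) * cardOdd K Q else 0 := by
  haveI : Fact (Nat.Prime 2) := ⟨Nat.prime_two⟩
  set zN := S.τ (Y.e, Y.e) with hzN
  set I := invol' zN with hI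
  have hzN2 : orderOf zN = 2 := S.zN_order
  have hp2 : p * p ≠ 1 := fun e => hg.1 (by
    rcases Y.e_unique (congrArg Prod.fst e) with a | a
    · exact absurd a hg.2.1
    · rcases Y.e_unique (congrArg Prod.snd e) with b | b
      · exact absurd b hg.2.2
      · exact a.trans b.symm)
  have hiff : ∀ x : N, Sec x (S.τ p) → (zN ∈ Subgroup.zpowers x ↔ zN ∈ Subgroup.zpowers (S.τ p)) := by
    rintro x ⟨y, hy, hc⟩
    obtain ⟨d, hd⟩ := isConj_iff.1 hc
    have hcz : d * zN * d⁻¹ = zN := by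
      rw [Subgroup.mem_center_iff.1 (S.diag_central _) d, mul_inv_cancel_right]
    constructor
    · intro h
      obtain ⟨i, hi⟩ := Subgroup.mem_zpowers_iff.1 (invol_mem_pPart hy hzN2 h)
      refine Subgroup.mem_zpowers_iff.2 ⟨i, ?_⟩
      rw [← hd, conj_zpow, ← hcz] at hi
      exact mul_left_cancel (mul_right_cancel hi)
    · intro h
      obtain ⟨i, hi⟩ := Subgroup.mem_zpowers_iff.1 h
      exact (Subgroup.zpowers_le.2 (pPart_mem_zpowers hy)) (Subgroup.mem_zpowers_iff.2 ⟨i, by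
        rw [← hd, conj_zpow, hi, hcz]⟩)
  have e : ∀ a b : N, (if zN ∈ Subgroup.zpowers (a * b) then (if Sec (a * b) (S.τ p) then (1 : ℂ) else 0) else 0) =
      (if zN ∈ Subgroup.zpowers (S.τ p) then (1 : ℂ) else 0) * if Sec (a * b) (S.τ p) then 1 else 0 := by
    intro a b
    by_cases h : Sec (a * b) (S.τ p)
    · simp [h, hiff _ h]
    · simp [h]
  simp only [e, ← Finset.mul_sum]
  rw [mul_left_comm]
  have hps : (Nat.card S.τ.range : ℂ) * ∑ a ∈ I, ∑ b ∈ I, (if Sec (a * b) (S.τ p) then (1 : ℂ) else 0) =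
      if p.2 = p.1⁻¹ then (Nat.card N : ℂ) * Nat.card (scal K Q) * cardOdd K Q else 0 :=
    (congrArg _ (Finset.sum_congr rfl fun a _ => Finset.sum_congr rfl fun b _ => by
      unfold Sec; congr)).trans
      (S.pairs_sec hg.1 hp2 ht)
  rw [hps]
  split_ifs with hz hinv hinv
  · rw [one_mul]
  · rw [mul_zero]
  · exfalso
    refine hz ?_
    obtain ⟨j, hj⟩ := exists_pow_e Y (a := p.1) (ht.elim fun k hk => ⟨k, congrArg Prod.fst hk⟩) hg.2.1
    refine Subgroup.mem_zpowers_iff.2 ⟨((2 ^ j : ℕ) : ℤ), ?_⟩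
    rw [zpow_natCast, ← map_pow, show p = (p.1, p.2) from rfl, Prod.pow_mk, hinv, inv_pow, hj,
      inv_eq_of_mul_eq_one_right Y.e_sq]
  · rw [zero_mul]

/-- The pairs against the difference. -/
theorem pairK_cor (hQ0 : Nat.card (scal K Q) ≠ 0) {f : N → ℂ} (hf : IsClassFunction N f) :
    (Nat.card (scal K Q) : ℂ) * pairK (S.τ (Y.e, Y.e)) (cor S f) =
      (Nat.card N : ℂ) * (cardOdd K Q : ℂ) ^ 2 *
        ∑ p ∈ (goods K Q).filter (fun p => p.2 = p.1⁻¹), f (S.τ (r1 p)) := by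
  haveI : Fact (Nat.Prime 2) := ⟨Nat.prime_two⟩
  set zN := S.τ (Y.e, Y.e) with hzN
  set I := invol' zN with hI
  have hzN2 := S.zN_order
  have h1 : 2 * pairK zN (cor S f) = ∑ p ∈ goods K Q, rotSum S f p * ∑ a ∈ I, ∑ b ∈ I,
      (if zN ∈ Subgroup.zpowers (a * b) then (if Sec (a * b) (S.τ p) then (1 : ℂ) else 0) else 0) := by
    simp only [Finset.mul_sum]
    rw [Finset.sum_comm, pairK, Finset.mul_sum]
    refine Finset.sum_congr rfl fun a _ => ?_
    rw [Finset.sum_comm, Finset.mul_sum]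
    refine Finset.sum_congr rfl fun b _ => ?_
    split_ifs with h
    · rw [cor_sum S hf]
      exact Finset.sum_congr rfl fun p _ => by split_ifs <;> simp
    · simp
  have h2 : ∀ p ∈ goods K Q, (Nat.card S.τ.range : ℂ) * ∑ a ∈ I, ∑ b ∈ I,
      (if zN ∈ Subgroup.zpowers (a * b) then (if Sec (a * b) (S.τ p) then (1 : ℂ) else 0) else 0) =
      if p.2 = p.1⁻¹ then (Nat.card N : ℂ) * Nat.card (scal K Q) * cardOdd K Q else 0 := fun p hp =>
    F.pairs_z (mem_goods.1 hp).1 (mem_goods.1 hp).2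
  have h3 : (Nat.card S.τ.range : ℂ) * (2 * pairK zN (cor S f)) =
      (Nat.card N : ℂ) * Nat.card (scal K Q) * cardOdd K Q *
        ∑ p ∈ (goods K Q).filter (fun p => p.2 = p.1⁻¹), rotSum S f p := by
    rw [h1, Finset.mul_sum, Finset.mul_sum, Finset.sum_filter]
    refine Finset.sum_congr rfl fun p hp => ?_
    rw [mul_left_comm, h2 p hp]
    split_ifs <;> ring
  have h4 : ∑ p ∈ (goods K Q).filter (fun p => p.2 = p.1⁻¹), f (S.τ (r2 p)) =
      ∑ p ∈ (goods K Q).filter (fun p => p.2 = p.1⁻¹), f (S.τ (r1 p)) := by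
    rw [Finset.sum_filter, Finset.sum_filter]
    conv_rhs => rw [← sum_goods_sw (K := K) (Q := Q) (fun p => if p.2 = p.1⁻¹ then f (S.τ (r1 p)) else 0)]
    refine Finset.sum_congr rfl fun p _ => ?_
    rw [r1_sw, cf_sw S hf]
    exact if_congr ⟨fun h => by show p.1 = p.2⁻¹; rw [h, inv_inv], fun h => by
      rw [show p.1 = p.2⁻¹ from h, inv_inv]⟩ rfl rfl
  simp only [rotSum, Finset.sum_add_distrib, h4] at h3
  have hR := congrArg (fun m : ℕ => (m : ℂ)) S.card_range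
  simp only [Nat.cast_mul, Nat.cast_pow] at hR
  have hk : (Nat.card (scal K Q) : ℂ) ≠ 0 := Nat.cast_ne_zero.2 hQ0
  refine mul_left_cancel₀ (mul_ne_zero (two_ne_zero' ℂ) hk) ?_
  linear_combination (cardOdd K Q : ℂ) * h3 - 2 * pairK zN (cor S f) * hR

/-- The data of the projections. -/
theorem exists_nfuns (hM : IsPModular 2 M) {k : ℕ} (f : Fin k → N → ℂ) {gram : Fin k → Fin k → ℤ}
    {tr val : Fin k → ℤ} {pr : Fin k → ℚ} (hgen : ∀ i, IsGeneralizedCharacter N (f i))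
    (hodd : ∀ i, OddVanish (f i)) (hB : ∀ i, InB0 M (f i))
    (haxis : ∀ i, ∀ q : scal K Q × scal K Q, Two q → q ≠ 1 → q.1 = 1 ∨ q.2 = 1 → ∀ n, Sec n (S.τ q) → f i n = 0)
    (hinner : ∀ i j, classInner (f i) (f j) +
      (card2 K Q : ℂ)⁻¹ * ∑ p ∈ goods K Q, f i (S.τ (r1 p)) * conj (f j (S.τ p)) = (gram i j : ℂ))
    (htr : ∀ i, classInner (f i) (fun _ => 1) = (tr i : ℂ))
    (hval : ∀ i, f i (S.τ (Y.e, Y.e)) = (val i : ℂ))
    (hpair : ∀ i, (Nat.card (scal K Q) : ℂ) * pairK (S.τ (Y.e, Y.e)) (f i) +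
      (Nat.card N : ℂ) * (cardOdd K Q : ℂ) ^ 2 *
        ∑ p ∈ (goods K Q).filter (fun p => p.2 = p.1⁻¹), f i (S.τ (r1 p)) =
      (Nat.card (scal K Q) : ℂ) *
        ((pr i * ((invol' (S.τ (Y.e, Y.e))).card : ℚ) ^ 2 : ℚ) : ℂ)) :
    ∃ P : D.NFuns N M gram tr val pr, P.f = f := by
  haveI : Fact (Nat.Prime 2) := ⟨Nat.prime_two⟩
  haveI := F.hN.normal
  refine ⟨⟨f, fun i n => f i n + cor S (f i) n, hgen, hodd, fun i n c hc hn => ?_, fun i j => ?_, htr,
    fun i h => ?_, fun i => ?_⟩, rfl⟩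
  · -- values
    have hz2 : 2 ∣ orderOf n := by
      rcases hn with ⟨j, hj⟩ | ⟨hz, -⟩
      · by_contra h
        exact hj (hodd j n h)
      · rw [← Subgroup.orderOf_coe]
        exact two_dvd_of_mem D.zbar_order hz
    refine F.gam_value hM (hB i) (haxis i) hc hz2 fun q hq hq1 hqa hs => ?_
    rcases hn with ⟨j, hj⟩ | ⟨hz, -⟩
    · exact hj (haxis j q hq hq1 hqa n hs)
    · obtain ⟨y, hy, hcy⟩ := hs
      obtain ⟨i', hi'⟩ := Subgroup.mem_zpowers_iff.1 hz
      have hzN : S.τ (Y.e, Y.e) ∈ Subgroup.zpowers n :=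
        Subgroup.mem_zpowers_iff.2 ⟨i', Subtype.ext (by rw [Subgroup.coe_zpow, hi', F.L.zbar_tau F.hN])⟩
      obtain ⟨m, hm⟩ := mem_powers_iff_mem_zpowers.2 (invol_mem_pPart hy S.zN_order hzN)
      obtain ⟨d, hd⟩ := isConj_iff.1 hcy
      replace hm : y ^ m = S.τ (Y.e, Y.e) := hm
      rw [← hd, conj_pow] at hm
      have hm' : S.τ (q ^ m) = S.τ (Y.e, Y.e) := by
        rw [map_pow]
        calc S.τ q ^ m = d⁻¹ * (d * S.τ q ^ m * d⁻¹) * d := by group
          _ = S.τ (Y.e, Y.e) := by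
            rw [hm, Subgroup.mem_center_iff.1 (S.diag_central _) d⁻¹, inv_mul_cancel_right]
      have he := S.inj_two (hq.npow m) F.L.two_e hm'
      rcases hqa with h | h
      · exact Y.e_ne (by rw [← show (q ^ m).1 = Y.e from congrArg Prod.fst he, Prod.pow_fst, h, one_pow])
      · exact Y.e_ne (by rw [← show (q ^ m).2 = Y.e from congrArg Prod.snd he, Prod.pow_snd, h, one_pow])
  · -- inner products
    rw [← hinner i j]
    simp only [classInner, add_mul, Finset.sum_add_distrib, mul_add]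
    congr 1
    have h2 : (2 : ℂ) * ∑ n : N, cor S (f i) n * conj (f j n) =
        ∑ p ∈ goods K Q, rotSum S (f i) p * conj (∑ n : N, if Sec n (S.τ p) then f j n else 0) := by
      rw [Finset.mul_sum]
      simp only [← mul_assoc, cor_sum S (hB i).1, Finset.sum_mul, map_sum, Finset.mul_sum]
      rw [Finset.sum_comm]
      exact Finset.sum_congr rfl fun p _ => Finset.sum_congr rfl fun n _ => by split_ifs <;> simp
    have hsum : ∀ p ∈ goods K Q, (card2 K Q : ℂ) * (Nat.card N : ℂ)⁻¹ *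
        (∑ n : N, if Sec n (S.τ p) then f j n else 0) = f j (S.τ p) := fun p hp =>
      (F.sec_sum hM (mem_goods.1 hp).2.1 (mem_goods.1 hp).1 (hB j) (n := S.τ p)
        ⟨S.τ p, ⟨1, mul_one _, Commute.one_right _, two_power_tau S (mem_goods.1 hp).1,
          by rw [orderOf_one]; decide⟩, IsConj.refl _⟩).symm
    have hc2 : (card2 K Q : ℂ) ≠ 0 := by
      rw [card2, Nat.cast_ne_zero]
      haveI : Nonempty {p : scal K Q × scal K Q // Two p} := ⟨⟨1, Two.one⟩⟩
      exact Nat.card_pos.ne'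
    have h5 : ∑ p ∈ goods K Q, f i (S.τ (r2 p)) * conj (f j (S.τ p)) =
        ∑ p ∈ goods K Q, f i (S.τ (r1 p)) * conj (f j (S.τ p)) := by
      conv_rhs => rw [← sum_goods_sw (K := K) (Q := Q) (fun p => f i (S.τ (r1 p)) * conj (f j (S.τ p)))]
      refine Finset.sum_congr rfl fun p _ => ?_
      rw [r1_sw, cf_sw S (hB i).1, cf_sw S (hB j).1]
    have h6 : (card2 K Q : ℂ) * (Nat.card N : ℂ)⁻¹ * (2 * ∑ n : N, cor S (f i) n * conj (f j n)) =
        2 * ∑ p ∈ goods K Q, f i (S.τ (r1 p)) * conj (f j (S.τ p)) := by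
      rw [h2, Finset.mul_sum, two_mul, ← Finset.sum_add_distrib]
      conv_rhs => rw [Finset.sum_add_distrib]; arg 2; rw [← h5]
      rw [← Finset.sum_add_distrib]
      refine Finset.sum_congr rfl fun p hp => ?_
      rw [mul_left_comm, ← add_mul, rotSum]
      congr 1
      rw [← hsum p hp]
      simp only [map_mul, map_inv₀, map_natCast]
    refine mul_left_cancel₀ (mul_ne_zero (two_ne_zero' ℂ) hc2) ?_
    rw [show 2 * (card2 K Q : ℂ) * ((card2 K Q : ℂ)⁻¹ * ∑ p ∈ goods K Q, f i (S.τ (r1 p)) * conj (f j (S.τ p))) =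
      2 * ∑ p ∈ goods K Q, f i (S.τ (r1 p)) * conj (f j (S.τ p)) from by field_simp, ← h6]
    ring
  · -- the value at the centre
    have e : (⟨D.zbar, h⟩ : N) = S.τ (Y.e, Y.e) := Subtype.ext (F.L.zbar_tau F.hN)
    simp only [e]
    rw [cor_eq_zero S (f i) ?_, add_zero, hval i]
    rintro p hp hg ⟨y, hy, hcy⟩
    have hy' : y = S.τ (Y.e, Y.e) := pPart_unique hy
      ⟨1, mul_one _, Commute.one_right _, two_power_tau S F.L.two_e, by rw [orderOf_one]; decide⟩
    obtain ⟨d, hd⟩ := isConj_iff.1 (hy' ▸ hcy).symm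
    rw [Subgroup.mem_center_iff.1 (S.diag_central _) d, mul_inv_cancel_right] at hd
    exact hg.1 (S.central_iff.1 (show S.τ (p.1, p.2) ∈ _ from hd ▸ S.diag_central Y.e))
  · -- pairs
    have hk : Nat.card (scal K Q) ≠ 0 := Nat.card_pos.ne'
    rw [F.pairK_N, F.invol_N.1]
    refine mul_left_cancel₀ (Nat.cast_ne_zero.2 hk : (Nat.card (scal K Q) : ℂ) ≠ 0) ?_
    rw [← hpair i, ← F.pairK_cor hk (hB i).1, ← mul_add]
    congr 1
    simp only [pairK, ← Finset.sum_add_distrib]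
    refine Finset.sum_congr rfl fun a _ => Finset.sum_congr rfl fun b _ => ?_
    split_ifs <;> simp

end Frm

end Cfsg.Agent.Invol.AbgOrder
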