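import Cfsg.Agent.Lib.Invol.AbgOrder.OrdAtoms

/-!
# The wreathed functions on the torus and the sums over the `2`-part of the torus

`μ` is faithful on the `2`-part of the scalars, of order `2h` with `h` even.  An exponent is a pair `(a, b)` standing
for `a + b h`; whether `2h` divides it is decided for every pair that occurs.
-/

set_option autoImplicit false
set_option linter.unusedSectionVars false
set_option linter.style.haveILetI false

open scoped ComplexConjugate Classical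

namespace Cfsg.Agent.Invol.AbgOrder

open Cfsg
open Cfsg.Agent.Invol.BrauerL3 (scal)

universe u v w

/-- A monomial: coefficient and two exponents. -/
abbrev Trm : Type := ℤ × (ℤ × ℤ) × (ℤ × ℤ)

/-- The exponent meant. -/
def lin (h : ℕ) (e : ℤ × ℤ) : ℤ := e.1 + e.2 * h

/-- The monomials of the eight functions on the torus. -/
def row : Fin 8 → Fin 6 → Trm :=
  let z : Trm := (0, (0, 0), (0, 0))
  ![fun _ => z,
    ![(1, (0, 0), (0, 0)), (-1, (0, 1), (0, 0)), (-1, (0, 0), (0, 1)), (1, (0, 1), (0, 1)), z, z],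
    fun _ => z, fun _ => z, fun _ => z, fun _ => z,
    ![(1, (1, 0), (1, 0)), (-1, (1, 0), (-1, 0)), (-1, (-1, 0), (1, 0)), (1, (-1, 0), (-1, 0)), z, z],
    ![(1, (0, 0), (0, 0)), (-1, (1, 0), (1, 0)), (-1, (-1, 0), (0, 0)), (-1, (0, 0), (-1, 0)),
      (1, (1, 0), (-1, 0)), (1, (-1, 0), (1, 0))]]

/-- Surely divisible by `2h`. -/
def Sure0 (e : ℤ × ℤ) : Prop := e.1 = 0 ∧ e.2 % 2 = 0

/-- Surely not divisible by `2h`. -/
def SureNe (e : ℤ × ℤ) : Prop :=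
  e.1 % 2 = 1 ∨ (e.1 = 0 ∧ e.2 % 2 = 1) ∨ ((e.1 = 2 ∨ e.1 = -2) ∧ e.2 % 2 = 0)

instance (e : ℤ × ℤ) : Decidable (Sure0 e) := inferInstanceAs (Decidable (_ ∧ _))

instance (e : ℤ × ℤ) : Decidable (SureNe e) := inferInstanceAs (Decidable (_ ∨ _))

theorem dvd_sure0 {h : ℕ} {e : ℤ × ℤ} (he : Sure0 e) : ((2 * h : ℕ) : ℤ) ∣ lin h e := by
  obtain ⟨k, hk⟩ : (2 : ℤ) ∣ e.2 := Int.dvd_of_emod_eq_zero he.2
  exact ⟨k, by rw [lin, he.1, hk]; push_cast; ring⟩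

theorem not_dvd_sureNe {h : ℕ} (h2 : 2 ∣ h) (h0 : h ≠ 0) {e : ℤ × ℤ} (he : SureNe e) :
    ¬ ((2 * h : ℕ) : ℤ) ∣ lin h e := by
  rintro ⟨k, hk⟩
  obtain ⟨r, rfl⟩ := h2
  rw [lin] at hk
  push_cast at hk
  have hr : (r : ℤ) ≠ 0 := by exact_mod_cast fun e => h0 (by rw [e, mul_zero])
  rcases he with he | ⟨ha, hb⟩ | ⟨ha, hb⟩
  · obtain ⟨j, hj⟩ : Odd e.1 := Int.odd_iff.2 he
    rw [hj] at hk
    have : (2 : ℤ) * (j + e.2 * r - 2 * r * k) = -1 := by linear_combination hk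
    omega
  · rw [ha, zero_add] at hk
    have : e.2 = 2 * k := mul_right_cancel₀ (mul_ne_zero two_ne_zero hr) (by linear_combination hk)
    omega
  · obtain ⟨j, hj⟩ : (2 : ℤ) ∣ e.2 := Int.dvd_of_emod_eq_zero hb
    rw [hj] at hk
    have hd : (4 : ℤ) * r ∣ e.1 := ⟨k - j, by linear_combination hk⟩
    have h4 : (4 : ℤ) ∣ e.1 := (dvd_mul_right 4 (r : ℤ)).trans hd
    rcases ha with ha | ha <;> rw [ha] at h4 <;> norm_num at h4

/-- The exponents of `t` after the rotation times the conjugate of `t'`. -/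
def dexp (t t' : Trm) : (ℤ × ℤ) × (ℤ × ℤ) :=
  ((t.2.2.1 - t'.2.1.1, t.2.2.2 - t'.2.1.2), (-t.2.1.1 - t.2.2.1 - t'.2.2.1, -t.2.1.2 - t.2.2.2 - t'.2.2.2))

/-- The exponent of `t` on `(δ, δ²)`. -/
def pexp (t : Trm) : ℤ × ℤ := (t.2.1.1 + 2 * t.2.2.1, t.2.1.2 + 2 * t.2.2.2)

/-- The constant term of a rotated product. -/
def cnt (i j : Fin 8) : ℤ :=
  ∑ t : Fin 6, ∑ s : Fin 6,
    if Sure0 (dexp (row i t) (row j s)).1 ∧ Sure0 (dexp (row i t) (row j s)).2 then (row i t).1 * (row j s).1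
    else 0

/-- The constant term on `(δ, δ²)`. -/
def pcnt (i : Fin 8) : ℤ := ∑ t : Fin 6, if Sure0 (pexp (row i t)) then (row i t).1 else 0

/-- The corrections to the inner products. -/
def corWr : Fin 8 → Fin 8 → ℤ :=
  ![![0, 0, 0, 0, 0, 0, 0, 0], ![0, 0, 0, 0, 0, 0, 0, 1], ![0, 0, 0, 0, 0, 0, 0, 0], ![0, 0, 0, 0, 0, 0, 0, 0],
    ![0, 0, 0, 0, 0, 0, 0, 0], ![0, 0, 0, 0, 0, 0, 0, 0], ![0, 0, 0, 0, 0, 0, 0, 1], ![0, 1, 0, 0, 0, 0, 1, -1]]

theorem cnt_eq : ∀ i j, cnt i j = corWr i j := by decide +kernel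

theorem pcnt_eq : ∀ i, pcnt i = (![0, 0, 0, 0, 0, 0, 0, 1] : Fin 8 → ℤ) i := by decide +kernel

theorem decided : ∀ (i j : Fin 8) (t s : Fin 6), (row i t).1 * (row j s).1 = 0 ∨
    (Sure0 (dexp (row i t) (row j s)).1 ∧ Sure0 (dexp (row i t) (row j s)).2) ∨
      SureNe (dexp (row i t) (row j s)).1 ∨ SureNe (dexp (row i t) (row j s)).2 := by decide +kernel

theorem pdecided : ∀ (i : Fin 8) (t : Fin 6),
    (row i t).1 = 0 ∨ Sure0 (pexp (row i t)) ∨ SureNe (pexp (row i t)) := by decide +kernel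

variable {K : Type w} [CommGroup K] {Q : ℤ}

/-- A faithful character of the `2`-part of the scalars. -/
structure Mu (K : Type w) [CommGroup K] (Q : ℤ) where
  /-- the character -/
  μ : scal K Q →* ℂˣ
  /-- half its order -/
  h : ℕ
  h2 : 2 ∣ h
  h0 : h ≠ 0
  two : ∀ a : scal K Q, (∃ k : ℕ, a ^ 2 ^ k = 1) ↔ a ^ (2 * h) = 1
  γ : scal K Q
  γo : orderOf γ = 2 * h
  inj : ∀ a : scal K Q, a ^ (2 * h) = 1 → μ a = 1 → a = 1
  odd : ∀ a : scal K Q, Odd (orderOf a) → μ a = 1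

namespace Mu

variable (m : Mu K Q)
include m

/-- A monomial at a parameter. -/
noncomputable def mon (e f : ℤ × ℤ) (p : scal K Q × scal K Q) : ℂ :=
  ((m.μ p.1 ^ lin m.h e : ℂˣ) : ℂ) * ((m.μ p.2 ^ lin m.h f : ℂˣ) : ℂ)

/-- A row at a parameter. -/
noncomputable def ev (i : Fin 8) (p : scal K Q × scal K Q) : ℂ :=
  ∑ t : Fin 6, ((row i t).1 : ℂ) * m.mon (row i t).2.1 (row i t).2.2 p

theorem γ_pow : m.γ ^ (2 * m.h) = 1 := by rw [← m.γo, pow_orderOf_eq_one]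

theorem pow_eq_one {a : scal K Q} (ha : a ^ (2 * m.h) = 1) {k : ℤ} (hk : ((2 * m.h : ℕ) : ℤ) ∣ k) :
    m.μ a ^ k = 1 := by
  obtain ⟨c, rfl⟩ := hk
  rw [zpow_mul, zpow_natCast, ← map_pow, ha, map_one, one_zpow]

theorem gamma_zpow {k : ℤ} (hk : ¬ ((2 * m.h : ℕ) : ℤ) ∣ k) : m.μ m.γ ^ k ≠ 1 := by
  intro e
  rw [← map_zpow] at e
  refine hk ?_
  rw [← m.γo, orderOf_dvd_iff_zpow_eq_one]
  refine m.inj _ ?_ e
  rw [← zpow_natCast, zpow_comm, zpow_natCast, m.γ_pow, one_zpow]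

variable [Fintype (scal K Q)]

/-- The `2`-part of the scalars. -/
noncomputable def T1 : Finset (scal K Q) := Finset.univ.filter fun a => a ^ (2 * m.h) = 1

theorem sum_zero {k : ℤ} (hk : ¬ ((2 * m.h : ℕ) : ℤ) ∣ k) : ∑ a ∈ m.T1, ((m.μ a ^ k : ℂˣ) : ℂ) = 0 := by
  have hmem : ∀ a, m.γ * a ∈ m.T1 ↔ a ∈ m.T1 := fun a => by
    simp [T1, mul_pow, m.γ_pow]
  have h : ∑ a ∈ m.T1, ((m.μ a ^ k : ℂˣ) : ℂ) =
      ((m.μ m.γ ^ k : ℂˣ) : ℂ) * ∑ a ∈ m.T1, ((m.μ a ^ k : ℂˣ) : ℂ) := by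
    rw [Finset.mul_sum]
    refine (Finset.sum_bij' (fun a _ => m.γ * a) (fun a _ => m.γ⁻¹ * a) (fun a ha => (hmem a).2 ha)
      (fun a ha => (hmem _).1 (by rwa [mul_inv_cancel_left])) (fun a _ => inv_mul_cancel_left _ _)
      (fun a _ => mul_inv_cancel_left _ _) fun a _ => ?_).symm
    rw [map_mul, mul_zpow, Units.val_mul]
  have h1 : ((m.μ m.γ ^ k : ℂˣ) : ℂ) ≠ 1 := fun e => m.gamma_zpow hk (Units.ext (by rw [e, Units.val_one]))
  have h2 : (((m.μ m.γ ^ k : ℂˣ) : ℂ) - 1) * ∑ a ∈ m.T1, ((m.μ a ^ k : ℂˣ) : ℂ) = 0 := by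
    rw [sub_mul, one_mul, ← h, sub_self]
  exact (mul_eq_zero.1 h2).resolve_left (sub_ne_zero.2 h1)

theorem card_T1 : m.T1.card = 2 * m.h := by
  haveI : Finite (scal K Q) := Finite.of_fintype _
  have h : m.T1 = Finset.univ.filter (fun a => a ∈ Subgroup.zpowers m.γ) → m.T1.card = 2 * m.h := fun e => by
    rw [e, ← m.γo, ← Nat.card_zpowers, Nat.card_eq_fintype_card, Fintype.card_subtype]
  refine h (Finset.ext fun a => ?_)
  simp only [T1, Finset.mem_filter, Finset.mem_univ, true_and]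
  refine ⟨fun ha => ?_, fun ha => ?_⟩
  · by_contra hn
    obtain ⟨j, hj⟩ : ∃ j, m.μ a = m.μ m.γ ^ j := by
      have hprim : IsPrimitiveRoot ((m.μ m.γ : ℂˣ) : ℂ) (2 * m.h) := by
        refine ⟨by rw [← Units.val_pow_eq_pow_val, ← map_pow, m.γ_pow, map_one, Units.val_one], fun l hl => ?_⟩
        by_contra hd
        refine m.gamma_zpow (k := (l : ℤ)) (fun h => hd (by exact_mod_cast h)) (Units.ext ?_)
        rw [zpow_natCast, Units.val_pow_eq_pow_val, hl, Units.val_one]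
      haveI : NeZero (2 * m.h) := ⟨mul_ne_zero two_ne_zero m.h0⟩
      obtain ⟨j, -, hj⟩ := hprim.eq_pow_of_pow_eq_one (ξ := ((m.μ a : ℂˣ) : ℂ))
        (by rw [← Units.val_pow_eq_pow_val, ← map_pow, ha, map_one, Units.val_one])
      exact ⟨j, Units.ext (by rw [Units.val_pow_eq_pow_val, hj])⟩
    refine hn ?_
    have e : a * (m.γ ^ j)⁻¹ = 1 := m.inj _
      (by rw [mul_pow, ha, inv_pow, ← pow_mul, mul_comm j, pow_mul, m.γ_pow, one_pow, inv_one, one_mul])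
      (by rw [map_mul, map_inv, map_pow, hj, mul_inv_cancel])
    rw [mul_inv_eq_one.1 e]
    exact pow_mem (Subgroup.mem_zpowers _) _
  · obtain ⟨i, rfl⟩ := Subgroup.mem_zpowers_iff.1 ha
    rw [← zpow_natCast, zpow_comm, zpow_natCast, m.γ_pow, one_zpow]

theorem sum_T1 (e : ℤ × ℤ) : (Sure0 e → ∑ a ∈ m.T1, ((m.μ a ^ lin m.h e : ℂˣ) : ℂ) = ((2 * m.h : ℕ) : ℂ)) ∧
    (SureNe e → ∑ a ∈ m.T1, ((m.μ a ^ lin m.h e : ℂˣ) : ℂ) = 0) := by
  refine ⟨fun he => ?_, fun he => m.sum_zero (not_dvd_sureNe m.h2 m.h0 he)⟩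
  rw [Finset.sum_congr rfl fun a ha => by
    rw [m.pow_eq_one (Finset.mem_filter.1 ha).2 (dvd_sure0 he), Units.val_one], Finset.sum_const, nsmul_one,
    m.card_T1]

theorem mem_T2 (p : scal K Q × scal K Q) : p ∈ m.T1 ×ˢ m.T1 ↔ Two p := by
  simp only [Finset.mem_product, T1, Finset.mem_filter, Finset.mem_univ, true_and]
  constructor
  · rintro ⟨ha, hb⟩
    obtain ⟨k, hk⟩ := (m.two p.1).2 ha
    obtain ⟨l, hl⟩ := (m.two p.2).2 hb
    exact ⟨k + l, Prod.ext (by rw [Prod.pow_fst, pow_add, pow_mul, hk, one_pow]; rfl)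
      (by rw [Prod.pow_snd, pow_add, mul_comm, pow_mul, hl, one_pow]; rfl)⟩
  · rintro ⟨k, hk⟩
    exact ⟨(m.two _).1 ⟨k, congrArg Prod.fst hk⟩, (m.two _).1 ⟨k, congrArg Prod.snd hk⟩⟩

theorem card2_eq : card2 K Q = (2 * m.h) ^ 2 := by
  rw [card2, sq, ← m.card_T1, ← Finset.card_product, Nat.card_eq_fintype_card, Fintype.card_subtype]
  exact congrArg Finset.card (Finset.ext fun p => by
    simp only [Finset.mem_filter, Finset.mem_univ, true_and, m.mem_T2])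

/-- The rotated products over the whole `2`-part. -/
theorem sum_prod (i j : Fin 8) :
    ∑ p ∈ m.T1 ×ˢ m.T1, m.ev i (r1 p) * conj (m.ev j p) =
      ((2 * m.h : ℕ) : ℂ) ^ 2 * (corWr i j : ℂ) := by
  have hterm : ∀ (t s : Trm) (p : scal K Q × scal K Q),
      ((t.1 : ℤ) : ℂ) * m.mon t.2.1 t.2.2 (r1 p) * conj (((s.1 : ℤ) : ℂ) * m.mon s.2.1 s.2.2 p) =
        ((t.1 * s.1 : ℤ) : ℂ) * (((m.μ p.1 ^ lin m.h (dexp t s).1 : ℂˣ) : ℂ) *
          ((m.μ p.2 ^ lin m.h (dexp t s).2 : ℂˣ) : ℂ)) := by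
    intro t s p
    have hc : ∀ (x : scal K Q) (k : ℤ), conj ((m.μ x ^ k : ℂˣ) : ℂ) = ((m.μ x ^ (-k) : ℂˣ) : ℂ) := fun x k => by
      have h1 : conj (Block.SL2Char.cv m.μ x) = ((m.μ x⁻¹ : ℂˣ) : ℂ) := Block.SL2Char.conj_cv m.μ x
      rw [map_inv] at h1
      rw [Units.val_zpow_eq_zpow_val, map_zpow₀, show conj (m.μ x : ℂ) = _ from h1,
        ← Units.val_zpow_eq_zpow_val, inv_zpow, zpow_neg]
    have e : r1 p = (p.2⁻¹, p.1 * p.2⁻¹) := rfl
    rw [mon, mon, e, map_mul (starRingEnd ℂ), map_intCast, map_mul (starRingEnd ℂ), hc, hc, map_inv, map_mul,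
      map_inv]
    simp only [inv_zpow, mul_zpow, ← zpow_neg, Units.val_mul, Int.cast_mul]
    rw [show lin m.h (dexp t s).1 = lin m.h t.2.2 + -lin m.h s.2.1 by simp [lin, dexp]; ring,
      show lin m.h (dexp t s).2 = -lin m.h t.2.1 + -lin m.h t.2.2 + -lin m.h s.2.2 by simp [lin, dexp]; ring,
      zpow_add, zpow_add, zpow_add]
    simp only [Units.val_mul]
    ring
  rw [← cnt_eq, cnt]
  simp only [ev, Finset.sum_mul, map_sum, Finset.mul_sum, hterm, Int.cast_sum]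
  rw [Finset.sum_comm]
  conv_lhs => enter [2, x]; rw [Finset.sum_comm]
  rw [Finset.sum_comm]
  refine Finset.sum_congr rfl fun t _ => ?_
  refine Finset.sum_congr rfl fun s _ => ?_
  rw [← Finset.mul_sum, Finset.sum_product]
  dsimp only
  rw [← Finset.sum_mul_sum]
  rcases decided i j t s with h | h | h | h
  · rw [h, Int.cast_zero, zero_mul]
    simp
  · rw [(m.sum_T1 _).1 h.1, (m.sum_T1 _).1 h.2, if_pos h]
    push_cast; ring
  · rw [(m.sum_T1 _).2 h, if_neg fun h' => not_dvd_sureNe m.h2 m.h0 h (dvd_sure0 h'.1)]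
    ring
  · rw [(m.sum_T1 _).2 h, if_neg fun h' => not_dvd_sureNe m.h2 m.h0 h (dvd_sure0 h'.2)]
    ring

/-- The values on the pairs. -/
theorem sum_pair (i : Fin 8) : ∑ δ ∈ m.T1, m.ev i (r1 (δ, δ⁻¹)) =
    ((2 * m.h : ℕ) : ℂ) * ((![0, 0, 0, 0, 0, 0, 0, 1] : Fin 8 → ℤ) i : ℂ) := by
  have hterm : ∀ (t : Trm) (δ : scal K Q), ((t.1 : ℤ) : ℂ) * m.mon t.2.1 t.2.2 (r1 (δ, δ⁻¹)) =
      ((t.1 : ℤ) : ℂ) * ((m.μ δ ^ lin m.h (pexp t) : ℂˣ) : ℂ) := fun t δ => by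
    rw [mon, show r1 (δ, δ⁻¹) = (δ, δ * δ) by simp [r1], ← Units.val_mul, map_mul, mul_zpow, ← zpow_add, ← zpow_add]
    congr 3
    simp [lin, pexp]; ring
  rw [← pcnt_eq, pcnt]
  simp only [ev, hterm]
  rw [Finset.sum_comm, Int.cast_sum, Finset.mul_sum]
  refine Finset.sum_congr rfl fun t _ => ?_
  rw [← Finset.mul_sum]
  rcases pdecided i t with h | h | h
  · simp [h]
  · rw [(m.sum_T1 _).1 h, if_pos h]; ring
  · rw [(m.sum_T1 _).2 h, if_neg fun h' => not_dvd_sureNe m.h2 m.h0 h (dvd_sure0 h')]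
    simp

theorem ev_axis (i : Fin 8) {p : scal K Q × scal K Q} (h : m.μ p.1 = 1 ∨ m.μ p.2 = 1) : m.ev i p = 0 := by
  rcases h with h | h <;> fin_cases i <;>
    simp [ev, row, mon, lin, h, Fin.sum_univ_succ] <;> ring

theorem goods_T2 : goods K Q = (m.T1 ×ˢ m.T1).filter Good := by
  ext p
  simp [mem_goods, Finset.mem_filter, m.mem_T2]

/-- The sum of rotated products off the diagonal and the axes. -/
theorem sum_goods (i j : Fin 8) :
    ∑ p ∈ goods K Q, m.ev i (r1 p) * conj (m.ev j p) = ((2 * m.h : ℕ) : ℂ) ^ 2 * (corWr i j : ℂ) := by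
  rw [← m.sum_prod, m.goods_T2, Finset.sum_filter]
  refine Finset.sum_congr rfl fun p _ => ?_
  split_ifs with hg
  · rfl
  · simp only [Good, ne_eq, not_and_or, not_not] at hg
    rcases hg with h | h | h
    · rw [m.ev_axis i (p := r1 p) (Or.inr (by show m.μ (p.1 * p.2⁻¹) = 1; rw [h, mul_inv_cancel, map_one])),
        zero_mul]
    · rw [m.ev_axis j (Or.inl (by rw [h, map_one])), map_zero, mul_zero]
    · rw [m.ev_axis j (Or.inr (by rw [h, map_one])), map_zero, mul_zero]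

/-- The sum over the pairs off the diagonal and the axes. -/
theorem sum_goods_pair (i : Fin 8) :
    ∑ p ∈ (goods K Q).filter (fun p => p.2 = p.1⁻¹), m.ev i (r1 p) =
      ((2 * m.h : ℕ) : ℂ) * ((![0, 0, 0, 0, 0, 0, 0, 1] : Fin 8 → ℤ) i : ℂ) := by
  rw [← m.sum_pair, ← Finset.sum_filter_add_sum_filter_not m.T1 (fun δ : scal K Q => δ * δ ≠ 1)]
  rw [Finset.sum_eq_zero (s := m.T1.filter fun δ => ¬ δ * δ ≠ 1), add_zero]
  · refine Finset.sum_bij' (fun p _ => p.1) (fun δ _ => (δ, δ⁻¹)) (fun p hp => ?_) (fun δ hδ => ?_)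
      (fun p hp => ?_) (fun δ _ => rfl) (fun p hp => ?_)
    · rw [m.goods_T2] at hp
      simp only [Finset.mem_filter, Finset.mem_product] at hp ⊢
      refine ⟨hp.1.1.1, fun e => hp.1.2.1 ?_⟩
      rw [hp.2]; exact eq_inv_of_mul_eq_one_left e
    · rw [m.goods_T2]
      simp only [Finset.mem_filter, Finset.mem_product, T1, Finset.mem_univ, true_and] at hδ ⊢
      refine ⟨⟨⟨hδ.1, by rw [inv_pow, hδ.1, inv_one]⟩, fun e => hδ.2 ?_, fun e => hδ.2 ?_, fun e => hδ.2 ?_⟩, trivial⟩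
      · exact mul_eq_one_iff_eq_inv.2 e
      · rw [show δ = 1 from e, one_mul]
      · rw [inv_eq_one.1 e, one_mul]
    · exact Prod.ext rfl (Finset.mem_filter.1 hp).2.symm
    · show _ = m.ev i (r1 (p.1, p.1⁻¹))
      rw [← (Finset.mem_filter.1 hp).2]
  · intro δ hδ
    have hδ2 : δ * δ = 1 := not_not.1 (Finset.mem_filter.1 hδ).2
    refine m.ev_axis i (Or.inr ?_)
    show m.μ (δ * δ⁻¹⁻¹) = 1
    rw [inv_inv, hδ2, map_one]

theorem ne_gamma : (m.μ m.γ : ℂ) ≠ 1 ∧ (m.μ m.γ : ℂ) * m.μ m.γ ≠ 1 := by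
  have hh := m.h0
  obtain ⟨r, hr⟩ := m.h2
  constructor
  · intro e
    refine m.gamma_zpow (k := 1) (fun h => ?_) (by rw [zpow_one]; exact Units.ext e)
    have := Int.le_of_dvd one_pos h
    omega
  · intro e
    refine m.gamma_zpow (k := 2) (fun h => ?_)
      (by rw [zpow_two]; exact Units.ext (by rw [Units.val_mul]; exact e))
    have := Int.le_of_dvd two_pos h
    omega

end Mu

/-- Such a character exists for `Q ≡ 1 mod 4`. -/
theorem exists_Mu {N : Type u} [Group N] [Fintype N] {H : Type v} [Group H] (Y : NSys N H K Q) (hQ : Q % 4 = 1) :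
    ∃ m : Mu K Q, Nat.card (scal K Q) = 2 * m.h * cardOdd K Q ∧ m.μ Y.e = -1 ∧ (m.μ Y.e) ^ m.h = 1 := by
  haveI := Y.T.finiteK
  haveI := Y.T.cyc
  obtain ⟨ν, o, r, ho, hno, hν, hor, hr⟩ := Y.exists_r
  obtain ⟨χ, hχ⟩ := BrauerL3.exists_faithful (K := scal K Q)
  have hS : ∀ a : scal K Q, a ^ (2 ^ ν * o) = 1 := fun a => hno ▸ pow_card_eq_one'
  have hν2 : 2 ≤ ν := by
    by_contra h
    have h1 : ν = 1 := by omega
    have h2 := BrauerL3.natAbs_card_scal (K := K) Y.T.card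
    rw [hno, h1] at h2
    obtain ⟨k, hk⟩ := ho
    omega
  obtain ⟨n, rfl⟩ : ∃ n, ν = n + 2 := ⟨ν - 2, by omega⟩
  have h2n : 2 * 2 ^ (n + 1) = 2 ^ (n + 2) := by ring
  obtain ⟨g, hg⟩ := IsCyclic.exists_ofOrder_eq_natCard (α := scal K Q)
  have hinj : ∀ a : scal K Q, a ^ 2 ^ (n + 2) = 1 → (χ.comp (powMonoidHom o)) a = 1 → a = 1 := fun a ha h => by
    rw [BrauerL3.comp_pow_eq_one hχ] at h
    rw [← orderOf_eq_one_iff]
    exact Nat.eq_one_of_dvd_coprimes ((Nat.coprime_two_left.2 ho).pow_left _)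
      (orderOf_dvd_of_pow_eq_one ha) (orderOf_dvd_of_pow_eq_one h)
  have hodd : ∀ a : scal K Q, Odd (orderOf a) → (χ.comp (powMonoidHom o)) a = 1 := fun a ha =>
    (BrauerL3.comp_pow_eq_one hχ o a).2 (BrauerL3.odd_pow_eq_one ha (hS a) rfl)
  refine ⟨⟨χ.comp (powMonoidHom o), 2 ^ (n + 1), dvd_pow_self 2 (by omega), (pow_pos two_pos _).ne',
    fun a => ⟨fun ⟨k, hk⟩ => ?_, fun h => ⟨n + 2, by rwa [h2n] at h⟩⟩, g ^ o, ?_,
    fun a ha => hinj a (h2n ▸ ha), hodd⟩, ?_, ?_, ?_⟩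
  · rw [h2n]
    refine orderOf_dvd_iff_pow_eq_one.1 ?_
    exact (((Nat.coprime_two_left.2 ho).pow_left k).coprime_dvd_left (orderOf_dvd_of_pow_eq_one hk)).dvd_of_dvd_mul_right
      (orderOf_dvd_of_pow_eq_one (hS a))
  · rw [h2n, orderOf_pow_of_dvd ho.pos.ne' (by rw [hg, hno]; exact dvd_mul_left _ _), hg, hno,
      Nat.mul_div_cancel _ ho.pos]
  · show _ = 2 * 2 ^ (n + 1) * cardOdd K Q
    rw [h2n, hno]
    congr 1
    -- the elements of odd order are those killed by `o`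
    rw [cardOdd]
    have e : ∀ a : scal K Q, Odd (orderOf a) ↔ a ∈ (powMonoidHom o : scal K Q →* scal K Q).ker := fun a =>
      ⟨fun ha => BrauerL3.odd_pow_eq_one ha (hS a) rfl, fun ha => ho.of_dvd_nat (orderOf_dvd_of_pow_eq_one ha)⟩
    rw [Nat.card_congr (Equiv.subtypeEquivRight e), IsCyclic.card_powMonoidHom_ker, hno, Nat.gcd_eq_right]
    exact dvd_mul_left _ _
  · show (χ.comp (powMonoidHom o)) Y.e = -1
    rw [BrauerL3.comp_pow_invol hχ o Y.e_ne Y.e_sq, if_neg (Nat.not_even_iff_odd.2 ho)]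
  · show ((χ.comp (powMonoidHom o)) Y.e) ^ 2 ^ (n + 1) = 1
    rw [pow_succ', pow_mul, ← map_pow, show Y.e ^ 2 = 1 by rw [sq, Y.e_sq], map_one, one_pow]

end Cfsg.Agent.Invol.AbgOrder
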