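import Cfsg.Agent.Lib.Block.SectionRegular
import Cfsg.Agent.Lib.Block.PrincipalColumn
import Cfsg.Agent.Lib.Block.AbelianThree

/-!
# The reproducing kernel of the principal block

`blockKer M g h = ∑ χ(g) · conj χ(h)` over the principal block vanishes unless the `p`-parts are conjugate; on one
section it is the kernel of the principal block of the centraliser, constant if that has a normal `p`-complement, and
it is not changed by a quotient by a normal `p'`-subgroup.
-/

set_option autoImplicit false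
set_option linter.unusedSectionVars false
set_option linter.style.haveILetI false

open scoped ComplexConjugate Classical

namespace Cfsg.Agent.Invol.AbgOrder

open Cfsg Cfsg.Agent.Char Cfsg.Agent.Block

universe u v

variable {G : Type u} [Group G] [Fintype G] {M : Ideal AlgInt} {p : ℕ} [Fact p.Prime]

/-- The reproducing kernel of the principal block. -/
noncomputable def blockKer (M : Ideal AlgInt) (g h : G) : ℂ :=
  ∑ χ ∈ Finset.univ.filter (fun χ : IrrCharacter G => χ ∈ principalBlock M G),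
    (χ : G → ℂ) g * conj ((χ : G → ℂ) h)

theorem blockKer_eq_finsum (g h : G) :
    blockKer M g h = ∑ᶠ χ ∈ principalBlock M G, (χ : G → ℂ) g * conj ((χ : G → ℂ) h) := by
  rw [finsum_mem_block, blockKer]

theorem blockKer_conj_right (g h t : G) : blockKer M g (t * h * t⁻¹) = blockKer M g h := by
  simp only [blockKer]
  exact Finset.sum_congr rfl fun χ _ => by rw [irr_classFun χ h t]

theorem blockKer_conj_left (g h t : G) : blockKer M (t * g * t⁻¹) h = blockKer M g h := by
  simp only [blockKer]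
  exact Finset.sum_congr rfl fun χ _ => by rw [irr_classFun χ g t]

theorem blockKer_regular (hM : IsPModular p M) {g h : G} (hg : ¬ p ∣ orderOf g) (hh : p ∣ orderOf h) :
    blockKer M g h = 0 := by
  rw [blockKer_eq_finsum]
  exact weak_orth hM isPBlock_principalBlock hg hh

/-- The kernel vanishes unless the `p`-parts are conjugate. -/
theorem blockKer_eq_zero (hM : IsPModular p M) {g h x y : G} (hx : IsPPart p g x) (hy : IsPPart p h y)
    (hne : ¬ IsConj x y) : blockKer M g h = 0 := by
  rw [blockKer_eq_finsum]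
  refine Eq.trans ?_ (section_orth hM hx hy hne isPBlock_principalBlock)
  exact finsum_mem_congr rfl fun χ _ => by rw [irr_apply_inv]

theorem exists_pPart (g : G) : ∃ x, IsPPart p g x := by
  obtain ⟨u, v, h1, h2, h3, h4, -, -⟩ := exists_pPart_zpowers (p := p) g
  exact ⟨u, v, h1, h2, h3, h4⟩

theorem pPart_conj {g x : G} (h : IsPPart p g x) (t : G) : IsPPart p (t * g * t⁻¹) (t * x * t⁻¹) := by
  obtain ⟨y, hxy, hc, ⟨k, hk⟩, hy⟩ := h
  refine ⟨t * y * t⁻¹, by rw [← hxy]; group, hc.map (MulAut.conj t).toMonoidHom, ⟨k, ?_⟩, ?_⟩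
  · rw [← MulAut.conj_apply, MulEquiv.orderOf_eq, hk]
  · rwa [← MulAut.conj_apply, MulEquiv.orderOf_eq]

theorem pPart_map {K : Type v} [Group K] [Finite K] (π : G →* K) {g x : G} (h : IsPPart p g x) :
    IsPPart p (π g) (π x) := by
  obtain ⟨y, hxy, hc, ⟨k, hk⟩, hy⟩ := h
  obtain ⟨j, -, hj⟩ := (Nat.dvd_prime_pow (Fact.out : p.Prime)).1 (hk ▸ orderOf_map_dvd π x)
  exact ⟨π y, by rw [← map_mul, hxy], hc.map π, ⟨j, hj⟩, fun hd => hy (hd.trans (orderOf_map_dvd π y))⟩

theorem pPart_coe {H : Subgroup G} {g x : H} : IsPPart p (g : G) (x : G) ↔ IsPPart p g x := by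
  refine ⟨fun h => ?_, fun ⟨y, hxy, hc, ⟨k, hk⟩, hy⟩ => ?_⟩
  · obtain ⟨y, hxy, hc, ⟨k, hk⟩, hy⟩ := h
    have hyH : y ∈ H := by
      have : y = (x : G)⁻¹ * (g : G) := eq_inv_mul_of_mul_eq hxy
      exact this ▸ mul_mem (inv_mem x.2) g.2
    exact ⟨⟨y, hyH⟩, Subtype.ext hxy, Subtype.ext hc.eq, ⟨k, by rw [← Subgroup.orderOf_coe, hk]⟩,
      by rwa [← Subgroup.orderOf_coe]⟩
  · exact ⟨y, congrArg Subtype.val hxy, congrArg Subtype.val hc.eq,
      ⟨k, by rw [Subgroup.orderOf_coe, hk]⟩, by rwa [Subgroup.orderOf_coe]⟩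

/-- With a normal `p`-complement in the centraliser the kernel is constant on a section. -/
theorem blockKer_nilp (hM : IsPModular p M) {g h x y : G} (hx : IsPPart p g x) (hy : IsPPart p h y)
    (hxy : IsConj x y) {N : Subgroup (Subgroup.centralizer ({x} : Set G))} [N.Normal] (hN : ¬ p ∣ Nat.card N)
    {k : ℕ} (hidx : N.index = p ^ k) :
    blockKer M g h = ((p ^ (Nat.card (Subgroup.centralizer ({x} : Set G))).factorization p : ℕ) : ℂ) := by
  obtain ⟨t, ht⟩ := isConj_iff.1 hxy
  have hh : IsPPart p (t⁻¹ * h * t⁻¹⁻¹) x := by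
    have := pPart_conj hy t⁻¹
    rwa [show t⁻¹ * y * t⁻¹⁻¹ = x by rw [← ht]; group] at this
  rw [← blockKer_conj_right g h t⁻¹]
  obtain ⟨v, hv, hvc, hxk, hvo⟩ := hx
  obtain ⟨w, hw, hwc, -, hwo⟩ := hh
  have hmem : ∀ {a : G}, Commute x a → a ∈ Subgroup.centralizer ({x} : Set G) := fun ha =>
    Subgroup.mem_centralizer_singleton_iff.2 ha.symm.eq
  have hconst : ∀ {a : G} (ha : Commute x a), ¬ p ∣ orderOf a →
      ∀ χ ∈ Finset.univ.filter (fun χ : IrrCharacter G => χ ∈ principalBlock M G),
        (χ : G → ℂ) (x * a) = (χ : G → ℂ) x := fun {a} ha hao χ hχ => by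
    have h0 : ¬ p ∣ orderOf (⟨a, hmem ha⟩ : Subgroup.centralizer ({x} : Set G)) := by
      rwa [← Subgroup.orderOf_coe]
    exact principal_section_const hM hxk hN h0 (regular_mem_of_index_pPow hidx h0) (Finset.mem_filter.1 hχ).2
  rw [blockKer, ← hv, ← hw,
    Finset.sum_congr rfl fun χ hχ => by rw [hconst hvc hvo χ hχ, hconst hwc hwo χ hχ]]
  have h1 : ¬ p ∣ orderOf (1 : Subgroup.centralizer ({x} : Set G)) := by
    rw [orderOf_one]; exact (Fact.out : p.Prime).not_dvd_one
  rw [← principal_column_complement hM hN hidx h1, ← principal_column hM hxk h1, finsum_mem_block,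
    OneMemClass.coe_one, mul_one]

/-- The centraliser of an element. -/
abbrev Cz (z : G) : Subgroup G := Subgroup.centralizer ({z} : Set G)

/-- On one section the kernel is that of the principal block of the centraliser. -/
theorem blockKer_section (hM : IsPModular p M) {z : G} (hz : ∃ k : ℕ, orderOf z = p ^ k)
    {y y' : Cz z} (hy : ¬ p ∣ orderOf y) (hy' : ¬ p ∣ orderOf y') :
    blockKer M (z * (y : G)) (z * (y' : G)) = blockKer M y y' := by
  set S := Finset.univ.filter (fun ξ : IrrCharacter (Cz z) => ξ ∈ principalBlock M (Cz z))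
  set Φ : (Cz z) → ℂ := fun c => ∑ ξ ∈ S, (ξ : (Cz z) → ℂ) y * conj ((ξ : (Cz z) → ℂ) c) with hΦdef
  have hΦ : ∀ c, p ∣ orderOf c → Φ c = 0 := fun c hc => blockKer_regular hM hy hc
  have hexp : ∀ χ : IrrCharacter G,
      ∑ ξ ∈ S, classInner (fun c : (Cz z) => (χ : G → ℂ) (z * (c : G))) (ξ : (Cz z) → ℂ) * (ξ : (Cz z) → ℂ) y =
      if χ ∈ principalBlock M G then (χ : G → ℂ) (z * (y : G)) else 0 := fun χ =>
    section_principal_part hM hz hy χ
  calc blockKer M (z * (y : G)) (z * (y' : G))
      = ∑ χ : IrrCharacter G, (∑ ξ ∈ S, classInner (fun c : (Cz z) => (χ : G → ℂ) (z * (c : G))) (ξ : (Cz z) → ℂ) *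
          (ξ : (Cz z) → ℂ) y) * conj ((χ : G → ℂ) (z * (y' : G))) := by
        rw [blockKer, Finset.sum_filter]
        exact Finset.sum_congr rfl fun χ _ => by rw [hexp χ, ite_mul, zero_mul]
    _ = (Nat.card (Cz z) : ℂ)⁻¹ * ∑ c : (Cz z),
          (∑ χ : IrrCharacter G, (χ : G → ℂ) (z * (c : G)) * conj ((χ : G → ℂ) (z * (y' : G)))) * Φ c := by
        simp only [hΦdef, classInner, Finset.sum_mul]
        simp only [Finset.mul_sum, Finset.sum_mul]
        rw [Finset.sum_comm_cycle]
        exact Finset.sum_congr rfl fun c _ => Finset.sum_congr rfl fun χ _ =>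
          Finset.sum_congr rfl fun ξ _ => by ring
    _ = Φ y' := ?_
  have hcomm : ∀ t : (Cz z), Commute z (t : G) := fun t =>
    (Subgroup.mem_centralizer_singleton_iff.1 t.2 : (t : G) * z = z * t).symm
  obtain ⟨k, hk⟩ := hz
  have hpp : ∀ {c : (Cz z)}, ¬ p ∣ orderOf c → IsPPart p (z * (c : G)) z := fun {c} hc =>
    ⟨c, rfl, hcomm c, ⟨k, hk⟩, by rwa [Subgroup.orderOf_coe]⟩
  have hcent : ∀ {t : G}, Commute t (z * (y' : G)) → t ∈ (Cz z) ∧ Commute t (y' : G) := fun {t} ht => by
    have hzz : t * z * t⁻¹ = z := by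
      refine pPart_unique ?_ (hpp hy')
      have := pPart_conj (hpp hy') t
      rwa [ht.eq, mul_inv_cancel_right] at this
    have h1 : Commute t z := mul_inv_eq_iff_eq_mul.1 hzz
    exact ⟨Subgroup.mem_centralizer_singleton_iff.2 h1.eq,
      by simpa using h1.inv_right.mul_right ht⟩
  have hcard : Nat.card (Subgroup.centralizer ({z * (y' : G)} : Set G)) =
      Nat.card (Subgroup.centralizer ({y'} : Set (Cz z))) := by
    refine Nat.card_congr
      { toFun := fun g => ⟨⟨g.1, (hcent (Subgroup.mem_centralizer_singleton_iff.1 g.2)).1⟩,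
          Subgroup.mem_centralizer_singleton_iff.2
            (Subtype.ext (hcent (Subgroup.mem_centralizer_singleton_iff.1 g.2)).2.eq)⟩
        invFun := fun t => ⟨(t.1 : G), Subgroup.mem_centralizer_singleton_iff.2
          ((hcomm t.1).symm.mul_right (congrArg Subtype.val (Subgroup.mem_centralizer_singleton_iff.1 t.2) :
            Commute (t.1 : G) (y' : G))).eq⟩
        left_inv := fun g => rfl
        right_inv := fun t => rfl }
  have hcol : ∀ c : (Cz z),
      (∑ χ : IrrCharacter G, (χ : G → ℂ) (z * (c : G)) * conj ((χ : G → ℂ) (z * (y' : G)))) * Φ c =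
        (∑ η : IrrCharacter (Cz z), (η : (Cz z) → ℂ) c * conj ((η : (Cz z) → ℂ) y')) * Φ y' := by
    intro c
    rw [sum_irr_mul_conj, sum_irr_mul_conj]
    by_cases hc : IsConj c y'
    · obtain ⟨t, ht⟩ := isConj_iff.1 hc
      have hc' : IsConj (z * (c : G)) (z * (y' : G)) := by
        refine isConj_iff.2 ⟨(t : G), ?_⟩
        rw [← ht, Subgroup.coe_mul, Subgroup.coe_mul, Subgroup.coe_inv, ← mul_assoc, ← (hcomm t).eq]
        simp only [mul_assoc]
      rw [if_pos hc, if_pos hc', hcard]
      congr 1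
      simp only [hΦdef]
      refine Finset.sum_congr rfl fun ξ _ => ?_
      rw [IsClass.eq_of_isConj (irr_classFun ξ) hc]
    · rw [if_neg hc, zero_mul]
      by_cases hcreg : p ∣ orderOf c
      · rw [hΦ c hcreg, mul_zero]
      · rw [if_neg, zero_mul]
        intro hconj
        obtain ⟨g, hg⟩ := isConj_iff.1 hconj
        have h1 := pPart_conj (hpp hcreg) g
        rw [hg] at h1
        have hgz := pPart_unique h1 (hpp hy')
        refine hc (isConj_iff.2 ⟨⟨g, Subgroup.mem_centralizer_singleton_iff.2 (mul_inv_eq_iff_eq_mul.1 hgz)⟩,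
          Subtype.ext ?_⟩)
        show g * (c : G) * g⁻¹ = y'
        refine mul_left_cancel (a := z) (Eq.trans ?_ hg)
        calc z * (g * (c : G) * g⁻¹) = g * z * g⁻¹ * (g * c * g⁻¹) := by rw [hgz]
          _ = g * (z * c) * g⁻¹ := by group
  rw [Finset.sum_congr rfl fun c _ => hcol c, ← Finset.sum_mul, Finset.sum_comm,
    Finset.sum_eq_single (trivialIrr (Cz z))]
  · simp only [trivialIrr, map_one, mul_one, Finset.sum_const, Finset.card_univ, nsmul_eq_mul,
      ← Nat.card_eq_fintype_card]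
    rw [← mul_assoc, inv_mul_cancel₀ (Nat.cast_ne_zero.2 Nat.card_pos.ne'), one_mul]
  · intro η _ hη
    have h := classInner_irr_ne η.2 isIrr_one fun h => hη (Subtype.ext h)
    rw [classInner, mul_eq_zero] at h
    rcases h with h | h
    · simp at h
    · rw [← Finset.sum_mul]
      simp only [map_one, mul_one] at h
      rw [h, zero_mul]
  · exact fun h => absurd (Finset.mem_univ _) h

section Quotient

variable {K : Type v} [Group K] [Fintype K]

theorem regular_map (π : G →* K) (hodd : ¬ p ∣ Nat.card π.ker) (g : G) :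
    p ∣ orderOf g ↔ p ∣ orderOf (π g) := by
  refine ⟨fun h => ?_, fun h => h.trans (orderOf_map_dvd π g)⟩
  have hmem : g ^ orderOf (π g) ∈ π.ker := by rw [MonoidHom.mem_ker, map_pow, pow_orderOf_eq_one]
  have hdvd : orderOf g ∣ orderOf (π g) * Nat.card π.ker := by
    refine orderOf_dvd_of_pow_eq_one ?_
    rw [pow_mul]
    exact congrArg Subtype.val (pow_card_eq_one' (x := (⟨_, hmem⟩ : π.ker)))
  exact ((Fact.out : p.Prime).dvd_mul.1 (h.trans hdvd)).resolve_right hodd

/-- The pullback of an irreducible character. -/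
noncomputable def pullIrr (π : G →* K) (surj : Function.Surjective π) (ψ : IrrCharacter K) : IrrCharacter G :=
  ⟨fun g => (ψ : K → ℂ) (π g), IsIrr.comp_surjective π surj ψ.2⟩

theorem pullIrr_mem (hM : IsPModular p M) (π : G →* K) (surj : Function.Surjective π)
    (hodd : ¬ p ∣ Nat.card π.ker) (ψ : IrrCharacter K) :
    pullIrr π surj ψ ∈ principalBlock M G ↔ ψ ∈ principalBlock M K := by
  rw [PrinCol.mem_principal_iff hM, PrinCol.mem_principal_iff hM]
  have e : PrinCol.regTot p (pullIrr π surj ψ : G → ℂ) = (Nat.card π.ker : ℂ) * PrinCol.regTot p (ψ : K → ℂ) := by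
    rw [PrinCol.regTot, PrinCol.regTot, Finset.sum_filter, Finset.sum_filter,
      ← sum_comp_surjective π surj (fun q => if ¬ p ∣ orderOf q then (ψ : K → ℂ) q else 0)]
    exact Finset.sum_congr rfl fun g _ => if_congr (not_congr (regular_map π hodd g)) rfl rfl
  rw [e, mul_ne_zero_iff, and_iff_right (Nat.cast_ne_zero.2 Nat.card_pos.ne')]

/-- The kernel is that of the image. -/
theorem blockKer_map (hM : IsPModular p M) (π : G →* K) (surj : Function.Surjective π)
    (hodd : ¬ p ∣ Nat.card π.ker) (g h : G) : blockKer M g h = blockKer M (π g) (π h) := by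
  symm
  refine Finset.sum_bij (fun ψ _ => pullIrr π surj ψ) (fun ψ hψ => ?_) (fun a _ b _ e => ?_) (fun χ hχ => ?_)
    (fun ψ _ => rfl)
  · exact Finset.mem_filter.2 ⟨Finset.mem_univ _, (pullIrr_mem hM π surj hodd ψ).2 (Finset.mem_filter.1 hψ).2⟩
  · refine Subtype.ext (funext fun q => ?_)
    obtain ⟨x, rfl⟩ := surj q
    exact congrFun (congrArg Subtype.val e) x
  · have hχ' := (Finset.mem_filter.1 hχ).2
    obtain ⟨ψ, hψ, hval⟩ := IsIrr.exists_factor_quotient χ.2 π.ker
      (fun l hl => principal_ker_of_coprime hM hodd hχ' hl)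
    let e := QuotientGroup.quotientKerEquivOfSurjective π surj
    let ψ' : IrrCharacter K := ⟨fun q => ψ (e.symm q), IsIrr.comp_surjective e.symm.toMonoidHom e.symm.surjective hψ⟩
    have hex : pullIrr π surj ψ' = χ := Subtype.ext (funext fun x => by
      show ψ (e.symm (π x)) = _
      rw [show e.symm (π x) = (x : G ⧸ π.ker) from e.symm_apply_eq.2 rfl]
      exact hval x)
    exact ⟨ψ', Finset.mem_filter.2 ⟨Finset.mem_univ _,
      (pullIrr_mem hM π surj hodd ψ').1 (hex.symm ▸ hχ')⟩, hex⟩

end Quotient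

end Cfsg.Agent.Invol.AbgOrder
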