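import Cfsg.Agent.Lib.Invol.AbgOrder.OrdSdFuns
import Cfsg.Agent.Lib.Block.CentralDefect
import Cfsg.Agent.Lib.Block.SL2Char.Count

/-!
# Functions on the section of the central involution in the semidihedral case

Let `Θ` run over the characters of `2`-power order of the cyclic group, `f₀ = 1-S-λ+λS`, `f₁ = 1+λS-I(1,λ)`,
`f_θ = 1-S-R_θ`.  On the elements of even order `f₀ - 2 f₁` and `∑_{θ regular} θ(e) f_θ + 2 f₁` vanish outside the
section of `z`, where they are `-4(1+S)` and `4(1+S) + b(1-S)`, `b ≠ 0`.  A function which is `α + β S` on this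
section and orthogonal to them all vanishes at `z`.
-/

set_option autoImplicit false
set_option linter.unusedSectionVars false
set_option linter.style.haveILetI false
set_option maxHeartbeats 1000000

open scoped ComplexConjugate Classical

namespace Cfsg.Agent.Invol.AbgOrder

open Cfsg Cfsg.Agent.Char Cfsg.Agent.Block
open Cfsg.Agent.Invol.BrauerL3 (scal Tbl mem_scal SgnIrr exists_lam exists_theta_two)
open Cfsg.Agent.Block.SL2Char (cv)

universe u v w

variable {N : Type u} [Group N] [Fintype N] {H : Type v} [Group H] {K : Type w} [CommGroup K] {Q : ℤ}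

/-- The characters of `K` that are trivial on the elements of odd order. -/
def TwoChar (θ : K →* ℂˣ) : Prop := ∀ x : K, Odd (orderOf x) → θ x = 1

/-- The regular ones. -/
def RegChar (Q : ℤ) (θ : K →* ℂˣ) : Prop := TwoChar θ ∧ ∃ l, θ (l ^ Q) ≠ θ l

/-- An odd power of a square root of one. -/
theorem zpow_odd_sq {A : Type*} [Group A] {a : A} (h : a * a = 1) {n : ℤ} (hn : Odd n) : a ^ n = a := by
  obtain ⟨m, rfl⟩ := hn
  rw [zpow_add_one, mul_comm (2 : ℤ) m, zpow_mul', zpow_two, h, one_zpow, one_mul]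

namespace NSys

variable (Y : NSys N H K Q)
include Y

/-- A scalar has odd order or odd order times the involution. -/
theorem scal_split [Finite K] (hQ : Q % 4 = 3) {lam : scal K Q →* ℂˣ} (hlodd : ∀ x, Odd (orderOf x) → lam x = 1)
    (hle : lam Y.e = -1) (a : scal K Q) :
    (Odd (orderOf a) ∧ lam a = 1) ∨ (Odd (orderOf (Y.e * a)) ∧ lam a = -1) := by
  haveI := Y.T.cyc
  obtain ⟨i, o, ho, hio⟩ := Nat.exists_eq_two_pow_mul_odd (orderOf_pos a).ne'
  have h2 : (a ^ o) ^ 2 ^ i = 1 := by rw [← pow_mul, mul_comm, ← hio, pow_orderOf_eq_one]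
  rcases Y.two_eq hQ ⟨i, h2⟩ with h | h
  · have := ho.of_dvd_nat (orderOf_dvd_of_pow_eq_one h)
    exact Or.inl ⟨this, hlodd a this⟩
  · have h' : (Y.e * a) ^ o = 1 := by
      obtain ⟨m, rfl⟩ := ho
      rw [mul_pow, h, pow_succ, pow_mul, sq, Y.e_sq, one_pow, one_mul, Y.e_sq]
    have := ho.of_dvd_nat (orderOf_dvd_of_pow_eq_one h')
    refine Or.inr ⟨this, ?_⟩
    have h3 := hlodd _ this
    rw [map_mul, hle] at h3
    calc lam a = -(-1 * lam a) := by rw [neg_one_mul, neg_neg]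
      _ = -1 := by rw [h3]

variable {θ₂ : K →* ℂˣ}

/-- A character of order `2` on the whole group. -/
theorem norm_char [Finite K] {lam : scal K Q →* ℂˣ} {g : scal K Q} (hg : lam g = -1) :
    ∃ θn : K →* ℂˣ, θn ≠ 1 ∧ ∀ (l : K) (h : l * l ^ Q ∈ scal K Q), θn l = lam ⟨l * l ^ Q, h⟩ := by
  haveI := Y.T.cyc
  have hmem : ∀ l : K, l * l ^ Q ∈ scal K Q := fun l => by rw [← Y.T.dt_E]; exact Subtype.coe_prop _
  let nm : K →* scal K Q :=
    { toFun := fun l => ⟨l * l ^ Q, hmem l⟩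
      map_one' := Subtype.ext (by simp)
      map_mul' := fun a b => Subtype.ext (by simp [mul_zpow, mul_mul_mul_comm]) }
  refine ⟨lam.comp nm, fun h => ?_, fun l hl => rfl⟩
  obtain ⟨x, hx⟩ := IsCyclic.exists_ofOrder_eq_natCard (α := K)
  -- the norm is onto
  have hon : Function.Surjective nm := by
    rw [← MonoidHom.range_eq_top]
    refine Subgroup.eq_top_of_le_card _ ?_
    have h1 : orderOf (nm x) ∣ Nat.card nm.range := Subgroup.orderOf_dvd_natCard _ ⟨x, rfl⟩
    refine le_trans ?_ (Nat.le_of_dvd Nat.card_pos h1)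
    rw [← Subgroup.orderOf_coe]
    show Nat.card (scal K Q) ≤ orderOf (x * x ^ Q)
    rw [BrauerL3.natAbs_card_scal Y.T.card]
    have h2 : (x * x ^ Q) ^ orderOf (x * x ^ Q) = 1 := pow_orderOf_eq_one _
    rw [← zpow_one_add, ← zpow_natCast, ← zpow_mul, ← orderOf_dvd_iff_zpow_eq_one, hx, Y.T.card] at h2
    have h3 : (Q - 1) * (1 + Q) ∣ (orderOf (x * x ^ Q) : ℤ) * (1 + Q) := by
      rw [← zpow_one_add, show (Q - 1) * (1 + Q) = Q ^ 2 - 1 by ring, mul_comm]
      exact h2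
    have h4 := Int.natAbs_dvd_natAbs.2 (Int.dvd_of_mul_dvd_mul_right (by have := Y.T.ne_neg_one; omega) h3)
    rw [Int.natAbs_natCast] at h4
    exact Nat.le_of_dvd (orderOf_pos _) h4
  obtain ⟨y, hy⟩ := hon g
  have := congrArg Units.val (DFunLike.congr_fun h y)
  simp only [MonoidHom.comp_apply, hy, hg, MonoidHom.one_apply, Units.val_one, Units.val_neg] at this
  norm_num at this

/-- The characters of `2`-power order that are not regular: `1` and the one through the norm. -/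
theorem not_reg [Finite K] (hQ : Q % 4 = 3) {θn : K →* ℂˣ} (hn : θn ≠ 1) (hn2 : ∀ l, θn l * θn l = 1)
    {θ : K →* ℂˣ} (hθ : TwoChar θ) (hreg : ¬ ∃ l, θ (l ^ Q) ≠ θ l) : θ = 1 ∨ θ = θn := by
  haveI := Y.T.cyc
  push Not at hreg
  obtain ⟨g, hg⟩ := IsCyclic.exists_generator (α := K)
  obtain ⟨i, o, ho, hio⟩ := Nat.exists_eq_two_pow_mul_odd (orderOf_pos g).ne'
  have h1 : θ g ^ 2 ^ i = 1 := by
    have h := hθ (g ^ 2 ^ i) (ho.of_dvd_nat (orderOf_dvd_of_pow_eq_one (by
      rw [← pow_mul, ← hio, pow_orderOf_eq_one])))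
    rwa [map_pow] at h
  have h2 : θ g ^ (Q - 1) = 1 := by rw [zpow_sub_one, ← map_zpow, hreg, mul_inv_cancel]
  have hsq : θ g * θ g = 1 := by
    have e1 : (orderOf (θ g) : ℤ) ∣ Q - 1 := orderOf_dvd_iff_zpow_eq_one.2 h2
    obtain ⟨j, -, hj⟩ := (Nat.dvd_prime_pow Nat.prime_two).1 (orderOf_dvd_of_pow_eq_one h1)
    have hj1 : j ≤ 1 := by
      by_contra hc
      have : ((2 : ℤ) ^ 2) ∣ Q - 1 :=
        (pow_dvd_pow 2 (show 2 ≤ j by omega)).trans (by rw [hj] at e1; exact_mod_cast e1)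
      omega
    rw [← sq, ← orderOf_dvd_iff_pow_eq_one, hj]
    exact (pow_dvd_pow 2 hj1).trans (by rw [pow_one])
  have ext : ∀ φ : K →* ℂˣ, θ g = φ g → θ = φ := fun φ h => MonoidHom.ext fun x => by
    obtain ⟨m, rfl⟩ := Subgroup.mem_zpowers_iff.1 (hg x)
    rw [map_zpow, map_zpow, h]
  have two : ∀ u : ℂˣ, u * u = 1 → u = 1 ∨ u = -1 := fun u h => by
    have h' : (u : ℂ) * u = 1 := by rw [← Units.val_mul, h, Units.val_one]
    rcases mul_self_eq_one_iff.1 h' with e | e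
    · exact Or.inl (Units.ext e)
    · exact Or.inr (Units.ext (by rw [e]; rfl))
  rcases two _ hsq with h | h
  · exact Or.inl (ext 1 (h.trans rfl))
  · refine Or.inr (ext θn (h.trans ((two _ (hn2 g)).resolve_left fun h' => hn ?_).symm))
    exact MonoidHom.ext fun x => by
      obtain ⟨m, rfl⟩ := Subgroup.mem_zpowers_iff.1 (hg x)
      rw [map_zpow, h', one_zpow, MonoidHom.one_apply]

/-- An element not of odd order is seen by the faithful character. -/
theorem theta_two_ne [Finite K] {eK : K} (heK : ∀ x : K, Even (orderOf x) → x ^ (orderOf x / 2) = eK)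
    (hte : θ₂ eK = -1) {y : K} (hy : ¬ Odd (orderOf y)) : θ₂ y ≠ 1 := fun h => by
  have h1 := congrArg θ₂ (heK y (Nat.not_odd_iff_even.1 hy))
  rw [map_pow, h, one_pow, hte] at h1
  have := congrArg Units.val h1
  norm_num at this

/-- **The two functions on the section of `z`**: a function `α + β S` there orthogonal to them vanishes at `z`. -/
theorem sd_zero (hQ : Q % 4 = 3) (S : Split Y) {σ : N → ℂ} (hσ : SgnIrr N σ) (hσv : ∀ g, σ (Y.π g) = Y.T.St g)
    {lam : scal K Q →* ℂˣ} (hlodd : ∀ x, Odd (orderOf x) → lam x = 1) (hle : lam Y.e = -1)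
    (hl2 : ∀ x, lam x * lam x = 1) {g₀ : scal K Q} (hg₀ : lam g₀ = -1) {f0 f1 : N → ℂ}
    (h0 : ∀ g, f0 (Y.π g) = 1 - Y.T.St g - (lam (Y.T.dt g) : ℂ) + (lam (Y.T.dt g) : ℂ) * Y.T.St g)
    (h1 : ∀ g, f1 (Y.π g) = 1 + (lam (Y.T.dt g) : ℂ) * Y.T.St g - Y.T.PS 1 lam g) (hc0 : IsClassFunction N f0)
    (hc1 : IsClassFunction N f1) (hv0 : OddVanish f0) (hv1 : OddVanish f1) {fθ : (K →* ℂˣ) → N → ℂ}
    (hθ : ∀ θ, RegChar Q θ → (∀ g, fθ θ (Y.π g) = 1 - Y.T.St g - Y.T.DS θ g) ∧ IsClassFunction N (fθ θ) ∧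
      OddVanish (fθ θ))
    {δ : N → ℂ} {α β : ℂ} (hcol : ∀ v, ¬ 2 ∣ orderOf v → δ (S.τ (Y.e, Y.e) * v) = α + β * σ v)
    (L : (N → ℂ) →ₗ[ℂ] ℂ)
    (hL : ∀ f : N → ℂ, IsClassFunction N f → (∀ n, f n ≠ 0 → ¬ 2 ∣ orderOf (S.τ (Y.e, Y.e) * n)) →
      L f = classInner f δ)
    (o0 : L f0 = 0) (o1 : L f1 = 0) (oθ : ∀ θ, RegChar Q θ → L (fθ θ) = 0) :
    δ (S.τ (Y.e, Y.e)) = 0 := by
  haveI := Y.T.finiteK
  haveI := Y.T.cyc
  haveI := Fintype.ofFinite K
  haveI : Fact (Nat.Prime 2) := ⟨Nat.prime_two⟩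
  set zN := S.τ (Y.e, Y.e) with hzN
  have hzz : zN * zN = 1 := BrauerL3.mul_self_of_two S.zN_order
  obtain ⟨c₀, hc₀⟩ := S.conj (Y.e, Y.e)
  have hπe : Y.π (Y.T.D (Y.e, Y.e)) = zN := by
    have h := Subgroup.mem_center_iff.1 (S.diag_central Y.e) c₀
    rw [← hc₀] at h
    have := mul_left_cancel (h.trans (by group : c₀ * Y.π (Y.T.D (Y.e, Y.e)) * c₀⁻¹ * c₀ =
      c₀ * Y.π (Y.T.D (Y.e, Y.e))))
    rw [← this, hzN]
    exact hc₀
  -- the Steinberg character does not see `z`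
  have hSQ : σ zN = Q ∧ σ 1 = Q := by
    refine ⟨by rw [← hπe, hσv, Y.T.St_sc], ?_⟩
    rw [← map_one Y.π, hσv, Y.T.St_one]
  have hσz : ∀ n : N, σ (zN * n) = σ n := fun n => by
    obtain ⟨χ, s, hs, -, rfl⟩ := exists_sign hσ
    simp only [Pi.smul_apply, smul_eq_mul] at hSQ ⊢
    rw [char_center_mul χ (S.diag_central Y.e) n, ← hzN,
      mul_left_cancel₀ (left_ne_zero_of_mul_eq_one hs) (hSQ.1.trans hSQ.2.symm), div_self (irr_one_ne_zero χ),
      one_mul]
  have hσr : ∀ n : N, conj (σ n) = σ n := fun n => by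
    obtain ⟨h, rfl⟩ := Y.surj n
    rw [hσv]
    rcases Y.T.cover h with ⟨x, hx⟩ | ⟨⟨x, y⟩, hx⟩ | ⟨l, hl, hx⟩ <;> obtain ⟨c, rfl⟩ := isConj_iff.1 hx <;>
      rw [Y.T.St_irr.classFun]
    · rw [Y.T.St_U, map_zero]
    · by_cases e : x = y
      · subst e; rw [Y.T.St_sc, map_intCast]
      · rw [Y.T.St_D x y e, map_one]
    · rw [Y.T.St_E l hl, map_neg, map_one]
  obtain ⟨θ₂, h2odd, h2e, h2r, -⟩ := exists_theta_two Y.T.odd Y.T.ne_one Y.T.ne_neg_one Y.T.card
  obtain ⟨e', he'1, he'2, he'u, he'p⟩ := Y.T.exists_e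
  have hee : Y.e = e' := (he'u Y.e (congrArg Subtype.val Y.e_sq)).elim
    (fun h => absurd (Subtype.ext h) Y.e_ne) fun h => Subtype.ext h
  subst hee
  have heK : (Y.e : K) ≠ 1 := fun h => Y.e_ne (Subtype.ext h)
  have heK2 : (Y.e : K) * Y.e = 1 := congrArg Subtype.val Y.e_sq
  have ht2 : θ₂ (Y.e : K) = -1 := h2e _ heK heK2
  obtain ⟨θn, hn1, hnv⟩ := Y.norm_char hg₀
  have hmem : ∀ l : K, l * l ^ Q ∈ scal K Q := fun l => by rw [← Y.T.dt_E]; exact Subtype.coe_prop _
  have hnd : ∀ l, θn l = lam (Y.T.dt (Y.T.E l)) := fun l => by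
    rw [hnv l (hmem l)]
    exact congrArg lam (Subtype.ext (Y.T.dt_E l).symm)
  have hn2 : ∀ l, θn l * θn l = 1 := fun l => by rw [hnv l (hmem l)]; exact hl2 _
  have hdte : Y.T.dt (Y.T.E (Y.e : K)) = 1 := by rw [Y.T.E_eq, Y.T.dt_D, Y.e_sq]
  have hne : θn (Y.e : K) = 1 := by rw [hnd, hdte, map_one]
  -- sums over the regular characters
  set R := Finset.univ.filter (fun θ : K →* ℂˣ => RegChar Q θ) with hR
  set A := Finset.univ.filter (fun θ : K →* ℂˣ => TwoChar θ) with hA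
  have hnA : TwoChar θn := fun x hx => by
    rw [hnd]
    exact hlodd _ ((show Odd (orderOf (Y.T.E x)) by rwa [orderOf_injective _ Y.T.E_inj]).of_dvd_nat
      (orderOf_map_dvd _ _))
  have hRA : ∀ φ : (K →* ℂˣ) → ℂ, ∑ θ ∈ A, φ θ = φ 1 + φ θn + ∑ θ ∈ R, φ θ := by
    intro φ
    have e : A = insert 1 (insert θn R) := by
      ext θ
      simp only [hA, hR, Finset.mem_insert, Finset.mem_filter, Finset.mem_univ, true_and]
      refine ⟨fun h => ?_, fun h => ?_⟩
      · by_cases hr : ∃ l, θ (l ^ Q) ≠ θ l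
        · exact Or.inr (Or.inr ⟨h, hr⟩)
        · exact (Y.not_reg hQ hn1 hn2 h hr).imp_right Or.inl
      · rcases h with rfl | rfl | h
        · exact fun x _ => rfl
        · exact hnA
        · exact h.1
    have n1 : (1 : K →* ℂˣ) ∉ insert θn R := by
      simp only [hR, Finset.mem_insert, Finset.mem_filter, Finset.mem_univ, true_and, not_or]
      exact ⟨Ne.symm hn1, fun h => by obtain ⟨l, hl⟩ := h.2; exact hl rfl⟩
    have n2 : θn ∉ R := fun h => by
      obtain ⟨l, hl⟩ := (Finset.mem_filter.1 h).2.2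
      exact hl (by rw [map_zpow, zpow_odd_sq (hn2 l) Y.T.odd])
    rw [e, Finset.sum_insert n1, Finset.sum_insert n2, add_assoc]
  have hsum : ∀ y : K, ¬ Odd (orderOf y) → ∑ θ ∈ A, (θ y : ℂ) = 0 := fun y hy => by
    have h : ∑ θ ∈ A, (θ y : ℂ) = (θ₂ y : ℂ) * ∑ θ ∈ A, (θ y : ℂ) := by
      rw [Finset.mul_sum]
      refine (Finset.sum_bij (fun θ _ => θ₂ * θ) (fun θ h => ?_) (fun a _ b _ e => mul_left_cancel e)
        (fun θ h => ⟨θ₂⁻¹ * θ, ?_, MonoidHom.ext fun x => by simp⟩) (fun θ _ => by simp)).symm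
      · simp only [hA, Finset.mem_filter, Finset.mem_univ, true_and] at h ⊢
        intro x hx
        rw [MonoidHom.mul_apply, h x hx, h2odd x hx, mul_one]
      · simp only [hA, Finset.mem_filter, Finset.mem_univ, true_and] at h ⊢
        intro x hx
        rw [MonoidHom.mul_apply, MonoidHom.inv_apply, h x hx, h2odd x hx, inv_one, mul_one]
    by_contra hne0
    exact Y.theta_two_ne he'p ht2 hy (Units.ext (mul_right_cancel₀ hne0 (h.symm.trans (one_mul _).symm)))
  have heodd : ¬ Odd (orderOf (Y.e : K)) := by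
    rw [orderOf_eq_prime (by rw [sq, heK2]) heK]
    decide
  set b : ℂ := ∑ θ ∈ R, ((θ (Y.e : K) : ℂ) - 1) with hb
  have hse : ∑ θ ∈ R, (θ (Y.e : K) : ℂ) = -2 := by
    have h := hRA (fun θ => (θ (Y.e : K) : ℂ))
    rw [hsum _ heodd, hne] at h
    simp only [MonoidHom.one_apply, Units.val_one] at h
    linear_combination -h
  have hb0 : b ≠ 0 := by
    rw [hb, Finset.sum_sub_distrib, hse, Finset.sum_const, nsmul_one]
    intro h
    have h' : ((R.card + 2 : ℕ) : ℂ) = 0 := by push_cast; linear_combination -h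
    have := Nat.cast_eq_zero.1 h'
    omega
  have hsq : ∀ θ : K →* ℂˣ, (θ (Y.e : K) : ℂ) * θ (Y.e : K) = 1 := fun θ => by
    rw [← Units.val_mul, ← map_mul, heK2, map_one, Units.val_one]
  set G1 : N → ℂ := fun n => f0 n - 2 * f1 n with hG1
  set G2 : N → ℂ := fun n => ∑ θ ∈ R, (θ (Y.e : K) : ℂ) * fθ θ n + 2 * f1 n with hG2
  have lin : ∀ (n : N) (c : ℂ), (∀ θ ∈ R, fθ θ n = (1 - (θ (Y.e : K) : ℂ)) * c) → G2 n = 2 * f1 n + b * c :=
    fun n c h => by
    simp only [hG2, hb, Finset.sum_mul]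
    rw [add_comm]
    exact congrArg _ (Finset.sum_congr rfl fun θ hθR => by rw [h θ hθR]; linear_combination -c * hsq θ)
  have hReg : ∀ θ ∈ R, RegChar Q θ := fun θ h => (Finset.mem_filter.1 h).2
  -- the values
  have key : ∀ n : N, 2 ∣ orderOf n → (¬ 2 ∣ orderOf (zN * n) ∧ G1 n = -4 * (1 + σ n) ∧
      G2 n = 4 * (1 + σ n) + b * (1 - σ n)) ∨ (2 ∣ orderOf (zN * n) ∧ G1 n = 0 ∧ G2 n = 0) := by
    intro n hn
    obtain ⟨h, rfl⟩ := Y.surj n
    have ev : ∀ r, IsConj r h → orderOf (Y.π r) = orderOf (Y.π h) ∧ orderOf (zN * Y.π r) = orderOf (zN * Y.π h) ∧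
        f0 (Y.π r) = f0 (Y.π h) ∧ f1 (Y.π r) = f1 (Y.π h) ∧ σ (Y.π r) = σ (Y.π h) ∧
        ∀ θ ∈ R, fθ θ (Y.π r) = fθ θ (Y.π h) := fun r hr => by
      obtain ⟨c, rfl⟩ := isConj_iff.1 hr
      simp only [map_mul, map_inv]
      refine ⟨(by rw [← MulAut.conj_apply, MulEquiv.orderOf_eq]), ?_, (hc0 _ _).symm, (hc1 _ _).symm,
        (hσ.classFun _ _).symm, fun θ hθR => ((hθ θ (hReg θ hθR)).2.1 _ _).symm⟩
      rw [show zN * (Y.π c * Y.π r * (Y.π c)⁻¹) = Y.π c * (zN * Y.π r) * (Y.π c)⁻¹ by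
        rw [← mul_assoc, ← mul_assoc, ← mul_assoc, Subgroup.mem_center_iff.1 (S.diag_central Y.e) (Y.π c)],
        ← MulAut.conj_apply, MulEquiv.orderOf_eq]
    have tr : ∀ {k : ℕ} {r : H}, orderOf r ∣ k → Odd k → ¬ 2 ∣ orderOf (Y.π r) := fun hd hk h' =>
      Nat.not_even_iff_odd.2 hk (even_iff_two_dvd.2 (h'.trans ((orderOf_map_dvd _ _).trans hd)))
    have od : ∀ {r : H}, ¬ 2 ∣ orderOf (Y.π r) → Odd (orderOf r) := fun {r} hr => by
      have hk : (r ^ orderOf (Y.π r)) ^ Nat.card Y.π.ker = 1 :=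
        orderOf_dvd_iff_pow_eq_one.1 (Subgroup.orderOf_dvd_natCard _
          (MonoidHom.mem_ker.2 (by rw [map_pow, pow_orderOf_eq_one])))
      rw [← pow_mul] at hk
      exact ((Nat.not_even_iff_odd.1 fun h' => hr h'.two_dvd).mul Y.ker_odd).of_dvd_nat
        (orderOf_dvd_of_pow_eq_one hk)
    have trz : ∀ {k : ℕ} {r : H}, (Y.T.D (Y.e, Y.e) * r) ^ k = 1 → Odd k → ¬ 2 ∣ orderOf (zN * Y.π r) :=
      fun {k r} hd hk => by
        rw [← hπe, ← map_mul]
        exact tr (orderOf_dvd_of_pow_eq_one hd) hk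
    rcases Y.T.cover h with ⟨a, ha⟩ | ⟨⟨a, c⟩, ha⟩ | ⟨l, hl, ha⟩ <;> obtain ⟨o1', o2', e0, e1, es, et⟩ := ev _ ha
    · -- unipotent times scalar
      obtain ⟨k, hk, hU⟩ := Y.T.U_pow a
      rcases Y.scal_split hQ hlodd hle a with ⟨hao, hla⟩ | ⟨hao, hla⟩
      · refine absurd hn ?_
        rw [← o1']
        refine tr (orderOf_dvd_of_pow_eq_one (n := k * orderOf a) ?_) (hk.mul hao)
        rw [pow_mul, hU, ← map_pow, Prod.pow_mk, ← pow_mul, mul_comm, pow_mul, pow_orderOf_eq_one, one_pow]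
        exact Y.T.D_one
      · left
        refine ⟨?_, ?_⟩
        · rw [← o2']
          refine trz (k := k * orderOf (Y.e * a)) ?_ (hk.mul hao)
          rw [(show Commute (Y.T.D (Y.e, Y.e)) (Y.T.U a) from
            (Subgroup.mem_center_iff.1 (Y.T.D_center Y.e) _).symm).mul_pow, pow_mul (Y.T.U a), hU, ← map_pow,
            ← map_pow, ← map_mul, Prod.pow_mk, Prod.pow_mk, Prod.mk_mul_mk, ← pow_mul, ← mul_pow, mul_comm k,
            pow_mul, pow_orderOf_eq_one, one_pow]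
          exact Y.T.D_one
        have h1l : (1 : scal K Q →* ℂˣ) ≠ lam := fun h' => by
          have := congrArg Units.val (DFunLike.congr_fun h' Y.e)
          rw [hle] at this
          norm_num at this
        have hd : lam (Y.T.dt (Y.T.U a)) = 1 := by rw [Y.T.dt_U, map_mul, hla, neg_mul_neg, one_mul]
        have v0 : f0 (Y.π h) = 0 := by rw [← e0, h0, Y.T.St_U, hd, Units.val_one]; ring
        have v1 : f1 (Y.π h) = 2 := by
          rw [← e1, h1, Y.T.St_U, Y.T.PS_U _ _ a h1l]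
          simp [cv, hla]
          norm_num
        have vs : σ (Y.π h) = 0 := by rw [← es, hσv, Y.T.St_U]
        refine ⟨by rw [hG1, vs]; simp only [v0, v1]; ring, ?_⟩
        rw [lin _ 1 fun θ hθR => ?_, v1, vs]
        · ring
        rw [← et θ hθR, (hθ θ (hReg θ hθR)).1, Y.T.St_U, Y.T.DS_U θ a (hReg θ hθR).2]
        have : θ (a : K) = θ (Y.e : K) := by
          have h' := (hReg θ hθR).1 ((Y.e * a : scal K Q) : K) (by rwa [Subgroup.orderOf_coe])
          rw [Subgroup.coe_mul, map_mul] at h'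
          rw [eq_inv_of_mul_eq_one_right h']
          exact inv_eq_of_mul_eq_one_right (by rw [← map_mul, heK2, map_one])
        simp [cv, this]
    · -- split torus
      have hod : ∀ {x y : scal K Q}, Odd (orderOf x) → Odd (orderOf y) →
          ¬ 2 ∣ orderOf (Y.π (Y.T.D (x, y))) := fun {x y} hx hy =>
        tr (orderOf_dvd_of_pow_eq_one (n := orderOf x * orderOf y) (by
          rw [← map_pow, Prod.pow_mk, pow_mul, pow_orderOf_eq_one, one_pow, mul_comm, pow_mul, pow_orderOf_eq_one,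
            one_pow]
          exact Y.T.D_one)) (hx.mul hy)
      have h1l : (1 : scal K Q →* ℂˣ) ≠ lam := fun h' => by
        have := congrArg Units.val (DFunLike.congr_fun h' Y.e)
        rw [hle] at this
        norm_num at this
      rcases Y.scal_split hQ hlodd hle a with ⟨hao, hla⟩ | ⟨hao, hla⟩ <;>
        rcases Y.scal_split hQ hlodd hle c with ⟨hco, hlc⟩ | ⟨hco, hlc⟩
      · exact absurd (o1' ▸ hn) (hod hao hco)
      rotate_left 2
      · -- both in the coset of `e`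
        left
        refine ⟨?_, ?_⟩
        · rw [← o2', ← hπe, ← map_mul, ← map_mul, Prod.mk_mul_mk]
          exact hod hao hco
        have hd : lam (Y.T.dt (Y.T.D (a, c))) = 1 := by rw [Y.T.dt_D, map_mul, hla, hlc, neg_mul_neg, one_mul]
        by_cases hac : a = c
        · subst hac
          have v0 : f0 (Y.π h) = 0 := by rw [← e0, h0, Y.T.St_sc, hd, Units.val_one]; ring
          have v1 : f1 (Y.π h) = 2 * (1 + Q) := by
            rw [← e1, h1, Y.T.St_sc, hd, Y.T.PS_sc _ _ a h1l]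
            simp [cv, hla]
            ring
          have vs : σ (Y.π h) = Q := by rw [← es, hσv, Y.T.St_sc]
          refine ⟨by rw [hG1, vs]; simp only [v0, v1]; ring, ?_⟩
          rw [lin _ (1 - (Q : ℂ)) fun θ hθR => ?_, v1, vs]
          · ring
          rw [← et θ hθR, (hθ θ (hReg θ hθR)).1, Y.T.St_sc, Y.T.DS_sc θ a (hReg θ hθR).2]
          have : θ (a : K) = θ (Y.e : K) := by
            have h' := (hReg θ hθR).1 ((Y.e * a : scal K Q) : K) (by rwa [Subgroup.orderOf_coe])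
            rw [Subgroup.coe_mul, map_mul] at h'
            rw [eq_inv_of_mul_eq_one_right h']
            exact inv_eq_of_mul_eq_one_right (by rw [← map_mul, heK2, map_one])
          simp [cv, this]
          ring
        · have v0 : f0 (Y.π h) = 0 := by rw [← e0, h0, Y.T.St_D a c hac, hd, Units.val_one]; ring
          have v1 : f1 (Y.π h) = 4 := by
            rw [← e1, h1, Y.T.St_D a c hac, hd, Y.T.PS_D _ _ a c h1l hac]
            simp [cv, hla, hlc]
            norm_num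
          have vs : σ (Y.π h) = 1 := by rw [← es, hσv, Y.T.St_D a c hac]
          refine ⟨by rw [hG1, vs]; simp only [v0, v1]; ring, ?_⟩
          rw [lin _ 0 fun θ hθR => ?_, v1, vs]
          · ring
          rw [← et θ hθR, (hθ θ (hReg θ hθR)).1, Y.T.St_D a c hac, Y.T.DS_D θ a c (hReg θ hθR).2 hac]
          ring
      all_goals
        right
        have hac : a ≠ c := fun h' => by
          subst h'
          have := congrArg Units.val (hla.symm.trans hlc)
          norm_num at this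
        have hd : lam (Y.T.dt (Y.T.D (a, c))) = -1 := by
          rw [Y.T.dt_D, map_mul, hla, hlc]; simp
        have v0 : f0 (Y.π h) = 0 := by rw [← e0, h0, Y.T.St_D a c hac, hd]; simp
        have v1 : f1 (Y.π h) = 0 := by
          rw [← e1, h1, Y.T.St_D a c hac, hd, Y.T.PS_D _ _ a c h1l hac]
          simp [cv, hla, hlc]
        refine ⟨?_, by rw [hG1]; simp only [v0, v1]; ring, ?_⟩
        · rw [← o2', ← hπe, ← map_mul, ← map_mul, Prod.mk_mul_mk]
          by_contra h'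
          obtain ⟨h2, h3⟩ := Y.odd_D (od h')
          have e1 := hlodd _ h2
          have e2 := hlodd _ h3
          rw [map_mul, hle, hla] at e1
          rw [map_mul, hle, hlc] at e2
          have := congrArg Units.val e1
          have := congrArg Units.val e2
          norm_num at *
        rw [lin _ 0 fun θ hθR => ?_, v1]
        · ring
        rw [← et θ hθR, (hθ θ (hReg θ hθR)).1, Y.T.St_D a c hac, Y.T.DS_D θ a c (hReg θ hθR).2 hac]
        ring
    · -- elliptic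
      have h1l : (1 : scal K Q →* ℂˣ) ≠ lam := fun h' => by
        have := congrArg Units.val (DFunLike.congr_fun h' Y.e)
        rw [hle] at this
        norm_num at this
      have v0 : f0 (Y.π h) = 2 - 2 * (θn l : ℂ) := by rw [← e0, h0, Y.T.St_E l hl, hnd]; ring
      have v1 : f1 (Y.π h) = 1 - (θn l : ℂ) := by
        rw [← e1, h1, Y.T.St_E l hl, Y.T.PS_E _ _ l h1l hl, hnd]; ring
      have vs : σ (Y.π h) = -1 := by rw [← es, hσv, Y.T.St_E l hl]
      have vt : ∀ θ ∈ R, fθ θ (Y.π h) = 2 - (θ l : ℂ) - (θ (l ^ Q) : ℂ) := fun θ hθR => by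
        rw [← et θ hθR, (hθ θ (hReg θ hθR)).1, Y.T.St_E l hl, Y.T.DS_E θ l (hReg θ hθR).2 hl]
        simp [cv]
        ring
      have hQn : θn (l ^ Q) = θn l := by rw [map_zpow, zpow_odd_sq (hn2 l) Y.T.odd]
      by_cases hlo : Odd (orderOf l)
      · refine absurd hn ?_
        rw [← o1']
        exact tr (orderOf_injective _ Y.T.E_inj l).dvd hlo
      by_cases hlz : Odd (orderOf ((Y.e : K) * l))
      · left
        refine ⟨?_, ?_⟩
        · rw [← o2']
          refine trz (k := orderOf ((Y.e : K) * l)) ?_ hlz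
          rw [← Y.T.E_eq, ← map_mul, ← map_pow, pow_orderOf_eq_one, map_one]
        have hval : ∀ θ : K →* ℂˣ, TwoChar θ → θ l = θ (Y.e : K) := fun θ hA' => by
          have h' := hA' _ hlz
          rw [map_mul] at h'
          rw [eq_inv_of_mul_eq_one_right h']
          exact inv_eq_of_mul_eq_one_right (by rw [← map_mul, heK2, map_one])
        have hln : θn l = 1 := by rw [hval θn hnA, hne]
        refine ⟨by rw [hG1, vs]; simp only [v0, v1, hln, Units.val_one]; ring, ?_⟩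
        rw [lin _ 2 fun θ hθR => ?_, v1, vs, hln, Units.val_one]
        · ring
        rw [vt θ hθR, map_zpow, hval θ (hReg θ hθR).1]
        rw [zpow_odd_sq (show θ (Y.e : K) * θ (Y.e : K) = 1 by rw [← map_mul, heK2, map_one]) Y.T.odd]
        ring
      · right
        refine ⟨?_, by rw [hG1]; simp only [v0, v1]; ring, ?_⟩
        · rw [← o2', ← hπe, ← Y.T.E_eq, ← map_mul, ← map_mul]
          by_contra h'
          have h2 := od h'
          rw [orderOf_injective _ Y.T.E_inj] at h2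
          exact hlz h2
        have hQl : ¬ Odd (orderOf ((Y.e : K) * l ^ Q)) := fun h' => hlz (h'.of_dvd_nat ?_)
        · have s1 := hRA (fun θ => (θ ((Y.e : K) * l) : ℂ))
          have s2 := hRA (fun θ => (θ ((Y.e : K) * l ^ Q) : ℂ))
          rw [hsum _ hlz] at s1
          rw [hsum _ hQl] at s2
          simp only [map_mul, Units.val_mul, MonoidHom.one_apply, Units.val_one, one_mul, hne, hQn] at s1 s2
          show ∑ θ ∈ R, (θ (Y.e : K) : ℂ) * fθ θ (Y.π h) + 2 * f1 (Y.π h) = 0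
          rw [Finset.sum_congr rfl fun θ hθR => by rw [vt θ hθR]]
          simp only [mul_sub, Finset.sum_sub_distrib, ← Finset.sum_mul, v1]
          rw [hse]
          linear_combination s1 + s2
        -- `e l` is a power of `e l ^ Q`
        rw [orderOf_dvd_iff_pow_eq_one]
        set d := orderOf ((Y.e : K) * l ^ Q)
        have hd : ((Y.e : K) * l) ^ Q = (Y.e : K) * l ^ Q := by
          rw [mul_zpow, zpow_odd_sq heK2 Y.T.odd]
        have hQQ : ((Y.e : K) * l) ^ (Q * Q) = (Y.e : K) * l := by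
          have hc : ((Y.e : K) * l) ^ (Q ^ 2 - 1) = 1 := by rw [← Y.T.card, zpow_natCast, pow_card_eq_one']
          rw [show Q * Q = (Q ^ 2 - 1) + 1 by ring, zpow_add_one, hc, one_mul]
        rw [← hQQ, zpow_mul, hd, ← zpow_natCast, ← zpow_mul, mul_comm Q, zpow_mul, zpow_natCast, pow_orderOf_eq_one,
          one_zpow]
  -- the equations
  set Z := Finset.univ.filter (fun n : N => ¬ 2 ∣ orderOf (zN * n) ∧ 2 ∣ orderOf n) with hZ
  set w : N → ℂ := fun n => conj (α + β * σ n) with hw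
  have hδ : ∀ n ∈ Z, conj (δ n) = w n := fun n hn => by
    have h := hcol _ (Finset.mem_filter.1 hn).2.1
    rw [← mul_assoc, hzz, one_mul, hσz] at h
    rw [h]
  have red : ∀ (f : N → ℂ) (pr : N → ℂ), (∀ n, ¬ 2 ∣ orderOf n → f n = 0) →
      (∀ n, 2 ∣ orderOf n → (¬ 2 ∣ orderOf (zN * n) ∧ f n = pr n) ∨ (2 ∣ orderOf (zN * n) ∧ f n = 0)) →
      classInner f δ = 0 → ∑ n ∈ Z, pr n * w n = 0 := by
    intro f pr hodd hval h
    rw [classInner, mul_eq_zero] at h
    rw [← h.resolve_left (inv_ne_zero (Nat.cast_ne_zero.2 Nat.card_pos.ne'))]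
    refine (Finset.sum_congr rfl fun n hn => ?_).trans (Finset.sum_subset (Finset.subset_univ Z) fun n _ hn => ?_)
    · rw [hδ n hn]
      rcases hval n (Finset.mem_filter.1 hn).2.2 with ⟨-, e⟩ | ⟨e, -⟩
      · rw [e]
      · exact absurd e (Finset.mem_filter.1 hn).2.1
    · by_cases h2 : 2 ∣ orderOf n
      · rcases hval n h2 with ⟨e, -⟩ | ⟨-, e⟩
        · exact absurd (Finset.mem_filter.2 ⟨Finset.mem_univ _, e, h2⟩) hn
        · rw [e, zero_mul]
      · rw [hodd n h2, zero_mul]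
  have supp : ∀ f : N → ℂ, (∀ n, ¬ 2 ∣ orderOf n → f n = 0) →
      (∀ n, 2 ∣ orderOf n → ¬ 2 ∣ orderOf (zN * n) ∨ f n = 0) → ∀ n, f n ≠ 0 → ¬ 2 ∣ orderOf (zN * n) :=
    fun f h1 h2 n hn => (h2 n (by by_contra hc; exact hn (h1 n hc))).resolve_right hn
  have hG1o : ∀ n, ¬ 2 ∣ orderOf n → G1 n = 0 := fun n hn => by simp only [hG1, hv0 n hn, hv1 n hn]; ring
  have hG2o : ∀ n, ¬ 2 ∣ orderOf n → G2 n = 0 := fun n hn => by
    simp only [hG2]
    rw [hv1 n hn, mul_zero, add_zero]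
    exact Finset.sum_eq_zero fun θ hθR => by rw [(hθ θ (hReg θ hθR)).2.2 n hn, mul_zero]
  have eG1 : G1 = f0 - (2 : ℂ) • f1 := funext fun n => by simp [hG1]
  have eG2 : G2 = ∑ θ ∈ R, (θ (Y.e : K) : ℂ) • fθ θ + (2 : ℂ) • f1 := funext fun n => by
    simp [hG2, Finset.sum_apply]
  have hG1c : IsClassFunction N G1 := fun g c => by simp only [hG1]; rw [hc0, hc1]
  have hG2c : IsClassFunction N G2 := fun g c => by
    simp only [hG2]
    rw [hc1]
    exact congrArg (· + _) (Finset.sum_congr rfl fun θ hθR => by rw [(hθ θ (hReg θ hθR)).2.1])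
  have E1 : ∑ n ∈ Z, -4 * (1 + σ n) * w n = 0 := by
    refine red G1 _ hG1o (fun n hn => ?_) ?_
    · rcases key n hn with ⟨h, e, -⟩ | ⟨h, e, -⟩
      · exact Or.inl ⟨h, e⟩
      · exact Or.inr ⟨h, e⟩
    · rw [← hL G1 hG1c (supp G1 hG1o fun n hn => (key n hn).imp (·.1) (·.2.1)), eG1, map_sub, map_smul, o0, o1,
        smul_zero, sub_zero]
  have E2 : ∑ n ∈ Z, (4 * (1 + σ n) + b * (1 - σ n)) * w n = 0 := by
    refine red G2 _ hG2o (fun n hn => ?_) ?_
    · rcases key n hn with ⟨h, -, e⟩ | ⟨h, -, e⟩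
      · exact Or.inl ⟨h, e⟩
      · exact Or.inr ⟨h, e⟩
    · rw [← hL G2 hG2c (supp G2 hG2o fun n hn => (key n hn).imp (·.1) (·.2.2)), eG2, map_add, map_sum, map_smul,
        o1, smul_zero, add_zero]
      exact Finset.sum_eq_zero fun θ hθR => by rw [map_smul, oθ θ (hReg θ hθR), smul_zero]
  have Ep : ∑ n ∈ Z, (1 + σ n) * w n = 0 := by
    refine mul_left_cancel₀ (show (-4 : ℂ) ≠ 0 by norm_num) ?_
    rw [mul_zero, Finset.mul_sum, ← E1]
    exact Finset.sum_congr rfl fun n _ => by ring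
  have Em : ∑ n ∈ Z, (1 - σ n) * w n = 0 := by
    refine mul_left_cancel₀ hb0 ?_
    have : ∑ n ∈ Z, (4 * (1 + σ n) + b * (1 - σ n)) * w n =
        4 * ∑ n ∈ Z, (1 + σ n) * w n + b * ∑ n ∈ Z, (1 - σ n) * w n := by
      simp only [Finset.mul_sum, ← Finset.sum_add_distrib]
      exact Finset.sum_congr rfl fun n _ => by ring
    rw [this, Ep, mul_zero, zero_add] at E2
    rw [mul_zero, E2]
  have hnorm : ∑ n ∈ Z, conj (w n) * w n = 0 := by
    have : ∑ n ∈ Z, conj (w n) * w n =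
        (α + β) / 2 * ∑ n ∈ Z, (1 + σ n) * w n + (α - β) / 2 * ∑ n ∈ Z, (1 - σ n) * w n := by
      simp only [Finset.mul_sum, ← Finset.sum_add_distrib, hw, Complex.conj_conj]
      exact Finset.sum_congr rfl fun n _ => by ring
    rw [this, Ep, Em, mul_zero, mul_zero, add_zero]
  have hzZ : zN ∈ Z := Finset.mem_filter.2 ⟨Finset.mem_univ _, by rw [hzz, orderOf_one]; decide,
    by rw [S.zN_order]⟩
  have hw0 : ∀ n ∈ Z, w n = 0 := fun n hn => by
    have h' : ∑ m ∈ Z, Complex.normSq (w m) = 0 := by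
      have h2 : ((∑ m ∈ Z, Complex.normSq (w m) : ℝ) : ℂ) = 0 := by
        push_cast
        rw [← hnorm]
        exact Finset.sum_congr rfl fun m _ => by rw [Complex.normSq_eq_conj_mul_self]
      exact_mod_cast h2
    exact Complex.normSq_eq_zero.1 ((Finset.sum_eq_zero_iff_of_nonneg fun m _ => Complex.normSq_nonneg _).1 h' n hn)
  have h := hw0 zN hzZ
  rw [← hδ zN hzZ] at h
  exact (map_eq_zero _).1 h

end NSys

end Cfsg.Agent.Invol.AbgOrder
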