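import Cfsg.Agent.Lib.Invol.AbgOrder.Shape0Syl
import Cfsg.Agent.Lib.Invol.AbgOrder.Shape0Aut
import Cfsg.Agent.Lib.Grp.Cores

/-!
# A group with trivial odd core, a normal `SL(2, q)` and a semidihedral or wreathed Sylow `2`-subgroup

The centraliser of the normal subgroup is the centre of the Sylow subgroup; the action induces every
inner-diagonal automorphism and only field automorphisms of odd order.
-/

set_option autoImplicit false

namespace Cfsg.Agent.Invol.AbgOrder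

open Matrix Cfsg.Agent.Classical

universe u v

/-- The setting. -/
structure Ctx (X : Type u) [Group X] [Finite X] (F : Type v) [Field F] [Fintype F] (k : ℕ) where
  S : Sylow 2 X
  core : Cfsg.oddCore X = ⊥
  N : Subgroup X
  normal : N.Normal
  e : N ≃* Matrix.SpecialLinearGroup (Fin 2) F
  odd : Odd (Fintype.card F)
  d : SylData (S : Subgroup X) k

namespace Ctx

variable {X : Type u} [Group X] [Finite X] {F : Type v} [Field F] [Fintype F] {k : ℕ} (c : Ctx X F k)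

local notation "SL₂" => Matrix.SpecialLinearGroup (Fin 2) F
local notation "M₂" => Matrix (Fin 2) (Fin 2) F

/-- The inclusion of `SL(2, F)`. -/
def ι : SL₂ →* X := c.N.subtype.comp c.e.symm.toMonoidHom

/-- The action on it. -/
def ψ : X →* MulAut SL₂ :=
  haveI := c.normal
  (MulAut.congr c.e).toMonoidHom.comp MulAut.conjNormal

theorem ι_inj : Function.Injective c.ι :=
  c.N.subtype_injective.comp c.e.symm.injective

theorem range_ι : c.ι.range = c.N := by
  ext x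
  constructor
  · rintro ⟨s, rfl⟩; exact (c.e.symm s).2
  · exact fun h => ⟨c.e ⟨x, h⟩, congrArg Subtype.val (c.e.symm_apply_apply ⟨x, h⟩)⟩

theorem conj_ι (x : X) (s : SL₂) : x * c.ι s * x⁻¹ = c.ι (c.ψ x s) := by
  haveI := c.normal
  show x * c.ι s * x⁻¹ = ((c.e.symm (c.e (MulAut.conjNormal x (c.e.symm s))) : c.N) : X)
  rw [MulEquiv.symm_apply_apply, MulAut.conjNormal_apply]
  rfl

theorem ψ_eq {x : X} {θ : MulAut SL₂} (h : ∀ s, x * c.ι s * x⁻¹ = c.ι (θ s)) : c.ψ x = θ :=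
  MulEquiv.ext fun s => c.ι_inj ((c.conj_ι x s).symm.trans (h s))

theorem ψ_ι (t : SL₂) : c.ψ (c.ι t) = MulAut.conj t :=
  c.ψ_eq fun s => by rw [MulAut.conj_apply, map_mul, map_mul, map_inv]

/-- The central involution. -/
def z : X := c.ι (-1)

include c in
theorem two_ne : (2 : F) ≠ 0 := fun e => by
  obtain ⟨p, hp⟩ := CharP.exists F
  obtain ⟨n, hpp, hn⟩ := FiniteField.card F p
  have hd : p ∣ 2 := (CharP.cast_eq_zero_iff F p 2).1 (by exact_mod_cast e)
  have h := c.odd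
  rw [hn, (Nat.prime_dvd_prime_iff_eq hpp Nat.prime_two).1 hd, Nat.odd_pow_iff n.ne_zero] at h
  exact absurd h (by decide)

include c in
theorem neg_one_ne : (-1 : SL₂) ≠ 1 := fun h => by
  have h' := congrArg (fun s : SL₂ => (s : M₂) 0 0) h
  simp [Matrix.SpecialLinearGroup.coe_neg] at h'
  exact c.two_ne (by linear_combination (-1 : F) * h')

theorem z_ne : c.z ≠ 1 := fun h => c.neg_one_ne (c.ι_inj (h.trans (map_one _).symm))

theorem z_sq : c.z * c.z = 1 := by
  rw [z, ← map_mul]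
  simp

theorem z_mem_N : c.z ∈ c.N := c.range_ι ▸ ⟨-1, rfl⟩

theorem sq_eq_one {x : X} (hx : x ∈ c.N) (h : x * x = 1) : x = 1 ∨ x = c.z := by
  rw [← c.range_ι] at hx
  obtain ⟨s, rfl⟩ := hx
  rcases eq_one_or_neg_one c.odd (c.ι_inj (by rw [map_mul, h, map_one]) : s * s = 1) with rfl | rfl
  · exact Or.inl (map_one _)
  · exact Or.inr rfl

theorem z_comm (x : X) : x * c.z = c.z * x := by
  rcases c.sq_eq_one (c.normal.conj_mem _ c.z_mem_N x) (by rw [conj_mul, c.z_sq, mul_one, mul_inv_cancel]) with h | h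
  · exact absurd (conj_eq_one_iff.1 h) c.z_ne
  · exact mul_inv_eq_iff_eq_mul.1 h

theorem z_mem_S : c.z ∈ (c.S : Subgroup X) := by
  haveI : (Subgroup.zpowers c.z).Normal := ⟨fun a ha x => by
    obtain ⟨i, rfl⟩ := ha
    have hc : Commute x (c.z ^ i) := (show Commute x c.z from c.z_comm x).zpow_right i
    rw [hc.eq, mul_inv_cancel_right]
    exact ⟨i, rfl⟩⟩
  refine (IsPGroup.of_card (n := 1) ?_).le_sylow_of_normal c.S (Subgroup.mem_zpowers c.z)
  rw [Nat.card_zpowers, pow_one]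
  exact orderOf_eq_prime (by rw [sq, c.z_sq]) c.z_ne

/-- The abelian subgroup of index two. -/
def B : Subgroup X := c.d.B.map (c.S : Subgroup X).subtype

/-- The centre of the Sylow subgroup. -/
def Zs : Subgroup X := (Subgroup.center (c.S : Subgroup X)).map (c.S : Subgroup X).subtype

theorem mem_B {x : (c.S : Subgroup X)} : (x : X) ∈ c.B ↔ x ∈ c.d.B :=
  Subgroup.mem_map_iff_mem (Subgroup.subtype_injective _)

theorem mem_Zs {x : (c.S : Subgroup X)} : (x : X) ∈ c.Zs ↔ x ∈ Subgroup.center (c.S : Subgroup X) :=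
  Subgroup.mem_map_iff_mem (Subgroup.subtype_injective _)

theorem B_le : c.B ≤ (c.S : Subgroup X) := Subgroup.map_subtype_le _

theorem Zs_le_B : c.Zs ≤ c.B := Subgroup.map_mono c.d.center_le

theorem Zs_le : c.Zs ≤ (c.S : Subgroup X) := Subgroup.map_subtype_le _

theorem B_comm {a b : X} (ha : a ∈ c.B) (hb : b ∈ c.B) : a * b = b * a := by
  have h := c.d.comm ⟨a, c.B_le ha⟩ (c.mem_B.1 ha) ⟨b, c.B_le hb⟩ (c.mem_B.1 hb)
  exact congrArg Subtype.val h

theorem Zs_comm {a s : X} (ha : a ∈ c.Zs) (hs : s ∈ (c.S : Subgroup X)) : s * a = a * s :=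
  congrArg Subtype.val (Subgroup.mem_center_iff.1 ((c.mem_Zs (x := ⟨a, c.Zs_le ha⟩)).1 ha) ⟨s, hs⟩)

theorem mem_Zs_of_forall {a : X} (ha : a ∈ (c.S : Subgroup X))
    (h : ∀ s ∈ (c.S : Subgroup X), s * a = a * s) : a ∈ c.Zs :=
  (c.mem_Zs (x := ⟨a, ha⟩)).2 (Subgroup.mem_center_iff.2 fun g => Subtype.ext (h g g.2))

theorem sq_mem_Zs {s : X} (hs : s ∈ (c.S : Subgroup X)) (hB : s ∉ c.B) : s * s ∈ c.Zs :=
  (c.mem_Zs (x := ⟨s, hs⟩ * ⟨s, hs⟩)).2 (c.d.sq ⟨s, hs⟩ fun h => hB ((c.mem_B (x := ⟨s, hs⟩)).2 h))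

theorem mul_mem_B {a b : X} (ha : a ∈ (c.S : Subgroup X)) (hb : b ∈ (c.S : Subgroup X)) (hA : a ∉ c.B)
    (hB : b ∉ c.B) : a * b ∈ c.B :=
  (c.mem_B (x := ⟨a, ha⟩ * ⟨b, hb⟩)).2 (c.d.mul_mem_B (fun h => hA ((c.mem_B (x := ⟨a, ha⟩)).2 h))
    (fun h => hB ((c.mem_B (x := ⟨b, hb⟩)).2 h)))

theorem conj_eq {a b x : X} (ha : a ∈ (c.S : Subgroup X)) (hb : b ∈ (c.S : Subgroup X)) (hA : a ∉ c.B)
    (hB : b ∉ c.B) (hx : x ∈ c.B) : a * x * a⁻¹ = b * x * b⁻¹ :=
  congrArg Subtype.val (c.d.conj_eq (a := ⟨a, ha⟩) (b := ⟨b, hb⟩) (x := ⟨x, c.B_le hx⟩)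
    (fun h => hA ((c.mem_B (x := ⟨a, ha⟩)).2 h)) (fun h => hB ((c.mem_B (x := ⟨b, hb⟩)).2 h))
    ((c.mem_B (x := ⟨x, c.B_le hx⟩)).1 hx))

theorem central_of_commute {x y : X} (hx : x ∈ c.B) (hy : y ∈ (c.S : Subgroup X)) (hY : y ∉ c.B)
    (h : y * x * y⁻¹ = x) : x ∈ c.Zs :=
  (c.mem_Zs (x := ⟨x, c.B_le hx⟩)).2 (c.d.central_of_commute (y := ⟨y, hy⟩)
    ((c.mem_B (x := ⟨x, c.B_le hx⟩)).1 hx) (fun h => hY ((c.mem_B (x := ⟨y, hy⟩)).2 h)) (Subtype.ext h))

theorem card_Zs : Nat.card c.Zs = k := by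
  rw [Zs, Subgroup.card_subtype, c.d.card_center]

include c in
/-- A pair of elements of `SL(2, F)` anticommuting, with square `-1`. -/
theorem exists_quat : ∃ w v : SL₂, w * w = -1 ∧ v * v = -1 ∧ v * w * v⁻¹ = w⁻¹ ∧ w * v ≠ v * w := by
  obtain ⟨p, hp⟩ := CharP.exists F
  obtain ⟨n, hprime, hn⟩ := FiniteField.card F p
  haveI : Fact p.Prime := ⟨hprime⟩
  obtain ⟨a, b, hab⟩ := ZMod.sq_add_sq p (-1)
  let f : ZMod p →+* F := ZMod.castHom dvd_rfl F
  have hAB : f a ^ 2 + f b ^ 2 = -1 := by rw [← map_pow, ← map_pow, ← map_add, hab, map_neg, map_one]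
  let w : SL₂ := ⟨!![0, -1; 1, 0], by simp [Matrix.det_fin_two_of]⟩
  let v : SL₂ := ⟨!![f a, f b; f b, -f a], by rw [Matrix.det_fin_two_of]; linear_combination -hAB⟩
  have hww : w * w = -1 := Subtype.ext (by
    rw [Matrix.SpecialLinearGroup.coe_mul, Matrix.SpecialLinearGroup.coe_neg, Matrix.SpecialLinearGroup.coe_one]
    ext i j; fin_cases i <;> fin_cases j <;> simp [w, Matrix.mul_apply, Fin.sum_univ_two])
  have hvv : v * v = -1 := Subtype.ext (by
    rw [Matrix.SpecialLinearGroup.coe_mul, Matrix.SpecialLinearGroup.coe_neg, Matrix.SpecialLinearGroup.coe_one]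
    ext i j; fin_cases i <;> fin_cases j <;> simp [v, Matrix.mul_apply, Fin.sum_univ_two] <;>
      first | linear_combination hAB | ring)
  have hvw : v * w = -(w * v) := Subtype.ext (by
    rw [Matrix.SpecialLinearGroup.coe_mul, Matrix.SpecialLinearGroup.coe_neg, Matrix.SpecialLinearGroup.coe_mul]
    ext i j; fin_cases i <;> fin_cases j <;> simp [w, v, Matrix.mul_apply, Fin.sum_univ_two])
  have hwi : w⁻¹ = -w := inv_eq_of_mul_eq_one_right (by rw [mul_neg, hww, neg_neg])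
  refine ⟨w, v, hww, hvv, ?_, fun h => ?_⟩
  · rw [hwi, mul_inv_eq_iff_eq_mul, hvw, neg_mul]
  · rw [hvw] at h
    refine c.neg_one_ne ?_
    have h' : (-1 : SL₂) * (w * v) = 1 * (w * v) := by rw [neg_mul, one_mul, ← h]
    exact mul_right_cancel h'

/-- A conjugate of a `2`-subgroup of the normal subgroup lies in the Sylow subgroup. -/
theorem exists_conj_mem {T : Subgroup X} (hT : IsPGroup 2 T) :
    ∃ x : X, ∀ t ∈ T, x * t * x⁻¹ ∈ (c.S : Subgroup X) := by
  haveI : Fact (Nat.Prime 2) := ⟨Nat.prime_two⟩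
  obtain ⟨R, hR⟩ := hT.exists_le_sylow
  obtain ⟨x, hx⟩ := MulAction.exists_smul_eq X R c.S
  refine ⟨x, fun t ht => ?_⟩
  rw [← hx]
  exact Subgroup.smul_mem_pointwise_smul t (MulAut.conj x) _ (hR ht)

/-- Two non-commuting elements of `N ∩ S`, one in `B`, the other outside. -/
theorem exists_uv : ∃ u v : SL₂, c.ι u ∈ c.B ∧ c.ι v ∈ (c.S : Subgroup X) ∧ c.ι v ∉ c.B ∧ u * v ≠ v * u := by
  obtain ⟨w, v, hw, hv, hvw, hne⟩ := c.exists_quat
  have h4 : ∀ t : SL₂, t * t = -1 → IsPGroup 2 (Subgroup.zpowers (c.ι t)) := fun t ht => by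
    refine IsPGroup.of_card_dvd_pow (n := 2) ?_
    rw [Nat.card_zpowers, orderOf_dvd_iff_pow_eq_one, show (2 : ℕ) ^ 2 = 2 * 2 from rfl, pow_mul, sq (c.ι t),
      ← map_mul, ht, sq, ← map_mul, neg_mul_neg, one_mul, map_one]
  have hnorm : Subgroup.zpowers (c.ι v) ≤ Subgroup.normalizer (Subgroup.zpowers (c.ι w) : Set X) := by
    rw [Subgroup.zpowers_le, Subgroup.mem_normalizer_iff]
    intro n
    have hi : ∀ i : ℤ, c.ι v * c.ι w ^ i * (c.ι v)⁻¹ = c.ι w ^ (-i) := fun i => by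
      rw [← conj_zpow, ← map_inv, ← map_mul, ← map_mul, hvw, map_inv, _root_.inv_zpow']
    constructor
    · rintro ⟨i, rfl⟩
      exact ⟨-i, (hi i).symm⟩
    · rintro ⟨i, hn⟩
      refine ⟨-i, ?_⟩
      refine mul_left_cancel (a := c.ι v) (mul_right_cancel (b := (c.ι v)⁻¹) ?_)
      show c.ι v * c.ι w ^ (-i) * (c.ι v)⁻¹ = c.ι v * n * (c.ι v)⁻¹
      rw [hi, neg_neg]
      exact hn
  obtain ⟨x, hx⟩ := c.exists_conj_mem ((h4 v hv).to_sup_of_normal_right' (h4 w hw) hnorm)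
  have hw' : c.ι (c.ψ x w) ∈ (c.S : Subgroup X) := by
    rw [← c.conj_ι]; exact hx _ (Subgroup.mem_sup_right (Subgroup.mem_zpowers _))
  have hv' : c.ι (c.ψ x v) ∈ (c.S : Subgroup X) := by
    rw [← c.conj_ι]; exact hx _ (Subgroup.mem_sup_left (Subgroup.mem_zpowers _))
  set a := c.ψ x w
  set b := c.ψ x v
  have hab : a * b ≠ b * a := fun h => hne ((c.ψ x).injective (by rw [map_mul, map_mul]; exact h))
  by_cases ha : c.ι a ∈ c.B
  · refine ⟨a, b, ha, hv', fun hb => hab (c.ι_inj ?_), hab⟩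
    rw [map_mul, map_mul]
    exact c.B_comm ha hb
  · by_cases hb : c.ι b ∈ c.B
    · exact ⟨b, a, hb, hw', ha, Ne.symm hab⟩
    · refine ⟨a * b, a, ?_, hw', ha, fun h => hab ?_⟩
      · rw [map_mul]; exact c.mul_mem_B hw' hv' ha hb
      · rw [mul_assoc] at h
        exact (mul_left_cancel h).symm

theorem Zs_inf_N {x : X} (hx : x ∈ c.Zs) (hN : x ∈ c.N) : x = 1 ∨ x = c.z := by
  obtain ⟨u, v, hu, hv, -, hne⟩ := c.exists_uv
  rw [← c.range_ι] at hN
  obtain ⟨s, rfl⟩ := hN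
  have hcent := central_of_commute_pair (c := s) hne
    (c.ι_inj (by rw [map_mul, map_mul]; exact (c.Zs_comm hx (c.B_le hu)).symm))
    (c.ι_inj (by rw [map_mul, map_mul]; exact (c.Zs_comm hx hv).symm))
  obtain ⟨r, hr, hM⟩ := Matrix.SpecialLinearGroup.mem_center_iff.1 hcent
  rw [Fintype.card_fin] at hr
  have h2 : s * s = 1 := Subtype.ext (by
    rw [Matrix.SpecialLinearGroup.coe_mul, Matrix.SpecialLinearGroup.coe_one, ← hM, ← map_mul, ← sq, hr, map_one])
  exact c.sq_eq_one (show c.ι s ∈ c.N from (c.e.symm s).2) (by rw [← map_mul, h2, map_one])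

/-- An element of `N ∩ B` is inverted outside `B`. -/
theorem inverted {n y : X} (hn : n ∈ c.B) (hnN : n ∈ c.N) (hy : y ∈ (c.S : Subgroup X)) (hY : y ∉ c.B) :
    y * n * y⁻¹ = n⁻¹ := by
  obtain ⟨u, v', -, hv, hV, -⟩ := c.exists_uv
  set v := c.ι v'
  have hvN : v ∈ c.N := c.range_ι ▸ ⟨v', rfl⟩
  have hsq : ∀ r : X, r ∈ (c.S : Subgroup X) → r ∉ c.B → r ∈ c.N → r * r = c.z := by
    intro r hr hR hrN
    rcases c.Zs_inf_N (c.sq_mem_Zs hr hR) (mul_mem hrN hrN) with h | h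
    · rcases c.sq_eq_one hrN h with h' | h'
      · exact absurd (h' ▸ one_mem _) hR
      · refine absurd ?_ hR
        rw [h']
        exact c.Zs_le_B (c.mem_Zs_of_forall c.z_mem_S fun s _ => c.z_comm s)
    · exact h
  rw [c.conj_eq hy hv hY hV hn]
  have h1 := hsq v hv hV hvN
  have h2 := hsq (v * n) (mul_mem hv (c.B_le hn)) (fun h => hV (by simpa using mul_mem h (inv_mem hn)))
    (mul_mem hvN hnN)
  have h3 : n * v * n = v := by
    refine mul_left_cancel (a := v) ?_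
    calc v * (n * v * n) = v * n * (v * n) := by group
      _ = v * v := by rw [h2, h1]
  calc v * n * v⁻¹ = n⁻¹ * (n * v * n) * v⁻¹ := by group
    _ = n⁻¹ := by rw [h3, mul_inv_cancel_right]

/-- No element of the Sylow subgroup has a field part. -/
theorem fld_eq_one {s : X} (hs : s ∈ (c.S : Subgroup X)) : fld (c.ψ s) = 1 := by
  haveI : Fact (Nat.Prime 2) := ⟨Nat.prime_two⟩
  obtain ⟨i, hi⟩ := IsPGroup.iff_orderOf.1 c.S.isPGroup' ⟨s, hs⟩
  rw [Subgroup.orderOf_mk] at hi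
  obtain ⟨j, -, hj⟩ := (Nat.dvd_prime_pow Nat.prime_two).1 (hi ▸ (orderOf_map_dvd (fld.comp c.ψ) s))
  rcases Nat.eq_zero_or_pos j with rfl | hj0
  · exact orderOf_eq_one_iff.1 hj
  exfalso
  set s' := s ^ 2 ^ (j - 1) with hs'
  have hS' : s' ∈ (c.S : Subgroup X) := pow_mem hs _
  set σ := fld (c.ψ s') with hσ
  have hσ2 : orderOf σ = 2 := by
    rw [hσ, hs', map_pow, map_pow, orderOf_pow_of_dvd (by positivity)]
    · change orderOf (fld (c.ψ s)) = 2 ^ j at hj
      rw [hj, Nat.pow_div (by omega) (by norm_num), show j - (j - 1) = 1 by omega, pow_one]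
    · change orderOf (fld (c.ψ s)) = 2 ^ j at hj
      rw [hj]; exact pow_dvd_pow 2 (by omega)
  obtain ⟨u₀, a, ha, hu₀, hmove⟩ := exists_trace_moved c.odd hσ2
  obtain ⟨x, hx⟩ := c.exists_conj_mem (T := Subgroup.zpowers (c.ι u₀)) (IsPGroup.of_card (n := a) (by
    rw [Nat.card_zpowers, orderOf_injective _ c.ι_inj, hu₀]))
  have hu' : c.ι (c.ψ x u₀) ∈ (c.S : Subgroup X) := by
    rw [← c.conj_ι]; exact hx _ (Subgroup.mem_zpowers _)
  set u := c.ψ x u₀ with hu
  have hmove' : σ (Matrix.trace (u : M₂)) ≠ Matrix.trace (u : M₂) := by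
    obtain ⟨g, hg⟩ := exists_eq (c.ψ x)
    rw [hu, hg, trace_smi]
    intro h
    refine hmove ((fld (c.ψ x)).injective ?_)
    have e := DFunLike.congr_fun (PSLAut.ringAut_commute σ (fld (c.ψ x))) (Matrix.trace (u₀ : M₂))
    exact e.symm.trans h
  have hord : orderOf (c.ι u) = 2 ^ a := by
    rw [orderOf_injective _ c.ι_inj, hu, MulEquiv.orderOf_eq, hu₀]
  have huN : c.ι u ∈ c.N := c.range_ι ▸ ⟨u, rfl⟩
  have huB : c.ι u ∈ c.B := by
    by_contra hB
    have h4 : (c.ι u) ^ 4 = 1 := by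
      rw [show 4 = 2 * 2 from rfl, pow_mul, sq (c.ι u)]
      rcases c.Zs_inf_N (c.sq_mem_Zs hu' hB) (mul_mem huN huN) with h | h
      · rw [h, one_pow]
      · rw [h, sq, c.z_sq]
    have hd := orderOf_dvd_of_pow_eq_one h4
    rw [hord] at hd
    have h8 : 2 ^ 3 ≤ 2 ^ a := Nat.pow_le_pow_right (by norm_num) ha
    have := Nat.le_of_dvd (by norm_num) hd
    omega
  refine hmove' ?_
  obtain ⟨g, hg⟩ := exists_eq (c.ψ s')
  have htr : Matrix.trace ((c.ψ s' u : SL₂) : M₂) = σ (Matrix.trace (u : M₂)) := by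
    rw [hσ]
    conv_lhs => rw [hg, trace_smi]
  rw [← htr]
  by_cases hB' : s' ∈ c.B
  · have : c.ψ s' u = u := c.ι_inj (by rw [← c.conj_ι, c.B_comm hB' huB, mul_inv_cancel_right])
    rw [this]
  · have : c.ψ s' u = u⁻¹ := c.ι_inj (by rw [← c.conj_ι, map_inv, c.inverted huB huN hS' hB'])
    rw [this, trace_inv]

theorem Zs_le_ker : c.Zs ≤ c.ψ.ker := by
  intro x hx
  obtain ⟨u, v, hu, hv, -, hne⟩ := c.exists_uv
  obtain ⟨g, hg⟩ := mem_range_inn.2 (c.fld_eq_one (c.Zs_le hx))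
  have fix : ∀ t : SL₂, c.ι t ∈ (c.S : Subgroup X) → inn g t = t := fun t ht => by
    rw [hg]
    exact c.ι_inj (by rw [← c.conj_ι, ← c.Zs_comm hx ht, mul_inv_cancel_right])
  rw [MonoidHom.mem_ker, ← hg]
  exact inn_eq_one_of_fix hne (fix u (c.B_le hu)) (fix v hv)

theorem ker_inf_S {x : X} (hx : x ∈ c.ψ.ker) (hS : x ∈ (c.S : Subgroup X)) : x ∈ c.Zs := by
  obtain ⟨u, v, hu, hv, hV, hne⟩ := c.exists_uv
  have hc : ∀ t : SL₂, x * c.ι t * x⁻¹ = c.ι t := fun t => by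
    rw [c.conj_ι, MonoidHom.mem_ker.1 hx]; rfl
  by_cases hB : x ∈ c.B
  · refine c.central_of_commute hB hv hV ?_
    rw [mul_inv_eq_iff_eq_mul, ← mul_inv_eq_iff_eq_mul.1 (hc v)]
  · exfalso
    refine hne (c.ι_inj ?_)
    have h := hc u
    rw [c.conj_eq hS hv hB hV hu, mul_inv_eq_iff_eq_mul] at h
    rw [map_mul, map_mul, h]

theorem ker_eq : c.ψ.ker = c.Zs := by
  refine le_antisymm ?_ c.Zs_le_ker
  haveI : Fact (Nat.Prime 2) := ⟨Nat.prime_two⟩
  set D := c.ψ.ker with hD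
  have hle : c.Zs ≤ D := c.Zs_le_ker
  have hinf : (c.S : Subgroup X) ⊓ D = c.Zs :=
    le_antisymm (fun x hx => c.ker_inf_S hx.2 hx.1) (le_inf c.Zs_le hle)
  let P : Sylow 2 D := (c.S.isPGroup'.comap_of_injective D.subtype D.subtype_injective :
    IsPGroup 2 ((c.S : Subgroup X).subgroupOf D)).toSylow (Grp.sylow_inf_normal_relIndex c.S D)
  have hPc : (P : Subgroup D) = (c.S : Subgroup X).subgroupOf D := rfl
  have hmap : (P : Subgroup D).map D.subtype = c.Zs := by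
    rw [hPc, Subgroup.subgroupOf_map_subtype, hinf]
  have hcyc : IsCyclic (P : Subgroup D) := by
    haveI := c.d.cyc
    exact isCyclic_of_surjective _ ((((Subgroup.center (c.S : Subgroup X)).equivMapOfInjective
      (c.S : Subgroup X).subtype (Subgroup.subtype_injective _)).trans (MulEquiv.subgroupCongr hmap.symm)).trans
      ((P : Subgroup D).equivMapOfInjective D.subtype D.subtype_injective).symm).surjective
  have hcardP : Nat.card (P : Subgroup D) = k := by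
    rw [← Subgroup.card_subtype D (P : Subgroup D), hmap, c.card_Zs]
  have heven : 2 ∣ Nat.card D := dvd_trans c.d.even_k (hcardP ▸ Subgroup.card_subgroup_dvd_card _)
  have hmin : (Nat.card D).minFac = 2 := (Nat.minFac_eq_two_iff _).2 heven
  have hnc := IsCyclic.normalizer_le_centralizer hmin hcyc
  set φ := MonoidHom.transferSylow P hnc with hφ
  have hcompl := MonoidHom.ker_transferSylow_isComplement' P hnc
  have hodd : ¬ 2 ∣ Nat.card φ.ker := MonoidHom.not_dvd_card_ker_transferSylow P hnc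
  have hmem : ∀ x : D, x ∈ φ.ker ↔ Odd (orderOf x) := by
    intro x
    constructor
    · intro h
      refine (Nat.odd_iff.2 (Nat.two_dvd_ne_zero.1 hodd)).of_dvd_nat ?_
      rw [← Subgroup.orderOf_mk x h]
      exact orderOf_dvd_natCard _
    · intro h
      rw [MonoidHom.mem_ker, ← orderOf_eq_one_iff]
      obtain ⟨j, hj⟩ := IsPGroup.iff_orderOf.1 P.isPGroup' (φ x)
      rcases Nat.eq_zero_or_pos j with rfl | hj0
      · exact hj
      · have h2 : 2 ∣ orderOf x := dvd_trans (hj ▸ dvd_pow_self 2 hj0.ne') (orderOf_map_dvd φ x)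
        exact absurd h2 h.not_two_dvd_nat
  have hnorm : (φ.ker.map D.subtype).Normal := by
    refine ⟨?_⟩
    rintro _ ⟨a, ha, rfl⟩ y
    refine ⟨⟨y * (a : X) * y⁻¹, (MonoidHom.normal_ker c.ψ).conj_mem _ a.2 y⟩, ?_, rfl⟩
    refine (hmem _).2 ?_
    rw [← Subgroup.orderOf_coe]
    show Odd (orderOf (MulAut.conj y (a : X)))
    rw [MulEquiv.orderOf_eq, Subgroup.orderOf_coe]
    exact (hmem a).1 ha
  have hbot : φ.ker = ⊥ := by
    refine Subgroup.map_injective D.subtype_injective ?_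
    rw [Subgroup.map_bot, eq_bot_iff, ← c.core]
    refine Grp.le_pPrimeCore hnorm ?_
    rw [Subgroup.card_subtype]
    exact ((Nat.Prime.coprime_iff_not_dvd Nat.prime_two).2 hodd).symm
  have hcard := hcompl.card_mul
  rw [hbot, Subgroup.card_bot, one_mul] at hcard
  have htop : (P : Subgroup D) = ⊤ := Subgroup.eq_top_of_card_eq _ hcard
  intro x hx
  rw [← hmap, htop]
  exact ⟨⟨x, hx⟩, trivial, rfl⟩

/-- Some element of the Sylow subgroup induces an outer automorphism. -/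
theorem exists_outer : ∃ x ∈ c.B, c.ψ x ∉ (MulAut.conj (G := SL₂)).range := by
  obtain ⟨x, hx, y, hy, hne⟩ := c.d.norm_gen
  refine ⟨x, c.mem_B.2 hx, ?_⟩
  rintro ⟨t, ht⟩
  have hY : (y : X) ∉ c.B := fun h => hy (c.mem_B.1 h)
  set r := (c.ι t)⁻¹ * (x : X) with hr
  have hrZ : r ∈ c.Zs := by
    rw [← c.ker_eq, MonoidHom.mem_ker, hr, map_mul, map_inv, c.ψ_ι, ← ht, inv_mul_cancel]
  have htB : c.ι t ∈ c.B := by
    have e : c.ι t = (x : X) * r⁻¹ := by rw [hr]; group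
    rw [e]
    exact mul_mem (c.mem_B.2 hx) (inv_mem (c.Zs_le_B hrZ))
  have hinv := c.inverted htB (c.range_ι ▸ ⟨t, rfl⟩) y.2 hY
  have hx' : (x : X) = c.ι t * r := by rw [hr, mul_inv_cancel_left]
  have hyr : (y : X) * r * (y : X)⁻¹ = r := by rw [c.Zs_comm hrZ y.2, mul_inv_cancel_right]
  refine hne ⟨r, c.Zs_le hrZ⟩ (c.mem_Zs.1 hrZ) (Subtype.ext ?_)
  show (y : X) * (x : X) * (y : X)⁻¹ * (x : X) = r * r
  rw [hx']
  calc (y : X) * (c.ι t * r) * (y : X)⁻¹ * (c.ι t * r)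
      = ((y : X) * c.ι t * (y : X)⁻¹) * ((y : X) * r * (y : X)⁻¹) * (c.ι t * r) := by group
    _ = (c.ι t)⁻¹ * (r * c.ι t) * r := by rw [hinv, hyr]; group
    _ = r * r := by rw [← c.Zs_comm hrZ (c.B_le htB)]; group

/-- Every inner-diagonal automorphism is induced. -/
theorem range_inn_le : (inn (F := F)).range ≤ c.ψ.range := by
  set I := (MulAut.conj (G := SL₂)).range with hI
  set T := c.ψ.range ⊓ (inn (F := F)).range with hT
  have hIA : I ≤ (inn (F := F)).range := by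
    rintro _ ⟨t, rfl⟩
    exact ⟨_, inn_toGL t⟩
  have hIT : I ≤ T := le_inf (by rintro _ ⟨t, rfl⟩; exact ⟨_, c.ψ_ι t⟩) hIA
  have hcardI : Nat.card I * 2 = Nat.card SL₂ := by
    have h := (MulAut.conj (G := SL₂)).ker.index_mul_card
    rw [Subgroup.index_ker] at h
    suffices h2 : Nat.card (MulAut.conj (G := SL₂)).ker = 2 by rw [h2] at h; exact h
    have hk : (MulAut.conj (G := SL₂)).ker = Subgroup.zpowers (-1 : SL₂) := by
      ext t
      rw [MonoidHom.mem_ker]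
      constructor
      · intro ht
        have hc : t ∈ Subgroup.center SL₂ := Subgroup.mem_center_iff.2 fun g => by
          have hg := DFunLike.congr_fun ht g
          rw [MulAut.conj_apply, MulAut.one_apply, mul_inv_eq_iff_eq_mul] at hg
          exact hg.symm
        obtain ⟨r, hr, hM⟩ := Matrix.SpecialLinearGroup.mem_center_iff.1 hc
        rw [Fintype.card_fin] at hr
        have h2 : t * t = 1 := Subtype.ext (by
          rw [Matrix.SpecialLinearGroup.coe_mul, Matrix.SpecialLinearGroup.coe_one, ← hM, ← map_mul, ← sq, hr,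
            map_one])
        rcases eq_one_or_neg_one c.odd h2 with rfl | rfl
        · exact one_mem _
        · exact Subgroup.mem_zpowers _
      · intro ht
        obtain ⟨i, rfl⟩ := ht
        have : MulAut.conj (-1 : SL₂) = 1 := MulEquiv.ext fun g => by
          rw [MulAut.conj_apply, MulAut.one_apply, neg_one_mul, mul_inv_eq_iff_eq_mul, mul_neg_one]
        simp only [map_zpow, this, _root_.one_zpow]
    rw [hk, Nat.card_zpowers]
    exact orderOf_eq_prime (by simp) c.neg_one_ne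
  have hcardA := card_range_inn (F := F)
  obtain ⟨x, hxB, hx⟩ := c.exists_outer
  have hxT : c.ψ x ∈ T := ⟨⟨x, rfl⟩, mem_range_inn.2 (c.fld_eq_one (c.B_le hxB))⟩
  obtain ⟨m, hm⟩ := Subgroup.card_dvd_of_le hIT
  obtain ⟨l, hl⟩ := Subgroup.card_dvd_of_le (inf_le_right : T ≤ (inn (F := F)).range)
  rw [hcardA, ← hcardI, hm, mul_assoc] at hl
  have hml : 2 = m * l := Nat.eq_of_mul_eq_mul_left Nat.card_pos hl
  have hm1 : m ≠ 1 := fun h => by
    rw [h, mul_one] at hm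
    rw [← Subgroup.eq_of_le_of_card_ge hIT hm.le] at hxT
    exact hx hxT
  have hTA : T = (inn (F := F)).range := by
    refine Subgroup.eq_of_le_of_card_ge inf_le_right ?_
    rw [hcardA, hm, ← hcardI]
    refine Nat.mul_le_mul_left _ ?_
    rcases Nat.eq_zero_or_pos m with h | h
    · rw [h, zero_mul] at hml; omega
    · omega
  exact hTA ▸ inf_le_left

end Ctx

end Cfsg.Agent.Invol.AbgOrder
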