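import Cfsg.Agent.Lib.Invol.AbgOrder.Shape0Model

/-!
# The generator of the `2`-part of the quotient by `SL(2, q)` in the models

`d₀ = D(a, 1)`, with `a` of order the `2`-part `k` of the number of scalars: it has order `k`, induces an outer
automorphism of order `k`, and the model is `SL(2, q)⟨d₀⟩` times the odd scalars.
-/

set_option autoImplicit false

namespace Cfsg.Agent.Invol.AbgOrder

open Matrix Cfsg.Agent.Classical
open Cfsg.Agent.Invol.BrauerL3 (Tbl scal mem_scal)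

universe v w x

variable {F : Type v} [Field F] [Fintype F] {H : Type w} [Group H] {K : Type x} [CommGroup K] {Q : ℤ}
  (M : Mdl F H K Q)

local notation "SL₂" => Matrix.SpecialLinearGroup (Fin 2) F

namespace Mdl

include M

theorem finite : Finite H := Nat.finite_of_card_ne_zero (by
  rw [M.card]
  haveI : Finite K := M.T.finiteK
  exact Nat.mul_ne_zero Nat.card_pos.ne' Nat.card_pos.ne')

theorem dt_surjective : Function.Surjective M.T.dt := fun a => ⟨M.T.D (a, 1), by rw [M.T.dt_D, mul_one]⟩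

/-- Determinant one is the special linear group. -/
theorem exists_of_dt {h : H} (hh : M.T.dt h = 1) : ∃ t, h = M.ι t := by
  haveI := M.finite
  have hle : M.ι.range ≤ M.T.dt.ker := by
    rintro _ ⟨t, rfl⟩
    exact MonoidHom.mem_ker.2 (M.dt_ι t)
  have h1 := M.T.dt.ker.index_mul_card
  rw [Subgroup.index_ker, MonoidHom.range_eq_top.2 M.dt_surjective, Subgroup.card_top, M.card, mul_comm] at h1
  haveI : Finite K := M.T.finiteK
  have h2 := Nat.eq_of_mul_eq_mul_right Nat.card_pos h1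
  have heq : M.ι.range = M.T.dt.ker := Subgroup.eq_of_le_of_card_ge hle (by
    rw [h2, ← Nat.card_congr (MonoidHom.ofInjective M.ι_inj).toEquiv])
  have hm : h ∈ M.ι.range := heq ▸ MonoidHom.mem_ker.2 hh
  obtain ⟨t, ht⟩ := hm
  exact ⟨t, ht.symm⟩

end Mdl

/-- The data at `d₀`. -/
structure D0 (k : ℕ) where
  a : scal K Q
  ord : orderOf a = k
  d : H
  d_eq : d = M.T.D (a, 1)
  d_pow : d ^ k = 1
  dt_d : M.T.dt d = a
  α : MulAut SL₂
  α_mem : α ∈ (inn (F := F)).range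
  α_ord : orderOf α = k
  α_outer : α ∉ (MulAut.conj (G := SL₂)).range
  conj : ∀ (i : ℕ) s, d ^ i * M.ι s = M.ι ((α ^ i) s) * d ^ i

theorem exists_d0 {k b m : ℕ} (hm : 1 ≤ m) (hkm : k = 2 ^ m) (hb : Odd b)
    (hkb : Nat.card (scal K Q) = k * b) : Nonempty (D0 M k) := by
  haveI : Finite K := M.T.finiteK
  haveI : IsCyclic K := M.T.cyc
  haveI : Finite H := M.finite
  have hk0 : 0 < k := hkm ▸ Nat.two_pow_pos m
  have hk2 : 2 ∣ k := hkm ▸ dvd_pow_self 2 (by omega)
  obtain ⟨g₁, hg₁⟩ := IsCyclic.exists_ofOrder_eq_natCard (α := scal K Q)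
  set a := g₁ ^ b with ha
  have hao : orderOf a = k := by
    rw [ha, orderOf_pow_of_dvd hb.pos.ne' (hg₁ ▸ hkb ▸ dvd_mul_left b k), hg₁, hkb,
      Nat.mul_div_cancel _ hb.pos]
  set d₀ := M.T.D (a, 1) with hd₀
  have hd₀k : d₀ ^ k = 1 := by
    rw [hd₀, ← map_pow, Prod.pow_mk, one_pow, ← hao, pow_orderOf_eq_one]; exact map_one _
  have hdt : M.T.dt d₀ = a := by rw [hd₀, M.T.dt_D, mul_one]
  obtain ⟨g₀, hg₀⟩ := M.back d₀
  set α := inn g₀ with hα
  have hαpow : ∀ (i : ℕ) s, d₀ ^ i * M.ι s * (d₀ ^ i)⁻¹ = M.ι ((α ^ i) s) := by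
    intro i
    induction i with
    | zero => intro s; simp
    | succ i ih =>
      intro s
      rw [pow_succ', pow_succ', MulAut.mul_apply]
      show d₀ * d₀ ^ i * M.ι s * (d₀ * d₀ ^ i)⁻¹ = M.ι (inn g₀ ((α ^ i) s))
      rw [← hg₀, ← ih]
      group
  have hα1 : ∀ i : ℕ, α ^ i = 1 ↔ k ∣ i := by
    intro i
    constructor
    · intro h
      have hcent : d₀ ^ i ∈ Subgroup.center H := M.cent _ fun s => by
        have h' := hαpow i s
        rw [h, MulAut.one_apply, mul_inv_eq_iff_eq_mul] at h'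
        exact h'
      obtain ⟨e, he⟩ := M.T.central _ hcent
      rw [hd₀, ← map_pow, Prod.pow_mk, one_pow] at he
      obtain ⟨h1, h2⟩ := Prod.ext_iff.1 (M.T.D_inj he)
      change a ^ i = e at h1
      change (1 : scal K Q) = e at h2
      rw [← hao, orderOf_dvd_iff_pow_eq_one, h1, ← h2]
    · rintro ⟨j, rfl⟩
      refine MulEquiv.ext fun s => M.ι_inj ?_
      rw [← hαpow, pow_mul, hd₀k, one_pow, one_mul, inv_one, mul_one]
      rfl
  have hαord : orderOf α = k := Nat.dvd_antisymm (orderOf_dvd_of_pow_eq_one ((hα1 k).2 dvd_rfl))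
    ((hα1 _).1 (pow_orderOf_eq_one α))
  have houter : α ∉ (MulAut.conj (G := Matrix.SpecialLinearGroup (Fin 2) F)).range := by
    rintro ⟨t, ht⟩
    have hcent : (M.ι t)⁻¹ * d₀ ∈ Subgroup.center H := M.cent _ fun s => by
      have h1 := hg₀ s
      rw [← ht, MulAut.conj_apply, map_mul, map_mul, map_inv, mul_inv_eq_iff_eq_mul] at h1
      calc (M.ι t)⁻¹ * d₀ * M.ι s = (M.ι t)⁻¹ * (d₀ * M.ι s) := mul_assoc _ _ _
        _ = _ := by rw [h1]; group
    obtain ⟨e, he⟩ := M.T.central _ hcent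
    have h2 := congrArg M.T.dt he
    rw [map_mul, map_inv, M.dt_ι, inv_one, one_mul, hdt, M.T.dt_D, ← sq] at h2
    have h3 : orderOf e ∣ k * b := hkb ▸ orderOf_dvd_natCard e
    have h4 : a ^ (k / 2 * b) = 1 := by
      rw [h2, ← pow_mul, ← mul_assoc, Nat.mul_div_cancel' hk2]
      exact orderOf_dvd_iff_pow_eq_one.1 h3
    have h5 : k ∣ k / 2 * b := by
      have h' := orderOf_dvd_of_pow_eq_one h4
      rwa [hao] at h'
    have h6 : k ∣ k / 2 := Nat.Coprime.dvd_of_dvd_mul_right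
      (by rw [hkm]; exact (Nat.coprime_two_left.2 hb).pow_left m) h5
    have h7 := Nat.le_of_dvd (Nat.div_pos (Nat.le_of_dvd hk0 hk2) (by norm_num)) h6
    have h8 := Nat.div_lt_self hk0 (le_refl 2)
    omega
  exact ⟨{ a := a, ord := hao, d := d₀, d_eq := hd₀, d_pow := hd₀k, dt_d := hdt, α := α, α_mem := ⟨g₀, rfl⟩,
           α_ord := hαord, α_outer := houter,
           conj := fun i s => by rw [← mul_inv_eq_iff_eq_mul, hαpow] }⟩

namespace D0

variable {M} {k b : ℕ} (D : D0 M k)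

/-- An automorphism of odd order extending a field automorphism fixes `d₀` modulo `SL(2, q)`. -/
theorem apply_d {m : ℕ} (hkm : k = 2 ^ m) {Φ : MulAut H} (hΦo : Odd (orderOf Φ)) {σ : RingAut F}
    (hΦ : ∀ s, Φ (M.ι s) = M.ι (smi 1 σ s)) : ∃ t, Φ D.d = M.ι t * D.d := by
  haveI : Finite K := M.T.finiteK
  haveI : IsCyclic K := M.T.cyc
  have hker : M.T.dt.ker ≤ (M.T.dt.comp Φ.toMonoidHom).ker := by
    intro h hh
    obtain ⟨t, rfl⟩ := M.exists_of_dt (MonoidHom.mem_ker.1 hh)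
    rw [MonoidHom.mem_ker, MonoidHom.comp_apply]
    show M.T.dt (Φ (M.ι t)) = 1
    rw [hΦ, M.dt_ι]
  let θ : scal K Q →* scal K Q := M.T.dt.liftOfSurjective M.dt_surjective ⟨_, hker⟩
  have hθ : ∀ h, θ (M.T.dt h) = M.T.dt (Φ h) := fun h =>
    MonoidHom.liftOfRightInverse_comp_apply _ _ (Function.rightInverse_surjInv M.dt_surjective) ⟨_, hker⟩ h
  have hit : ∀ n : ℕ, (⇑θ)^[n] D.a = M.T.dt ((Φ ^ n) D.d) := by
    intro n
    induction n with
    | zero => exact D.dt_d.symm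
    | succ n ih => rw [Function.iterate_succ_apply', ih, hθ, pow_succ', MulAut.mul_apply]
  have hmem : θ D.a ∈ Subgroup.zpowers D.a := by
    have hle : Subgroup.zpowers D.a ≤ (powMonoidHom k : scal K Q →* scal K Q).ker :=
      Subgroup.zpowers_le.2 (MonoidHom.mem_ker.2 (by
        show D.a ^ k = 1
        conv_lhs => arg 2; rw [← D.ord]
        exact pow_orderOf_eq_one _))
    rw [Subgroup.eq_of_le_of_card_ge hle (by
      rw [IsCyclic.card_powMonoidHom_ker, Nat.card_zpowers, D.ord]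
      exact Nat.le_of_dvd (hkm ▸ Nat.two_pow_pos m) (Nat.gcd_dvd_right _ _)), MonoidHom.mem_ker]
    show θ D.a ^ k = 1
    rw [← map_pow, orderOf_dvd_iff_pow_eq_one.1 (dvd_of_eq D.ord), map_one]
  have hfix : θ D.a = D.a := fixed_of_odd θ hΦo (D.ord.trans hkm) hmem (by
    rw [hit, pow_orderOf_eq_one]; exact D.dt_d)
  obtain ⟨t, ht⟩ := M.exists_of_dt (h := Φ D.d * D.d⁻¹) (by
    rw [map_mul, map_inv, ← hθ, D.dt_d, hfix, mul_inv_cancel])
  exact ⟨t, by rw [← ht, inv_mul_cancel_right]⟩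

end D0

end Cfsg.Agent.Invol.AbgOrder
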