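import Cfsg.Agent.Lib.Invol.AbgOrder.Shape0Ctx

/-!
# An element of the Sylow subgroup inducing a given outer inner-diagonal automorphism of order `k`

After a change of coordinates it has order `k` and generates a subgroup meeting the `SL(2, q)` trivially.
-/

set_option autoImplicit false

namespace Cfsg.Agent.Invol.AbgOrder

open Matrix Cfsg.Agent.Classical

universe u v

namespace Ctx

variable {X : Type u} [Group X] [Finite X] {F : Type v} [Field F] [Fintype F] {k : ℕ} (c : Ctx X F k)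

local notation "SL₂" => Matrix.SpecialLinearGroup (Fin 2) F

theorem z_mem_Zs : c.z ∈ c.Zs := c.mem_Zs_of_forall c.z_mem_S fun s _ => c.z_comm s

/-- Squares of elements of the Sylow subgroup act as inner automorphisms. -/
theorem sq_inner {s : X} (hs : s ∈ (c.S : Subgroup X)) : c.ψ (s * s) ∈ (MulAut.conj (G := SL₂)).range := by
  obtain ⟨g, hg⟩ := mem_range_inn.2 (c.fld_eq_one hs)
  rw [map_mul, ← hg]
  exact sq_inn_mem g

/-- An element of the Sylow subgroup inducing an outer automorphism of order `2`, when `k = 2`, is an involution. -/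
theorem sq_eq_one_of_outer (hk : k = 2) (hBc : IsCyclic c.d.B) (hbig : 16 ≤ Nat.card (c.S : Subgroup X)) {g : X}
    (hg : g ∈ (c.S : Subgroup X)) (hout : c.ψ g ∉ (MulAut.conj (G := SL₂)).range) (hgg : g * g ∈ c.Zs) :
    g * g = 1 := by
  haveI : Fact (Nat.Prime 2) := ⟨Nat.prime_two⟩
  by_contra hne
  have hcard := c.card_Zs.trans hk
  obtain ⟨p, -, hpu⟩ := (Nat.card_eq_two_iff' (1 : c.Zs)).1 hcard
  have hz : g * g = c.z := congrArg Subtype.val ((hpu ⟨_, hgg⟩ (fun h => hne (congrArg Subtype.val h))).trans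
    (hpu ⟨c.z, c.z_mem_Zs⟩ (fun h => c.z_ne (congrArg Subtype.val h))).symm)
  obtain ⟨β, hβ⟩ := hBc.exists_generator
  set β' : X := ((β : (c.S : Subgroup X)) : X) with hβ'
  have hβB : β' ∈ c.B := c.mem_B.2 β.2
  have hgen : ∀ y ∈ c.B, ∃ i : ℤ, y = β' ^ i := by
    intro y hy
    obtain ⟨i, hi⟩ := Subgroup.mem_zpowers_iff.1 (hβ ⟨⟨y, c.B_le hy⟩, (c.mem_B (x := ⟨y, c.B_le hy⟩)).1 hy⟩)
    exact ⟨i, (congrArg (fun t : c.d.B => ((t : (c.S : Subgroup X)) : X)) hi).symm⟩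
  have heven : ∀ i : ℤ, Even i → c.ψ (β' ^ i) ∈ (MulAut.conj (G := SL₂)).range := by
    rintro i ⟨i', rfl⟩
    rw [_root_.zpow_add]
    exact c.sq_inner (c.B_le (zpow_mem hβB i'))
  obtain ⟨u, v', -, hv, hV, -⟩ := c.exists_uv
  set v := c.ι v' with hvdef
  by_cases hgB : g ∈ c.B
  · obtain ⟨i, hi⟩ := hgen g hgB
    have hi2 : ¬ Even i := fun h => hout (hi ▸ heven i h)
    have h4 : g ^ 4 = 1 := by rw [show 4 = 2 * 2 from rfl, pow_mul, sq g, hz, sq, c.z_sq]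
    rw [hi, ← zpow_natCast, ← _root_.zpow_mul, ← orderOf_dvd_iff_zpow_eq_one] at h4
    have hBcard : Nat.card c.d.B * 2 = Nat.card (c.S : Subgroup X) := by
      have h := Subgroup.card_mul_index c.d.B
      rwa [c.d.idx] at h
    have hord : orderOf β' = Nat.card c.d.B := by
      rw [hβ', Subgroup.orderOf_coe, Subgroup.orderOf_coe]
      exact orderOf_eq_card_of_forall_mem_zpowers hβ
    obtain ⟨n, hn⟩ := IsPGroup.iff_card.1 (c.S.isPGroup'.to_subgroup c.d.B)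
    rw [hord, hn] at h4
    rw [hn] at hBcard
    have hn3 : 3 ≤ n := by
      by_contra hlt
      have : 2 ^ n ≤ 2 ^ 2 := Nat.pow_le_pow_right (by norm_num) (by omega)
      omega
    have h8 : (8 : ℤ) ∣ i * ((4 : ℕ) : ℤ) := dvd_trans (by exact_mod_cast pow_dvd_pow 2 hn3) h4
    rw [Int.not_even_iff_odd] at hi2
    obtain ⟨i', rfl⟩ := hi2
    omega
  · have hb : v⁻¹ * g ∈ c.B := c.mul_mem_B (inv_mem hv) hg (fun h => hV (inv_inv v ▸ inv_mem h)) hgB
    obtain ⟨i, hi⟩ := hgen _ hb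
    have hvN : v ∈ c.N := c.range_ι ▸ ⟨v', rfl⟩
    have hgeq : g = v * β' ^ i := by rw [← hi, mul_inv_cancel_left]
    have hi2 : ¬ Even i := fun h => hout (by
      rw [hgeq, map_mul]
      exact mul_mem ⟨v', (c.ψ_ι v').symm⟩ (heven i h))
    have hvv : v * v = c.z := by
      rcases c.Zs_inf_N (c.sq_mem_Zs hv hV) (mul_mem hvN hvN) with h | h
      · exfalso
        rcases c.sq_eq_one hvN h with h' | h'
        · exact hV (h' ▸ one_mem _)
        · exact hV (h' ▸ c.Zs_le_B c.z_mem_Zs)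
      · exact h
    -- the norm
    set Nm : X → X := fun y => v * y * v⁻¹ * y with hNm
    have hN1 : ∀ y ∈ c.B, Nm y = v * y * (v * y) * c.z := by
      intro y _
      have hzz : c.z⁻¹ = c.z := inv_eq_of_mul_eq_one_right c.z_sq
      calc v * y * v⁻¹ * y = v * y * (v * ((v * v)⁻¹ * y)) := by group
        _ = v * y * (v * (c.z * y)) := by rw [hvv, hzz]
        _ = v * y * (v * (y * c.z)) := by rw [c.z_comm y]
        _ = _ := by simp only [mul_assoc]
    have hvB : ∀ y ∈ c.B, v * y * v⁻¹ ∈ c.B := by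
      intro y hy
      haveI := Subgroup.normal_of_index_eq_two c.d.idx
      exact (c.mem_B (x := ⟨v, hv⟩ * ⟨y, c.B_le hy⟩ * ⟨v, hv⟩⁻¹)).2
        ((inferInstance : c.d.B.Normal).conj_mem _ ((c.mem_B (x := ⟨y, c.B_le hy⟩)).1 hy) _)
    have hNpow : ∀ j : ℤ, Nm (β' ^ j) = Nm β' ^ j := fun j => by
      show v * β' ^ j * v⁻¹ * β' ^ j = (v * β' * v⁻¹ * β') ^ j
      rw [(show Commute (v * β' * v⁻¹) β' from c.B_comm (hvB _ hβB) hβB).mul_zpow, conj_zpow]
    have hNi : Nm β' ^ i = 1 := by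
      rw [← hNpow, hN1 _ (zpow_mem hβB i), ← hgeq, hz, c.z_sq]
    have hN2 : Nm β' ^ (2 : ℕ) = 1 := by
      have hbv : v * β' ∉ c.B := fun h => hV (by simpa using mul_mem h (inv_mem hβB))
      have hmem : Nm β' ∈ c.Zs := by
        rw [hN1 _ hβB]
        exact mul_mem (c.sq_mem_Zs (mul_mem hv (c.B_le hβB)) hbv) c.z_mem_Zs
      have h2 := congrArg Subtype.val (pow_card_eq_one' (x := (⟨Nm β', hmem⟩ : c.Zs)))
      rw [(c.card_Zs.trans hk : Nat.card c.Zs = 2)] at h2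
      exact h2
    have hNone : Nm β' = 1 := by
      rw [Int.not_even_iff_odd] at hi2
      obtain ⟨i', rfl⟩ := hi2
      rwa [_root_.zpow_add, _root_.zpow_mul, zpow_ofNat, hN2, _root_.one_zpow, one_mul, zpow_one] at hNi
    obtain ⟨x0, hx0, y0, hy0, hne0⟩ := c.d.norm_gen
    obtain ⟨i0, hi0⟩ := hgen _ (c.mem_B.2 hx0)
    refine hne0 1 (one_mem _) (Subtype.ext ?_)
    show (y0 : X) * (x0 : X) * (y0 : X)⁻¹ * (x0 : X) = ((1 * 1 : (c.S : Subgroup X)) : X)
    rw [c.conj_eq y0.2 hv (fun h => hy0 (c.mem_B.1 h)) hV (c.mem_B.2 hx0), hi0]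
    show Nm (β' ^ i0) = _
    rw [hNpow, hNone, _root_.one_zpow, mul_one, OneMemClass.coe_one]

include c in
/-- The generator: coordinates may be changed so that some `g` in the Sylow subgroup induces `α`. -/
theorem exists_gen {α : MulAut SL₂} (hα : α ∈ (inn (F := F)).range) (hαord : orderOf α = k)
    (hout : α ∉ (MulAut.conj (G := SL₂)).range) :
    ∃ (c' : Ctx X F k) (g : X), g ∈ (c'.S : Subgroup X) ∧ c'.ψ g = α ∧ g ^ k = 1 ∧ orderOf g = k ∧
      ∀ i : ℕ, g ^ i ∈ c'.N → k ∣ i := by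
  haveI : Fact (Nat.Prime 2) := ⟨Nat.prime_two⟩
  obtain ⟨m, -, hkm⟩ := c.d.pow_two
  obtain ⟨y₀, hy₀⟩ := c.range_inn_le hα
  obtain ⟨A, B', hB', hAB⟩ := Nat.exists_eq_pow_mul_and_not_dvd (orderOf_pos y₀).ne' 2 (by norm_num)
  have hB'o : Odd B' := Nat.odd_iff.2 (Nat.two_dvd_ne_zero.1 hB')
  obtain ⟨j, hj⟩ := exists_pow_eq_self_of_coprime (n := B') (x := α)
    (by rw [hαord, hkm]; exact ((Nat.coprime_two_left.2 hB'o).pow_left m).symm)
  set y₁ := (y₀ ^ B') ^ j with hy₁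
  have hy₁α : c.ψ y₁ = α := by rw [hy₁, map_pow, map_pow, hy₀, hj]
  obtain ⟨x, hx⟩ := c.exists_conj_mem (T := Subgroup.zpowers y₁) (IsPGroup.of_card_dvd_pow (n := A) (by
    rw [Nat.card_zpowers]
    refine orderOf_dvd_of_pow_eq_one ?_
    rw [hy₁, ← pow_mul, ← pow_mul, mul_comm j, ← mul_assoc, mul_comm B', ← hAB, pow_mul, pow_orderOf_eq_one,
      one_pow]))
  let c' : Ctx X F k := { c with e := c.e.trans (c.ψ x)⁻¹ }
  have hι' : ∀ s, c'.ι s = c.ι (c.ψ x s) := fun s => rfl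
  have hψ' : ∀ y, c'.ψ y = (c.ψ x)⁻¹ * c.ψ y * c.ψ x := fun y => c'.ψ_eq fun s => by
    rw [hι', hι', c.conj_ι, MulAut.mul_apply, MulAut.mul_apply, MulAut.apply_inv_self]
  set g := x * y₁ * x⁻¹ with hg
  have hgS : g ∈ (c'.S : Subgroup X) := hx _ (Subgroup.mem_zpowers _)
  have hgψ : c'.ψ g = α := by
    rw [hψ', hg, map_mul, map_mul, map_inv, hy₁α]; group
  have hgZ : ∀ i : ℕ, g ^ i ∈ c'.Zs ↔ k ∣ i := fun i => by
    rw [← c'.ker_eq, MonoidHom.mem_ker, map_pow, hgψ, ← hαord]; exact orderOf_dvd_iff_pow_eq_one.symm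
  have hgk : g ^ k = 1 := by
    rcases c'.d.lift with ⟨hk2, hBc, hbig⟩ | ⟨hk4, hexp, -⟩
    · have hgg : g * g ∈ c'.Zs := by rw [← sq]; exact (hgZ 2).2 (hk2 ▸ dvd_rfl)
      rw [show g ^ k = g * g by rw [hk2, sq]]
      exact c'.sq_eq_one_of_outer hk2 hBc hbig hgS (hgψ ▸ hout) hgg
    · have hgB : g ∈ c'.B := by
        by_contra h
        have h2 := (hgZ 2).1 (by rw [sq]; exact c'.sq_mem_Zs hgS h)
        have := Nat.le_of_dvd (by norm_num) h2
        omega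
      exact congrArg Subtype.val (hexp ⟨g, hgS⟩ ((c'.mem_B (x := ⟨g, hgS⟩)).1 hgB))
  have hgord : orderOf g = k := Nat.dvd_antisymm (orderOf_dvd_of_pow_eq_one hgk)
    ((hgZ _).1 (by rw [pow_orderOf_eq_one]; exact one_mem _))
  refine ⟨c', g, hgS, hgψ, hgk, hgord, fun i hi => ?_⟩
  by_contra hne
  obtain ⟨n, -, hn⟩ := (Nat.dvd_prime_pow Nat.prime_two).1
    (hkm ▸ hgord ▸ (orderOf_pow_dvd i : orderOf (g ^ i) ∣ orderOf g))
  rcases Nat.eq_zero_or_pos n with rfl | hn0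
  · rw [pow_zero, orderOf_eq_one_iff] at hn
    exact hne (hgord ▸ orderOf_dvd_of_pow_eq_one hn)
  have hw : orderOf (g ^ (i * 2 ^ (n - 1))) = 2 := by
    rw [pow_mul, orderOf_pow_of_dvd (by positivity) (hn ▸ pow_dvd_pow 2 (by omega)), hn,
      Nat.pow_div (by omega) (by norm_num), show n - (n - 1) = 1 by omega, pow_one]
  have hw1 : g ^ (i * 2 ^ (n - 1)) ≠ 1 := fun h => by rw [h, orderOf_one] at hw; omega
  rcases c'.sq_eq_one (show g ^ (i * 2 ^ (n - 1)) ∈ c'.N by rw [pow_mul]; exact pow_mem hi _)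
      (by rw [← sq]
          calc (g ^ (i * 2 ^ (n - 1))) ^ 2 = (g ^ (i * 2 ^ (n - 1))) ^ orderOf (g ^ (i * 2 ^ (n - 1))) := by rw [hw]
            _ = 1 := pow_orderOf_eq_one _) with h | h
  · exact hw1 h
  · have hdvd := (hgZ _).1 (h ▸ c'.z_mem_Zs)
    exact hw1 (by rw [← orderOf_dvd_iff_pow_eq_one, hgord]; exact hdvd)

end Ctx

end Cfsg.Agent.Invol.AbgOrder
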