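import Cfsg.Agent.Lib.Invol.AbgOrder.Shape0Gen
import Cfsg.Agent.Lib.Invol.AbgOrder.Shape0D0

/-!
# The homomorphism from the model

`ι t * d₀ ^ i * (odd scalar) ↦ ι t * g ^ i`.
-/

set_option autoImplicit false

namespace Cfsg.Agent.Invol.AbgOrder

open Matrix Cfsg.Agent.Classical
open Cfsg.Agent.Invol.BrauerL3 (Tbl scal mem_scal)

universe u v w x

variable {X : Type u} [Group X] [Finite X] {F : Type v} [Field F] [Fintype F] {k : ℕ}
  {H : Type w} [Group H] {K : Type x} [CommGroup K] {Q : ℤ}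

/-- The homomorphism. -/
theorem exists_hom (M : Mdl F H K Q) (D : D0 M k) (c : Ctx X F k) {b : ℕ} (hb : Odd b)
    (hkb : Nat.card (scal K Q) = k * b) {g : X} (hgψ : c.ψ g = D.α) (hgk : g ^ k = 1) (hgord : orderOf g = k)
    (hgN : ∀ i : ℕ, g ^ i ∈ c.N → k ∣ i) :
    ∃ π : H →* X, (∀ t, π (M.ι t) = c.ι t) ∧ π D.d = g ∧ π.ker ≤ Subgroup.center H ∧ Nat.card π.ker = b ∧
      (∀ h ∈ Subgroup.center H, Odd (orderOf h) → π h = 1) ∧
      ∀ h, ∃ t, ∃ i : ℕ, ∃ e ∈ Subgroup.center H, Odd (orderOf e) ∧ h = M.ι t * D.d ^ i * e := by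
  haveI : Finite K := M.T.finiteK
  haveI : IsCyclic K := M.T.cyc
  haveI : Finite H := M.finite
  obtain ⟨m, -, hkm⟩ := c.d.pow_two
  have hk0 : 0 < k := c.d.k_pos
  have hcop : ∀ {n : ℕ}, Odd n → Nat.Coprime k n := fun hn => by
    rw [hkm]; exact (Nat.coprime_two_left.2 hn).pow_left m
  let cen : Subgroup (scal K Q) := (powMonoidHom b).ker
  have hcen : Nat.card cen = b := by
    rw [IsCyclic.card_powMonoidHom_ker, hkb, Nat.gcd_mul_left_left]
  let dg : scal K Q →* H := M.T.D.comp ((MonoidHom.id _).prod (MonoidHom.id _))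
  have hinjd : Function.Injective dg := fun e e' h => congrArg Prod.fst (M.T.D_inj h)
  have hdgc : ∀ e, dg e ∈ Subgroup.center H := fun e => M.T.D_center e
  have hdgt : ∀ e, M.T.dt (dg e) = e * e := fun e => M.T.dt_D e e
  have hcenb : ∀ e : cen, (e : scal K Q) ^ b = 1 := fun e => e.2
  let P : Matrix.SpecialLinearGroup (Fin 2) F × Fin k × cen → H :=
    fun p => M.ι p.1 * D.d ^ (p.2.1 : ℕ) * dg p.2.2
  have hsep : ∀ t (i : ℕ) (e : cen) t' (i' : ℕ) (e' : cen),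
      M.ι t * D.d ^ i * dg e = M.ι t' * D.d ^ i' * dg e' → t = t' ∧ i % k = i' % k ∧ e = e' := by
    intro t i e t' i' e' h
    have h1 := congrArg M.T.dt h
    simp only [map_mul, map_pow, M.dt_ι, D.dt_d, hdgt, one_mul] at h1
    have h2 := congrArg (fun y => y ^ b) h1
    simp only [mul_pow, hcenb, mul_one, ← pow_mul, pow_eq_pow_iff_modEq, D.ord] at h2
    have h3 : i % k = i' % k := Nat.ModEq.cancel_right_of_coprime (hcop hb) h2
    have h4 : D.a ^ i = D.a ^ i' := by rw [pow_eq_pow_iff_modEq, D.ord]; exact h3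
    rw [h4, mul_right_inj] at h1
    have h5 : e = e' := by
      refine Subtype.ext ?_
      have h6 : ((e : scal K Q) / e') ^ 2 = 1 := by rw [div_pow, sq, sq, h1, div_self']
      have h7 : ((e : scal K Q) / e') ^ b = 1 := by rw [div_pow, hcenb, hcenb, div_self']
      have h8 : orderOf ((e : scal K Q) / e') ∣ Nat.gcd 2 b :=
        Nat.dvd_gcd (orderOf_dvd_of_pow_eq_one h6) (orderOf_dvd_of_pow_eq_one h7)
      rw [Nat.coprime_two_left.2 hb, Nat.dvd_one, orderOf_eq_one_iff, div_eq_one] at h8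
      exact h8
    have h9 : D.d ^ i = D.d ^ i' := by
      rw [D.d_eq, ← map_pow, ← map_pow, Prod.pow_mk, Prod.pow_mk, one_pow, one_pow, h4]
    rw [h5, h9, mul_left_inj, mul_left_inj] at h
    exact ⟨M.ι_inj h, h3, h5⟩
  have hPbij : Function.Bijective P := by
    haveI : Fintype H := Fintype.ofFinite H
    haveI : Finite (Matrix.SpecialLinearGroup (Fin 2) F) := inferInstance
    refine (Nat.bijective_iff_injective_and_card P).2 ⟨fun p p' h => ?_, ?_⟩
    · obtain ⟨h1, h2, h3⟩ := hsep _ _ _ _ _ _ h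
      refine Prod.ext h1 (Prod.ext (Fin.ext ?_) h3)
      rwa [Nat.mod_eq_of_lt p.2.1.2, Nat.mod_eq_of_lt p'.2.1.2] at h2
    · rw [Nat.card_prod, Nat.card_prod, Nat.card_fin, hcen, M.card, hkb]
  have hdec : ∀ h : H, ∃ t, ∃ i : ℕ, ∃ e : cen, h = M.ι t * D.d ^ i * dg e := fun h => by
    obtain ⟨p, rfl⟩ := hPbij.2 h
    exact ⟨p.1, p.2.1, p.2.2, rfl⟩
  choose T I E hTIE using hdec
  let φ : H → X := fun h => c.ι (T h) * g ^ I h
  have hφ : ∀ t (i : ℕ) (e : cen), φ (M.ι t * D.d ^ i * dg e) = c.ι t * g ^ i := by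
    intro t i e
    obtain ⟨h1, h2, -⟩ := hsep _ _ _ _ _ _ (hTIE (M.ι t * D.d ^ i * dg e))
    show c.ι (T _) * g ^ I _ = _
    rw [← h1, pow_eq_pow_iff_modEq.2 (show I _ ≡ i [MOD orderOf g] by rw [hgord]; exact h2.symm)]
  have hgpow : ∀ (i : ℕ) s, g ^ i * c.ι s = c.ι ((D.α ^ i) s) * g ^ i := fun i s => by
    rw [← mul_inv_eq_iff_eq_mul, c.conj_ι, map_pow, hgψ]
  let π : H →* X := MonoidHom.mk' φ fun h h' => by
    obtain ⟨t, i, e, rfl⟩ : ∃ t i, ∃ e : cen, h = M.ι t * D.d ^ i * dg e := ⟨_, _, _, hTIE h⟩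
    obtain ⟨t', i', e', rfl⟩ : ∃ t i, ∃ e : cen, h' = M.ι t * D.d ^ i * dg e := ⟨_, _, _, hTIE h'⟩
    have hcc := Subgroup.mem_center_iff.1 (hdgc (e : scal K Q))
    have hprod : M.ι t * D.d ^ i * dg e * (M.ι t' * D.d ^ i' * dg e') =
        M.ι (t * (D.α ^ i) t') * D.d ^ (i + i') * dg ((e * e' : cen) : scal K Q) := by
      rw [Subgroup.coe_mul, map_mul, map_mul, pow_add]
      calc M.ι t * D.d ^ i * dg e * (M.ι t' * D.d ^ i' * dg e')
          = M.ι t * D.d ^ i * (dg e * (M.ι t' * D.d ^ i')) * dg e' := by simp only [mul_assoc]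
        _ = M.ι t * (D.d ^ i * M.ι t') * (D.d ^ i' * dg e) * dg e' := by rw [← hcc]; simp only [mul_assoc]
        _ = _ := by rw [D.conj]; simp only [mul_assoc]
    rw [hprod, hφ, hφ, hφ, pow_add, map_mul, mul_assoc (c.ι t) (g ^ i), ← mul_assoc (g ^ i), hgpow]
    simp only [mul_assoc]
  have hπ : ∀ t (i : ℕ) (e : cen), π (M.ι t * D.d ^ i * dg e) = c.ι t * g ^ i := hφ
  have hπι : ∀ t, π (M.ι t) = c.ι t := fun t => by
    have h := hπ t 0 1
    simpa using h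
  have hπd : π D.d = g := by
    have h := hπ 1 1 1
    simpa using h
  have hπc : ∀ e : cen, π (dg e) = 1 := fun e => by
    have h := hπ 1 0 e
    simpa using h
  have hker : π.ker = cen.map dg := by
    ext h
    constructor
    · intro hh
      obtain ⟨t, i, e, rfl⟩ : ∃ t i, ∃ e : cen, h = M.ι t * D.d ^ i * dg e := ⟨_, _, _, hTIE h⟩
      rw [MonoidHom.mem_ker, hπ] at hh
      have hi : k ∣ i := hgN i (by
        rw [eq_inv_of_mul_eq_one_right hh, ← map_inv, ← c.range_ι]; exact ⟨_, rfl⟩)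
      rw [(orderOf_dvd_iff_pow_eq_one.1 (hgord.symm ▸ hi) : g ^ i = 1), mul_one] at hh
      have hd : D.d ^ i = 1 := by obtain ⟨l, rfl⟩ := hi; rw [pow_mul, D.d_pow, one_pow]
      rw [c.ι_inj (hh.trans (map_one _).symm), map_one, hd, one_mul, one_mul]
      exact ⟨e, e.2, rfl⟩
    · rintro ⟨e, he, rfl⟩
      exact MonoidHom.mem_ker.2 (hπc ⟨e, he⟩)
  refine ⟨π, hπι, hπd, ?_, ?_, ?_, fun h => ⟨T h, I h, dg (E h), hdgc _, ?_, hTIE h⟩⟩
  · rw [hker]
    rintro _ ⟨e, -, rfl⟩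
    exact hdgc e
  · rw [hker, Subgroup.card_map_of_injective hinjd, hcen]
  · intro h hh ho
    obtain ⟨e, rfl⟩ := M.T.central h hh
    have he : orderOf (M.T.D (e, e)) = orderOf e := orderOf_injective dg hinjd e
    rw [he] at ho
    refine hπc ⟨e, MonoidHom.mem_ker.2 (show e ^ b = 1 from orderOf_dvd_iff_pow_eq_one.1 ?_)⟩
    exact Nat.Coprime.dvd_of_dvd_mul_left (hcop ho).symm (hkb ▸ orderOf_dvd_natCard e : orderOf e ∣ k * b)
  · rw [orderOf_injective dg hinjd]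
    exact hb.of_dvd_nat (orderOf_dvd_of_pow_eq_one (hcenb _))

end Cfsg.Agent.Invol.AbgOrder
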