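import Cfsg.Agent.Lib.Invol.AbgOrder.Shape0Hom

/-!
# The centraliser modulo its odd core is `GL^ε(2, q)` modulo odd scalars, extended by field automorphisms

`π : H → X` has kernel the central elements of odd order, a normal image and `X = π(H)⟨f⟩`, `f` acting as a field
automorphism of odd order.
-/

set_option autoImplicit false

namespace Cfsg.Agent.Invol.AbgOrder

open Matrix Cfsg.Agent.Classical
open Cfsg.Agent.Invol.BrauerL3 (Tbl scal mem_scal)

universe u v w x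

/-- The shape of `X`. -/
structure Shape0 (X : Type u) [Group X] (F : Type v) [Field F] [Fintype F] (H : Type w) [Group H] (K : Type x)
    [CommGroup K] (Q : ℤ) where
  M : Mdl F H K Q
  π : H →* X
  ker_central : π.ker ≤ Subgroup.center H
  ker_odd : Odd (Nat.card π.ker)
  ker_all : ∀ h ∈ Subgroup.center H, Odd (orderOf h) → π h = 1
  range_normal : π.range.Normal
  f : X
  Φ : MulAut H
  σ : RingAut F
  σ_odd : Odd (orderOf σ)
  orderOf_f : orderOf f = orderOf σ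
  gen : ∀ x : X, ∃ (h : H) (i : ℕ), x = π h * f ^ i
  disj : ∀ i : ℕ, f ^ i ∈ π.range → f ^ i = 1
  Φ_ι : ∀ s, Φ (M.ι s) = M.ι (smi 1 σ s)
  conj_f : ∀ h, f * π h * f⁻¹ = π (Φ h)

variable {X : Type u} [Group X] [Finite X] {F : Type v} [Field F] [Fintype F] {k : ℕ}

/-- The construction. -/
theorem exists_shape {H : Type w} [Group H] {K : Type x} [CommGroup K] {Q : ℤ} (M : Mdl F H K Q)
    (c₀ : Ctx X F k) {b : ℕ} (hb : Odd b) (hkb : Nat.card (scal K Q) = k * b) :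
    Nonempty (Shape0 X F H K Q) := by
  haveI : Fact (Nat.Prime 2) := ⟨Nat.prime_two⟩
  haveI : Finite K := M.T.finiteK
  haveI : Finite H := M.finite
  obtain ⟨m, hm1, hkm⟩ := c₀.d.pow_two
  have hk0 : 0 < k := c₀.d.k_pos
  obtain ⟨D⟩ := exists_d0 M hm1 hkm hb hkb
  obtain ⟨c, g, hgS, hgψ, hgk, hgord, hgN⟩ := c₀.exists_gen D.α_mem D.α_ord D.α_outer
  obtain ⟨π, hπι, hπd, hkc, hkcard, hall, hdec⟩ := exists_hom M D c hb hkb hgψ hgk hgord hgN
  -- the image
  set χ := fld.comp c.ψ with hχ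
  have hχa : ∀ y, χ y = fld (c.ψ y) := fun y => rfl
  have hψπ : ∀ (h : H) θ, (∀ s, h * M.ι s * h⁻¹ = M.ι (θ s)) → c.ψ (π h) = θ := fun h θ hθ =>
    c.ψ_eq fun s => by rw [← hπι, ← hπι, ← map_inv, ← map_mul, ← map_mul, hθ]
  have hrle : π.range ≤ χ.ker := by
    rintro _ ⟨h, rfl⟩
    obtain ⟨g', hg'⟩ := M.back h
    rw [MonoidHom.mem_ker, hχa, hψπ h _ hg']
    exact fld_smi _ 1
  have hrange : π.range = χ.ker := by
    refine Subgroup.eq_of_le_of_card_ge hrle ?_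
    have h1 := π.ker.index_mul_card
    rw [Subgroup.index_ker, hkcard, M.card, hkb, ← mul_assoc] at h1
    have h1' := Nat.eq_of_mul_eq_mul_right hb.pos h1
    have h2 := (c.ψ.domRestrict χ.ker).ker.index_mul_card
    rw [Subgroup.index_ker] at h2
    have hr : (c.ψ.domRestrict χ.ker).range = (inn (F := F)).range := by
      ext θ
      constructor
      · rintro ⟨y, rfl⟩
        exact mem_range_inn.2 y.2
      · intro hθ
        obtain ⟨y, hy⟩ := c.range_inn_le hθ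
        exact ⟨⟨y, MonoidHom.mem_ker.2 (by rw [hχa, hy]; exact mem_range_inn.1 hθ)⟩, hy⟩
    have hk2 : Nat.card (c.ψ.domRestrict χ.ker).ker = k := by
      rw [← Subgroup.card_subtype χ.ker]
      refine (congrArg (fun T : Subgroup X => Nat.card T) ?_).trans c.card_Zs
      rw [← c.ker_eq, MonoidHom.ker_domRestrict, Subgroup.subgroupOf_map_subtype]
      exact inf_eq_left.2 fun y hy => MonoidHom.mem_ker.2 (by
        rw [hχa, MonoidHom.mem_ker.1 hy, map_one])
    rw [hr, hk2, card_range_inn] at h2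
    rw [← h2, h1']
  -- the field part
  haveI : Finite (RingAut F) := Finite.of_injective (fun τ : RingAut F => (τ : F → F)) DFunLike.coe_injective
  haveI hcycR : IsCyclic χ.range := by
    obtain ⟨p, hp⟩ := CharP.exists F
    obtain ⟨n, hpp, hn⟩ := FiniteField.card F p
    haveI : Fact p.Prime := ⟨hpp⟩
    haveI := (PSLAut.card_ringAut (F := F) hn).1
    infer_instance
  obtain ⟨σ', hσ'⟩ := IsCyclic.exists_generator (α := χ.range)
  set σ := (σ' : RingAut F) with hσdef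
  obtain ⟨y, hy⟩ := σ'.2
  have hσord : orderOf σ = Nat.card χ.range := by
    rw [hσdef, Subgroup.orderOf_coe]; exact orderOf_eq_card_of_forall_mem_zpowers hσ'
  have hσodd : Odd (orderOf σ) := by
    rw [hσord, ← Subgroup.index_ker]
    refine Nat.odd_iff.2 (Nat.two_dvd_ne_zero.1 fun h => ?_)
    exact c.S.not_dvd_index (dvd_trans h (Subgroup.index_dvd_of_le fun s hs =>
      MonoidHom.mem_ker.2 (c.fld_eq_one hs)))
  obtain ⟨Φ, hΦo, hΦι⟩ := M.field σ hσodd
  obtain ⟨gy, hgy⟩ := exists_eq (c.ψ y)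
  rw [show fld (c.ψ y) = σ from hy] at hgy
  obtain ⟨y', hy'⟩ := c.range_inn_le (show inn gy ∈ (inn (F := F)).range from ⟨gy, rfl⟩)
  set f₁ := y'⁻¹ * y with hf₁
  have hf₁ψ : c.ψ f₁ = smi 1 σ := by
    rw [hf₁, map_mul, map_inv, hy', hgy, inv_mul_eq_iff_eq_mul]
    show smi gy σ = smi gy 1 * smi 1 σ
    rw [smi_mul, map_one, mul_one, one_mul]
  have hsmi : ∀ i : ℕ, (smi (1 : GL (Fin 2) F) σ) ^ i = smi 1 (σ ^ i) := by
    intro i
    induction i with
    | zero => exact smi_one.symm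
    | succ i ih => rw [pow_succ', ih, smi_mul, map_one, mul_one, pow_succ']
  have hsσ : orderOf (smi (1 : GL (Fin 2) F) σ) = orderOf σ := by
    refine Nat.dvd_antisymm (orderOf_dvd_of_pow_eq_one ?_) ?_
    · rw [hsmi, pow_orderOf_eq_one, smi_one]
    · have h := orderOf_map_dvd fld (smi (1 : GL (Fin 2) F) σ)
      rwa [fld_smi] at h
  obtain ⟨e₂, he₂, hfodd⟩ := exists_odd_pow c.ψ f₁ (by rw [hf₁ψ, hsσ]; exact hσodd)
  set f := f₁ ^ e₂ with hfdef
  have hfψ : c.ψ f = smi 1 σ := he₂.trans hf₁ψ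
  have hfχ : χ f = σ := by rw [hχa, hfψ, fld_smi]
  have hZord : ∀ δ ∈ c.Zs, orderOf δ ∣ 2 ^ m := fun δ hδ => by
    rw [← hkm, ← c.card_Zs, ← Subgroup.orderOf_mk _ hδ]
    exact orderOf_dvd_natCard _
  have hford : orderOf f = orderOf σ := by
    refine Nat.dvd_antisymm ?_ (hfχ ▸ orderOf_map_dvd χ f)
    refine orderOf_dvd_of_pow_eq_one ?_
    have hmem : f ^ orderOf σ ∈ c.Zs := by
      rw [← c.ker_eq, MonoidHom.mem_ker, map_pow, hfψ, ← hsσ, pow_orderOf_eq_one]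
    rw [← orderOf_eq_one_iff, ← Nat.dvd_one, ← (Nat.coprime_two_left.2 hfodd).pow_left m]
    exact Nat.dvd_gcd (hZord _ hmem) (orderOf_pow_dvd _)
  -- `f` fixes the centre of the Sylow subgroup
  haveI := c.d.cyc
  have hZcyc : IsCyclic c.Zs := isCyclic_of_surjective _
    ((Subgroup.center (c.S : Subgroup X)).equivMapOfInjective (c.S : Subgroup X).subtype
      (Subgroup.subtype_injective _)).surjective
  obtain ⟨δ₀, hδ₀⟩ := hZcyc.exists_generator
  have hfconj : ∀ δ ∈ c.Zs, f * δ * f⁻¹ = δ := by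
    have hfix : (MulAut.conj f).toMonoidHom (δ₀ : X) = (δ₀ : X) := by
      refine fixed_of_odd (r := orderOf f) (i := m) _ hfodd ?_ ?_ ?_
      · rw [Subgroup.orderOf_coe, orderOf_eq_card_of_forall_mem_zpowers hδ₀, c.card_Zs]
        exact hkm
      · have hm' : f * (δ₀ : X) * f⁻¹ ∈ c.Zs :=
          (SetLike.ext_iff.1 c.ker_eq _).1
            ((MonoidHom.normal_ker c.ψ).conj_mem _ ((SetLike.ext_iff.1 c.ker_eq _).2 δ₀.2) f)
        obtain ⟨i, hi⟩ := Subgroup.mem_zpowers_iff.1 (hδ₀ ⟨_, hm'⟩)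
        exact ⟨i, congrArg Subtype.val hi⟩
      · have : ∀ n : ℕ, (⇑(MulAut.conj f).toMonoidHom)^[n] (δ₀ : X) = MulAut.conj (f ^ n) δ₀ := by
          intro n
          induction n with
          | zero => simp
          | succ n ih => rw [Function.iterate_succ_apply', ih, pow_succ', map_mul]; rfl
        rw [this, pow_orderOf_eq_one, map_one]; rfl
    intro δ hδ
    obtain ⟨i, hi⟩ := Subgroup.mem_zpowers_iff.1 (hδ₀ ⟨δ, hδ⟩)
    have hd : δ = (δ₀ : X) ^ i := (congrArg Subtype.val hi).symm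
    rw [hd]
    exact (map_zpow (MulAut.conj f) (δ₀ : X) i).trans (congrArg (· ^ i) hfix)
  obtain ⟨t₁, hΦd⟩ := D.apply_d hkm hΦo hΦι
  set δ := (π (Φ D.d))⁻¹ * (f * g * f⁻¹) with hδ
  have hd1 : ∀ s, D.d * M.ι s * D.d⁻¹ = M.ι (D.α s) := fun s => by
    have h := D.conj 1 s
    rw [pow_one, pow_one] at h
    rw [h, mul_inv_cancel_right]
  have hψΦ : c.ψ (π (Φ D.d)) = smi 1 σ * D.α * (smi 1 σ)⁻¹ := by
    refine hψπ _ _ fun s => ?_
    have e1 : M.ι s = Φ (M.ι ((smi 1 σ)⁻¹ s)) := by rw [hΦι, MulAut.apply_inv_self]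
    conv_lhs => rw [e1, ← map_inv, ← map_mul, ← map_mul, hd1, hΦι]
    rfl
  have hδmem : δ ∈ c.Zs := by
    rw [← c.ker_eq, MonoidHom.mem_ker, hδ, map_mul, map_inv, hψΦ, map_mul, map_mul, map_inv, hfψ, hgψ,
      inv_mul_cancel]
  have hfι : ∀ s, f * c.ι s * f⁻¹ = π (Φ (M.ι s)) := fun s => by
    rw [c.conj_ι, hfψ, hΦι, hπι]
  have hΦn : ∀ n : ℕ, ∃ s, (Φ ^ n) D.d = M.ι s * D.d := by
    intro n
    induction n with
    | zero => exact ⟨1, by simp⟩
    | succ n ih =>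
      obtain ⟨s, hs⟩ := ih
      exact ⟨smi 1 σ s * t₁, by rw [pow_succ', MulAut.mul_apply, hs, map_mul, hΦι, hΦd, ← mul_assoc, map_mul]⟩
  have hiterf : ∀ n : ℕ, f ^ n * g * (f ^ n)⁻¹ = π ((Φ ^ n) D.d) * δ ^ n := by
    intro n
    induction n with
    | zero => simp [hπd]
    | succ n ih =>
      obtain ⟨s, hs⟩ := hΦn n
      have h1 : f * g * f⁻¹ = π (Φ D.d) * δ := by rw [hδ, mul_inv_cancel_left]
      have hd1 : ∀ j : ℕ, f * δ ^ j * f⁻¹ = δ ^ j := fun j => hfconj _ (pow_mem hδmem j)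
      calc f ^ (n + 1) * g * (f ^ (n + 1))⁻¹ = f * (f ^ n * g * (f ^ n)⁻¹) * f⁻¹ := by rw [pow_succ']; group
        _ = (f * c.ι s * f⁻¹) * (f * g * f⁻¹) * (f * δ ^ n * f⁻¹) := by
            rw [ih, hs, map_mul, hπι, hπd]; group
        _ = π (Φ (M.ι s)) * π (Φ D.d) * (δ * δ ^ n) := by rw [hfι, h1, hd1]; simp only [mul_assoc]
        _ = _ := by rw [← map_mul, ← map_mul, ← hs, pow_succ', pow_succ', MulAut.mul_apply]
  have hδ1 : δ = 1 := by
    have h := hiterf (orderOf f * orderOf Φ)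
    rw [pow_mul f, pow_orderOf_eq_one, one_pow, one_mul, inv_one, mul_one,
      mul_comm (orderOf f) (orderOf Φ), pow_mul Φ, pow_orderOf_eq_one, one_pow, MulAut.one_apply, hπd] at h
    have h' : δ ^ (orderOf Φ * orderOf f) = 1 := mul_left_cancel (h.symm.trans (mul_one g).symm)
    rw [← orderOf_eq_one_iff, ← Nat.dvd_one, ← (Nat.coprime_two_left.2 (hΦo.mul hfodd)).pow_left m]
    exact Nat.dvd_gcd (hZord _ hδmem) (orderOf_dvd_of_pow_eq_one h')
  have hconj : ∀ h, f * π h * f⁻¹ = π (Φ h) := by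
    intro h
    obtain ⟨t, i, e, hec, heo, rfl⟩ := hdec h
    have h1 : f * g * f⁻¹ = π (Φ D.d) := by
      rw [← mul_inv_cancel_left (π (Φ D.d)) (f * g * f⁻¹), ← hδ, hδ1, mul_one]
    have h2 : π (Φ e) = 1 := by
      refine hall _ ?_ (by rw [MulEquiv.orderOf_eq]; exact heo)
      refine Subgroup.mem_center_iff.2 fun y => Φ.symm.injective ?_
      rw [map_mul, map_mul, MulEquiv.symm_apply_apply]
      exact Subgroup.mem_center_iff.1 hec _
    rw [map_mul, map_mul, map_mul, map_mul, map_mul, map_mul, hπι, hall e hec heo, h2, mul_one, mul_one, ← hfι,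
      map_pow, map_pow, map_pow, hπd, ← h1, conj_pow]
    group
  have hnormal : π.range.Normal := hrange ▸ MonoidHom.normal_ker χ
  refine ⟨⟨M, π, hkc, ?_, hall, hnormal, f, Φ, σ, hσodd, hford, fun y => ?_, fun i hi => ?_, hΦι, hconj⟩⟩
  · rw [hkcard]; exact hb
  · obtain ⟨i, hi⟩ := mem_powers_iff_mem_zpowers.2 (hσ' ⟨χ y, y, rfl⟩)
    have h1 : y * (f ^ i)⁻¹ ∈ χ.ker := by
      rw [MonoidHom.mem_ker, map_mul, map_inv, map_pow, hfχ]
      have hi' : σ ^ i = χ y := congrArg Subtype.val hi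
      rw [hi', mul_inv_cancel]
    rw [← hrange] at h1
    obtain ⟨h, hh⟩ := h1
    exact ⟨h, i, by rw [hh, inv_mul_cancel_right]⟩
  · rw [hrange, MonoidHom.mem_ker, map_pow, hfχ, ← orderOf_dvd_iff_pow_eq_one, ← hford] at hi
    exact orderOf_dvd_iff_pow_eq_one.1 hi

end Cfsg.Agent.Invol.AbgOrder
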