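import Cfsg.Agent.Lib.Invol.AbgOrder.Shape0Cases

/-!
# Orders and involution classes of a group of shape `Shape0`

All involutions lie in the image; besides the central one there is one class, of `Q (Q + 1)` elements.
-/

set_option autoImplicit false

namespace Cfsg.Agent.Invol.AbgOrder

open Matrix Cfsg.Agent.Classical
open Cfsg.Agent.Invol.BrauerL3 (Tbl scal mem_scal)

universe u v w x

variable {X : Type u} [Group X] [Finite X] {F : Type v} [Field F] [Fintype F] {H : Type w} [Group H]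
  {K : Type x} [CommGroup K] {Q : ℤ} (s : Shape0 X F H K Q)

namespace Shape0

include s

theorem card_range : Nat.card s.π.range * Nat.card s.π.ker = Nat.card H := by
  have h := s.π.ker.index_mul_card
  rwa [Subgroup.index_ker] at h

/-- The order of `X`. -/
theorem card_eq : Nat.card X = orderOf s.f * Nat.card s.π.range := by
  haveI := s.range_normal
  let q := QuotientGroup.mk' s.π.range
  have htop : Subgroup.zpowers (q s.f) = ⊤ := by
    refine (Subgroup.eq_top_iff' _).2 fun y => ?_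
    obtain ⟨x, rfl⟩ := QuotientGroup.mk'_surjective s.π.range y
    obtain ⟨h, i, rfl⟩ := s.gen x
    rw [map_mul, map_pow, show q (s.π h) = 1 from (QuotientGroup.eq_one_iff _).2 ⟨h, rfl⟩, one_mul]
    exact pow_mem (Subgroup.mem_zpowers _) i
  have hord : orderOf (q s.f) = orderOf s.f := by
    refine Nat.dvd_antisymm (orderOf_map_dvd q s.f) (orderOf_dvd_of_pow_eq_one (s.disj _ ?_))
    rw [← QuotientGroup.eq_one_iff]
    show q (s.f ^ _) = 1
    rw [map_pow, pow_orderOf_eq_one]
  have h : Nat.card (X ⧸ s.π.range) = orderOf s.f := by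
    rw [← hord, ← Nat.card_zpowers, htop, Subgroup.card_top]
  rw [Subgroup.card_eq_card_quotient_mul_card_subgroup s.π.range, h]

/-- Every involution lies in the image. -/
theorem invol_mem {x : X} (hx : x * x = 1) : x ∈ s.π.range := by
  haveI := s.range_normal
  have hodd : Odd (Nat.card (X ⧸ s.π.range)) := by
    have hc := Subgroup.card_eq_card_quotient_mul_card_subgroup s.π.range
    rw [s.card_eq] at hc
    rw [← Nat.eq_of_mul_eq_mul_right Nat.card_pos hc, s.orderOf_f]
    exact s.σ_odd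
  rw [← QuotientGroup.eq_one_iff, ← orderOf_eq_one_iff, ← Nat.dvd_one, ← Nat.coprime_two_left.2 hodd]
  refine Nat.dvd_gcd (orderOf_dvd_of_pow_eq_one ?_) (orderOf_dvd_natCard _)
  rw [sq, ← QuotientGroup.mk_mul, hx, QuotientGroup.mk_one]

/-- The scalar of order `2`, the central and the non-central involution. -/
theorem exists_invols : ∃ e : scal K Q, e ≠ 1 ∧ e * e = 1 ∧ (∀ y : K, y * y = 1 → y = 1 ∨ y = e) ∧
    orderOf (s.π (s.M.T.D (e, e))) = 2 ∧ s.π (s.M.T.D (e, e)) ∈ Subgroup.center X ∧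
    orderOf (s.π (s.M.T.D (1, e))) = 2 ∧
    (Nat.card {y : X // IsConj (s.π (s.M.T.D (1, e))) y} : ℤ) = Q * (Q + 1) ∧
    ∀ y : X, orderOf y = 2 → y = s.π (s.M.T.D (e, e)) ∨ IsConj (s.π (s.M.T.D (1, e))) y := by
  haveI : Finite H := s.M.finite
  obtain ⟨e, hne, hee, heu, -⟩ := s.M.T.exists_e
  set T := s.M.T
  have hord : ∀ p : scal K Q × scal K Q, p * p = 1 → p ≠ 1 → orderOf (T.D p) = 2 := fun p hp hp1 => by
    refine orderOf_eq_prime (by rw [sq, ← map_mul, hp, map_one]) fun h => hp1 (T.D_inj ?_)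
    rw [h, map_one]
  have hto := hord (e, e) (Prod.ext hee hee) fun h => hne (congrArg Prod.fst h)
  have huo := hord (1, e) (Prod.ext (one_mul 1) hee) fun h => hne (congrArg Prod.snd h)
  have hu2 : T.D (1, e) * T.D (1, e) = 1 := by rw [← sq, ← huo, pow_orderOf_eq_one]
  have hunc : T.D (1, e) ∉ Subgroup.center H := fun h => by
    obtain ⟨c, hc⟩ := T.central _ h
    have h' := T.D_inj hc
    exact hne ((congrArg Prod.snd h').trans (congrArg Prod.fst h').symm)
  have hinj : ∀ g g' : H, g * g = 1 → g' * g' = 1 → s.π g = s.π g' → g = g' := fun g g' hg hg' h =>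
    T.map_inj_invol s.π s.ker_central s.ker_odd hg hg' h
  have hord' : ∀ g : H, orderOf g = 2 → orderOf (s.π g) = 2 := fun g hg => T.orderOf_two_map s.π s.ker_odd hg
  -- the image of an involution under `Φ`
  have hΦt : ∀ g : H, orderOf g = 2 → g ∈ Subgroup.center H → g = T.D (e, e) := by
    intro g hg hc
    rcases T.invol_cases heu hg with h | h
    · exact h
    · obtain ⟨c, hc'⟩ := isConj_iff.1 h.symm
      exfalso
      refine hunc ?_
      rw [← hc', Subgroup.mem_center_iff.1 hc c, mul_inv_cancel_right]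
      exact hc
  have hΦc : ∀ g ∈ Subgroup.center H, s.Φ g ∈ Subgroup.center H := fun g hg => by
    refine Subgroup.mem_center_iff.2 fun y => s.Φ.symm.injective ?_
    rw [map_mul, map_mul, MulEquiv.symm_apply_apply]
    exact Subgroup.mem_center_iff.1 hg _
  have hΦu : IsConj (T.D (1, e)) (s.Φ (T.D (1, e))) := by
    rcases T.invol_cases heu (g := s.Φ (T.D (1, e))) (by rw [MulEquiv.orderOf_eq]; exact huo) with h | h
    · exfalso
      refine hne ?_
      have h1 := s.Φ.injective (h.trans (hΦt _ (by rw [MulEquiv.orderOf_eq]; exact hto)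
        (hΦc _ (T.D_center e))).symm)
      exact (congrArg Prod.fst (T.D_inj h1)).symm
    · exact h
  set z := s.π (T.D (e, e))
  set u := s.π (T.D (1, e)) with hu
  -- a conjugate of `u` is the image of a conjugate
  have hlift : ∀ y : X, IsConj u y → ∃ g, IsConj (T.D (1, e)) g ∧ s.π g = y := by
    have hconjπ : ∀ c : X, ∀ g₀, s.π g₀ = c → ∀ g, IsConj (T.D (1, e)) g →
        IsConj (T.D (1, e)) (g₀ * g * g₀⁻¹) ∧ s.π (g₀ * g * g₀⁻¹) = c * s.π g * c⁻¹ := by
      intro c g₀ h g hg
      exact ⟨hg.trans (isConj_iff.2 ⟨g₀, rfl⟩), by rw [map_mul, map_mul, map_inv, h]⟩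
    intro y hy
    obtain ⟨c, rfl⟩ := isConj_iff.1 hy
    obtain ⟨h, i, rfl⟩ := s.gen c
    have hit : ∀ i : ℕ, ∃ g, IsConj (T.D (1, e)) g ∧ s.π g = s.f ^ i * u * (s.f ^ i)⁻¹ := by
      intro i
      induction i with
      | zero => exact ⟨T.D (1, e), IsConj.refl _, by simp [hu]⟩
      | succ i ih =>
        obtain ⟨g, hg, hgπ⟩ := ih
        refine ⟨s.Φ g, hΦu.trans (s.Φ.toMonoidHom.map_isConj hg), ?_⟩
        rw [← s.conj_f, hgπ, pow_succ']
        group
    obtain ⟨g, hg, hgπ⟩ := hit i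
    obtain ⟨h1, h2⟩ := hconjπ _ h rfl g hg
    refine ⟨_, h1, ?_⟩
    rw [h2, hgπ]
    group
  refine ⟨e, hne, hee, heu, hord' _ hto, ?_, hord' _ huo, ?_, fun y hy => ?_⟩
  · refine Subgroup.mem_center_iff.2 fun x => ?_
    obtain ⟨h, i, rfl⟩ := s.gen x
    have hf : ∀ i : ℕ, s.f ^ i * z = z * s.f ^ i := by
      have h1 : s.f * z = z * s.f := by
        rw [← mul_inv_eq_iff_eq_mul, s.conj_f, hΦt _ (by rw [MulEquiv.orderOf_eq]; exact hto)
          (hΦc _ (T.D_center e))]
      intro i
      exact (Commute.pow_left (show Commute s.f z from h1) i).eq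
    calc s.π h * s.f ^ i * z = s.π h * z * s.f ^ i := by rw [mul_assoc, hf, ← mul_assoc]
      _ = z * (s.π h * s.f ^ i) := by
          rw [← map_mul, Subgroup.mem_center_iff.1 (T.D_center e) h, map_mul, mul_assoc]
  · rw [← T.card_class 1 e (Ne.symm hne), Nat.cast_inj]
    refine (Nat.card_eq_of_bijective (fun g => ⟨s.π g.1, s.π.map_isConj g.2⟩) ⟨fun g g' h => ?_, fun y => ?_⟩).symm
    · have hsq : ∀ r : {g : H // IsConj (T.D (1, e)) g}, r.1 * r.1 = 1 := fun r => by
        obtain ⟨c, hc⟩ := isConj_iff.1 r.2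
        rw [← hc]
        calc c * T.D (1, e) * c⁻¹ * (c * T.D (1, e) * c⁻¹) = c * (T.D (1, e) * T.D (1, e)) * c⁻¹ := by group
          _ = 1 := by rw [hu2]; group
      exact Subtype.ext (hinj _ _ (hsq g) (hsq g') (congrArg Subtype.val h))
    · obtain ⟨g, hg, hgπ⟩ := hlift y.1 y.2
      exact ⟨⟨g, hg⟩, Subtype.ext hgπ⟩
  · have hy2 : y * y = 1 := by rw [← sq, ← hy, pow_orderOf_eq_one]
    obtain ⟨g, hg⟩ := s.invol_mem hy2
    have hy' : orderOf (s.π.rangeRestrict g) = 2 := by
      rw [← Subgroup.orderOf_coe]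
      exact (congrArg orderOf hg).trans hy
    obtain ⟨g', hg'o, hg'⟩ := T.orderOf_two_lift s.π.rangeRestrict s.π.rangeRestrict_surjective
      (s.π.ker_rangeRestrict ▸ s.ker_central) (s.π.ker_rangeRestrict ▸ s.ker_odd) hy'
    have hy'' : s.π g' = y := (congrArg Subtype.val hg').trans hg
    rcases T.invol_cases heu hg'o with h | h
    · exact Or.inl (by rw [← hy'', h])
    · exact Or.inr (hy'' ▸ s.π.map_isConj h)

/-- The centraliser of a non-central involution. -/
theorem card_centralizer {y : X} (hy : orderOf y = 2) (hnc : y ∉ Subgroup.center X) :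
    (Nat.card (Subgroup.centralizer ({y} : Set X)) : ℤ) * (Q * (Q + 1)) = Nat.card X := by
  obtain ⟨e, -, -, -, -, hzc, -, hcard, hcases⟩ := s.exists_invols
  rcases hcases y hy with h | h
  · exact absurd (h ▸ hzc) hnc
  rw [← hcard, Nat.card_congr (Equiv.subtypeEquivRight (fun x => (⟨fun h' => h.symm.trans h', fun h' => h.trans h'⟩ :
    IsConj (s.π (s.M.T.D (1, e))) x ↔ IsConj y x))), ← Nat.cast_mul, Nat.cast_inj]
  have hidx := (Subgroup.centralizer ({y} : Set X)).index_mul_card
  rw [mul_comm, ← hidx, mul_eq_mul_right_iff]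
  left
  have e1 : Nat.card {x : X // IsConj y x} = Nat.card (MulAction.orbit (ConjAct X) y) :=
    Nat.card_congr (Equiv.subtypeEquivRight fun x => by rw [ConjAct.mem_orbit_conjAct, isConj_comm])
  rw [e1, Nat.card_coe_set_eq, ← MulAction.index_stabilizer, ConjAct.stabilizer_eq_centralizer]
  rfl

end Shape0

end Cfsg.Agent.Invol.AbgOrder
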