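import Cfsg.Agent.Lib.Invol.QuasiDihedral
import Cfsg.Agent.Lib.Invol.Wreathed

/-!
# Semidihedral and wreathed `2`-groups as extensions of an abelian group by an involutory action

The common properties used to find the shape of a centraliser of an involution modulo its odd core.
-/

set_option autoImplicit false

namespace Cfsg.Agent.Invol.AbgOrder

universe u

variable {S : Type u} [Group S]

/-- The data used: an abelian subgroup `B` of index `2`, squares outside central, a cyclic centre of order `k`. -/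
structure SylData (S : Type u) [Group S] (k : ℕ) where
  B : Subgroup S
  comm : ∀ a ∈ B, ∀ b ∈ B, a * b = b * a
  idx : B.index = 2
  sq : ∀ s, s ∉ B → s * s ∈ Subgroup.center S
  cyc : IsCyclic (Subgroup.center S)
  card_center : Nat.card (Subgroup.center S) = k
  pow_two : ∃ m : ℕ, 1 ≤ m ∧ k = 2 ^ m
  norm_gen : ∃ x ∈ B, ∃ y, y ∉ B ∧ ∀ c ∈ Subgroup.center S, y * x * y⁻¹ * x ≠ c * c
  lift : (k = 2 ∧ IsCyclic B ∧ 16 ≤ Nat.card S) ∨
    (4 ≤ k ∧ (∀ b ∈ B, b ^ k = 1) ∧ Nat.card S = 2 * k * k)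

theorem qd_center {n : ℕ} {x y : S} (h : Invol.QD S n x y) :
    Subgroup.center S = Subgroup.zpowers (x ^ (2 * Invol.qq n)) := by
  refine le_antisymm (fun s hs => ?_) (Subgroup.zpowers_le.2 (Subgroup.mem_center_iff.2 fun g => h.z_central g))
  have hy := Subgroup.mem_center_iff.1 hs y
  have hx := Subgroup.mem_center_iff.1 hs (x ^ (1 : ℤ))
  obtain ⟨i, rfl | rfl⟩ := h.cases' s
  · rw [h.y_mul_zpow, mul_left_inj, h.zpow_eq] at hy
    obtain ⟨c, hc⟩ := hy
    obtain ⟨r, hr⟩ := h.qq_even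
    have h2 : (Invol.qq n - 1) * i = 2 * Invol.qq n * c := by linarith
    have h3 : 2 * Invol.qq n ∣ i :=
      ⟨r * i - Invol.qq n * c - c, by
        rw [hr] at h2 ⊢
        have h4 : (2 * r + 1) * ((2 * r - 1) * i) = (2 * r + 1) * (2 * (2 * r) * c) := congrArg _ h2
        linear_combination (-1 : ℤ) * h4⟩
    obtain ⟨d, hd⟩ := h3
    exact Subgroup.mem_zpowers_iff.2 ⟨d, by rw [← zpow_mul, hd]⟩
  · exfalso
    rw [← mul_assoc, ← zpow_add, h.mul_y_mul_zpow, mul_left_inj, h.zpow_eq] at hx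
    obtain ⟨c, hc⟩ := hx
    obtain ⟨r, hr⟩ := h.qq_even
    have : 2 * (r * (2 * c + 1)) = 1 := by rw [hr] at hc; linarith
    generalize r * (2 * c + 1) = m at this
    omega

/-- Semidihedral groups. -/
theorem sylData_qd {n : ℕ} {x y : S} (h : Invol.QD S n x y) : Nonempty (SylData S 2) := by
  have hz := Subgroup.mem_center_iff.2 fun g : S => h.z_central g
  have hord := h.orderOf_z
  refine ⟨{ B := Subgroup.zpowers x
            comm := ?_
            idx := h.index_zpowers
            sq := ?_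
            cyc := ?_
            card_center := ?_
            pow_two := ⟨1, le_rfl, rfl⟩
            norm_gen := ?_
            lift := Or.inl ⟨rfl, inferInstance, ?_⟩ }⟩
  · rintro a ⟨i, rfl⟩ b ⟨j, rfl⟩
    exact zpow_mul_comm x i j
  · intro s hs
    obtain ⟨i, rfl | rfl⟩ := h.cases' s
    · exact absurd ⟨i, rfl⟩ hs
    · rw [h.sq_mul_y, mul_comm, zpow_mul]
      exact zpow_mem hz i
  · rw [qd_center h]; infer_instance
  · rw [qd_center h, Nat.card_zpowers, hord]
  · refine ⟨x, Subgroup.mem_zpowers x, y, h.y_notMem, fun c hc => ?_⟩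
    rw [qd_center h] at hc
    obtain ⟨i, rfl⟩ := hc
    have e : x = x ^ (1 : ℤ) := (zpow_one x).symm
    have e2 : y * x * y⁻¹ * x = x ^ (2 * Invol.qq n) := by
      conv_lhs => rw [e, h.conj_zpow]
      rw [← zpow_add]
      congr 1
      ring
    rw [e2]
    show _ ≠ (x ^ (2 * Invol.qq n)) ^ i * (x ^ (2 * Invol.qq n)) ^ i
    have h2 : x ^ (2 * Invol.qq n) * x ^ (2 * Invol.qq n) = 1 := by
      rw [← sq]
      calc _ = (x ^ (2 * Invol.qq n)) ^ orderOf (x ^ (2 * Invol.qq n)) := by rw [hord]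
        _ = 1 := pow_orderOf_eq_one _
    rw [← (Commute.refl _).mul_zpow, h2, one_zpow]
    exact h.z_ne_one
  · rw [h.card]
    calc 16 = 2 ^ 4 := rfl
      _ ≤ _ := Nat.pow_le_pow_right (by norm_num) (by have := h.hn; omega)

/-- Wreathed groups. -/
theorem sylData_wr {n : ℕ} {x y z : S} (h : Invol.WR S n x y z) : Nonempty (SylData S (2 ^ n)) := by
  have hdiag : orderOf (h.el 1 1) = 2 ^ n := h.orderOf_el_of_left 1
  refine ⟨{ B := h.base
            comm := fun a ha b hb => h.base_comm ha hb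
            idx := h.index_base
            sq := ?_
            cyc := ?_
            card_center := ?_
            pow_two := ⟨n, by have := h.hn; omega, rfl⟩
            norm_gen := ?_
            lift := Or.inr ⟨?_, ?_, ?_⟩ }⟩
  · intro s hs
    obtain ⟨i, j, rfl | rfl⟩ := h.cases' s
    · exact absurd (h.el_mem_base i j) hs
    · rw [h.sq_el_z]
      exact Subgroup.mem_center_iff.2 fun g => h.el_diag_central (i + j) g
  · rw [h.center_eq]; infer_instance
  · rw [h.center_eq, Nat.card_zpowers, hdiag]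
  · refine ⟨h.el 1 0, h.el_mem_base 1 0, z, h.z_notMem, fun c hc => ?_⟩
    rw [h.center_eq] at hc
    obtain ⟨i, rfl⟩ := hc
    rw [h.z_conj_el, h.el_mul]
    show _ ≠ h.el 1 1 ^ i * h.el 1 1 ^ i
    rw [h.el_zpow, h.el_mul, Ne, h.el_eq]
    rintro ⟨⟨a, ha⟩, -⟩
    obtain ⟨r, hr⟩ := h.hh_even
    rw [hr] at ha
    have h3 : 2 * (2 * r * a + i) = 1 := by linarith
    generalize 2 * r * a + i = m at h3
    omega
  · calc 4 = 2 ^ 2 := rfl
      _ ≤ _ := Nat.pow_le_pow_right (by norm_num) h.hn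
  · rintro b ⟨i, j, rfl⟩
    have h2 : ((2 ^ n : ℕ) : ℤ) = 2 * Invol.hh n := by rw [← h.ox]; exact h.orderOf_cast
    rw [← zpow_natCast, h.el_zpow, h.el_eq_one, h2]
    exact ⟨dvd_mul_right _ _, dvd_mul_right _ _⟩
  · rw [h.card]; ring

/-- Both kinds have the data. -/
theorem exists_sylData (hS : Cfsg.IsQuasiDihedral S ∨ Cfsg.IsWreathed S) :
    (Cfsg.IsQuasiDihedral S ∧ Nonempty (SylData S 2)) ∨
      (Cfsg.IsWreathed S ∧ ∃ k, 4 ≤ k ∧ Nonempty (SylData S k)) := by
  rcases hS with hS | hS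
  · obtain ⟨n, x, y, h⟩ := Invol.exists_qd hS
    exact Or.inl ⟨hS, sylData_qd h⟩
  · obtain ⟨n, x, y, z, h⟩ := Invol.exists_wr hS
    exact Or.inr ⟨hS, 2 ^ n, le_trans (by norm_num) (Nat.pow_le_pow_right (by norm_num) h.hn), sylData_wr h⟩

namespace SylData

variable {k : ℕ} (d : SylData S k)
include d

theorem k_pos : 0 < k := by obtain ⟨m, -, e⟩ := d.pow_two; rw [e]; positivity

theorem even_k : 2 ∣ k := by
  obtain ⟨m, hm, e⟩ := d.pow_two
  rw [e]; exact dvd_pow_self 2 (by omega)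

theorem center_le : Subgroup.center S ≤ d.B := by
  intro c hc
  by_contra hcB
  obtain ⟨x, hx, y, hy, hne⟩ := d.norm_gen
  have hyx : y * x * y⁻¹ = x := by
    have hyc : c⁻¹ * y ∈ d.B :=
      (Subgroup.mul_mem_iff_of_index_two d.idx).2 (iff_of_false (fun h => hcB (inv_inv c ▸ inv_mem h)) hy)
    have h1 := d.comm _ hyc _ hx
    have h2 := Subgroup.mem_center_iff.1 (inv_mem hc) x
    rw [mul_inv_eq_iff_eq_mul]
    refine mul_left_cancel (a := c⁻¹) ?_
    rw [← mul_assoc, h1, ← mul_assoc, ← mul_assoc, h2]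
  have hxc : x ∈ Subgroup.center S := by
    refine Subgroup.mem_center_iff.2 fun g => ?_
    by_cases hg : g ∈ d.B
    · exact d.comm _ hg _ hx
    · have hgy : g * y⁻¹ ∈ d.B :=
        (Subgroup.mul_mem_iff_of_index_two d.idx).2 (iff_of_false hg fun h => hy (inv_inv y ▸ inv_mem h))
      have h1 := d.comm _ hgy _ hx
      calc g * x = g * y⁻¹ * (y * x * y⁻¹) * y := by group
        _ = g * y⁻¹ * x * y := by rw [hyx]
        _ = x * (g * y⁻¹) * y := by rw [h1]
        _ = x * g := by group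
  exact hne x hxc (by rw [hyx])

theorem mul_mem_B {a b : S} (ha : a ∉ d.B) (hb : b ∉ d.B) : a * b ∈ d.B :=
  (Subgroup.mul_mem_iff_of_index_two d.idx).2 (iff_of_false ha hb)

/-- Elements outside `B` act on it in the same way. -/
theorem conj_eq {a b x : S} (ha : a ∉ d.B) (hb : b ∉ d.B) (hx : x ∈ d.B) : a * x * a⁻¹ = b * x * b⁻¹ := by
  have h : b⁻¹ * a ∈ d.B := d.mul_mem_B (fun h => hb (inv_inv b ▸ inv_mem h)) ha
  have h1 := d.comm _ h _ hx
  calc a * x * a⁻¹ = b * (b⁻¹ * a * x) * a⁻¹ := by group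
    _ = b * (x * (b⁻¹ * a)) * a⁻¹ := by rw [h1]
    _ = b * x * b⁻¹ := by group

/-- An element commuting with one outside `B` and lying in `B` is central. -/
theorem central_of_commute {x y : S} (hx : x ∈ d.B) (hy : y ∉ d.B) (h : y * x * y⁻¹ = x) :
    x ∈ Subgroup.center S := by
  refine Subgroup.mem_center_iff.2 fun g => ?_
  by_cases hg : g ∈ d.B
  · exact d.comm _ hg _ hx
  · rw [← mul_inv_eq_iff_eq_mul, d.conj_eq hg hy hx, h]

end SylData

end Cfsg.Agent.Invol.AbgOrder
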