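import Cfsg.Agent.Lib.Block.Principal
import Cfsg.Agent.Lib.Char.Basic

/-!
# Blocks twisted by a linear character invariant under fusion

`lam` is a linear character of `C ≤ G` taking one value on each class of `G`.  The block induced by `lam` has in every
subgroup `H ≤ C` only the twist of the principal block as a root: multiplying a root by `lam⁻¹` multiplies every
induced central character by a constant, and gives a root of the principal block.
-/

set_option autoImplicit false
set_option linter.unusedSectionVars false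
set_option linter.style.haveILetI false

open scoped ComplexConjugate Classical

namespace Cfsg.Agent.Invol.AbgOrder

open Cfsg Cfsg.Agent.Char Cfsg.Agent.Block

universe u

variable {G : Type u} [Group G] [Finite G] {p : ℕ} {M : Ideal AlgInt}

/-- Multiplication by a linear character. -/
noncomputable def twistIrrC {H : Subgroup G} (μ : H →* ℂˣ) (ξ : IrrCharacter H) : IrrCharacter H :=
  ⟨fun h => (μ h : ℂ) * (ξ : H → ℂ) h, IsIrr.mul_linear ξ.2 μ⟩

theorem twistIrrC_apply {H : Subgroup G} (μ : H →* ℂˣ) (ξ : IrrCharacter H) (h : H) :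
    ((twistIrrC μ ξ : IrrCharacter H) : H → ℂ) h = (μ h : ℂ) * (ξ : H → ℂ) h := rfl

theorem twistIrrC_inv {H : Subgroup G} (μ : H →* ℂˣ) (ξ : IrrCharacter H) :
    twistIrrC μ⁻¹ (twistIrrC μ ξ) = ξ ∧ twistIrrC μ (twistIrrC μ⁻¹ ξ) = ξ := by
  constructor <;> refine Subtype.ext (funext fun h => ?_) <;>
    simp [twistIrrC]

theorem linear_ring {H : Type u} [Group H] [Finite H] (hM : IsPModular p M) (μ : H →* ℂˣ) (h : H) :
    MemLocalRing M (μ h : ℂ) := by
  have := irr_ring hM (⟨_, IsIrr.mul_linear isIrr_one μ⟩ : IrrCharacter H) h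
  simpa using this

theorem sameBlock_twistC (hM : IsPModular p M) {H : Subgroup G} (μ : H →* ℂˣ) {ξ η : IrrCharacter H}
    (h : SameBlock M (ξ : H → ℂ) (η : H → ℂ)) :
    SameBlock M (twistIrrC μ ξ : H → ℂ) (twistIrrC μ η : H → ℂ) := by
  intro g
  have e : ∀ θ : IrrCharacter H,
      centralChar (twistIrrC μ θ : H → ℂ) g = (μ g : ℂ) * centralChar (θ : H → ℂ) g := fun θ => by
    simp only [centralChar, twistIrrC_apply, map_one, Units.val_one, one_mul]
    ring
  rw [e, e, ← mul_sub]
  exact ideal_mul_left hM (linear_ring hM μ g) (h g)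

/-- A linear character of `C` taking one value on the elements of `C` conjugate in `G`. -/
structure FusLin (G : Type u) [Group G] where
  /-- the subgroup -/
  C : Subgroup G
  /-- the character -/
  lam : C →* ℂˣ
  fus : ∀ a b : C, IsConj (a : G) b → lam a = lam b

namespace FusLin

variable (T : FusLin G)

/-- The character on a smaller subgroup. -/
def res {H : Subgroup G} (hle : H ≤ T.C) : H →* ℂˣ := T.lam.comp (Subgroup.inclusion hle)

/-- The value on a class. -/
noncomputable def clsVal (g : G) : ℂˣ := if h : ∃ c : T.C, IsConj g c then T.lam h.choose else 1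

theorem clsVal_eq {g : G} {c : T.C} (h : IsConj g (c : G)) : T.clsVal g = T.lam c := by
  have hex : ∃ c : T.C, IsConj g c := ⟨c, h⟩
  rw [clsVal, dif_pos hex]
  exact T.fus _ _ (hex.choose_spec.symm.trans h)

theorem clsVal_ring (hM : IsPModular p M) (g : G) :
    MemLocalRing M (T.clsVal g : ℂ) ∧ MemLocalRing M ((T.clsVal g)⁻¹ : ℂˣ) := by
  rw [clsVal]
  split_ifs with h
  · exact ⟨linear_ring hM T.lam _, by rw [← map_inv]; exact linear_ring hM T.lam _⟩
  · simpa using ring_one hM

/-- A twist multiplies the induced central character by the value on the class. -/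
theorem inducedCentralChar_twist {H : Subgroup G} (hle : H ≤ T.C) (η : IrrCharacter H) (g : G) :
    inducedCentralChar H (twistIrrC (T.res hle) η : H → ℂ) g =
      (T.clsVal g : ℂ) * inducedCentralChar H (η : H → ℂ) g := by
  simp only [inducedCentralChar]
  cases nonempty_fintype H
  rw [finsum_mem_eq_sum_of_inter_support_eq _ (t := Finset.univ.filter fun h : H => IsConj g (h : G)) (by ext; simp),
    finsum_mem_eq_sum_of_inter_support_eq _ (t := Finset.univ.filter fun h : H => IsConj g (h : G)) (by ext; simp),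
    Finset.mul_sum]
  refine Finset.sum_congr rfl fun h hh => ?_
  replace hh : IsConj g (h : G) := (Finset.mem_filter.1 hh).2
  rw [twistIrrC_apply, twistIrrC_apply, map_one, Units.val_one, one_mul,
    show T.res hle h = T.clsVal g from (T.clsVal_eq (c := Subgroup.inclusion hle h) hh).symm]
  ring

theorem inducedCentralChar_untwist {H : Subgroup G} (hle : H ≤ T.C) (η : IrrCharacter H) (g : G) :
    inducedCentralChar H (twistIrrC (T.res hle)⁻¹ η : H → ℂ) g =
      ((T.clsVal g)⁻¹ : ℂˣ) * inducedCentralChar H (η : H → ℂ) g := by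
  conv_rhs => rw [← (twistIrrC_inv (T.res hle) η).2, T.inducedCentralChar_twist hle, ← mul_assoc,
    Units.inv_mul, one_mul]

/-- The twist of the principal block. -/
def twPrin (M : Ideal AlgInt) {H : Subgroup G} (hle : H ≤ T.C) : Set (IrrCharacter H) :=
  {ξ | twistIrrC (T.res hle)⁻¹ ξ ∈ principalBlock M H}

theorem twPrin_eq (hM : IsPModular p M) {H : Subgroup G} (hle : H ≤ T.C) :
    T.twPrin M hle = blockOf M (twistIrrC (T.res hle) (trivialIrr H) : H → ℂ) := by
  ext ξ
  refine ⟨fun h => mem_blockOf.2 ?_, fun h => ?_⟩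
  · have := sameBlock_twistC hM (T.res hle) (ξ := trivialIrr H) (η := twistIrrC (T.res hle)⁻¹ ξ) (mem_blockOf.1 h)
    rwa [(twistIrrC_inv (T.res hle) ξ).2] at this
  · have := sameBlock_twistC hM (T.res hle)⁻¹ (η := ξ) (mem_blockOf.1 h)
    rw [(twistIrrC_inv (T.res hle) (trivialIrr H)).1] at this
    exact mem_blockOf.2 this

theorem isPBlock_twPrin (hM : IsPModular p M) {H : Subgroup G} (hle : H ≤ T.C) : IsPBlock M (T.twPrin M hle) :=
  ⟨_, T.twPrin_eq hM hle⟩

variable [Fact p.Prime]

/-- The only root in `H` of the block induced by the character is the twist of the principal block. -/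
theorem root_iff (hM : IsPModular p M) {B : Set (IrrCharacter G)}
    (hB : IsInducedBlock M T.C (T.twPrin M le_rfl) B) (hC0 : InducedBlockDefined M T.C (principalBlock M T.C))
    {H : Subgroup G} (hle : H ≤ T.C) {b : Set (IrrCharacter H)} (hb : IsPBlock M b)
    (hdef : ∀ b' : Set (IrrCharacter H), IsPBlock M b' → InducedBlockDefined M H b') :
    IsInducedBlock M H b B ↔ b = T.twPrin M hle := by
  obtain ⟨χ₁, hχ₁⟩ := pblock_nonempty hM hB.2.1
  have h0 : IsInducedBlock M T.C (principalBlock M T.C) (principalBlock M G) :=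
    (principal_third_main hM hC0).2 rfl
  -- the twisted block has the twisted central characters
  have key : ∀ g, MemLocalIdeal M ((T.clsVal g : ℂ) * centralChar (trivialIrr G : G → ℂ) g -
      centralChar (χ₁ : G → ℂ) g) := fun g => by
    have h1 := hB.2.2 (twistIrrC (T.res le_rfl) (trivialIrr T.C))
      (by rw [T.twPrin_eq hM]; exact mem_blockOf_self hM _) χ₁ hχ₁ g
    rw [T.inducedCentralChar_twist] at h1
    have h2 := ideal_mul_left hM (T.clsVal_ring hM g).1
      (h0.2.2 (trivialIrr T.C) (trivial_mem_principalBlock hM) (trivialIrr G) (trivial_mem_principalBlock hM) g)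
    have h3 := ideal_sub hM h1 h2
    rwa [mul_sub, sub_sub_sub_cancel_left] at h3
  constructor
  · intro hind
    obtain ⟨ξ₀, hξ₀⟩ := pblock_nonempty hM hb
    set η₀ := twistIrrC (T.res hle)⁻¹ ξ₀ with hη₀
    have hroot : IsInducedBlock M H (blockOf M (η₀ : H → ℂ)) (principalBlock M G) := by
      refine ⟨isPBlock_blockOf η₀, isPBlock_principalBlock, fun η hη χ hχ g => ?_⟩
      have hξ : twistIrrC (T.res hle) η ∈ b := by
        refine pblock_mem_of_sameBlock hM hb hξ₀ ?_
        have := sameBlock_twistC hM (T.res hle) (mem_blockOf.1 hη)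
        rwa [(twistIrrC_inv (T.res hle) ξ₀).2] at this
      have h1 := hind.2.2 _ hξ χ₁ hχ₁ g
      rw [T.inducedCentralChar_twist] at h1
      have h4 := ideal_mul_left hM (T.clsVal_ring hM g).2 (ideal_sub hM h1 (key g))
      rw [mul_sub, mul_sub, mul_sub, sub_sub_sub_cancel_right, ← mul_assoc, ← mul_assoc, Units.inv_mul, one_mul,
        one_mul] at h4
      have h5 := pblock_sameBlock hM isPBlock_principalBlock (trivial_mem_principalBlock hM) hχ g
      have h6 := ideal_add hM h4 h5
      rwa [sub_add_sub_cancel] at h6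
    have h7 : η₀ ∈ principalBlock M H :=
      (principal_third_main hM (hdef _ (isPBlock_blockOf η₀))).1 hroot ▸ mem_blockOf_self hM η₀
    rw [pblock_eq_blockOf hM hb hξ₀]
    exact (pblock_eq_blockOf hM (T.isPBlock_twPrin hM hle) (show ξ₀ ∈ T.twPrin M hle from h7)).symm
  · rintro rfl
    have h0H : IsInducedBlock M H (principalBlock M H) (principalBlock M G) :=
      (principal_third_main hM (hdef _ isPBlock_principalBlock)).2 rfl
    refine ⟨hb, hB.2.1, fun ξ hξ χ hχ g => ?_⟩
    have h1 := ideal_mul_left hM (T.clsVal_ring hM g).1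
      (h0H.2.2 _ hξ (trivialIrr G) (trivial_mem_principalBlock hM) g)
    rw [T.inducedCentralChar_untwist, mul_sub, ← mul_assoc, Units.mul_inv, one_mul] at h1
    have h2 := ideal_add hM h1 (key g)
    rw [sub_add_sub_cancel] at h2
    have h3 := pblock_sameBlock hM hB.2.1 hχ₁ hχ g
    have h4 := ideal_add hM h2 h3
    rwa [sub_add_sub_cancel] at h4

/-- An element of a class of size prime to `p` at which the character is a nontrivial root of unity of order prime
to `p` keeps the trivial character out of the twisted block. -/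
theorem trivial_notMem (hM : IsPModular p M) {B : Set (IrrCharacter G)}
    (hB : IsInducedBlock M T.C (T.twPrin M le_rfl) B) (hC0 : InducedBlockDefined M T.C (principalBlock M T.C))
    (hdefC : ∀ b' : Set (IrrCharacter T.C), IsPBlock M b' → InducedBlockDefined M T.C b')
    {x : T.C} (hx : ¬ p ∣ (Subgroup.centralizer ({x} : Set T.C)).index) (hne : T.lam x ≠ 1) {n : ℕ}
    (hn : ¬ p ∣ n) (hpow : T.lam x ^ n = 1) : trivialIrr G ∉ B := by
  intro hmem
  obtain rfl : B = principalBlock M G :=
    (pblock_eq_blockOf hM hB.2.1 hmem).trans (pblock_eq_blockOf hM isPBlock_principalBlock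
      (trivial_mem_principalBlock hM)).symm
  have h0 : IsInducedBlock M T.C (principalBlock M T.C) (principalBlock M G) :=
    (principal_third_main hM hC0).2 rfl
  have h1 := (T.root_iff hM hB hC0 le_rfl isPBlock_principalBlock hdefC).1 h0
  have h2 : trivialIrr T.C ∈ blockOf M (twistIrrC (T.res le_rfl) (trivialIrr T.C) : T.C → ℂ) := by
    rw [← T.twPrin_eq hM, ← h1]; exact trivial_mem_principalBlock hM
  have h3 := mem_blockOf.1 h2 x
  simp only [centralChar, twistIrrC_apply, map_one, Units.val_one, trivialIrr, mul_one, div_one, ← mul_sub_one] at h3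
  have hres : T.res le_rfl x = T.lam x := rfl
  rw [hres] at h3
  set ζ : ℂ := ((T.lam x : ℂˣ) : ℂ) with hζ
  have hidx : ¬ MemLocalIdeal M ((Subgroup.centralizer ({x} : Set T.C)).index : ℂ) :=
    fun h => hx ((ideal_natCast_iff hM _).1 h)
  have h4 : MemLocalIdeal M (ζ - 1) := by
    have := ideal_mul_left hM (ring_inv hM (ring_natCast hM _) hidx) h3
    rwa [← mul_assoc, inv_mul_cancel₀ (fun e => hidx (by rw [e]; exact ideal_zero hM)), one_mul] at this
  have hring : MemLocalRing M ζ := linear_ring hM T.lam x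
  have hζn : ζ ^ n = 1 := by rw [hζ, ← Units.val_pow_eq_pow_val, hpow, Units.val_one]
  have hζ1 : ζ ≠ 1 := fun e => hne (Units.ext e)
  have hsum : ∑ i ∈ Finset.range n, ζ ^ i = 0 := by
    have := geom_sum_mul ζ n
    rw [hζn, sub_self] at this
    exact (mul_eq_zero.1 this).resolve_right (sub_ne_zero.2 hζ1)
  refine hn ((ideal_natCast_iff hM n).1 ?_)
  have h5 : MemLocalIdeal M (∑ i ∈ Finset.range n, ((1 : ℂ) - ζ ^ i)) := ideal_sum hM fun i _ => by
    have e : (1 : ℂ) - ζ ^ i = (-(∑ j ∈ Finset.range i, ζ ^ j)) * (ζ - 1) := by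
      rw [neg_mul, geom_sum_mul]; ring
    rw [e]
    exact ideal_mul_left hM (ring_neg (ring_sum hM fun j _ => ring_pow hM hring j)) h4
  rwa [Finset.sum_sub_distrib, hsum, sub_zero, Finset.sum_const, Finset.card_range, nsmul_one] at h5

end FusLin

end Cfsg.Agent.Invol.AbgOrder
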