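import Cfsg.Agent.Lib.Invol.AbgOrder.TwistShape

/-!
# The equations for the twisted vectors

In the wreathed case the equations give `d = 1`, against the absence of a linear character.  In the semidihedral
case they give this as soon as the column at `z` is orthogonal to the two relations among the vectors.
-/

set_option autoImplicit false
set_option linter.unusedSectionVars false
set_option linter.unusedVariables false
set_option maxHeartbeats 4000000

open scoped Classical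

namespace Cfsg.Agent.Invol.AbgOrder

open Cfsg.Agent.Invol.BrauerL3

universe u

variable {ι : Type u} [Fintype ι]

theorem four_sco {v : ι → ℤ} {p q r s : ι × ℤ} (hn : ∑ χ, v χ * v χ ≤ 3) (h1 : p.1 ≠ q.1) (h2 : p.1 ≠ r.1)
    (h3 : p.1 ≠ s.1) (h4 : q.1 ≠ r.1) (h5 : q.1 ≠ s.1) (h6 : r.1 ≠ s.1) (hp : sco v p ≠ 0) (hq : sco v q ≠ 0)
    (hr : sco v r ≠ 0) (hs : sco v s ≠ 0) : False :=
  four_supp hn h1 h2 h3 h4 h5 h6 (sco_ne hp) (sco_ne hq) (sco_ne hr) (sco_ne hs)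

/-- The third term of a vector of norm three. -/
theorem three_of_two {v : ι → ℤ} (hn : ∑ χ, v χ * v χ = 3) {x y : ι × ℤ} (hx : IsSigned x) (hy : IsSigned y)
    (hxy : x.1 ≠ y.1) (h1 : v x.1 = x.2) (h2 : v y.1 = y.2) :
    ∃ z : ι × ℤ, IsSigned z ∧ x.1 ≠ z.1 ∧ y.1 ≠ z.1 ∧ v = sv x + sv y + sv z := by
  obtain ⟨p, q, hp, hq, hpq, hxp, hxq, e⟩ := norm_three hn hx h1
  have h := h2
  rw [e, Pi.add_apply, Pi.add_apply, sv_of_ne hxy.symm, zero_add] at h
  by_cases hp' : p.1 = y.1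
  · refine ⟨q, hq, hxq, hp' ▸ hpq, ?_⟩
    rw [← hp', sv_self, sv_of_ne hpq, add_zero] at h
    rw [e, show p = y from Prod.ext hp' h]
  · by_cases hq' : q.1 = y.1
    · refine ⟨p, hp, hxp, fun e => hp' e.symm, ?_⟩
      rw [← hq', sv_self, sv_of_ne hpq.symm, zero_add] at h
      rw [e, show q = y from Prod.ext hq' h, add_right_comm]
    · rw [sv_of_ne (Ne.symm hp'), sv_of_ne (Ne.symm hq')] at h
      exact absurd (h.symm.trans (add_zero 0)) hy.ne_zero

namespace TVecs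

section Pair

variable {k : ℕ} {gram : Fin k → Fin k → ℤ} {tv : Fin k → ℤ} {pr : Fin k → ℚ} (V : TVecs ι gram tv pr)

/-- The further terms of two vectors with the common pair are disjoint. -/
theorem pair_zero {p q u v : ι × ℤ} {i j : Fin k} (hp : IsSigned p) (hq : IsSigned q) (hu : IsSigned u)
    (hv : IsSigned v) (hd : p.1 ≠ q.1 ∧ p.1 ≠ u.1 ∧ p.1 ≠ v.1 ∧ q.1 ≠ u.1 ∧ q.1 ≠ v.1 ∧ u.1 ≠ v.1)
    (e : V.v i = sv p + sv q + sv u + sv v) (hj : gram j j = 4) (hji : gram j i = 2) (h1 : sco (V.v j) p = 1)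
    (h2 : sco (V.v j) q = 1) : V.v j u.1 = 0 ∧ V.v j v.1 = 0 := by
  obtain ⟨hpq, hpu, hpv, hqu, hqv, huv⟩ := hd
  have h : sco (V.v j) p + sco (V.v j) q + sco (V.v j) u + sco (V.v j) v = 2 := by
    rw [← hji, ← V.gram_eq, e, sum_mul_four]; rfl
  have key : ∀ {u v : ι × ℤ}, IsSigned u → IsSigned v → p.1 ≠ u.1 → p.1 ≠ v.1 → q.1 ≠ u.1 → q.1 ≠ v.1 → u.1 ≠ v.1 →
      V.dg p + V.dg q + V.dg u + V.dg v = 0 → sco (V.v j) u = 1 → sco (V.v j) v = -1 → False := by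
    intro u v hu hv hpu hpv hqu hqv huv hd s t
    obtain ⟨w, hw, w1, w2, w3, e'⟩ :=
      norm_four ((V.gram_eq j j).trans hj) hp hq hu hpq hpu hqu (sco_one hp h1) (sco_one hq h2) (sco_one hu s)
    by_cases hwv : w.1 = v.1
    · have hw2 := (four_at e' hpq hpu w1 hqu w2 w3).2.2.2
      rw [hwv, sco_neg_one hv t] at hw2
      have d := (V.sum_four hp hq hu hw e').1
      have := V.dg_ne hv
      simp only [dg] at d hd this
      rw [hwv, ← hw2, neg_mul] at d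
      omega
    · rw [sco, four_other e' hpv.symm hqv.symm huv.symm (Ne.symm hwv), mul_zero] at t
      omega
  have d := (V.sum_four hp hq hu hv e).1
  have := V.sco_cases hj.le hu
  have := V.sco_cases hj.le hv
  by_cases c : sco (V.v j) u = 0
  · exact ⟨sco_zero hu c, sco_zero hv (by omega)⟩
  · exfalso
    by_cases c1 : sco (V.v j) u = 1
    · exact key hu hv hpu hpv hqu hqv huv d c1 (by omega)
    · exact key hv hu hpv hpu hqv hqu huv.symm (by omega) (by omega) (by omega)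

end Pair

/-- **No twisted component in the wreathed case.** -/
theorem wr_false (Q : ℤ) (V : TVecs ι gramWrF (valWrF Q) (prWrF Q)) (π : ι ≃ ι)
    (hπ : ∀ χ, V.v 5 χ = V.v 4 (π χ)) (hπd : ∀ χ, V.deg (π χ) = V.deg χ) (hπv : ∀ χ, V.val (π χ) = V.val χ)
    (h4 : Q % 4 = 1) (hq3 : 3 ≤ |Q|) (hR : V.R * ((Q : ℚ) ^ 2 + Q + 1) = ((Q : ℚ) + 1) ^ 2) : False := by
  obtain ⟨p, q, e, e', hp, hq, he, he', hd, eF, eF'⟩ := core_pair ((V.gram_eq 2 2).trans rfl)
    ((V.gram_eq 3 3).trans rfl) ((V.gram_eq 2 3).trans rfl)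
  have hs := V.all_sun ![0, 4, 5] hp hq he he' hd eF eF' (by decide) (by decide) (by decide) (by decide)
  obtain ⟨hpq, hpe, hpe', hqe, hqe', hee'⟩ := hd
  obtain ⟨a1, a2, a3, a4⟩ : sco (V.v 0) p = 1 ∧ sco (V.v 0) q = 1 ∧ sco (V.v 0) e = 0 ∧ sco (V.v 0) e' = 0 := hs 0
  obtain ⟨b1, b2, b3, b4⟩ : sco (V.v 4) p = 1 ∧ sco (V.v 4) q = 1 ∧ sco (V.v 4) e = 0 ∧ sco (V.v 4) e' = 0 := hs 1
  obtain ⟨c1, c2, c3, c4⟩ : sco (V.v 5) p = 1 ∧ sco (V.v 5) q = 1 ∧ sco (V.v 5) e = 0 ∧ sco (V.v 5) e' = 0 := hs 2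
  obtain ⟨b, c, hb, hc, hbc, ⟨pb, pc, qb, qc⟩, ⟨eb, ec, eb', ec'⟩, eA⟩ :=
    V.split_sun hp hq he he' hpq (i := 0) rfl a1 a2 a3 a4
  obtain ⟨x, y, hx, hy, hxy, ⟨px, py, qx, qy⟩, ⟨ex, ey, ex', ey'⟩, eM⟩ :=
    V.split_sun hp hq he he' hpq (i := 4) rfl b1 b2 b3 b4
  obtain ⟨x', y', hx', hy', hxy', ⟨px', py', qx', qy'⟩, ⟨ex2, ey2, ex2', ey2'⟩, eM'⟩ :=
    V.split_sun hp hq he he' hpq (i := 5) rfl c1 c2 c3 c4
  have hatM := four_at eM hpq px py qx qy hxy
  have hatM' := four_at eM' hpq px' py' qx' qy' hxy'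
  have z4 := V.pair_zero hp hq hb hc ⟨hpq, pb, pc, qb, qc, hbc⟩ eA (j := 4) rfl rfl b1 b2
  have z5 := V.pair_zero hp hq hb hc ⟨hpq, pb, pc, qb, qc, hbc⟩ eA (j := 5) rfl rfl c1 c2
  have z54 := V.pair_zero hp hq hx hy ⟨hpq, px, py, qx, qy, hxy⟩ eM (j := 5) rfl rfl c1 c2
  have sep : ∀ {a : ι × ℤ} {i : Fin 8} {χ : ι}, V.v i a.1 = a.2 → IsSigned a → V.v i χ = 0 → a.1 ≠ χ :=
    fun {a i χ} h ha h0 e => ha.ne_zero (by rw [← h, e, h0])
  have bx := (sep hatM.2.2.1 hx z4.1).symm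
  have by' := (sep hatM.2.2.2 hy z4.1).symm
  have cx := (sep hatM.2.2.1 hx z4.2).symm
  have cy := (sep hatM.2.2.2 hy z4.2).symm
  have bx' := (sep hatM'.2.2.1 hx' z5.1).symm
  have by2 := (sep hatM'.2.2.2 hy' z5.1).symm
  have cx' := (sep hatM'.2.2.1 hx' z5.2).symm
  have cy' := (sep hatM'.2.2.2 hy' z5.2).symm
  have xx := (sep hatM'.2.2.1 hx' z54.1).symm
  have xy := (sep hatM'.2.2.2 hy' z54.1).symm
  have yx := (sep hatM'.2.2.1 hx' z54.2).symm
  have yy := (sep hatM'.2.2.2 hy' z54.2).symm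
  have iA : ∀ j, sco (V.v j) p + sco (V.v j) q + sco (V.v j) b + sco (V.v j) c = gramWrF j 0 := fun j => by
    rw [← V.gram_eq, eA, sum_mul_four]; rfl
  have iF : ∀ j, sco (V.v j) p + sco (V.v j) q + sco (V.v j) e = gramWrF j 2 := fun j => by
    rw [← V.gram_eq, eF, sum_mul_three]; rfl
  have iF' : ∀ j, sco (V.v j) p + sco (V.v j) q + sco (V.v j) e' = gramWrF j 3 := fun j => by
    rw [← V.gram_eq, eF', sum_mul_three]; rfl
  have iM : ∀ j, sco (V.v j) p + sco (V.v j) q + sco (V.v j) x + sco (V.v j) y = gramWrF j 4 := fun j => by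
    rw [← V.gram_eq, eM, sum_mul_four]; rfl
  have iM' : ∀ j, sco (V.v j) p + sco (V.v j) q + sco (V.v j) x' + sco (V.v j) y' = gramWrF j 5 := fun j => by
    rw [← V.gram_eq, eM', sum_mul_four]; rfl
  have sm : ∀ (j : Fin 8), gramWrF j j = 3 → ∀ {z : ι × ℤ}, IsSigned z →
      sco (V.v j) z = -1 ∨ sco (V.v j) z = 0 ∨ sco (V.v j) z = 1 := fun j hj {z} hz => V.sco_cases (by omega) hz
  have nrm : ∀ (j : Fin 8), gramWrF j j = 3 → ∑ χ, V.v j χ * V.v j χ ≤ 3 := fun j hj => by rw [V.gram_eq, hj]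
  have ssum : ∀ j, gramWrF j j = 3 → ∀ {u v : ι × ℤ}, sco (V.v j) u + sco (V.v j) v ≠ 0 →
      sco (V.v j) u ≠ 0 ∨ sco (V.v j) v ≠ 0 := fun j hj {u v} h => by omega
  -- `o`
  obtain ⟨oe, oe', opq, obc, oxy, oxy'⟩ : sco (V.v 1) e = 0 ∧ sco (V.v 1) e' = 0 ∧
      sco (V.v 1) p + sco (V.v 1) q = 1 ∧ sco (V.v 1) b + sco (V.v 1) c = 1 ∧
      sco (V.v 1) x + sco (V.v 1) y = 0 ∧ sco (V.v 1) x' + sco (V.v 1) y' = 0 := by
    have h0 := iA 1
    have h1 := iF 1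
    have h2 := iF' 1
    have h3 := iM 1
    have h4 := iM' 1
    rw [show gramWrF 1 0 = 2 from rfl] at h0
    rw [show gramWrF 1 2 = 1 from rfl] at h1
    rw [show gramWrF 1 3 = 1 from rfl] at h2
    rw [show gramWrF 1 4 = 1 from rfl] at h3
    rw [show gramWrF 1 5 = 1 from rfl] at h4
    by_cases c0 : sco (V.v 1) e = 0
    · omega
    · exfalso
      rcases ssum 1 rfl (u := x) (v := y) (by omega) with u | u <;>
        rcases ssum 1 rfl (u := x') (v := y') (by omega) with w | w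
      · exact four_sco (nrm 1 rfl) hee' ex ex2 ex' ex2' xx c0 (by omega) u w
      · exact four_sco (nrm 1 rfl) hee' ex ey2 ex' ey2' xy c0 (by omega) u w
      · exact four_sco (nrm 1 rfl) hee' ey ex2 ey' ex2' yx c0 (by omega) u w
      · exact four_sco (nrm 1 rfl) hee' ey ey2 ey' ey2' yy c0 (by omega) u w
  -- the terms in the order of the equations
  obtain ⟨d, a, hd, ha, hda, hdd, op, oq, comm⟩ : ∃ d a : ι × ℤ, IsSigned d ∧ IsSigned a ∧ d.1 ≠ a.1 ∧
      ((d = p ∧ a = q) ∨ (d = q ∧ a = p)) ∧ sco (V.v 1) d = 1 ∧ sco (V.v 1) a = 0 ∧ sv p + sv q = sv d + sv a := by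
    have := sm 1 rfl hp
    have := sm 1 rfl hq
    by_cases hc0 : sco (V.v 1) p = 1
    · exact ⟨p, q, hp, hq, hpq, Or.inl ⟨rfl, rfl⟩, hc0, by omega, rfl⟩
    · exact ⟨q, p, hq, hp, hpq.symm, Or.inr ⟨rfl, rfl⟩, by omega, by omega, add_comm _ _⟩
  obtain ⟨B, C, hB, hC, hBC, hbb, oB, oC, comm'⟩ : ∃ B C : ι × ℤ, IsSigned B ∧ IsSigned C ∧ B.1 ≠ C.1 ∧
      ((B = b ∧ C = c) ∨ (B = c ∧ C = b)) ∧ sco (V.v 1) B = 1 ∧ sco (V.v 1) C = 0 ∧
      V.v 0 = sv d + sv a + sv B + sv C := by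
    have := sm 1 rfl hb
    have := sm 1 rfl hc
    by_cases hc0 : sco (V.v 1) b = 1
    · exact ⟨b, c, hb, hc, hbc, Or.inl ⟨rfl, rfl⟩, hc0, by omega, by rw [eA, comm]⟩
    · exact ⟨c, b, hc, hb, hbc.symm, Or.inr ⟨rfl, rfl⟩, by omega, by omega, by
        rw [eA, comm, add_right_comm]⟩
  have dB : d.1 ≠ B.1 := by
    rcases hdd with ⟨rfl, rfl⟩ | ⟨rfl, rfl⟩ <;> rcases hbb with ⟨rfl, rfl⟩ | ⟨rfl, rfl⟩ <;> assumption
  obtain ⟨i, hi, di, Bi, eo⟩ :=
    three_of_two ((V.gram_eq 1 1).trans rfl) hd hB dB (sco_one hd op) (sco_one hB oB)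
  have oi : V.v 1 i.1 = i.2 := (three_at eo dB di Bi).2.2
  -- `W`
  obtain ⟨Wp, Wq, Wb, Wc, Wxy, Wxy'⟩ : sco (V.v 6) p = 0 ∧ sco (V.v 6) q = 0 ∧ sco (V.v 6) b = 0 ∧
      sco (V.v 6) c = 0 ∧ sco (V.v 6) x + sco (V.v 6) y = -1 ∧ sco (V.v 6) x' + sco (V.v 6) y' = 1 := by
    have h0 := iA 6
    have h1 := iF 6
    have h2 := iF' 6
    have h3 := iM 6
    have h4 := iM' 6
    rw [show gramWrF 6 0 = 0 from rfl] at h0
    rw [show gramWrF 6 2 = 0 from rfl] at h1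
    rw [show gramWrF 6 3 = 0 from rfl] at h2
    rw [show gramWrF 6 4 = -1 from rfl] at h3
    rw [show gramWrF 6 5 = 1 from rfl] at h4
    have := sm 6 rfl hx
    have := sm 6 rfl hy
    have := sm 6 rfl hx'
    have := sm 6 rfl hy'
    have := sm 6 rfl he
    by_cases hc0 : sco (V.v 6) e = 0
    · by_cases cp : sco (V.v 6) p = 0
      · by_cases cb : sco (V.v 6) b = 0
        · omega
        · exfalso
          rcases ssum 6 rfl (u := x) (v := y) (by omega) with u | u <;>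
            rcases ssum 6 rfl (u := x') (v := y') (by omega) with w | w
          · exact four_sco (nrm 6 rfl) hbc bx bx' cx cx' xx cb (by omega) u w
          · exact four_sco (nrm 6 rfl) hbc bx by2 cx cy' xy cb (by omega) u w
          · exact four_sco (nrm 6 rfl) hbc by' bx' cy cx' yx cb (by omega) u w
          · exact four_sco (nrm 6 rfl) hbc by' by2 cy cy' yy cb (by omega) u w
      · exfalso
        rcases ssum 6 rfl (u := x) (v := y) (by omega) with u | u <;>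
          rcases ssum 6 rfl (u := x') (v := y') (by omega) with w | w
        · exact four_sco (nrm 6 rfl) hpq px px' qx qx' xx cp (by omega) u w
        · exact four_sco (nrm 6 rfl) hpq px py' qx qy' xy cp (by omega) u w
        · exact four_sco (nrm 6 rfl) hpq py px' qy qx' yx cp (by omega) u w
        · exact four_sco (nrm 6 rfl) hpq py py' qy qy' yy cp (by omega) u w
    · exfalso
      by_cases hx0 : sco (V.v 6) x ≠ 0 ∧ sco (V.v 6) y ≠ 0
      · exact four_sco (nrm 6 rfl) hee' ex ey ex' ey' hxy hc0 (by omega) hx0.1 hx0.2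
      · exact four_sco (nrm 6 rfl) hee' ex2 ey2 ex2' ey2' hxy' hc0 (by omega) (by omega) (by omega)
  -- `f`
  obtain ⟨fpq, fb, fc, fe, fxy, fxy'⟩ : sco (V.v 7) p + sco (V.v 7) q = 1 ∧ sco (V.v 7) b = 0 ∧ sco (V.v 7) c = 0 ∧
      sco (V.v 7) e = 0 ∧ sco (V.v 7) x + sco (V.v 7) y = 1 ∧ sco (V.v 7) x' + sco (V.v 7) y' = 0 := by
    have h0 := iA 7
    have h1 := iF 7
    have h2 := iF' 7
    have h3 := iM 7
    have h4 := iM' 7
    rw [show gramWrF 7 0 = 1 from rfl] at h0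
    rw [show gramWrF 7 2 = 1 from rfl] at h1
    rw [show gramWrF 7 3 = 1 from rfl] at h2
    rw [show gramWrF 7 4 = 2 from rfl] at h3
    rw [show gramWrF 7 5 = 1 from rfl] at h4
    by_cases hc0 : sco (V.v 7) e = 0
    · by_cases cb : sco (V.v 7) b = 0
      · omega
      · exfalso
        rcases ssum 7 rfl (u := p) (v := q) (by omega) with u | u <;>
          rcases ssum 7 rfl (u := x) (v := y) (by omega) with w | w
        · exact four_sco (nrm 7 rfl) hbc pb.symm bx pc.symm cx px cb (by omega) u w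
        · exact four_sco (nrm 7 rfl) hbc pb.symm by' pc.symm cy py cb (by omega) u w
        · exact four_sco (nrm 7 rfl) hbc qb.symm bx qc.symm cx qx cb (by omega) u w
        · exact four_sco (nrm 7 rfl) hbc qb.symm by' qc.symm cy qy cb (by omega) u w
    · exfalso
      rcases ssum 7 rfl (u := b) (v := c) (by omega) with u | u <;>
        rcases ssum 7 rfl (u := x') (v := y') (by omega) with w | w
      · exact four_sco (nrm 7 rfl) hee' eb ex2 eb' ex2' bx' hc0 (by omega) u w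
      · exact four_sco (nrm 7 rfl) hee' eb ey2 eb' ey2' by2 hc0 (by omega) u w
      · exact four_sco (nrm 7 rfl) hee' ec ex2 ec' ex2' cx' hc0 (by omega) u w
      · exact four_sco (nrm 7 rfl) hee' ec ey2 ec' ey2' cy' hc0 (by omega) u w
  obtain ⟨fd, fi⟩ : sco (V.v 7) d = 1 ∧ sco (V.v 7) i = 1 := by
    have h : sco (V.v 7) d + sco (V.v 7) B + sco (V.v 7) i = 2 := by
      rw [show (2 : ℤ) = gramWrF 7 1 from rfl, ← V.gram_eq, eo, sum_mul_three]; rfl
    have := sm 7 rfl hd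
    have := sm 7 rfl hi
    rcases hbb with ⟨rfl, rfl⟩ | ⟨rfl, rfl⟩ <;> omega
  obtain ⟨X, Y, hX, hY, hXY, hxX, fX, fY, comm4⟩ : ∃ X Y : ι × ℤ, IsSigned X ∧ IsSigned Y ∧ X.1 ≠ Y.1 ∧
      ((X = x ∧ Y = y) ∨ (X = y ∧ Y = x)) ∧ sco (V.v 7) X = 1 ∧ sco (V.v 7) Y = 0 ∧
      V.v 4 = sv d + sv a + sv X + sv Y := by
    have := sm 7 rfl hx
    have := sm 7 rfl hy
    by_cases hc0 : sco (V.v 7) x = 1
    · exact ⟨x, y, hx, hy, hxy, Or.inl ⟨rfl, rfl⟩, hc0, by omega, by rw [eM, comm]⟩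
    · exact ⟨y, x, hy, hx, hxy.symm, Or.inr ⟨rfl, rfl⟩, by omega, by omega, by rw [eM, comm, add_right_comm]⟩
  have dX : d.1 ≠ X.1 := by
    rcases hdd with ⟨rfl, rfl⟩ | ⟨rfl, rfl⟩ <;> rcases hxX with ⟨rfl, rfl⟩ | ⟨rfl, rfl⟩ <;> assumption
  have iX : i.1 ≠ X.1 := by
    refine sep oi hi (sco_zero hX ?_)
    have sx := sm 1 rfl hx
    by_cases hc0 : sco (V.v 1) x = 0
    · rcases hxX with ⟨rfl, rfl⟩ | ⟨rfl, rfl⟩ <;> omega
    · exfalso
      rcases hdd with ⟨rfl, rfl⟩ | ⟨rfl, rfl⟩ <;> rcases hbb with ⟨rfl, rfl⟩ | ⟨rfl, rfl⟩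
      · exact four_sco (nrm 1 rfl) pb px py bx by' hxy (by omega) (by omega) hc0 (by omega)
      · exact four_sco (nrm 1 rfl) pc px py cx cy hxy (by omega) (by omega) hc0 (by omega)
      · exact four_sco (nrm 1 rfl) qb qx qy bx by' hxy (by omega) (by omega) hc0 (by omega)
      · exact four_sco (nrm 1 rfl) qc qx qy cx cy hxy (by omega) (by omega) hc0 (by omega)
  obtain ⟨r, hr, r1, r2, ef⟩ :=
    three_of_two ((V.gram_eq 7 7).trans rfl) hd hi di (sco_one hd fd) (sco_one hi fi)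
  have hrX : r = X := by
    have h := sco_one hX fX
    have h2 := (three_at ef di r1 r2).2.2
    rw [ef, Pi.add_apply, Pi.add_apply, sv_of_ne dX.symm, sv_of_ne iX.symm, zero_add, zero_add] at h
    by_cases hc0 : X.1 = r.1
    · rw [hc0, sv_self] at h
      exact Prod.ext hc0.symm h
    · rw [sv_of_ne hc0] at h
      exact absurd h.symm hX.ne_zero
  subst hrX
  obtain ⟨WX, WY⟩ : sco (V.v 6) r = -1 ∧ sco (V.v 6) Y = 0 := by
    have h : sco (V.v 6) d + sco (V.v 6) i + sco (V.v 6) r = -1 := by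
      rw [show (-1 : ℤ) = gramWrF 6 7 from rfl, ← V.gram_eq, ef, sum_mul_three]; rfl
    have h' : sco (V.v 6) d + sco (V.v 6) B + sco (V.v 6) i = 0 := by
      rw [show (0 : ℤ) = gramWrF 6 1 from rfl, ← V.gram_eq, eo, sum_mul_three]; rfl
    rcases hdd with ⟨rfl, rfl⟩ | ⟨rfl, rfl⟩ <;> rcases hbb with ⟨rfl, rfl⟩ | ⟨rfl, rfl⟩ <;>
      rcases hxX with ⟨rfl, rfl⟩ | ⟨rfl, rfl⟩ <;> omega
  obtain ⟨Y', hY', hy2, WY'⟩ : ∃ Y' : ι × ℤ, IsSigned Y' ∧ (Y' = x' ∨ Y' = y') ∧ sco (V.v 6) Y' = 1 := by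
    have := sm 6 rfl hx'
    have := sm 6 rfl hy'
    by_cases hc0 : sco (V.v 6) x' = 1
    · exact ⟨x', hx', Or.inl rfl, hc0⟩
    · exact ⟨y', hy', Or.inr rfl, by omega⟩
  have rY' : r.1 ≠ Y'.1 := by
    rcases hxX with ⟨rfl, rfl⟩ | ⟨rfl, rfl⟩ <;> rcases hy2 with rfl | rfl <;> assumption
  obtain ⟨j, hj, j1, j2, eW⟩ := three_of_two ((V.gram_eq 6 6).trans rfl) (x := (r.1, -r.2)) (signed_neg hX) hY' rY'
    (sco_neg_one hX WX) (sco_one hY' WY')
  -- degrees and values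
  obtain ⟨dA, vA, qA⟩ := V.sum_four hd ha hB hC comm'
  obtain ⟨do', vo, qo⟩ := V.sum_three hd hB hi eo
  have eF2 : V.v 2 = sv d + sv a + sv e := by rw [eF, comm]
  obtain ⟨dF, vF, qF⟩ := V.sum_three hd ha he eF2
  obtain ⟨dM, vM, qM⟩ := V.sum_four hd ha hX hY comm4
  obtain ⟨dW, vW, qW⟩ := V.sum_three (signed_neg hX) hY' hj eW
  obtain ⟨df, vf, qf⟩ := V.sum_three hd hi hX ef
  rw [(V.neg_dg r).1] at dW
  rw [(V.neg_dg r).2] at vW
  rw [(V.neg_dg r).1, (V.neg_dg r).2, Int.cast_neg, Int.cast_neg, neg_sq, div_neg] at qW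
  -- the conjugate
  have hw5 : V.v 5 Y'.1 = Y'.2 := by rcases hy2 with rfl | rfl <;> [exact hatM'.2.2.1; exact hatM'.2.2.2]
  have had : V.v 5 d.1 = d.2 ∧ V.v 5 a.1 = a.2 := by
    rcases hdd with ⟨rfl, rfl⟩ | ⟨rfl, rfl⟩ <;> [exact ⟨hatM'.1, hatM'.2.1⟩; exact ⟨hatM'.2.1, hatM'.1⟩]
  have aX : a.1 ≠ r.1 ∧ d.1 ≠ Y.1 ∧ a.1 ≠ Y.1 := by
    rcases hdd with ⟨rfl, rfl⟩ | ⟨rfl, rfl⟩ <;> rcases hxX with ⟨rfl, rfl⟩ | ⟨rfl, rfl⟩ <;>
      exact ⟨by assumption, by assumption, by assumption⟩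
  have hat4 := four_at comm4 hda dX aX.2.1 aX.1 aX.2.2 hXY
  have hpair : ∀ {z : ι × ℤ}, IsSigned z → V.v 5 z.1 = z.2 → ∃ w : ι × ℤ, (w = d ∨ w = a ∨ w = r ∨ w = Y) ∧
      π z.1 = w.1 ∧ V.dg z = V.dg w ∧ V.vl z = V.vl w := by
    intro z hz hz5
    rw [hπ] at hz5
    rcases (show π z.1 = d.1 ∨ π z.1 = a.1 ∨ π z.1 = r.1 ∨ π z.1 = Y.1 by
      by_contra h
      push Not at h
      rw [four_other comm4 h.1 h.2.1 h.2.2.1 h.2.2.2] at hz5
      exact hz.ne_zero hz5.symm) with h | h | h | h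
    on_goal 1 => refine ⟨d, Or.inl rfl, h, ?_⟩
    on_goal 2 => refine ⟨a, Or.inr (Or.inl rfl), h, ?_⟩
    on_goal 3 => refine ⟨r, Or.inr (Or.inr (Or.inl rfl)), h, ?_⟩
    on_goal 4 => refine ⟨Y, Or.inr (Or.inr (Or.inr rfl)), h, ?_⟩
    all_goals
      rw [h] at hz5
      simp only [hat4] at hz5
      simp only [dg, vl, ← hπd z.1, ← hπv z.1, h, ← hz5, and_self]
  have dy2 : d.1 ≠ Y'.1 ∧ a.1 ≠ Y'.1 := by
    rcases hdd with ⟨rfl, rfl⟩ | ⟨rfl, rfl⟩ <;> rcases hy2 with rfl | rfl <;>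
      exact ⟨by assumption, by assumption⟩
  have hPy : (V.dg Y' = V.dg r ∧ V.vl Y' = V.vl r) ∨ (V.dg Y' = V.dg Y ∧ V.vl Y' = V.vl Y) := by
    obtain ⟨w, hw, hpw, h1, h2⟩ := hpair hY' hw5
    obtain ⟨w1, hw1, hpw1, h11, h12⟩ := hpair hd had.1
    obtain ⟨w2, hw2, hpw2, h21, h22⟩ := hpair ha had.2
    have n1 : w.1 ≠ w1.1 := fun h => dy2.1 (π.injective (by rw [hpw, hpw1, h]))
    have n2 : w.1 ≠ w2.1 := fun h => dy2.2 (π.injective (by rw [hpw, hpw2, h]))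
    have n3 : w1.1 ≠ w2.1 := fun h => hda (π.injective (by rw [hpw1, hpw2, h]))
    rcases hw with rfl | rfl | rfl | rfl
    · rcases hw1 with rfl | rfl | rfl | rfl
      · exact absurd rfl n1
      · rcases hw2 with rfl | rfl | rfl | rfl
        · exact absurd rfl n2
        · exact absurd rfl n3
        · exact Or.inl ⟨by omega, by omega⟩
        · exact Or.inr ⟨by omega, by omega⟩
      · exact Or.inl ⟨by omega, by omega⟩
      · exact Or.inr ⟨by omega, by omega⟩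
    · rcases hw2 with rfl | rfl | rfl | rfl
      · rcases hw1 with rfl | rfl | rfl | rfl
        · exact absurd rfl n3
        · exact absurd rfl n1
        · exact Or.inl ⟨by omega, by omega⟩
        · exact Or.inr ⟨by omega, by omega⟩
      · exact absurd rfl n2
      · exact Or.inl ⟨by omega, by omega⟩
      · exact Or.inr ⟨by omega, by omega⟩
    · exact Or.inl ⟨h1, h2⟩
    · exact Or.inr ⟨h1, h2⟩
  have nj := V.dg_ne hj
  rcases hPy with ⟨h1, h2⟩ | ⟨h1, h2⟩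
  · omega
  have ne := fun {z : ι × ℤ} (hz : IsSigned z) => V.dg_ne hz
  simp only [show valWrF Q 0 = 0 from rfl, show valWrF Q 1 = 0 from rfl, show valWrF Q 2 = 2 * (1 - Q) from rfl,
    show valWrF Q 4 = 0 from rfl, show valWrF Q 6 = 0 from rfl, show valWrF Q 7 = 2 * (Q + 1) from rfl,
    show prWrF Q 0 = 0 from rfl, show prWrF Q 1 = ((Q : ℚ) - 1) ^ 2 / (Q * (Q + 1)) from rfl,
    show prWrF Q 2 = ((Q : ℚ) - 1) / Q from rfl, show prWrF Q 4 = 0 from rfl,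
    show prWrF Q 6 = ((Q : ℚ) - 1) ^ 2 / (Q * (Q + 1)) from rfl, mul_zero] at vA qA vo qo vF qF vM qM vW qW vf
  rw [show V.dg C = -V.dg d - V.dg a - V.dg B by omega, show V.vl C = -V.vl d - V.vl a - V.vl B by omega] at qA
  rw [show V.dg i = -V.dg d - V.dg B by omega, show V.vl i = -V.vl d - V.vl B by omega] at qo
  rw [show V.dg e = -V.dg d - V.dg a by omega, show V.vl e = 2 * (1 - Q) - V.vl d - V.vl a by omega] at qF
  rw [h1, h2, show V.dg j = V.dg r - V.dg Y by omega, show V.vl j = V.vl r - V.vl Y by omega] at qW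
  push_cast at qA qo qF qW
  let E : WrEqsV Q V.R :=
    { d₀ := V.dg d, v := V.vl d, a := V.dg a, b := V.dg B, x := V.dg r, y := V.dg Y,
      A := V.vl a, B := V.vl B, X := V.vl r, Y := V.vl Y,
      d0_ne := ne hd, a0 := ne ha, a1 := fun h => ne he (by omega), b0 := ne hB,
      b1 := fun h => ne hi (by omega), ab := fun h => ne hC (by omega), x0 := ne hX, y0 := ne hY,
      xy := fun h => nj (by omega), sum_d := by omega, sum_v := by omega,
      eqA := qA, eq0 := qo, eqF := qF, eqM := qM, eqW := qW }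
  have hsol := E.solve h4 hq3 hR (show V.dg r = V.dg B by omega) (show V.vl r = V.vl B + 2 * (Q + 1) by omega)
  exact V.abs_dg_ne hd (i := 1) (by rw [sco_one hd op]; exact hd.ne_zero) hsol.d_eq

/-- The shape in the semidihedral case. -/
structure SdShape {Q : ℤ} (V : TVecs ι gramSd (valSd Q) (pairSd Q)) where
  /-- the common term -/
  d : ι × ℤ
  /-- second term of `A` -/
  a : ι × ℤ
  /-- third term of `A` -/
  b : ι × ℤ
  /-- fourth term of `A` -/
  c : ι × ℤ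
  /-- third term of `o` -/
  i : ι × ℤ
  /-- third terms of the others -/
  e : Fin 3 → ι × ℤ
  hd : IsSigned d
  ha : IsSigned a
  hb : IsSigned b
  hc : IsSigned c
  hi : IsSigned i
  he : ∀ l, IsSigned (e l)
  ne : d.1 ≠ a.1 ∧ d.1 ≠ b.1 ∧ d.1 ≠ c.1 ∧ d.1 ≠ i.1 ∧ a.1 ≠ b.1 ∧ a.1 ≠ c.1 ∧ a.1 ≠ i.1 ∧ b.1 ≠ c.1 ∧ b.1 ≠ i.1 ∧
    c.1 ≠ i.1
  vA : V.v 0 = sv d + sv a + sv b + sv c
  vo : V.v 1 = sv d + sv b + sv i
  vF : ∀ l : Fin 3, V.v l.succ.succ = sv d + sv a + sv (e l)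

/-- **The shape of the twisted vectors in the semidihedral case.** -/
theorem sd_shape (Q : ℤ) (V : TVecs ι gramSd (valSd Q) (pairSd Q)) : Nonempty (SdShape V) := by
  obtain ⟨p, q, e, e', hp, hq, he, he', hd, eF, eF'⟩ := core_pair ((V.gram_eq 2 2).trans rfl)
    ((V.gram_eq 3 3).trans rfl) ((V.gram_eq 2 3).trans rfl)
  obtain ⟨hpq, hpe, hpe', hqe, hqe', hee'⟩ := hd
  have de := (V.sum_three hp hq he eF).1
  have de' := (V.sum_three hp hq he' eF').1
  have iF : ∀ j, sco (V.v j) p + sco (V.v j) q + sco (V.v j) e = gramSd j 2 := fun j => by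
    rw [← V.gram_eq, eF, sum_mul_three]; rfl
  have iF' : ∀ j, sco (V.v j) p + sco (V.v j) q + sco (V.v j) e' = gramSd j 3 := fun j => by
    rw [← V.gram_eq, eF', sum_mul_three]; rfl
  have sm : ∀ (j : Fin 5) {z : ι × ℤ}, IsSigned z →
      sco (V.v j) z = -1 ∨ sco (V.v j) z = 0 ∨ sco (V.v j) z = 1 :=
    fun j {z} hz => V.sco_cases ((show ∀ j, gramSd j j ≤ 4 by decide) j) hz
  have nrm : ∀ (j : Fin 5), gramSd j j = 3 → ∑ χ, V.v j χ * V.v j χ ≤ 3 := fun j hj => by rw [V.gram_eq, hj]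
  -- the third of norm three
  have odd4 : ∀ {p q : ι × ℤ}, IsSigned p → IsSigned q → p.1 ≠ q.1 → p.1 ≠ e.1 → p.1 ≠ e'.1 → q.1 ≠ e.1 → q.1 ≠ e'.1 →
      (∀ j, sco (V.v j) p + sco (V.v j) q + sco (V.v j) e = gramSd j 2) →
      (∀ j, sco (V.v j) p + sco (V.v j) q + sco (V.v j) e' = gramSd j 3) →
      sco (V.v 4) p = 1 → sco (V.v 4) e = 1 → sco (V.v 4) e' = 1 → False := by
    intro p q hp hq hpq hpe hpe' hqe hqe' iF iF' s1 s2 s3
    obtain ⟨r, hr, r1, r2, e4⟩ := three_of_two ((V.gram_eq 4 4).trans rfl) hp he hpe (sco_one hp s1) (sco_one he s2)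
    have hre : r = e' := by
      have h := sco_one he' s3
      rw [e4, Pi.add_apply, Pi.add_apply, sv_of_ne hpe'.symm, sv_of_ne hee'.symm, zero_add, zero_add] at h
      by_cases hc0 : e'.1 = r.1
      · rw [hc0, sv_self] at h
        exact Prod.ext hc0.symm h
      · rw [sv_of_ne hc0] at h
        exact absurd h.symm he'.ne_zero
    subst hre
    have i4 : ∀ j, sco (V.v j) p + sco (V.v j) e + sco (V.v j) r = gramSd j 4 := fun j => by
      rw [← V.gram_eq, e4, sum_mul_three]; rfl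
    have ha1 := iF 0
    have ha2 := iF' 0
    have ha3 := i4 0
    have ho1 := iF 1
    have ho2 := iF' 1
    have ho3 := i4 1
    simp only [show gramSd 0 2 = 2 from rfl, show gramSd 0 3 = 2 from rfl, show gramSd 0 4 = 2 from rfl,
      show gramSd 1 2 = 1 from rfl, show gramSd 1 3 = 1 from rfl, show gramSd 1 4 = 1 from rfl]
      at ha1 ha2 ha3 ho1 ho2 ho3
    have := sm 0 hp
    have := sm 0 he
    have := sm 1 hp
    have := sm 1 hq
    have := sm 1 he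
    by_cases s : sco (V.v 0) e = 1
    · obtain ⟨x, hx, x1, x2, x3, eA⟩ := norm_four ((V.gram_eq 0 0).trans rfl) hq he he' hqe hqe' hee'
        (sco_one hq (by omega)) (sco_one he (by omega)) (sco_one he' (by omega))
      have h : sco (V.v 1) q + sco (V.v 1) e + sco (V.v 1) r + sco (V.v 1) x = 2 := by
        rw [show (2 : ℤ) = gramSd 1 0 from rfl, ← V.gram_eq, eA, sum_mul_four]; rfl
      have := sm 1 hx
      by_cases hq1 : sco (V.v 1) q = 1
      · exact four_sco (nrm 1 rfl) hpq hpe hpe' hqe hqe' hee' (by omega) (by omega) (by omega) (by omega)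
      · omega
    · have ha4 : sco (V.v 0) e = -1 := by omega
      omega
  obtain ⟨f1, f2, f3⟩ : sco (V.v 4) p = 1 ∧ sco (V.v 4) q = 1 ∧ sco (V.v 4) e = 0 ∧ True := by
    have h1 := iF 4
    have h2 := iF' 4
    rw [show gramSd 4 2 = 2 from rfl] at h1
    rw [show gramSd 4 3 = 2 from rfl] at h2
    have := sm 4 hp
    have := sm 4 hq
    have := sm 4 he
    by_cases c0 : sco (V.v 4) e = 0
    · exact ⟨by omega, by omega, c0, trivial⟩
    · exfalso
      by_cases c1 : sco (V.v 4) p = 1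
      · exact odd4 hp hq hpq hpe hpe' hqe hqe' iF iF' c1 (by omega) (by omega)
      · exact odd4 hq hp hpq.symm hqe hqe' hpe hpe' (fun j => by linarith [iF j]) (fun j => by linarith [iF' j])
          (by omega) (by omega) (by omega)
  obtain ⟨g, hg, hpg, hqg, eG⟩ :=
    three_of_two ((V.gram_eq 4 4).trans rfl) hp hq hpq (sco_one hp f1) (sco_one hq f2)
  have f4 : sco (V.v 4) e' = 0 := by
    have h1 := iF' 4
    rw [show gramSd 4 3 = 2 from rfl] at h1
    omega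
  have hge : g.1 ≠ e.1 ∧ g.1 ≠ e'.1 := by
    constructor <;> intro h <;> apply hg.ne_zero <;> rw [← (three_at eG hpq hpg hqg).2.2, h]
    · exact sco_zero he f3.1
    · exact sco_zero he' f4
  have dg' := (V.sum_three hp hq hg eG).1
  have iG : ∀ j, sco (V.v j) p + sco (V.v j) q + sco (V.v j) g = gramSd j 4 := fun j => by
    rw [← V.gram_eq, eG, sum_mul_three]; rfl
  have ha1 := iF 0
  have ha2 := iF' 0
  have ha3 := iG 0
  have ho1 := iF 1
  have ho2 := iF' 1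
  have ho3 := iG 1
  simp only [show gramSd 0 2 = 2 from rfl, show gramSd 0 3 = 2 from rfl, show gramSd 0 4 = 2 from rfl,
    show gramSd 1 2 = 1 from rfl, show gramSd 1 3 = 1 from rfl, show gramSd 1 4 = 1 from rfl]
    at ha1 ha2 ha3 ho1 ho2 ho3
  -- `o`
  have oe : sco (V.v 1) e = 0 := by
    by_contra c0
    by_cases cp : sco (V.v 1) p = 0
    · by_cases cq : sco (V.v 1) q = 0
      · obtain ⟨r, hr, r1, r2, eo⟩ := three_of_two ((V.gram_eq 1 1).trans rfl) he he' hee' (sco_one he (by omega))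
          (sco_one he' (by omega))
        have hrg : r = g := by
          have h := sco_one hg (v := V.v 1) (by omega)
          rw [eo, Pi.add_apply, Pi.add_apply, sv_of_ne hge.1, sv_of_ne hge.2, zero_add, zero_add] at h
          by_cases hc0 : g.1 = r.1
          · rw [hc0, sv_self] at h
            exact Prod.ext hc0.symm h
          · rw [sv_of_ne hc0] at h
            exact absurd h.symm hg.ne_zero
        subst hrg
        have := (V.sum_three he he' hg eo).1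
        have := V.dg_ne he
        omega
      · exact four_sco (nrm 1 rfl) hqe hqe' hqg hee' hge.1.symm hge.2.symm cq c0 (by omega) (by omega)
    · exact four_sco (nrm 1 rfl) hpe hpe' hpg hee' hge.1.symm hge.2.symm cp c0 (by omega) (by omega)
  -- `A`
  obtain ⟨a1, a2, a3, a4⟩ : sco (V.v 0) p = 1 ∧ sco (V.v 0) q = 1 ∧ sco (V.v 0) e = 0 ∧ sco (V.v 0) e' = 0 := by
    have := sm 0 hp
    have := sm 0 hq
    have := sm 0 he
    by_cases c0 : sco (V.v 0) e = 0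
    · omega
    · exfalso
      have key : ∀ {z : ι × ℤ}, IsSigned z → z.1 ≠ e.1 → z.1 ≠ e'.1 → z.1 ≠ g.1 → sco (V.v 0) z = 1 →
          sco (V.v 1) z ≠ 2 → False := by
        intro z hz z1 z2 z3 hs hno
        obtain ⟨r, hr, r1, r2, r3, eA⟩ := norm_four ((V.gram_eq 0 0).trans rfl) hz he he' z1 z2 hee'
          (sco_one hz hs) (sco_one he (by omega)) (sco_one he' (by omega))
        have hrg : r = g := by
          have h := sco_one hg (v := V.v 0) (by omega)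
          rw [eA, Pi.add_apply, Pi.add_apply, Pi.add_apply, sv_of_ne z3.symm, sv_of_ne hge.1, sv_of_ne hge.2,
            zero_add, zero_add, zero_add] at h
          by_cases hc0 : g.1 = r.1
          · rw [hc0, sv_self] at h
            exact Prod.ext hc0.symm h
          · rw [sv_of_ne hc0] at h
            exact absurd h.symm hg.ne_zero
        subst hrg
        have h : sco (V.v 1) z + sco (V.v 1) e + sco (V.v 1) e' + sco (V.v 1) r = 2 := by
          rw [show (2 : ℤ) = gramSd 1 0 from rfl, ← V.gram_eq, eA, sum_mul_four]; rfl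
        omega
      have := sm 1 hp
      have := sm 1 hq
      by_cases cp : sco (V.v 0) p = 1
      · exact key hp hpe hpe' hpg cp (by omega)
      · exact key hq hqe hqe' hqg (by omega) (by omega)
  obtain ⟨b, c, hb, hc, hbc, ⟨pb, pc, qb, qc⟩, ⟨eb, ec, eb', ec'⟩, eA⟩ :=
    V.split_sun hp hq he he' hpq (i := 0) rfl a1 a2 a3 a4
  have hA : sco (V.v 1) p + sco (V.v 1) q + sco (V.v 1) b + sco (V.v 1) c = 2 := by
    rw [show (2 : ℤ) = gramSd 1 0 from rfl, ← V.gram_eq, eA, sum_mul_four]; rfl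
  obtain ⟨d, a, hd, ha, hdd, op, oq, comm⟩ : ∃ d a : ι × ℤ, IsSigned d ∧ IsSigned a ∧
      ((d = p ∧ a = q) ∨ (d = q ∧ a = p)) ∧ sco (V.v 1) d = 1 ∧ sco (V.v 1) a = 0 ∧ sv p + sv q = sv d + sv a := by
    have := sm 1 hp
    have := sm 1 hq
    by_cases hc0 : sco (V.v 1) p = 1
    · exact ⟨p, q, hp, hq, Or.inl ⟨rfl, rfl⟩, hc0, by omega, rfl⟩
    · exact ⟨q, p, hq, hp, Or.inr ⟨rfl, rfl⟩, by omega, by omega, add_comm _ _⟩
  obtain ⟨B, C, hB, hC, hbb, oB, oC, comm'⟩ : ∃ B C : ι × ℤ, IsSigned B ∧ IsSigned C ∧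
      ((B = b ∧ C = c) ∨ (B = c ∧ C = b)) ∧ sco (V.v 1) B = 1 ∧ sco (V.v 1) C = 0 ∧
      V.v 0 = sv d + sv a + sv B + sv C := by
    have := sm 1 hb
    have := sm 1 hc
    by_cases hc0 : sco (V.v 1) b = 1
    · exact ⟨b, c, hb, hc, Or.inl ⟨rfl, rfl⟩, hc0, by omega, by rw [eA, comm]⟩
    · exact ⟨c, b, hc, hb, Or.inr ⟨rfl, rfl⟩, by omega, by omega, by rw [eA, comm, add_right_comm]⟩
  obtain ⟨da, dB, dC, aB, aC, BC⟩ : d.1 ≠ a.1 ∧ d.1 ≠ B.1 ∧ d.1 ≠ C.1 ∧ a.1 ≠ B.1 ∧ a.1 ≠ C.1 ∧ B.1 ≠ C.1 := by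
    rcases hdd with ⟨rfl, rfl⟩ | ⟨rfl, rfl⟩ <;> rcases hbb with ⟨rfl, rfl⟩ | ⟨rfl, rfl⟩ <;>
      refine ⟨?_, ?_, ?_, ?_, ?_, ?_⟩ <;> first | assumption | exact Ne.symm (by assumption)
  obtain ⟨i, hi, di, Bi, eo⟩ :=
    three_of_two ((V.gram_eq 1 1).trans rfl) hd hB dB (sco_one hd op) (sco_one hB oB)
  have oi : V.v 1 i.1 = i.2 := (three_at eo dB di Bi).2.2
  refine ⟨{ d := d, a := a, b := B, c := C, i := i, e := ![e, e', g], hd := hd, ha := ha, hb := hB, hc := hC,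
            hi := hi, he := fun l => by fin_cases l <;> assumption,
            ne := ⟨da, dB, dC, di, aB, aC, fun h => hi.ne_zero (by rw [← oi, ← h]; exact sco_zero ha oq),
              BC, Bi, fun h => hi.ne_zero (by rw [← oi, ← h]; exact sco_zero hC oC)⟩,
            vA := comm', vo := eo, vF := fun l => ?_ }⟩
  rw [← comm]
  fin_cases l <;> assumption

namespace SdShape

variable {Q : ℤ} {V : TVecs ι gramSd (valSd Q) (pairSd Q)} (S : SdShape V)

/-- **No twisted component in the semidihedral case**, given the two relations at `z`. -/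
theorem sd_false (S : SdShape V) {p n : ℕ} (hp : p.Prime) (hn : 0 < n) (hQ : Q = (p : ℤ) ^ n ∨ Q = -(p : ℤ) ^ n)
    (h4 : Q % 4 = 3) (hR : SdIndexR Q V.R)
    (hv : V.vl S.d = V.vl S.a + V.vl S.i) (hB : V.vl S.b = V.vl S.c + V.vl S.i) : False := by
  obtain ⟨dA, vA, qA⟩ := V.sum_four S.hd S.ha S.hb S.hc S.vA
  obtain ⟨do', vo, qo⟩ := V.sum_three S.hd S.hb S.hi S.vo
  obtain ⟨dT, vT, qT⟩ := V.sum_three S.hd S.ha (S.he 0) (i := 2) (S.vF 0)
  obtain ⟨dF, vF, qF⟩ := V.sum_three S.hd S.ha (S.he 1) (i := 3) (S.vF 1)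
  simp only [show valSd Q 0 = 0 from rfl, show valSd Q 1 = 2 * (1 + Q) from rfl, show valSd Q 2 = 0 from rfl,
    show valSd Q 3 = 2 * (1 - Q) from rfl, show pairSd Q 0 = 0 from rfl,
    show pairSd Q 1 = ((Q : ℚ) + 1) / Q from rfl, show pairSd Q 2 = ((Q : ℚ) - 1) / Q from rfl,
    show pairSd Q 3 = ((Q : ℚ) - 1) / Q from rfl, mul_zero] at vA qA vo qo vT qT vF qF
  rw [show V.dg S.c = -V.dg S.d - V.dg S.a - V.dg S.b by omega,
    show V.vl S.c = -V.vl S.d - V.vl S.a - V.vl S.b by omega] at qA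
  rw [show V.dg S.i = -V.dg S.d - V.dg S.b by omega,
    show V.vl S.i = 2 * (1 + Q) - V.vl S.d - V.vl S.b by omega] at qo
  rw [show V.dg (S.e 0) = -V.dg S.d - V.dg S.a by omega, show V.vl (S.e 0) = -V.vl S.d - V.vl S.a by omega] at qT
  rw [show V.dg (S.e 1) = -V.dg S.d - V.dg S.a by omega,
    show V.vl (S.e 1) = 2 * (1 - Q) - V.vl S.d - V.vl S.a by omega] at qF
  push_cast at qA qo qT qF
  let E : SdEqsV Q V.R :=
    { d₀ := V.dg S.d, v := V.vl S.d, a := V.dg S.a, b := V.dg S.b, A := V.vl S.a, B := V.vl S.b,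
      d0_ne := V.dg_ne S.hd, a0 := V.dg_ne S.ha, a1 := fun h => V.dg_ne (S.he 0) (by omega),
      b0 := V.dg_ne S.hb, b1 := fun h => V.dg_ne S.hi (by omega), ab := fun h => V.dg_ne S.hc (by omega),
      eqA := qA, eq0 := qo, eqT := qT, eqF := qF }
  obtain ⟨-, -, -, h⟩ := E.solve hp hn hQ h4 hR
    (show V.vl S.d = V.vl S.a + (2 * (Q + 1) - V.vl S.d - V.vl S.b) by omega)
    (show V.vl S.b = (-V.vl S.d - V.vl S.a - V.vl S.b) + (2 * (Q + 1) - V.vl S.d - V.vl S.b) by omega)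
  obtain ⟨n1, n2, n3, n4, n5, n6, n7, n8, n9, n10⟩ := S.ne
  have hat := four_at S.vA n1 n2 n3 n5 n6 n8
  change V.dg S.d = 1 ∨ V.dg S.d + V.dg S.a + V.dg S.b = 1 at h
  rcases h with h | h
  · exact V.abs_dg_ne S.hd (i := 0) (by rw [hat.1]; exact S.hd.ne_zero) h
  · exact V.abs_dg_ne (signed_neg S.hc) (i := 0) (by show V.v 0 S.c.1 ≠ 0; rw [hat.2.2.2]; exact S.hc.ne_zero)
      (by rw [(V.neg_dg S.c).1]; omega)

end SdShape

end TVecs

end Cfsg.Agent.Invol.AbgOrder
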