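import Cfsg.Agent.Lib.Invol.AbgOrder.TwistBlock
import Cfsg.Agent.Lib.Invol.AbgOrder.OrdVals

/-!
# Projections to a twisted block

`ε` is a linear character of odd order of `C(z)` invariant under fusion, `B` the block it induces.  On the elements of
even order of `C(z)` the kernel of `B` is that of the principal block times `ε(g) conj ε(h)`: the twisted projection
of `ε f` is `ε` times the projection of `f`, with the same inner products, value at `z` and sums over pairs.
-/

set_option autoImplicit false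
set_option linter.unusedSectionVars false
set_option linter.style.haveILetI false

open scoped ComplexConjugate Classical

namespace Cfsg.Agent.Invol.AbgOrder

open Cfsg Cfsg.Agent.Char Cfsg.Agent.Block
open Cfsg.Agent.Invol.BrauerL3 (invol sum_conj_class mul_self_of_two)

universe u v

variable {G : Type u} [Group G] [Fintype G]

/-- The reproducing kernel of a block. -/
noncomputable def blockKerOf (B : Set (IrrCharacter G)) (g h : G) : ℂ :=
  ∑ χ ∈ Finset.univ.filter (fun χ : IrrCharacter G => χ ∈ B), (χ : G → ℂ) g * conj ((χ : G → ℂ) h)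

theorem blockKerOf_conj_right (B : Set (IrrCharacter G)) (g h t : G) :
    blockKerOf B g (t * h * t⁻¹) = blockKerOf B g h := by
  simp only [blockKerOf]
  exact Finset.sum_congr rfl fun χ _ => by rw [irr_classFun χ h t]

theorem blockKerOf_conj_left (B : Set (IrrCharacter G)) (g h t : G) :
    blockKerOf B (t * g * t⁻¹) h = blockKerOf B g h := by
  simp only [blockKerOf]
  exact Finset.sum_congr rfl fun χ _ => by rw [irr_classFun χ g t]

theorem blockKerOf_finsum (B : Set (IrrCharacter G)) (g h : G) :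
    blockKerOf B g h = ∑ᶠ χ ∈ B, (χ : G → ℂ) g * conj ((χ : G → ℂ) h) := by
  rw [finsum_mem_block, blockKerOf]

variable {M : Ideal AlgInt}

theorem defined_centralizer (hM : IsPModular 2 M) {x : G} (hx : ∃ k : ℕ, orderOf x = 2 ^ k)
    {b : Set (IrrCharacter (Cz x))} (hb : IsPBlock M b) : InducedBlockDefined M (Cz x) b := by
  obtain ⟨k, hk⟩ := hx
  refine inducedBlockDefined_brauer hM (P := Subgroup.zpowers x)
    (IsPGroup.of_card (n := k) (by rw [Nat.card_zpowers, hk])) (Subgroup.zpowers_le.2 (centralizer_self_mem x))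
    (Subgroup.centralizer_le (Set.singleton_subset_iff.2 (Subgroup.mem_zpowers x)))
    (le_trans (fun t ht => Subgroup.mem_centralizer_iff.2 fun w hw => ?_) (Subgroup.centralizer_le_normalizer _)) hb
  obtain ⟨i, rfl⟩ := Subgroup.mem_zpowers_iff.1 hw
  exact ((show Commute t x from Subgroup.mem_centralizer_singleton_iff.1 ht).zpow_right i).eq.symm

/-- On one section the kernel of a block with one root in the centraliser is the kernel of that root. -/
theorem blockKerOf_section (hM : IsPModular 2 M) {B : Set (IrrCharacter G)} (hB : IsPBlock M B) {z : G}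
    (hz : ∃ k : ℕ, orderOf z = 2 ^ k) {b : Set (IrrCharacter (Cz z))} (hb : IsPBlock M b)
    (hroot : ∀ ξ : IrrCharacter (Cz z),
      IsInducedBlock M (Cz z) (blockOf M (ξ : Cz z → ℂ)) B ↔ ξ ∈ b)
    {y y' : Cz z} (hy : ¬ 2 ∣ orderOf y) (hy' : ¬ 2 ∣ orderOf y') :
    blockKerOf B (z * (y : G)) (z * (y' : G)) = blockKerOf b y y' := by
  haveI : Fact (Nat.Prime 2) := ⟨Nat.prime_two⟩
  set S := Finset.univ.filter (fun ξ : IrrCharacter (Cz z) => ξ ∈ b)
  set Φ : (Cz z) → ℂ := fun c => ∑ ξ ∈ S, (ξ : (Cz z) → ℂ) y * conj ((ξ : (Cz z) → ℂ) c) with hΦdef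
  have hΦ : ∀ c, 2 ∣ orderOf c → Φ c = 0 := fun c hc => by
    show blockKerOf b y c = 0
    rw [blockKerOf_finsum]
    exact weak_orth hM hb hy hc
  have hexp : ∀ χ : IrrCharacter G,
      ∑ ξ ∈ S, classInner (fun c : (Cz z) => (χ : G → ℂ) (z * (c : G))) (ξ : (Cz z) → ℂ) * (ξ : (Cz z) → ℂ) y =
      if χ ∈ B then (χ : G → ℂ) (z * (y : G)) else 0 := fun χ => by
    rw [← value_eq_sum_inducing hM hz hB hy χ]
    refine Finset.sum_congr ?_ fun ξ _ => rfl
    ext ξ
    simp only [S, Finset.mem_filter, Finset.mem_univ, true_and, hroot]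
  calc blockKerOf B (z * (y : G)) (z * (y' : G))
      = ∑ χ : IrrCharacter G, (∑ ξ ∈ S, classInner (fun c : (Cz z) => (χ : G → ℂ) (z * (c : G))) (ξ : (Cz z) → ℂ) *
          (ξ : (Cz z) → ℂ) y) * conj ((χ : G → ℂ) (z * (y' : G))) := by
        rw [blockKerOf, Finset.sum_filter]
        exact Finset.sum_congr rfl fun χ _ => by rw [hexp χ, ite_mul, zero_mul]
    _ = (Nat.card (Cz z) : ℂ)⁻¹ * ∑ c : (Cz z),
          (∑ χ : IrrCharacter G, (χ : G → ℂ) (z * (c : G)) * conj ((χ : G → ℂ) (z * (y' : G)))) * Φ c := by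
        simp only [hΦdef, classInner, Finset.sum_mul]
        simp only [Finset.mul_sum, Finset.sum_mul]
        rw [Finset.sum_comm_cycle]
        exact Finset.sum_congr rfl fun c _ => Finset.sum_congr rfl fun χ _ =>
          Finset.sum_congr rfl fun ξ _ => by ring
    _ = Φ y' := ?_
  have hcomm : ∀ t : (Cz z), Commute z (t : G) := fun t =>
    (Subgroup.mem_centralizer_singleton_iff.1 t.2 : (t : G) * z = z * t).symm
  obtain ⟨k, hk⟩ := hz
  have hpp : ∀ {c : (Cz z)}, ¬ 2 ∣ orderOf c → IsPPart 2 (z * (c : G)) z := fun {c} hc =>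
    ⟨c, rfl, hcomm c, ⟨k, hk⟩, by rwa [Subgroup.orderOf_coe]⟩
  have hcent : ∀ {t : G}, Commute t (z * (y' : G)) → t ∈ (Cz z) ∧ Commute t (y' : G) := fun {t} ht => by
    have hzz : t * z * t⁻¹ = z := by
      refine pPart_unique ?_ (hpp hy')
      have := pPart_conj (hpp hy') t
      rwa [ht.eq, mul_inv_cancel_right] at this
    have h1 : Commute t z := mul_inv_eq_iff_eq_mul.1 hzz
    exact ⟨Subgroup.mem_centralizer_singleton_iff.2 h1.eq,
      by simpa using h1.inv_right.mul_right ht⟩
  have hcard : Nat.card (Subgroup.centralizer ({z * (y' : G)} : Set G)) =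
      Nat.card (Subgroup.centralizer ({y'} : Set (Cz z))) := by
    refine Nat.card_congr
      { toFun := fun g => ⟨⟨g.1, (hcent (Subgroup.mem_centralizer_singleton_iff.1 g.2)).1⟩,
          Subgroup.mem_centralizer_singleton_iff.2
            (Subtype.ext (hcent (Subgroup.mem_centralizer_singleton_iff.1 g.2)).2.eq)⟩
        invFun := fun t => ⟨(t.1 : G), Subgroup.mem_centralizer_singleton_iff.2
          ((hcomm t.1).symm.mul_right (congrArg Subtype.val (Subgroup.mem_centralizer_singleton_iff.1 t.2) :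
            Commute (t.1 : G) (y' : G))).eq⟩
        left_inv := fun g => rfl
        right_inv := fun t => rfl }
  have hcol : ∀ c : (Cz z),
      (∑ χ : IrrCharacter G, (χ : G → ℂ) (z * (c : G)) * conj ((χ : G → ℂ) (z * (y' : G)))) * Φ c =
        (∑ η : IrrCharacter (Cz z), (η : (Cz z) → ℂ) c * conj ((η : (Cz z) → ℂ) y')) * Φ y' := by
    intro c
    rw [sum_irr_mul_conj, sum_irr_mul_conj]
    by_cases hc : IsConj c y'
    · obtain ⟨t, ht⟩ := isConj_iff.1 hc
      have hc' : IsConj (z * (c : G)) (z * (y' : G)) := by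
        refine isConj_iff.2 ⟨(t : G), ?_⟩
        rw [← ht, Subgroup.coe_mul, Subgroup.coe_mul, Subgroup.coe_inv, ← mul_assoc, ← (hcomm t).eq]
        simp only [mul_assoc]
      rw [if_pos hc, if_pos hc', hcard]
      congr 1
      simp only [hΦdef]
      refine Finset.sum_congr rfl fun ξ _ => ?_
      rw [IsClass.eq_of_isConj (irr_classFun ξ) hc]
    · rw [if_neg hc, zero_mul]
      by_cases hcreg : 2 ∣ orderOf c
      · rw [hΦ c hcreg, mul_zero]
      · rw [if_neg, zero_mul]
        intro hconj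
        obtain ⟨g, hg⟩ := isConj_iff.1 hconj
        have h1 := pPart_conj (hpp hcreg) g
        rw [hg] at h1
        have hgz := pPart_unique h1 (hpp hy')
        refine hc (isConj_iff.2 ⟨⟨g, Subgroup.mem_centralizer_singleton_iff.2 (mul_inv_eq_iff_eq_mul.1 hgz)⟩,
          Subtype.ext ?_⟩)
        show g * (c : G) * g⁻¹ = y'
        refine mul_left_cancel (a := z) (Eq.trans ?_ hg)
        calc z * (g * (c : G) * g⁻¹) = g * z * g⁻¹ * (g * c * g⁻¹) := by rw [hgz]
          _ = g * (z * c) * g⁻¹ := by group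
  rw [Finset.sum_congr rfl fun c _ => hcol c, ← Finset.sum_mul, Finset.sum_comm,
    Finset.sum_eq_single (trivialIrr (Cz z))]
  · simp only [trivialIrr, map_one, mul_one, Finset.sum_const, Finset.card_univ, nsmul_eq_mul,
      ← Nat.card_eq_fintype_card]
    rw [← mul_assoc, inv_mul_cancel₀ (Nat.cast_ne_zero.2 Nat.card_pos.ne'), one_mul]
  · intro η _ hη
    have h := classInner_irr_ne η.2 isIrr_one fun h => hη (Subtype.ext h)
    rw [classInner, mul_eq_zero] at h
    rcases h with h | h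
    · simp at h
    · rw [← Finset.sum_mul]
      simp only [map_one, mul_one] at h
      rw [h, zero_mul]
  · exact fun h => absurd (Finset.mem_univ _) h

/-- A unit of finite order times its conjugate. -/
theorem unit_mul_conj {H : Type u} [Group H] [Finite H] (μ : H →* ℂˣ) (h : H) :
    (μ h : ℂ) * conj (μ h : ℂ) = 1 := by
  have h1 : (μ h : ℂ) ^ Nat.card H = 1 := by
    rw [← Units.val_pow_eq_pow_val, ← map_pow, pow_card_eq_one', map_one, Units.val_one]
  rw [Complex.mul_conj, Complex.normSq_eq_norm_sq, Complex.norm_eq_one_of_pow_eq_one h1 Nat.card_pos.ne']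
  simp

variable {K : Type v} [Group K] [Fintype K]

/-- A linear character of odd order of the centraliser, invariant under fusion. -/
structure TData (G : Type u) [Group G] [Fintype G] (K : Type v) [Group K] extends PData G K where
  /-- the character -/
  eps : ↥(Cz z) →* ℂˣ
  fus : ∀ a b : ↥(Cz z), IsConj (a : G) b → eps a = eps b
  eps_odd : ∀ a, Odd (orderOf (eps a))
  cls : ∀ i : G, orderOf i = 2 → IsConj z i

namespace TData

variable (T : TData G K)

/-- The fusion-invariant character. -/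
def fl : FusLin G := ⟨T.toPData.C, T.eps, T.fus⟩

theorem eps_two {a : T.toPData.C} (h : ∃ k : ℕ, orderOf a = 2 ^ k) : T.eps a = 1 := by
  obtain ⟨k, hk⟩ := h
  exact orderOf_eq_one_iff.1 (Nat.eq_one_of_dvd_coprimes ((Nat.coprime_two_right.2 (T.eps_odd a)).pow_right k)
    dvd_rfl (hk ▸ orderOf_map_dvd T.eps a))

variable (hM : IsPModular 2 M)
include hM

theorem z_two : ∃ k : ℕ, orderOf T.z = 2 ^ k := ⟨1, T.ord.trans (pow_one 2).symm⟩

theorem exists_block : ∃ B, IsInducedBlock M T.toPData.C (T.fl.twPrin M le_rfl) B :=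
  defined_centralizer hM (T.z_two hM) (T.fl.isPBlock_twPrin hM le_rfl)

/-- The twisted block. -/
noncomputable def block : Set (IrrCharacter G) := (T.exists_block hM).choose

theorem block_spec : IsInducedBlock M T.toPData.C (T.fl.twPrin M le_rfl) (T.block hM) :=
  (T.exists_block hM).choose_spec

theorem root_iff {x : G} (hx : ∃ k : ℕ, orderOf x = 2 ^ k) (hle : Cz x ≤ T.toPData.C)
    (ξ : IrrCharacter (Cz x)) :
    IsInducedBlock M (Cz x) (blockOf M (ξ : Cz x → ℂ)) (T.block hM) ↔ ξ ∈ T.fl.twPrin M hle := by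
  haveI : Fact (Nat.Prime 2) := ⟨Nat.prime_two⟩
  rw [T.fl.root_iff hM (T.block_spec hM) (defined_centralizer hM (T.z_two hM) isPBlock_principalBlock) hle
    (isPBlock_blockOf ξ) fun b hb => defined_centralizer hM hx hb]
  exact ⟨fun h => h ▸ mem_blockOf_self hM ξ, fun h => (pblock_eq_blockOf hM (T.fl.isPBlock_twPrin hM hle) h).symm⟩

/-- The trivial character is outside, given an element of a class of odd size where the character is nontrivial. -/
theorem trivial_notMem {x : T.toPData.C} (hx : ¬ 2 ∣ (Subgroup.centralizer ({x} : Set T.toPData.C)).index)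
    (hne : T.eps x ≠ 1) : trivialIrr G ∉ T.block hM := by
  haveI : Fact (Nat.Prime 2) := ⟨Nat.prime_two⟩
  exact T.fl.trivial_notMem hM (T.block_spec hM) (defined_centralizer hM (T.z_two hM) isPBlock_principalBlock)
    (fun b hb => defined_centralizer hM (T.z_two hM) hb) hx hne
    (fun h => (Nat.not_even_iff_odd.2 (T.eps_odd x)) (even_iff_two_dvd.2 h)) (pow_orderOf_eq_one _)

/-- **The kernel of the twisted block on the elements of even order.** -/
theorem ker_eq {c d : T.toPData.C} (hc : 2 ∣ orderOf c) (hd : 2 ∣ orderOf d) :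
    blockKerOf (T.block hM) (c : G) (d : G) =
      (T.eps c : ℂ) * conj (T.eps d : ℂ) * blockKer M (c : G) (d : G) := by
  haveI : Fact (Nat.Prime 2) := ⟨Nat.prime_two⟩
  obtain ⟨x₀, hx₀⟩ := exists_pPart (p := 2) (c : G)
  obtain ⟨y₀, hy₀⟩ := exists_pPart (p := 2) (d : G)
  by_cases hxy : IsConj x₀ y₀
  swap
  · rw [blockKer_eq_zero hM hx₀ hy₀ hxy, mul_zero, blockKerOf_finsum]
    refine Eq.trans ?_ (section_orth hM hx₀ hy₀ hxy (T.block_spec hM).2.1)
    exact finsum_mem_congr rfl fun χ _ => by rw [irr_apply_inv]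
  rw [← Subgroup.orderOf_coe] at hc
  obtain ⟨e, he, hec, -⟩ := unique_invol hc
  have hex : e ∈ Subgroup.zpowers x₀ := invol_mem_pPart hx₀ he hec
  obtain ⟨s', hs'⟩ := isConj_iff.1 (T.cls e he)
  -- move the involution to `z`
  obtain ⟨s, hsz⟩ : ∃ s, s * e * s⁻¹ = T.z := ⟨s'⁻¹, by rw [← hs']; group⟩
  have hx := pPart_conj hx₀ s
  obtain ⟨v, hv, hvc, hx2, hvo⟩ := hx
  set x := s * x₀ * s⁻¹ with hxdef
  have hzx : T.z ∈ Subgroup.zpowers x := by
    obtain ⟨i, rfl⟩ := Subgroup.mem_zpowers_iff.1 hex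
    exact Subgroup.mem_zpowers_iff.2 ⟨i, by rw [hxdef, conj_zpow, hsz]⟩
  have hle : Cz x ≤ T.toPData.C := fun a ha => Subgroup.mem_centralizer_singleton_iff.2 (by
    obtain ⟨i, hi⟩ := Subgroup.mem_zpowers_iff.1 hzx
    rw [← hi]
    exact ((show Commute a x from Subgroup.mem_centralizer_singleton_iff.1 ha).zpow_right i).eq)
  obtain ⟨t, ht⟩ := isConj_iff.1 (show IsConj y₀ x from hxy.symm.trans (isConj_iff.2 ⟨s, hxdef.symm⟩))
  have hy := pPart_conj hy₀ t
  rw [ht] at hy
  obtain ⟨w, hw, hwc, -, hwo⟩ := hy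
  have hmem : ∀ {a : G}, Commute x a → a ∈ Cz x := fun ha => Subgroup.mem_centralizer_singleton_iff.2 ha.symm.eq
  let v' : Cz x := ⟨v, hmem hvc⟩
  let w' : Cz x := ⟨w, hmem hwc⟩
  let xC : T.toPData.C := Subgroup.inclusion hle ⟨x, centralizer_self_mem x⟩
  have hxC : T.eps xC = 1 := T.eps_two (by
    obtain ⟨k, hk⟩ := hx2
    exact ⟨k, by rw [← Subgroup.orderOf_coe]; exact hk⟩)
  have hec' : ∀ (a : Cz x) (b : T.toPData.C), IsConj (b : G) (x * (a : G)) →
      T.eps b = T.fl.res hle a := fun a b h => by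
    have h1 := T.fus b (xC * Subgroup.inclusion hle a) h
    rw [map_mul, hxC, one_mul] at h1
    exact h1
  have e1 : T.eps c = T.fl.res hle v' := hec' v' c (isConj_iff.2 ⟨s, hv.symm⟩)
  have e2 : T.eps d = T.fl.res hle w' := hec' w' d (isConj_iff.2 ⟨t, hw.symm⟩)
  have hv' : ¬ 2 ∣ orderOf v' := by rwa [← Subgroup.orderOf_coe]
  have hw' : ¬ 2 ∣ orderOf w' := by rwa [← Subgroup.orderOf_coe]
  have h1 : blockKerOf (T.block hM) (c : G) (d : G) = blockKerOf (T.block hM) (x * (v' : G)) (x * (w' : G)) := by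
    rw [show x * (v' : G) = s * (c : G) * s⁻¹ from hv, show x * (w' : G) = t * (d : G) * t⁻¹ from hw,
      blockKerOf_conj_left, blockKerOf_conj_right]
  have h2 : blockKer M (c : G) (d : G) = blockKer M (x * (v' : G)) (x * (w' : G)) := by
    rw [show x * (v' : G) = s * (c : G) * s⁻¹ from hv, show x * (w' : G) = t * (d : G) * t⁻¹ from hw,
      blockKer_conj_left, blockKer_conj_right]
  rw [h1, h2, blockKerOf_section hM (T.block_spec hM).2.1 hx2 (T.fl.isPBlock_twPrin hM hle)
    (T.root_iff hM hx2 hle) hv' hw', blockKer_section hM hx2 hv' hw', e1, e2, blockKerOf, blockKer, Finset.mul_sum]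
  refine Finset.sum_bij' (fun ξ _ => twistIrrC (T.fl.res hle)⁻¹ ξ) (fun η _ => twistIrrC (T.fl.res hle) η)
    (fun ξ hξ => ?_) (fun η hη => ?_) (fun ξ _ => (twistIrrC_inv _ ξ).2) (fun η _ => (twistIrrC_inv _ η).1)
    fun ξ _ => ?_
  · exact Finset.mem_filter.2 ⟨Finset.mem_univ _, (Finset.mem_filter.1 hξ).2⟩
  · refine Finset.mem_filter.2 ⟨Finset.mem_univ _, ?_⟩
    show twistIrrC (T.fl.res hle)⁻¹ (twistIrrC (T.fl.res hle) η) ∈ principalBlock M (Cz x)
    rw [(twistIrrC_inv _ η).1]
    exact (Finset.mem_filter.1 hη).2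
  · have h3 : ∀ a, (ξ : Cz x → ℂ) a = (T.fl.res hle a : ℂ) * (twistIrrC (T.fl.res hle)⁻¹ ξ : Cz x → ℂ) a :=
      fun a => (congrFun (congrArg Subtype.val (twistIrrC_inv (T.fl.res hle) ξ).2) a).symm
    rw [h3 v', h3 w', map_mul]
    ring

/-- The twisted coefficients. -/
noncomputable def tcoef (f : K → ℂ) (χ : IrrCharacter G) : ℂ :=
  if χ ∈ T.block hM then classInner (fun c : T.toPData.C => (T.eps c : ℂ) * f (T.π c)) (fun c => (χ : G → ℂ) c)
  else 0

/-- The twisted projection. -/
noncomputable def tgam (f : K → ℂ) (g : G) : ℂ := ∑ χ : IrrCharacter G, T.tcoef hM f χ * (χ : G → ℂ) g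

theorem tgam_classFun (f : K → ℂ) : IsClassFunction G (T.tgam hM f) := fun g t => by
  simp only [tgam]
  exact Finset.sum_congr rfl fun χ _ => by rw [irr_classFun χ g t]

theorem classInner_tgam (f : K → ℂ) (χ : IrrCharacter G) :
    classInner (T.tgam hM f) (χ : G → ℂ) = T.tcoef hM f χ := by
  rw [show T.tgam hM f = ∑ φ : IrrCharacter G, T.tcoef hM f φ • (φ : G → ℂ) from
    funext fun g => by simp [tgam, Finset.sum_apply]]
  exact classInner_sum_irr _ χ

theorem tcoef_int {f : K → ℂ} (hf : IsGeneralizedCharacter K f) (χ : IrrCharacter G) :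
    ∃ m : ℤ, T.tcoef hM f χ = m := by
  rw [tcoef]
  split_ifs
  · exact IsGenChar.classInner_int
      (IsGenChar.mul (IsGenChar.of_isCharacter (IsIrr.isCharacter (by
        simpa using IsIrr.mul_linear (isIrr_one (G := T.toPData.C)) T.eps))) (IsGenChar.comp T.π hf))
      (IsGenChar.of_isCharacter (IsChar.res (irr_isChar χ) T.toPData.C))
  · exact ⟨0, Int.cast_zero.symm⟩

theorem tcoef_eq_zero (f : K → ℂ) {χ : IrrCharacter G} (h : χ ∉ T.block hM) : T.tcoef hM f χ = 0 := if_neg h

theorem tgam_eq (f : K → ℂ) (g : G) : T.tgam hM f g = (Nat.card T.toPData.C : ℂ)⁻¹ *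
    ∑ c : T.toPData.C, (T.eps c : ℂ) * f (T.π c) * blockKerOf (T.block hM) g (c : G) := by
  simp only [tgam, tcoef, ite_mul, zero_mul, blockKerOf]
  rw [← Finset.sum_filter]
  simp only [classInner, Finset.mul_sum, Finset.sum_mul]
  rw [Finset.sum_comm]
  exact Finset.sum_congr rfl fun c _ => Finset.sum_congr rfl fun χ _ => by ring

theorem tgam_odd {f : K → ℂ} (hf : OddVanish f) {g : G} (hg : ¬ 2 ∣ orderOf g) : T.tgam hM f g = 0 := by
  haveI : Fact (Nat.Prime 2) := ⟨Nat.prime_two⟩
  rw [T.tgam_eq, Finset.sum_eq_zero, mul_zero]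
  intro c _
  by_cases hc : 2 ∣ orderOf c
  · rw [blockKerOf_finsum, weak_orth hM (T.block_spec hM).2.1 hg (by rwa [Subgroup.orderOf_coe]), mul_zero]
  · rw [hf _ fun h => hc ((T.toPData.two_dvd_iff c).2 h), mul_zero, zero_mul]

/-- **The twisted projection is the character times the projection.** -/
theorem tgam_coe {f : K → ℂ} (hf : OddVanish f) {a : T.toPData.C} (ha : 2 ∣ orderOf a) :
    T.tgam hM f a = (T.eps a : ℂ) * T.toPData.gam M f a := by
  rw [T.tgam_eq, T.toPData.gam_eq, mul_left_comm (T.eps a : ℂ), Finset.mul_sum (a := (T.eps a : ℂ))]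
  refine congrArg _ (Finset.sum_congr rfl fun c _ => ?_)
  by_cases hc : 2 ∣ orderOf c
  · rw [T.ker_eq hM ha hc]
    linear_combination ((T.eps a : ℂ) * f (T.π c) * blockKer M (a : G) (c : G)) * unit_mul_conj T.eps c
  · rw [hf _ fun h => hc ((T.toPData.two_dvd_iff c).2 h)]
    ring

/-- Inner products are inner products in `K`. -/
theorem inner_tcoef {f g F : K → ℂ} (hf : OddVanish f) (hg : OddVanish g)
    (hF : ∀ c : T.toPData.C, g (T.π c) ≠ 0 → T.toPData.gam M f c = F (T.π c)) :
    ∑ χ : IrrCharacter G, T.tcoef hM f χ * conj (T.tcoef hM g χ) = classInner F g := by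
  have h1 : ∀ χ : IrrCharacter G, T.tcoef hM f χ * conj (T.tcoef hM g χ) = (Nat.card T.toPData.C : ℂ)⁻¹ *
      ∑ c : T.toPData.C, conj ((T.eps c : ℂ) * g (T.π c)) * (T.tcoef hM f χ * (χ : G → ℂ) c) := by
    intro χ
    by_cases hχ : χ ∈ T.block hM
    · rw [show T.tcoef hM g χ = _ from if_pos hχ]
      simp only [classInner, map_mul, map_inv₀, map_natCast, map_sum, Complex.conj_conj, Finset.mul_sum]
      exact Finset.sum_congr rfl fun c _ => by ring
    · rw [T.tcoef_eq_zero hM f hχ]
      simp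
  rw [Finset.sum_congr rfl fun χ _ => h1 χ, ← Finset.mul_sum, Finset.sum_comm]
  simp only [← Finset.mul_sum]
  rw [classInner, ← T.toPData.sum_pi]
  congr 1
  refine Finset.sum_congr rfl fun c _ => ?_
  show conj ((T.eps c : ℂ) * g (T.π c)) * T.tgam hM f c = _
  by_cases h : g (T.π c) = 0
  · rw [h, mul_zero, map_zero, zero_mul, mul_zero]
  · have hc : 2 ∣ orderOf c := by
      by_contra hc
      exact h (hg _ fun h' => hc ((T.toPData.two_dvd_iff c).2 h'))
    rw [T.tgam_coe hM hf hc, hF c h, map_mul]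
    linear_combination (conj (g (T.π c)) * F (T.π c)) * unit_mul_conj T.eps c

/-- The sum over the twisted block as a sum over pairs in the image. -/
theorem tpairing {a0 : ℕ}
    (ha0 : ∀ k : K, orderOf k = 2 → k ≠ T.toPData.zbar →
      Nat.card {c : T.toPData.C // T.π c = k ∧ orderOf c = 2} = a0)
    {f : K → ℂ} (hf : OddVanish f) {F : K → ℂ}
    (hF : ∀ i j : T.toPData.C, orderOf i = 2 → orderOf j = 2 → T.z ∈ Subgroup.zpowers ((i * j : T.toPData.C) : G) →
      T.toPData.gam M f (i * j : T.toPData.C) = F (T.π (i * j))) :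
    ∑ χ : IrrCharacter G, T.tcoef hM f χ * (χ : G → ℂ) T.z ^ 2 / (χ : G → ℂ) 1 =
      (Nat.card T.toPData.C : ℂ) / (Nat.card G : ℂ) * (a0 : ℂ) ^ 2 * pairK T.toPData.zbar F := by
  refine T.toPData.pairing_of (T.tgam hM f) (T.tgam_classFun hM f) (fun g hg => T.tgam_odd hM hf hg)
    (T.classInner_tgam hM f) T.cls ha0 fun i j hi hj hm => ?_
  have h2 : 2 ∣ orderOf (i * j) := by
    rw [← Subgroup.orderOf_coe]; exact two_dvd_of_mem T.ord hm
  rw [T.tgam_coe hM hf h2, hF i j hi hj hm, map_mul, T.eps_two ⟨1, hi.trans (pow_one 2).symm⟩,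
    T.eps_two ⟨1, hj.trans (pow_one 2).symm⟩, one_mul, Units.val_one, one_mul]

end TData

end Cfsg.Agent.Invol.AbgOrder
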