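import Cfsg.Agent.Lib.Invol.AbgOrder.AlgWrField
import Cfsg.Agent.Lib.Invol.AbgOrder.AlgSdField
import Cfsg.Agent.Lib.Invol.AbgOrder.TwistVecs
import Cfsg.Agent.Lib.Invol.AbgOrder.OrdShape

/-!
# The shape of the twisted vectors

The vectors are `d+a+b+c`, `d+b+i`, `d+a+e`, `d+a+e'`, and in the wreathed case `d+a+x+y`, `d+a+x'+y'`, `-x+y'+j`,
`d+i+x`: as for the principal component, with `d` in place of the trivial character.
-/

set_option autoImplicit false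
set_option linter.unusedSectionVars false
set_option linter.unusedVariables false

open scoped Classical

namespace Cfsg.Agent.Invol.AbgOrder

open Cfsg.Agent.Invol.BrauerL3

universe u

variable {ι : Type u} [Fintype ι]

theorem five_supp {v : ι → ℤ} {p q r s t : ι} (hn : ∑ χ, v χ * v χ ≤ 4) (h1 : p ≠ q) (h2 : p ≠ r) (h3 : p ≠ s)
    (h4 : p ≠ t) (h5 : q ≠ r) (h6 : q ≠ s) (h7 : q ≠ t) (h8 : r ≠ s) (h9 : r ≠ t) (h10 : s ≠ t) (hp : v p ≠ 0)
    (hq : v q ≠ 0) (hr : v r ≠ 0) (hs : v s ≠ 0) (ht : v t ≠ 0) : False := by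
  have h := sum_sq_le (v := v) {p, q, r, s, t} (fun χ hχ => by
    simp only [Finset.mem_insert, Finset.mem_singleton] at hχ
    rcases hχ with rfl | rfl | rfl | rfl | rfl <;> assumption)
  rw [show ({p, q, r, s, t} : Finset ι).card = 5 by simp [h1, h2, h3, h4, h5, h6, h7, h8, h9, h10]] at h
  push_cast at h
  omega

theorem sum_mul_four (f : ι → ℤ) (x y z w : ι × ℤ) :
    ∑ χ, f χ * (sv x + sv y + sv z + sv w) χ = x.2 * f x.1 + y.2 * f y.1 + z.2 * f z.1 + w.2 * f w.1 := by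
  simp only [Pi.add_apply, mul_add, Finset.sum_add_distrib, mul_comm (f _) (sv _ _), sum_sv_mul]

/-- The coefficient of a vector at the terms of three. -/
theorem three_at {v : ι → ℤ} {x y z : ι × ℤ} (e : v = sv x + sv y + sv z) (hxy : x.1 ≠ y.1) (hxz : x.1 ≠ z.1)
    (hyz : y.1 ≠ z.1) : v x.1 = x.2 ∧ v y.1 = y.2 ∧ v z.1 = z.2 := by
  subst e
  simp [sv, hxy, hxz, hyz, hxy.symm, hxz.symm, hyz.symm]

/-- The coefficient of a vector at the terms of four. -/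
theorem four_at {v : ι → ℤ} {x y z w : ι × ℤ} (e : v = sv x + sv y + sv z + sv w) (hxy : x.1 ≠ y.1) (hxz : x.1 ≠ z.1)
    (hxw : x.1 ≠ w.1) (hyz : y.1 ≠ z.1) (hyw : y.1 ≠ w.1) (hzw : z.1 ≠ w.1) :
    v x.1 = x.2 ∧ v y.1 = y.2 ∧ v z.1 = z.2 ∧ v w.1 = w.2 := by
  subst e
  simp [sv, hxy, hxz, hxw, hyz, hyw, hzw, hxy.symm, hxz.symm, hxw.symm, hyz.symm, hyw.symm, hzw.symm]

theorem four_other {v : ι → ℤ} {x y z w : ι × ℤ} (e : v = sv x + sv y + sv z + sv w) {χ : ι} (hx : χ ≠ x.1)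
    (hy : χ ≠ y.1) (hz : χ ≠ z.1) (hw : χ ≠ w.1) : v χ = 0 := by
  subst e
  simp [sv, hx, hy, hz, hw]

/-- Three terms of a vector of norm four determine a fourth. -/
theorem norm_four {v : ι → ℤ} (hn : ∑ χ, v χ * v χ = 4) {x y z : ι × ℤ} (hx : IsSigned x) (hy : IsSigned y)
    (hz : IsSigned z) (hxy : x.1 ≠ y.1) (hxz : x.1 ≠ z.1) (hyz : y.1 ≠ z.1) (h1 : v x.1 = x.2) (h2 : v y.1 = y.2)
    (h3 : v z.1 = z.2) :
    ∃ w : ι × ℤ, IsSigned w ∧ x.1 ≠ w.1 ∧ y.1 ≠ w.1 ∧ z.1 ≠ w.1 ∧ v = sv x + sv y + sv z + sv w := by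
  set u := v - (sv x + sv y + sv z) with hu
  have hat := three_at (v := sv x + sv y + sv z) rfl hxy hxz hyz
  have e : ∀ χ, u χ * u χ = v χ * v χ - (sv x χ * v χ + sv y χ * v χ + sv z χ * v χ) := fun χ => by
    simp only [hu, Pi.sub_apply, Pi.add_apply, sv]
    by_cases c1 : χ = x.1
    · rw [c1]; simp [hxy, hxz, h1]
    by_cases c2 : χ = y.1
    · rw [c2]; simp [hyz, hxy.symm, h2]
    by_cases c3 : χ = z.1
    · rw [c3]; simp [hxz.symm, hyz.symm, h3]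
    simp [c1, c2, c3]
  have hn1 : ∑ χ, u χ * u χ = 1 := by
    rw [Finset.sum_congr rfl fun χ _ => e χ, Finset.sum_sub_distrib, Finset.sum_add_distrib, Finset.sum_add_distrib,
      sum_sv_mul, sum_sv_mul, sum_sv_mul, hn, h1, h2, h3, hx.sq, hy.sq, hz.sq]
    norm_num
  obtain ⟨w, hw⟩ : ∃ w, u w ≠ 0 := by
    by_contra hno
    push Not at hno
    simp [hno] at hn1
  have hw1 : u w = 1 ∨ u w = -1 := by
    have := small_of_norm (v := u) (by omega) w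
    omega
  refine ⟨(w, u w), hw1, ?_, ?_, ?_, ?_⟩
  · intro h; exact hw (by simp only [hu, Pi.sub_apply]; rw [show w = x.1 from h.symm, hat.1, h1, sub_self])
  · intro h; exact hw (by simp only [hu, Pi.sub_apply]; rw [show w = y.1 from h.symm, hat.2.1, h2, sub_self])
  · intro h; exact hw (by simp only [hu, Pi.sub_apply]; rw [show w = z.1 from h.symm, hat.2.2, h3, sub_self])
  funext χ
  have h : u χ = sv (w, u w) χ := by
    by_cases hc : χ = w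
    · rw [hc]; exact (sv_self (w, u w)).symm
    rw [sv_of_ne (x := (w, u w)) hc]
    by_contra hne
    have h := sum_sq_le (v := u) {χ, w} (fun s hs => by
      simp only [Finset.mem_insert, Finset.mem_singleton] at hs
      rcases hs with rfl | rfl <;> assumption)
    rw [show ({χ, w} : Finset ι).card = 2 by simp [hc], hn1] at h
    omega
  simp only [hu, Pi.sub_apply] at h
  simp only [Pi.add_apply] at h ⊢
  linear_combination h

/-- Two vectors of norm three with inner product two. -/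
theorem core_pair {F F' : ι → ℤ} (hF : ∑ χ, F χ * F χ = 3) (hF' : ∑ χ, F' χ * F' χ = 3)
    (h : ∑ χ, F χ * F' χ = 2) :
    ∃ p q e e' : ι × ℤ, IsSigned p ∧ IsSigned q ∧ IsSigned e ∧ IsSigned e' ∧
      (p.1 ≠ q.1 ∧ p.1 ≠ e.1 ∧ p.1 ≠ e'.1 ∧ q.1 ≠ e.1 ∧ q.1 ≠ e'.1 ∧ e.1 ≠ e'.1) ∧
      F = sv p + sv q + sv e ∧ F' = sv p + sv q + sv e' := by
  obtain ⟨x, hxs, hxF⟩ : ∃ x : ι × ℤ, IsSigned x ∧ F x.1 = x.2 := by
    obtain ⟨x, hx⟩ : ∃ x, F x ≠ 0 := by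
      by_contra hno
      push Not at hno
      simp [hno] at hF
    have := small_of_norm hF.le x
    exact ⟨(x, F x), by simp only [IsSigned]; omega, rfl⟩
  obtain ⟨y, z, hy, hz, hyz, hxy, hxz, e⟩ := norm_three hF hxs hxF
  have key : ∀ {p q e : ι × ℤ}, IsSigned p → IsSigned q → IsSigned e → p.1 ≠ q.1 → p.1 ≠ e.1 → q.1 ≠ e.1 →
      F = sv p + sv q + sv e → sco F' e = 0 → F' p.1 = p.2 → F' q.1 = q.2 →
      ∃ p q e e' : ι × ℤ, IsSigned p ∧ IsSigned q ∧ IsSigned e ∧ IsSigned e' ∧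
        (p.1 ≠ q.1 ∧ p.1 ≠ e.1 ∧ p.1 ≠ e'.1 ∧ q.1 ≠ e.1 ∧ q.1 ≠ e'.1 ∧ e.1 ≠ e'.1) ∧
        F = sv p + sv q + sv e ∧ F' = sv p + sv q + sv e' := by
    intro p q e hp hq he hpq hpe hqe eF h0 h1 h2
    obtain ⟨y, z, hy, hz, hyz, hpy, hpz, eF'⟩ := norm_three hF' hp h1
    have hq' := h2
    rw [eF', Pi.add_apply, Pi.add_apply, sv_of_ne hpq.symm, zero_add] at hq'
    have fin : ∀ {w : ι × ℤ}, IsSigned w → p.1 ≠ w.1 → q.1 ≠ w.1 → F' = sv p + sv q + sv w →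
        ∃ p q e e' : ι × ℤ, IsSigned p ∧ IsSigned q ∧ IsSigned e ∧ IsSigned e' ∧
          (p.1 ≠ q.1 ∧ p.1 ≠ e.1 ∧ p.1 ≠ e'.1 ∧ q.1 ≠ e.1 ∧ q.1 ≠ e'.1 ∧ e.1 ≠ e'.1) ∧
          F = sv p + sv q + sv e ∧ F' = sv p + sv q + sv e' := fun {w} hw hpw hqw eF' =>
      ⟨p, q, e, w, hp, hq, he, hw, ⟨hpq, hpe, hpw, hqe, hqw, fun hew => hw.ne_zero (by
        rw [← (three_at eF' hpq hpw hqw).2.2, ← hew]; exact sco_zero he h0)⟩, eF, eF'⟩
    by_cases hy' : y.1 = q.1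
    · refine fin hz hpz (hy' ▸ hyz) ?_
      rw [← hy', sv_self, sv_of_ne hyz, add_zero] at hq'
      rw [eF', show y = q from Prod.ext hy' hq']
    · by_cases hz' : z.1 = q.1
      · refine fin hy hpy (fun e => hy' e.symm) ?_
        rw [← hz', sv_self, sv_of_ne hyz.symm, zero_add] at hq'
        rw [eF', show z = q from Prod.ext hz' hq', add_right_comm]
      · rw [sv_of_ne (Ne.symm hy'), sv_of_ne (Ne.symm hz')] at hq'
        exact absurd (hq'.symm.trans (add_zero 0)) hq.ne_zero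
  have h' : sco F' x + sco F' y + sco F' z = 2 := by
    rw [← h, Finset.sum_congr rfl fun χ _ => mul_comm (F χ) (F' χ), e, sum_mul_three]
    rfl
  have s1 := sco_small hF'.le hxs
  have s2 := sco_small hF'.le hy
  have s3 := sco_small hF'.le hz
  by_cases c1 : sco F' x = 0
  · refine key hy hz hxs hyz hxy.symm hxz.symm ?_ c1 (sco_one hy (by omega)) (sco_one hz (by omega))
    rw [e]; abel
  by_cases c2 : sco F' y = 0
  · refine key hxs hz hy hxz hxy hyz.symm ?_ c2 (sco_one hxs (by omega)) (sco_one hz (by omega))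
    rw [e]; abel
  exact key hxs hy hz hxy hxz hyz e (by omega) (sco_one hxs (by omega)) (sco_one hy (by omega))

namespace TVecs

variable {k : ℕ} {gram : Fin k → Fin k → ℤ} {tv : Fin k → ℤ} {pr : Fin k → ℚ} (V : TVecs ι gram tv pr)

/-- The signed degree. -/
def dg (x : ι × ℤ) : ℤ := x.2 * V.deg x.1

/-- The signed value. -/
def vl (x : ι × ℤ) : ℤ := x.2 * V.val x.1

theorem dg_ne {x : ι × ℤ} (hx : IsSigned x) : V.dg x ≠ 0 :=
  mul_ne_zero hx.ne_zero (ne_of_gt (V.deg_pos x.1))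

theorem neg_dg (x : ι × ℤ) : V.dg (x.1, -x.2) = -V.dg x ∧ V.vl (x.1, -x.2) = -V.vl x := by
  simp [dg, vl]

theorem abs_dg_ne {i : Fin k} {x : ι × ℤ} (hx : IsSigned x) (h : V.v i x.1 ≠ 0) : V.dg x ≠ 1 := by
  have h1 := V.no_linear i x.1 h
  have h2 := V.deg_pos x.1
  rcases hx with e | e <;> simp only [dg, e] <;> omega

theorem sum_three {i : Fin k} {x y z : ι × ℤ} (hx : IsSigned x) (hy : IsSigned y) (hz : IsSigned z)
    (e : V.v i = sv x + sv y + sv z) :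
    V.dg x + V.dg y + V.dg z = 0 ∧ V.vl x + V.vl y + V.vl z = tv i ∧
      (V.vl x : ℚ) ^ 2 / (V.dg x : ℚ) + (V.vl y : ℚ) ^ 2 / (V.dg y : ℚ) + (V.vl z : ℚ) ^ 2 / (V.dg z : ℚ) =
        V.R * pr i := by
  have h1 := V.deg_sum i
  have h2 := V.val_sum i
  have h3 := V.eq i
  rw [e] at h1 h2 h3
  simp only [Pi.add_apply, add_mul, Finset.sum_add_distrib, sum_sv_mul] at h1 h2
  rw [evalE_add, evalE_add, evalE_sv _ _ hx, evalE_sv _ _ hy, evalE_sv _ _ hz] at h3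
  exact ⟨h1, h2, h3⟩

theorem sum_four {i : Fin k} {x y z w : ι × ℤ} (hx : IsSigned x) (hy : IsSigned y) (hz : IsSigned z)
    (hw : IsSigned w) (e : V.v i = sv x + sv y + sv z + sv w) :
    V.dg x + V.dg y + V.dg z + V.dg w = 0 ∧ V.vl x + V.vl y + V.vl z + V.vl w = tv i ∧
      (V.vl x : ℚ) ^ 2 / (V.dg x : ℚ) + (V.vl y : ℚ) ^ 2 / (V.dg y : ℚ) + (V.vl z : ℚ) ^ 2 / (V.dg z : ℚ) +
        (V.vl w : ℚ) ^ 2 / (V.dg w : ℚ) = V.R * pr i := by
  have h1 := V.deg_sum i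
  have h2 := V.val_sum i
  have h3 := V.eq i
  rw [e] at h1 h2 h3
  simp only [Pi.add_apply, add_mul, Finset.sum_add_distrib, sum_sv_mul] at h1 h2
  rw [evalE_add, evalE_add, evalE_add, evalE_sv _ _ hx, evalE_sv _ _ hy, evalE_sv _ _ hz, evalE_sv _ _ hw] at h3
  exact ⟨h1, h2, h3⟩

/-- A vector of norm at most four has small coefficients. -/
theorem small {i : Fin k} (hn : gram i i ≤ 4) (χ : ι) : V.v i χ = -1 ∨ V.v i χ = 0 ∨ V.v i χ = 1 := by
  have hle : ∀ s : Finset ι, ∑ ξ ∈ s, V.v i ξ * V.v i ξ ≤ 4 := fun s =>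
    (Finset.sum_le_univ_sum_of_nonneg fun ξ => mul_self_nonneg _).trans ((V.gram_eq i i).le.trans hn)
  have h4 := hle {χ}
  rw [Finset.sum_singleton] at h4
  have hb : -2 ≤ V.v i χ ∧ V.v i χ ≤ 2 := ⟨by nlinarith, by nlinarith⟩
  by_contra hno
  have h2 : V.v i χ = 2 ∨ V.v i χ = -2 := by omega
  have h0 : ∀ ξ, ξ ≠ χ → V.v i ξ = 0 := fun ξ hξ => by
    by_contra hne
    have h := hle {χ, ξ}
    rw [Finset.sum_pair hξ.symm] at h
    have := mul_self_pos.2 hne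
    rcases h2 with p | p <;> rw [p] at h <;> omega
  have hd := V.deg_sum i
  rw [Finset.sum_eq_single χ (fun ξ _ hξ => by rw [h0 ξ hξ, zero_mul]) (fun h => absurd (Finset.mem_univ _) h)] at hd
  have := V.deg_pos χ
  rcases h2 with p | p <;> rw [p] at hd <;> omega

theorem sco_cases {i : Fin k} (hn : gram i i ≤ 4) {x : ι × ℤ} (hx : IsSigned x) :
    sco (V.v i) x = -1 ∨ sco (V.v i) x = 0 ∨ sco (V.v i) x = 1 := by
  rcases V.small hn x.1 with p | p | p <;> rcases hx with q | q <;> simp [sco, p, q]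

/-- A vector of norm four has a common pair with two of norm three, or shares their third terms. -/
theorem types {p q e e' : ι × ℤ} {f f' i : Fin k} (hp : IsSigned p) (hq : IsSigned q) (he : IsSigned e)
    (he' : IsSigned e') (eF : V.v f = sv p + sv q + sv e) (eF' : V.v f' = sv p + sv q + sv e') (hn : gram i i = 4)
    (hf : gram i f = 2) (hf' : gram i f' = 2) :
    (sco (V.v i) p = 1 ∧ sco (V.v i) q = 1 ∧ sco (V.v i) e = 0 ∧ sco (V.v i) e' = 0) ∨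
      (sco (V.v i) p = 1 ∧ sco (V.v i) q = 0 ∧ sco (V.v i) e = 1 ∧ sco (V.v i) e' = 1) ∨
      (sco (V.v i) p = 0 ∧ sco (V.v i) q = 1 ∧ sco (V.v i) e = 1 ∧ sco (V.v i) e' = 1) := by
  have h1 : sco (V.v i) p + sco (V.v i) q + sco (V.v i) e = 2 := by
    rw [← hf, ← V.gram_eq, eF, sum_mul_three]; rfl
  have h2 : sco (V.v i) p + sco (V.v i) q + sco (V.v i) e' = 2 := by
    rw [← hf', ← V.gram_eq, eF', sum_mul_three]; rfl
  have := V.sco_cases hn.le hp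
  have := V.sco_cases hn.le hq
  have := V.sco_cases hn.le he
  omega

/-- The two forms of such a vector. -/
theorem split_sun {p q e e' : ι × ℤ} {i : Fin k} (hp : IsSigned p) (hq : IsSigned q) (he : IsSigned e)
    (he' : IsSigned e') (hpq : p.1 ≠ q.1) (hn : gram i i = 4) (h1 : sco (V.v i) p = 1) (h2 : sco (V.v i) q = 1)
    (h3 : sco (V.v i) e = 0) (h4 : sco (V.v i) e' = 0) :
    ∃ u v : ι × ℤ, IsSigned u ∧ IsSigned v ∧ u.1 ≠ v.1 ∧ (p.1 ≠ u.1 ∧ p.1 ≠ v.1 ∧ q.1 ≠ u.1 ∧ q.1 ≠ v.1) ∧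
      (e.1 ≠ u.1 ∧ e.1 ≠ v.1 ∧ e'.1 ≠ u.1 ∧ e'.1 ≠ v.1) ∧ V.v i = sv p + sv q + sv u + sv v := by
  have hvp := sco_one hp h1
  have hvq := sco_one hq h2
  obtain ⟨u, hu⟩ : ∃ u, u ≠ p.1 ∧ u ≠ q.1 ∧ V.v i u ≠ 0 := by
    by_contra hno
    push Not at hno
    have h := V.gram_eq i i
    rw [← Finset.sum_subset (Finset.subset_univ {p.1, q.1}) (fun χ _ hχ => by
      simp only [Finset.mem_insert, Finset.mem_singleton, not_or] at hχ
      rw [hno χ hχ.1 hχ.2, mul_zero]), Finset.sum_pair hpq, hvp, hvq, hp.sq, hq.sq, hn] at h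
    omega
  have hus : IsSigned ((u, V.v i u) : ι × ℤ) := by
    have := V.small hn.le u
    simp only [IsSigned]
    omega
  obtain ⟨v, hv, hpv, hqv, huv, e1⟩ := norm_four ((V.gram_eq i i).trans hn) hp hq hus hpq hu.1.symm hu.2.1.symm
    hvp hvq rfl
  have hat := four_at e1 hpq hu.1.symm hpv hu.2.1.symm hqv huv
  refine ⟨(u, V.v i u), v, hus, hv, huv, ⟨hu.1.symm, hpv, hu.2.1.symm, hqv⟩, ⟨?_, ?_, ?_, ?_⟩, e1⟩ <;> intro h
  · exact hu.2.2 (by rw [show u = e.1 from h.symm]; exact sco_zero he h3)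
  · exact hv.ne_zero (by rw [← hat.2.2.2, ← h]; exact sco_zero he h3)
  · exact hu.2.2 (by rw [show u = e'.1 from h.symm]; exact sco_zero he' h4)
  · exact hv.ne_zero (by rw [← hat.2.2.2, ← h]; exact sco_zero he' h4)

/-- Three vectors of norm four with inner products two contain the common pair. -/
theorem all_sun {p q e e' : ι × ℤ} {f f' : Fin k} (iX : Fin 3 → Fin k) (hp : IsSigned p) (hq : IsSigned q)
    (he : IsSigned e) (he' : IsSigned e') (hd : p.1 ≠ q.1 ∧ p.1 ≠ e.1 ∧ p.1 ≠ e'.1 ∧ q.1 ≠ e.1 ∧ q.1 ≠ e'.1 ∧ e.1 ≠ e'.1)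
    (eF : V.v f = sv p + sv q + sv e) (eF' : V.v f' = sv p + sv q + sv e') (hn : ∀ l, gram (iX l) (iX l) = 4)
    (hf : ∀ l, gram (iX l) f = 2) (hf' : ∀ l, gram (iX l) f' = 2)
    (hpair : ∀ l m, l ≠ m → gram (iX l) (iX m) = 2) :
    ∀ l, sco (V.v (iX l)) p = 1 ∧ sco (V.v (iX l)) q = 1 ∧ sco (V.v (iX l)) e = 0 ∧ sco (V.v (iX l)) e' = 0 := by
  obtain ⟨hpq, hpe, hpe', hqe, hqe', hee'⟩ := hd
  have de := (V.sum_three hp hq he eF).1
  have de' := (V.sum_three hp hq he' eF').1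
  -- the odd vectors with their fourth terms
  have form : ∀ {p q : ι × ℤ}, IsSigned p → p.1 ≠ e.1 → p.1 ≠ e'.1 → V.dg p + V.dg q + V.dg e = 0 →
      ∀ l, sco (V.v (iX l)) p = 1 → sco (V.v (iX l)) e = 1 → sco (V.v (iX l)) e' = 1 →
      ∃ x : ι × ℤ, IsSigned x ∧ p.1 ≠ x.1 ∧ e.1 ≠ x.1 ∧ e'.1 ≠ x.1 ∧
        V.v (iX l) = sv p + sv e + sv e' + sv x ∧ V.dg x = V.dg p + 2 * V.dg q := by
    intro p q hp hpe hpe' de1 l h1 h2 h3
    obtain ⟨x, hx, h4, h5, h6, e1⟩ := norm_four ((V.gram_eq _ _).trans (hn l)) hp he he' hpe hpe' hee' (sco_one hp h1)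
      (sco_one he h2) (sco_one he' h3)
    have := (V.sum_four hp he he' hx e1).1
    exact ⟨x, hx, h4, h5, h6, e1, by omega⟩
  have inn : ∀ (X : Fin k) {l : Fin 3} {a b c d : ι × ℤ}, V.v (iX l) = sv a + sv b + sv c + sv d →
      gram X (iX l) = sco (V.v X) a + sco (V.v X) b + sco (V.v X) c + sco (V.v X) d := fun X {l a b c d} h => by
    rw [← V.gram_eq, h, sum_mul_four]; rfl
  have T := fun l => V.types hp hq he he' eF eF' (hn l) (hf l) (hf' l)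
  -- two of the same odd type
  have same : ∀ {p q : ι × ℤ}, IsSigned p → p.1 ≠ e.1 → p.1 ≠ e'.1 → V.dg p + V.dg q + V.dg e = 0 →
      ∀ l m, l ≠ m → sco (V.v (iX l)) p = 1 → sco (V.v (iX l)) e = 1 → sco (V.v (iX l)) e' = 1 →
      sco (V.v (iX m)) p = 1 → sco (V.v (iX m)) e = 1 → sco (V.v (iX m)) e' = 1 → False := by
    intro p q hp hpe hpe' de1 l m hlm a1 a2 a3 b1 b2 b3
    obtain ⟨x, hx, x1, x2, x3, e1, dx⟩ := form hp hpe hpe' de1 l a1 a2 a3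
    obtain ⟨y, hy, y1, y2, y3, e2, dy⟩ := form hp hpe hpe' de1 m b1 b2 b3
    have h := inn (iX m) e1
    rw [hpair m l hlm.symm, b1, b2, b3] at h
    by_cases hxy : x.1 = y.1
    · have h2 : y.2 = -x.2 := by
        have hv := (four_at e2 hpe hpe' y1 hee' y2 y3).2.2.2
        have := sco_neg_one (v := V.v (iX m)) hx (by omega)
        rw [hxy, hv] at this
        exact this
      have := V.dg_ne hx
      simp only [dg] at dx dy this
      rw [← hxy, h2, neg_mul] at dy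
      omega
    · rw [sco, four_other e2 x1.symm x2.symm x3.symm hxy, mul_zero] at h
      omega
  have odd1 : ∀ l m, l ≠ m → sco (V.v (iX l)) p = 1 → sco (V.v (iX l)) q = 0 → sco (V.v (iX m)) p = 1 →
      sco (V.v (iX m)) q = 0 → False := fun l m hlm a b c d => by
    rcases T l with t | t | t <;> rcases T m with t' | t' | t' <;> try omega
    exact same hp hpe hpe' de l m hlm t.1 t.2.2.1 t.2.2.2 t'.1 t'.2.2.1 t'.2.2.2
  have odd2 : ∀ l m, l ≠ m → sco (V.v (iX l)) q = 1 → sco (V.v (iX l)) p = 0 → sco (V.v (iX m)) q = 1 →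
      sco (V.v (iX m)) p = 0 → False := fun l m hlm a b c d => by
    rcases T l with t | t | t <;> rcases T m with t' | t' | t' <;> try omega
    exact same hq hqe hqe' (q := p) (by omega) l m hlm t.2.1 t.2.2.1 t.2.2.2 t'.2.1 t'.2.2.1 t'.2.2.2
  -- an even and an odd one share the fourth term
  have mix : ∀ {p q : ι × ℤ}, IsSigned p → IsSigned q → p.1 ≠ e.1 → p.1 ≠ e'.1 → p.1 ≠ q.1 → q.1 ≠ e.1 → q.1 ≠ e'.1 →
      V.dg p + V.dg q + V.dg e = 0 → ∀ l m, l ≠ m → sco (V.v (iX l)) p = 1 → sco (V.v (iX l)) q = 1 →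
      sco (V.v (iX l)) e = 0 → sco (V.v (iX l)) e' = 0 → sco (V.v (iX m)) p = 1 → sco (V.v (iX m)) q = 0 →
      sco (V.v (iX m)) e = 1 → sco (V.v (iX m)) e' = 1 →
      ∃ x u : ι × ℤ, IsSigned x ∧ IsSigned u ∧ q.1 ≠ x.1 ∧ V.v (iX l) = sv p + sv q + sv x + sv u ∧
        (p.1 ≠ x.1 ∧ x.1 ≠ u.1 ∧ p.1 ≠ u.1 ∧ q.1 ≠ u.1) ∧ V.v (iX m) = sv p + sv e + sv e' + sv x ∧
        V.dg x = V.dg p + 2 * V.dg q := by
    intro p q hp hq hpe hpe' hpq hqe hqe' de1 l m hlm a1 a2 a3 a4 b1 b2 b3 b4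
    obtain ⟨u, v, hu, hv, huv, ⟨pu, pv, qu, qv⟩, ⟨eu, ev, eu', ev'⟩, e1⟩ :=
      V.split_sun hp hq he he' hpq (hn l) a1 a2 a3 a4
    obtain ⟨x, hx, x1, x2, x3, e2, dx⟩ := form hp hpe hpe' de1 m b1 b3 b4
    have h := inn (iX m) e1
    rw [hpair m l hlm.symm, b1, b2] at h
    have sel : ∀ {u : ι × ℤ}, IsSigned u → p.1 ≠ u.1 → e.1 ≠ u.1 → e'.1 ≠ u.1 → sco (V.v (iX m)) u = 1 → u = x :=
      fun {u} hu pu eu eu' hs => by
        by_cases hux : u.1 = x.1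
        · refine Prod.ext hux ?_
          rw [← (four_at e2 hpe hpe' x1 hee' x2 x3).2.2.2, ← hux]
          exact (sco_one hu hs).symm
        · rw [sco, four_other e2 pu.symm eu.symm eu'.symm hux, mul_zero] at hs
          omega
    have := V.sco_cases (hn m).le hu
    have := V.sco_cases (hn m).le hv
    by_cases hc : sco (V.v (iX m)) u = 1
    · obtain rfl := sel hu pu eu eu' hc
      exact ⟨u, v, hu, hv, qu, e1, ⟨pu, huv, pv, qv⟩, e2, dx⟩
    · obtain rfl := sel hv pv ev ev' (by omega)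
      exact ⟨v, u, hv, hu, qv, e1.trans (add_right_comm _ _ _), ⟨pv, huv.symm, pu, qu⟩, e2, dx⟩
  have mixp := fun l m hlm (tl : sco (V.v (iX l)) p = 1 ∧ sco (V.v (iX l)) q = 1 ∧ sco (V.v (iX l)) e = 0 ∧
      sco (V.v (iX l)) e' = 0) (tm : sco (V.v (iX m)) p = 1 ∧ sco (V.v (iX m)) q = 0 ∧ sco (V.v (iX m)) e = 1 ∧
      sco (V.v (iX m)) e' = 1) => mix hp hq hpe hpe' hpq hqe hqe' de l m hlm tl.1 tl.2.1 tl.2.2.1
    tl.2.2.2 tm.1 tm.2.1 tm.2.2.1 tm.2.2.2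
  have mixq := fun l m hlm (tl : sco (V.v (iX l)) p = 1 ∧ sco (V.v (iX l)) q = 1 ∧ sco (V.v (iX l)) e = 0 ∧
      sco (V.v (iX l)) e' = 0) (tm : sco (V.v (iX m)) p = 0 ∧ sco (V.v (iX m)) q = 1 ∧ sco (V.v (iX m)) e = 1 ∧
      sco (V.v (iX m)) e' = 1) => mix hq hp hqe hqe' hpq.symm hpe hpe' (by omega) l m hlm tl.2.1 tl.1 tl.2.2.1
    tl.2.2.2 tm.2.1 tm.1 tm.2.2.1 tm.2.2.2
  intro l
  obtain ⟨m, n, hlm, hln, hmn⟩ : ∃ m n : Fin 3, l ≠ m ∧ l ≠ n ∧ m ≠ n := by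
    fin_cases l <;> [exact ⟨1, 2, by decide⟩; exact ⟨0, 2, by decide⟩; exact ⟨0, 1, by decide⟩]
  -- two even ones and an odd one
  have ssp : ∀ {p q : ι × ℤ}, IsSigned p → IsSigned q → p.1 ≠ e.1 → p.1 ≠ e'.1 → p.1 ≠ q.1 → q.1 ≠ e.1 → q.1 ≠ e'.1 →
      V.dg p + V.dg q + V.dg e = 0 → ∀ a b c, a ≠ b → a ≠ c → b ≠ c →
      sco (V.v (iX a)) p = 1 ∧ sco (V.v (iX a)) q = 1 ∧ sco (V.v (iX a)) e = 0 ∧ sco (V.v (iX a)) e' = 0 →
      sco (V.v (iX b)) p = 1 ∧ sco (V.v (iX b)) q = 1 ∧ sco (V.v (iX b)) e = 0 ∧ sco (V.v (iX b)) e' = 0 →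
      sco (V.v (iX c)) p = 1 ∧ sco (V.v (iX c)) q = 0 ∧ sco (V.v (iX c)) e = 1 ∧ sco (V.v (iX c)) e' = 1 →
      False := by
    intro p q hp hq hpe hpe' hpq hqe hqe' de1 a b c hab hac hbc ta tb tc
    obtain ⟨x, u, hx, hu, qx, e1, ⟨px, xu, pu, qu⟩, f1, dx⟩ :=
      mix hp hq hpe hpe' hpq hqe hqe' de1 a c hac ta.1 ta.2.1 ta.2.2.1 ta.2.2.2 tc.1 tc.2.1 tc.2.2.1 tc.2.2.2
    obtain ⟨x', u', hx', hu', qx', e2, ⟨px', xu', pu', qu'⟩, f2, dx'⟩ :=
      mix hp hq hpe hpe' hpq hqe hqe' de1 b c hbc tb.1 tb.2.1 tb.2.2.1 tb.2.2.2 tc.1 tc.2.1 tc.2.2.1 tc.2.2.2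
    have hxx : x = x' := by
      have h : sv p + sv e + sv e' + sv x = sv p + sv e + sv e' + sv x' := f1.symm.trans f2
      have h' := congrFun (add_left_cancel h) x.1
      rw [sv_self] at h'
      by_cases hc : x.1 = x'.1
      · exact Prod.ext hc (by rw [h', hc, sv_self])
      · rw [sv_of_ne hc] at h'
        exact absurd h' hx.ne_zero
    subst hxx
    have h := inn (iX a) e2
    have hat := four_at e1 hpq px pu qx qu xu
    rw [hpair a b hab, sco, sco, sco, hat.1, hat.2.1, hat.2.2.1, hp.sq, hq.sq, hx.sq] at h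
    have hs : sco (V.v (iX a)) u' = -1 := by omega
    by_cases hc : u'.1 = u.1
    · have h2 := sco_neg_one hu' hs
      rw [hc, hat.2.2.2] at h2
      have d1 := (V.sum_four hp hq hx hu e1).1
      have d2 := (V.sum_four hp hq hx hu' e2).1
      have := V.dg_ne hu'
      simp only [dg] at d1 d2 this
      rw [← hc, h2, neg_mul] at d1
      omega
    · rw [sco, four_other e1 pu'.symm qu'.symm xu'.symm hc, mul_zero] at hs
      omega
  have ssq := fun {a b c} (hab : a ≠ b) (hac : a ≠ c) (hbc : b ≠ c)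
      (ta : sco (V.v (iX a)) p = 1 ∧ sco (V.v (iX a)) q = 1 ∧ sco (V.v (iX a)) e = 0 ∧ sco (V.v (iX a)) e' = 0)
      (tb : sco (V.v (iX b)) p = 1 ∧ sco (V.v (iX b)) q = 1 ∧ sco (V.v (iX b)) e = 0 ∧ sco (V.v (iX b)) e' = 0)
      (tc : sco (V.v (iX c)) p = 0 ∧ sco (V.v (iX c)) q = 1 ∧ sco (V.v (iX c)) e = 1 ∧ sco (V.v (iX c)) e' = 1) =>
    ssp hq hp hqe hqe' hpq.symm hpe hpe' (by omega) a b c hab hac hbc ⟨ta.2.1, ta.1, ta.2.2⟩ ⟨tb.2.1, tb.1, tb.2.2⟩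
      ⟨tc.2.1, tc.1, tc.2.2⟩
  -- one of each kind
  have spq : ∀ a b c, a ≠ b → a ≠ c → b ≠ c →
      sco (V.v (iX a)) p = 1 ∧ sco (V.v (iX a)) q = 1 ∧ sco (V.v (iX a)) e = 0 ∧ sco (V.v (iX a)) e' = 0 →
      sco (V.v (iX b)) p = 1 ∧ sco (V.v (iX b)) q = 0 ∧ sco (V.v (iX b)) e = 1 ∧ sco (V.v (iX b)) e' = 1 →
      sco (V.v (iX c)) p = 0 ∧ sco (V.v (iX c)) q = 1 ∧ sco (V.v (iX c)) e = 1 ∧ sco (V.v (iX c)) e' = 1 →
      False := by
    intro a b c hab hac hbc ta tb tc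
    obtain ⟨x, u, hx, hu, qx, e1, ⟨px, xu, pu, qu⟩, f1, dx⟩ := mixp a b hab ta tb
    obtain ⟨y, u', hy, hu', py, e2, ⟨qy, yu', qu', pu'⟩, f2, dy⟩ := mixq a c hac ta tc
    have hv := (four_at e2 hpq.symm qy qu' py pu' yu').2.2.1
    have hat := four_at e1 hpq px pu qx qu xu
    by_cases hyx : y.1 = x.1
    · have hyx' : y = x := Prod.ext hyx (by rw [← hv, hyx, hat.2.2.1])
      subst hyx'
      have h := inn (iX c) f1
      have hyc := four_at f2 hqe hqe' qy hee' (fun h => ?_) (fun h => ?_)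
      · rw [hpair c b hbc.symm, tc.1, tc.2.2.1, tc.2.2.2, sco, hyc.2.2.2, hy.sq] at h
        omega
      · rw [← h, sco_zero he ta.2.2.1] at hv
        exact hy.ne_zero hv.symm
      · rw [← h, sco_zero he' ta.2.2.2] at hv
        exact hy.ne_zero hv.symm
    · by_cases hyu : y.1 = u.1
      · have hyu' : y = u := Prod.ext hyu (by rw [← hv, hyu, hat.2.2.2])
        subst hyu'
        have d1 := (V.sum_four hp hq hx hu e1).1
        have := V.dg_ne he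
        omega
      · rw [four_other e1 py.symm qy.symm hyx hyu] at hv
        exact hy.ne_zero hv.symm
  rcases T l with tl | tl | tl
  · exact tl
  all_goals exfalso
  · rcases T m with tm | tm | tm
    · rcases T n with tn | tn | tn
      · exact ssp hp hq hpe hpe' hpq hqe hqe' de m n l hmn hlm.symm hln.symm tm tn tl
      · exact odd1 l n hln tl.1 tl.2.1 tn.1 tn.2.1
      · exact spq m l n hlm.symm hmn hln tm tl tn
    · exact odd1 l m hlm tl.1 tl.2.1 tm.1 tm.2.1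
    · rcases T n with tn | tn | tn
      · exact spq n l m hln.symm hmn.symm hlm tn tl tm
      · exact odd1 l n hln tl.1 tl.2.1 tn.1 tn.2.1
      · exact odd2 m n hmn tm.2.1 tm.1 tn.2.1 tn.1
  · rcases T m with tm | tm | tm
    · rcases T n with tn | tn | tn
      · exact ssq hmn hlm.symm hln.symm tm tn tl
      · exact spq m n l hmn hlm.symm hln.symm tm tn tl
      · exact odd2 l n hln tl.2.1 tl.1 tn.2.1 tn.1
    · rcases T n with tn | tn | tn
      · exact spq n m l hmn.symm hln.symm hlm.symm tn tm tl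
      · exact odd1 m n hmn tm.1 tm.2.1 tn.1 tn.2.1
      · exact odd2 l n hln tl.2.1 tl.1 tn.2.1 tn.1
    · exact odd2 l m hlm tl.2.1 tl.1 tm.2.1 tm.1

end TVecs

end Cfsg.Agent.Invol.AbgOrder
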